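import Cfsg.Agent.Lib.Compute.CosetSub
import Cfsg.Agent.Lib.Compute.CosetData.ChainA4
import Cfsg.Agent.Lib.Compute.CosetData.ChainD5
import Cfsg.Agent.Lib.Compute.CosetData.ChainE6
import Cfsg.Agent.Lib.Compute.CosetData.ChainY222

/-!
Order bounds for the subgroups of Fischer-type presented groups generated by sub-diagrams of type
`A₄ ⊂ D₅ ⊂ E₆ ⊂ Y₂₂₂` (with the spider relation).
-/

set_option autoImplicit false

namespace Cfsg.Agent.FischerPresented

open Cfsg.Agent.CosetCert
open Cfsg.Agent.CosetData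

variable {G : Type*} [Group G] {gen : ℕ → G} {big : List (List ℕ)}

/-- The sub-diagrams `A₄`, `D₅`, `E₆` sit inside a group with relators `big` at the given positions. -/
def e6OK (big : List (List ℕ)) (e6 d5 a4 : List ℕ) : Bool :=
  relsIn ChainE6.base e6 big && swIn ChainE6.sw e6 d5 && Nat.beq ChainE6.P.k e6.length &&
  relsIn ChainD5.base d5 big && swIn ChainD5.sw d5 a4 && Nat.beq ChainD5.P.k d5.length &&
  relsIn ChainA4.base a4 big && swIn ChainA4.sw a4 [] && Nat.beq ChainA4.P.k a4.length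

theorem cardLe_e6 (hinv : ∀ x, gen x * gen x = 1) (hbig : ∀ w ∈ big, wprod gen w = 1)
    {e6 d5 a4 : List ℕ} (h : e6OK big e6 d5 a4 = true) :
    CardLe (Subgroup.closure (pick gen e6 '' {x | x < e6.length})) 51840 := by
  simp only [e6OK, Bool.and_eq_true] at h
  obtain ⟨⟨⟨⟨⟨⟨⟨⟨r6, s6⟩, k6⟩, r5⟩, s5⟩, k5⟩, r4⟩, s4⟩, k4⟩ := h
  have h4 := cardLe_step hinv hbig r4 ChainA4.rots_ok s4 (by decide +kernel) ChainA4.cert_ok
    ChainA4.tab_ok (cardLe_pick_nil gen) k4
  have h5 := cardLe_step hinv hbig r5 ChainD5.rots_ok s5 (by decide +kernel) ChainD5.cert_ok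
    ChainD5.tab_ok h4 k5
  exact cardLe_step hinv hbig r6 ChainE6.rots_ok s6 (by decide +kernel) ChainE6.cert_ok
    ChainE6.tab_ok h5 k6

theorem cardLe_y222 (hinv : ∀ x, gen x * gen x = 1) (hbig : ∀ w ∈ big, wprod gen w = 1)
    {y e6 d5 a4 : List ℕ} (h : e6OK big e6 d5 a4 = true)
    (hr : relsIn ChainY222.base y big = true) (hs : swIn ChainY222.sw y e6 = true)
    (hk : Nat.beq ChainY222.P.k y.length = true) :
    CardLe (Subgroup.closure (pick gen y '' {x | x < y.length})) 12597120 :=
  cardLe_step hinv hbig hr ChainY222.rots_ok hs (by decide +kernel) ChainY222.cert_ok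
    ChainY222.tab_ok (cardLe_e6 hinv hbig h) hk

/-- A list enumerating `0, …, k-1` in some order picks all generators. -/
theorem closure_le_pick {emb : List ℕ} {k : ℕ}
    (h : ((List.range k).all fun x => (List.range emb.length).any fun y => Nat.beq (emb.getD y 0) x) = true) :
    Subgroup.closure (gen '' {x | x < k}) ≤ Subgroup.closure (pick gen emb '' {x | x < emb.length}) := by
  refine Subgroup.closure_mono ?_
  rintro _ ⟨x, hx, rfl⟩
  simp only [List.all_eq_true, List.any_eq_true, List.mem_range] at h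
  obtain ⟨y, hy, he⟩ := h x hx
  exact ⟨y, hy, congrArg gen (Nat.eq_of_beq_eq_true he)⟩

end Cfsg.Agent.FischerPresented
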