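import Cfsg.Prelude.Def_Sporadic
import Cfsg.Agent.Lib.FischerPresented.Chain
import Cfsg.Agent.Lib.Compute.CosetSimple
import Cfsg.Agent.Lib.Compute.CosetData.Fi22BSetup
import Cfsg.Agent.Lib.Compute.CosetData.Fi22BBase
import Cfsg.Agent.Lib.Compute.CosetData.Fi22A
import Cfsg.Agent.Lib.Compute.CosetData.ChainO73

/-!
The presented group Fi22 has order 64561751654400, is faithful on the 3510 certified points and simple.
-/

set_option autoImplicit false
set_option maxRecDepth 100000

namespace Cfsg.Agent.FischerPresented.Fi22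

open Cfsg.Agent.CosetCert
open Cfsg.Agent.CosetData

local notation "S" => Fi22B.setup

theorem cardLe : CardLe (⊤ : Subgroup (Setup.G S)) 64561751654400 := by
  have hinv := Setup.gen_invol S
  have hbig := Setup.base_one S
  have h1 := cardLe_y222 hinv hbig (y := [1, 2, 3, 4, 5, 7, 8]) (e6 := [1, 2, 3, 4, 5, 7])
    (d5 := [1, 2, 3, 4, 7]) (a4 := [1, 2, 3, 4]) (by decide +kernel) (by decide +kernel)
    (by decide +kernel) (by decide +kernel)
  have h2 := cardLe_step (emb := [1, 2, 3, 4, 5, 6, 7, 8]) (base := ChainO73.base) (sw := ChainO73.sw)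
    hinv hbig (by decide +kernel)
    ChainO73.rots_ok (by decide +kernel) (by decide +kernel) ChainO73.cert_ok ChainO73.tab_ok h1
    (by decide +kernel)
  have h3 := cardLe_step (emb := [0, 1, 2, 3, 4, 5, 6, 7, 8]) (base := Fi22A.base) (sw := Fi22A.sw)
    hinv hbig (by decide +kernel)
    Fi22A.rots_ok (by decide +kernel) (by decide +kernel) Fi22A.cert_ok Fi22A.tab_ok h2
    (by decide +kernel)
  refine h3.mono ?_
  rw [← Setup.closure_gen S]
  exact closure_le_pick (by decide +kernel)

/-- The base points of the table. -/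
def pts : List ℕ := chainPts [] Fi22B.levels

theorem order_facts : Finite (Setup.G S) ∧ Nat.card (Setup.G S) = 64561751654400 ∧
    Function.Injective (Setup.hom S) ∧
    ∀ g : Setup.G S, Setup.hom S g ∈ fixPts 3510 pts → g = 1 :=
  order_of_chain (P := Fi22B.P) Fi22B.tab_ok (Setup.hom S) (Setup.hom_gen S) cardLe
    Fi22B.levels_ok Fi22B.levels_size

theorem word_one {w : List ℕ} (hw : wordFixPts Fi22B.P 3510 pts w = true) :
    wprod (Setup.gen S) w = 1 :=
  wprod_eq_one_of_base (P := Fi22B.P) Fi22B.tab_ok (Setup.gen_invol S) (Setup.hom_gen S)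
    order_facts.2.2.2 hw

/-- The certified point stabiliser. -/
noncomputable def H : Subgroup (Setup.G S) :=
  Subgroup.closure {g | ∃ w ∈ Fi22B.sw, g = wprod (Setup.gen S) w}

theorem commute_words {x w : List ℕ}
    (h : wordFixPts Fi22B.P 3510 pts (x ++ w ++ x.reverse ++ w.reverse) = true) :
    wprod (Setup.gen S) x * wprod (Setup.gen S) w = wprod (Setup.gen S) w * wprod (Setup.gen S) x := by
  have := word_one h
  rw [wprod_append, wprod_append, wprod_append, wprod_reverse (Setup.gen_invol S),
    wprod_reverse (Setup.gen_invol S), mul_inv_eq_one, mul_inv_eq_iff_eq_mul] at this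
  exact this

theorem central_H : ∀ h ∈ H, Setup.gen S 0 * h = h * Setup.gen S 0 := by
  intro h hh
  unfold H at hh
  induction hh using Subgroup.closure_induction with
  | mem g hg =>
    obtain ⟨w, hw, rfl⟩ := hg
    have hall : (Fi22B.sw.all fun w =>
        wordFixPts Fi22B.P 3510 pts ([0] ++ w ++ [0].reverse ++ w.reverse)) = true := by decide +kernel
    have := commute_words (List.all_eq_true.1 hall w hw)
    simpa [wprod] using this
  | one => simp
  | mul a b _ _ ha hb => rw [← mul_assoc, ha, mul_assoc, hb, mul_assoc]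
  | inv a _ ha => exact (show Commute (Setup.gen S 0) a from ha).inv_right.eq

theorem isSimpleGroup : IsSimpleGroup (Setup.G S) := by
  obtain ⟨hfin, hcard, hinj, -⟩ := order_facts
  have : Nontrivial (Setup.G S) := Finite.one_lt_card_iff_nontrivial.1 (by rw [hcard]; norm_num)
  obtain ⟨hi, e, hq0, he⟩ := Setup.exists_equiv_base S (H := H) rfl (by decide +kernel) Fi22B.rots_ok
    Fi22B.cert_ok Fi22B.fix_ok Fi22B.tree_ok Fi22B.tree_len
  obtain ⟨q₁, hc₁, h1, hb₁⟩ := orbit_spec (H := H) (Setup.gen_invol S) rfl (Setup.hom_gen S) he Fi22B.orb1_ok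
  obtain ⟨q₂, hc₂, h2, -⟩ := orbit_spec (H := H) (Setup.gen_invol S) rfl (Setup.hom_gen S) he Fi22B.orb2_ok
  refine isSimple_of_maximal (H := H) (fun M hM => ?_)
    (fun N hN hle => eq_bot_of_le_stab he hinj hN hle) central_H fun N hN hcomm => ?_
  · refine maximal_of_three hi h1 h2 (fun hmem => ?_) (fun h => ?_) (fun h => ?_) rfl (by decide)
      (by decide) (by decide) hM
    · have := (hb₁ q₂).1 hmem
      rw [hc₂] at this
      exact absurd this (by decide +kernel)
    · rw [h, hq0] at hc₁; exact absurd hc₁ (by decide)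
    · rw [h, hq0] at hc₂; exact absurd hc₂ (by decide)
  · have hE : ∀ p ∈ ([(0, 1), (1, 2), (2, 3), (3, 4), (3, 7), (4, 5), (5, 6), (7, 8)] : List (ℕ × ℕ)),
        rep 3 [p.1, p.2] ∈ Fi22B.base := by decide +kernel
    have hmk : ∀ g, QuotientGroup.mk' N g = 1 := by
      intro g
      have key := trivial_of_central (Q := Setup.G S ⧸ N) (f := fun x => QuotientGroup.mk' N (Setup.gen S x))
        (k := 9) ?_ (fun x => by rw [← map_mul, Setup.gen_invol S, map_one]) ?_
        [(0, 1), (1, 2), (2, 3), (3, 4), (3, 7), (4, 5), (5, 6), (7, 8)] ?_ (by decide +kernel)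
        (w := rep 9 [0, 1, 2, 3, 4, 5, 7]) (by decide +kernel) (by decide +kernel) ?_
      · exact key _
      · have := congrArg (Subgroup.map (QuotientGroup.mk' N)) (Setup.closure_gen S)
        rw [MonoidHom.map_closure, Subgroup.map_top_of_surjective _ (QuotientGroup.mk'_surjective N),
          ← Set.image_comp] at this
        exact this
      · intro q
        obtain ⟨g, rfl⟩ := QuotientGroup.mk'_surjective N q
        have := (QuotientGroup.eq_one_iff _).2 (hcomm g)
        change QuotientGroup.mk' N (Setup.gen S 0 * g * (Setup.gen S 0)⁻¹ * g⁻¹) = 1 at this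
        rw [map_mul, map_mul, map_mul, map_inv, map_inv, mul_inv_eq_one, mul_inv_eq_iff_eq_mul] at this
        exact this
      · intro p hp
        have := Setup.base_one S _ (hE p hp)
        rw [wprod_rep] at this
        rw [← map_mul, ← map_pow, show Setup.gen S p.1 * Setup.gen S p.2 = wprod (Setup.gen S) [p.1, p.2] by
          simp [wprod], this, map_one]
      · rw [← map_wprod (QuotientGroup.mk' N) (Setup.gen S), Setup.base_one S _ (by decide +kernel), map_one]
    rw [eq_top_iff]
    intro g _
    exact (QuotientGroup.eq_one_iff g).1 (hmk g)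

theorem isFi22 : Cfsg.IsFi22 (Setup.G S) := ⟨isSimpleGroup, order_facts.2.1⟩

end Cfsg.Agent.FischerPresented.Fi22
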