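import Mathlib

/-!
Certificates for a 2-group with an elementary abelian normal subgroup of coordinates below `2 ^ n`:
bit-indexed products, their matrices, and a search bound for the elementary abelian subgroups.
-/

set_option autoImplicit false

namespace Cfsg.Agent.FischerPresented.TwoCert

/-- The product of the entries selected by the bits of `a`. -/
def val {G : Type*} [Monoid G] : List G → ℕ → G
  | [], _ => 1
  | e :: es, a => (if a % 2 = 1 then e else 1) * val es (a / 2)

/-- The word of the entries selected by the bits of `a`. -/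
def words : List (List ℕ) → ℕ → List ℕ
  | [], _ => []
  | e :: es, a => (if a % 2 = 1 then e else []) ++ words es (a / 2)

/-- A bit matrix applied to a bit vector. -/
def app : List ℕ → ℕ → ℕ
  | [], _ => 0
  | e :: es, a => (if a % 2 = 1 then e else 0) ^^^ app es (a / 2)

/-- The product of the matrices selected by the bits of `i`, applied to a vector. -/
def act : List (List ℕ) → ℕ → ℕ → ℕ
  | [], _, a => a
  | M :: Ms, i, a => if i % 2 = 1 then app M (act Ms (i / 2) a) else act Ms (i / 2) a

theorem bit_xor (a b : ℕ) : ((a ^^^ b) % 2 = 1) ↔ ¬ (a % 2 = 1 ↔ b % 2 = 1) := by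
  have e : ∀ c : ℕ, c % 2 = 1 ↔ c.testBit 0 = true := fun c => by simp
  rw [e, e, e, Nat.testBit_xor]
  cases a.testBit 0 <;> cases b.testBit 0 <;> simp

theorem half_xor (a b : ℕ) : (a ^^^ b) / 2 = (a / 2) ^^^ (b / 2) := by
  refine Nat.eq_of_testBit_eq fun i => ?_
  simp [Nat.testBit_div_two]

theorem app_xor (M : List ℕ) : ∀ a b, app M (a ^^^ b) = app M a ^^^ app M b := by
  induction M with
  | nil => simp [app]
  | cons e es ih =>
    intro a b
    simp only [app, half_xor, ih, bit_xor]
    by_cases ha : a % 2 = 1 <;> by_cases hb : b % 2 = 1 <;> simp [ha, hb] <;>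
      ac_nf <;> simp [← Nat.xor_assoc, Nat.xor_self]

theorem app_zero (M : List ℕ) : app M 0 = 0 := by
  induction M with
  | nil => rfl
  | cons e es ih => simp [app, ih]

theorem app_lt {M : List ℕ} {n : ℕ} (h : ∀ v ∈ M, v < 2 ^ n) : ∀ a, app M a < 2 ^ n := by
  induction M with
  | nil => intro a; exact Nat.two_pow_pos n
  | cons e es ih =>
    intro a
    refine Nat.xor_lt_two_pow ?_ (ih (fun v hv => h v (List.mem_cons_of_mem _ hv)) _)
    split
    · exact h e (List.mem_cons_self ..)
    · exact Nat.two_pow_pos n

theorem act_xor (Ms : List (List ℕ)) : ∀ i a b, act Ms i (a ^^^ b) = act Ms i a ^^^ act Ms i b := by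
  induction Ms with
  | nil => simp [act]
  | cons M Ms ih =>
    intro i a b
    by_cases h : i % 2 = 1
    · simp [act, h, ih, app_xor]
    · simp [act, h, ih]

theorem act_zero (Ms : List (List ℕ)) : ∀ i, act Ms i 0 = 0 := by
  induction Ms with
  | nil => simp [act]
  | cons M Ms ih =>
    intro i
    by_cases h : i % 2 = 1
    · simp [act, h, ih, app_zero]
    · simp [act, h, ih]

theorem app_basis : ∀ (n : ℕ) (f : ℕ → ℕ), (∀ a b, f (a ^^^ b) = f a ^^^ f b) → f 0 = 0 →
    ∀ a < 2 ^ n, app ((List.range n).map fun k => f (2 ^ k)) a = f a := by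
  intro n
  induction n with
  | zero => intro f _ h0 a ha; rw [show a = 0 by simpa using ha]; simp [app, h0]
  | succ n ih =>
    intro f hf h0 a ha
    rw [List.range_succ_eq_map, List.map_cons, List.map_map]
    have h2 : ((fun k => f (2 ^ k)) ∘ Nat.succ) = fun k => (fun x => f (2 * x)) (2 ^ k) := by
      funext k; simp [pow_succ, mul_comm]
    rw [h2, app]
    have hx : ∀ x y : ℕ, 2 * (x ^^^ y) = (2 * x) ^^^ (2 * y) := fun x y => by
      refine Nat.eq_of_testBit_eq fun i => ?_
      cases i with
      | zero => simp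
      | succ i => simp [Nat.testBit_succ, Nat.mul_div_cancel_left, half_xor]
    rw [ih (fun x => f (2 * x)) (fun x y => by rw [hx, hf]) (by simpa using h0) (a / 2)
      (by rw [pow_succ] at ha; omega)]
    have key : (a % 2) ^^^ (2 * (a / 2)) = a := by
      refine Nat.eq_of_testBit_eq fun i => ?_
      cases i with
      | zero => simp
      | succ i =>
        rw [Nat.testBit_succ, half_xor, Nat.testBit_succ a i]
        simp [Nat.mul_div_cancel_left, show a % 2 / 2 = 0 by omega]
    conv_rhs => rw [← key, hf]
    rcases Nat.mod_two_eq_zero_or_one a with h | h <;> simp [h, h0]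

variable {G : Type*} [Group G]

theorem val_zero (es : List G) : val es 0 = 1 := by
  induction es with
  | nil => rfl
  | cons e es ih => simp [val, ih]

theorem val_map {H : Type*} [Monoid H] (φ : G →* H) : ∀ (es : List G) (a : ℕ),
    φ (val es a) = val (es.map φ) a := by
  intro es
  induction es with
  | nil => simp [val]
  | cons e es ih =>
    intro a
    by_cases h : a % 2 = 1 <;> simp [val, h, ih, map_mul]

theorem val_commute {es : List G} {x : G} (h : ∀ e ∈ es, Commute x e) : ∀ a, Commute x (val es a) := by
  induction es with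
  | nil => intro a; exact Commute.one_right x
  | cons e es ih =>
    intro a
    refine Commute.mul_right ?_ (ih (fun y hy => h y (List.mem_cons_of_mem _ hy)) _)
    split
    · exact h e (List.mem_cons_self ..)
    · exact Commute.one_right x

theorem val_xor {es : List G} (hs : ∀ e ∈ es, e * e = 1) (hc : ∀ e ∈ es, ∀ e' ∈ es, Commute e e') :
    ∀ a b, val es (a ^^^ b) = val es a * val es b := by
  induction es with
  | nil => simp [val]
  | cons e es ih =>
    intro a b
    have he := hs e (List.mem_cons_self ..)
    have hv := val_commute (fun y hy => hc e (List.mem_cons_self ..) y (List.mem_cons_of_mem _ hy)) (a / 2)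
    simp only [val, half_xor, bit_xor]
    rw [ih (fun y hy => hs y (List.mem_cons_of_mem _ hy))
      (fun y hy z hz => hc y (List.mem_cons_of_mem _ hy) z (List.mem_cons_of_mem _ hz))]
    by_cases ha : a % 2 = 1 <;> by_cases hb : b % 2 = 1 <;> simp only [ha, hb, not_true_eq_false,
      not_false_eq_true, iff_self, iff_false, false_iff, if_true, if_false, one_mul]
    · rw [mul_assoc e, ← mul_assoc (val es (a / 2)), ← hv.eq, ← mul_assoc e, ← mul_assoc e, he, one_mul]
    · rw [mul_assoc]
    · rw [← mul_assoc, ← mul_assoc, ← hv.eq]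

theorem val_app {es : List G} (hs : ∀ e ∈ es, e * e = 1) (hc : ∀ e ∈ es, ∀ e' ∈ es, Commute e e')
    (M : List ℕ) : ∀ a, val (M.map (val es)) a = val es (app M a) := by
  induction M with
  | nil => intro a; simp [app, val, val_zero]
  | cons m M ih =>
    intro a
    simp only [List.map_cons, val, app]
    rw [val_xor hs hc, ih]
    split
    · rfl
    · rw [val_zero]

theorem conj_val (x : G) (es : List G) (a : ℕ) :
    x * val es a * x⁻¹ = val (es.map fun e => x * e * x⁻¹) a := by
  exact val_map (MulAut.conj x).toMonoidHom es a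

theorem conj_act {es : List G} (hs : ∀ e ∈ es, e * e = 1) (hc : ∀ e ∈ es, ∀ e' ∈ es, Commute e e')
    {gs : List G} {Ms : List (List ℕ)}
    (h : List.Forall₂ (fun g M => (es.map fun e => g * e * g⁻¹) = M.map (val es)) gs Ms) :
    ∀ i a, val gs i * val es a * (val gs i)⁻¹ = val es (act Ms i a) := by
  induction h with
  | nil => intro i a; simp [val, act]
  | @cons g M gs Ms hg _ ih =>
    intro i a
    simp only [val, act]
    by_cases hi : i % 2 = 1
    · rw [if_pos hi, if_pos hi]
      calc g * val gs (i / 2) * val es a * (g * val gs (i / 2))⁻¹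
          = g * (val gs (i / 2) * val es a * (val gs (i / 2))⁻¹) * g⁻¹ := by group
        _ = val es (app M (act Ms (i / 2) a)) := by rw [ih, conj_val, hg, val_app hs hc]
    · rw [if_neg hi, if_neg hi, one_mul]
      exact ih _ _

/-! ### The search -/

/-- One step of the search: the candidates after `last`. -/
def chk (N bound : ℕ) (mul : ℕ → ℕ → ℕ) (fixd : ℕ → ℕ → Bool) :
    ℕ → List ℕ → ℕ → List ℕ → Bool
  | 0, _, _, _ => false
  | f + 1, S, last, fx => (List.range N).all fun j =>
      !(Nat.blt last j && (Nat.beq (mul j j) 0 && (!S.contains j && S.all fun s =>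
        Nat.beq (mul s j) (mul j s)))) ||
      ((fun S' fx' => Nat.blt (S'.length * fx'.length) bound && chk N bound mul fixd f S' j fx')
        (S ++ S.map fun s => mul s j) (fx.filter (fixd j)))

theorem chk_sound {N bound : ℕ} {mul : ℕ → ℕ → ℕ} {fixd : ℕ → ℕ → Bool}
    (h0 : ∀ j < N, mul 0 j = j) (B : Finset ℕ) (F : Finset ℕ)
    (hN : ∀ j ∈ B, j < N) (hmul : ∀ i ∈ B, ∀ j ∈ B, mul i j ∈ B) (hsq : ∀ j ∈ B, mul j j = 0)
    (hcomm : ∀ i ∈ B, ∀ j ∈ B, mul i j = mul j i) (hF : ∀ a ∈ F, ∀ j ∈ B, fixd j a = true) :
    ∀ (f : ℕ) (S : List ℕ) (last : ℕ) (fx : List ℕ), chk N bound mul fixd f S last fx = true →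
      (∀ s ∈ S, s ∈ B) → 0 ∈ S → (∀ a ∈ F, a ∈ fx) → (∀ j ∈ B, j ∉ S → last < j) →
      ¬ B ⊆ S.toFinset → B.card * F.card < bound := by
  intro f
  induction f with
  | zero => intro S last fx h; simp [chk] at h
  | succ f ih =>
    intro S last fx h hS h0S hfx hlast hne
    classical
    have hnon : (B.filter fun j => j ∉ S).Nonempty := by
      by_contra hc
      refine hne fun j hj => List.mem_toFinset.2 ?_
      by_contra hjS
      exact hc ⟨j, Finset.mem_filter.2 ⟨hj, hjS⟩⟩
    obtain ⟨j, hj, hmin⟩ : ∃ j ∈ B.filter fun j => j ∉ S, ∀ k ∈ B.filter (fun j => j ∉ S), j ≤ k :=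
      ⟨_, Finset.min'_mem _ hnon, fun k hk => Finset.min'_le _ k hk⟩
    obtain ⟨hjB, hjS⟩ := Finset.mem_filter.1 hj
    simp only [chk, List.all_eq_true, List.mem_range, Bool.or_eq_true, Bool.not_eq_true',
      Bool.and_eq_false_imp] at h
    rcases h j (hN j hjB) with h | h
    · exfalso
      have h1 : Nat.blt last j = true := by simpa using hlast j hjB hjS
      have h2 : Nat.beq (mul j j) 0 = true := by simp [hsq j hjB]
      have h3 : S.contains j = false := by simpa using hjS
      have h4 : (S.all fun s => Nat.beq (mul s j) (mul j s)) = true := by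
        rw [List.all_eq_true]
        intro s hs
        simp [hcomm s (hS s hs) j hjB]
      simp [h1, h2, h3, h4, hjS] at h
    · simp only [Bool.and_eq_true, Nat.blt_eq] at h
      have hS' : ∀ s ∈ S ++ S.map (fun s => mul s j), s ∈ B := by
        intro s hs
        rcases List.mem_append.1 hs with hs | hs
        · exact hS s hs
        · obtain ⟨t, ht, rfl⟩ := List.mem_map.1 hs
          exact hmul t (hS t ht) j hjB
      have hfx' : ∀ a ∈ F, a ∈ fx.filter (fixd j) := fun a ha =>
        List.mem_filter.2 ⟨hfx a ha, hF a ha j hjB⟩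
      by_cases hsub : B ⊆ (S ++ S.map fun s => mul s j).toFinset
      · refine lt_of_le_of_lt (Nat.mul_le_mul ?_ ?_) h.1
        · exact (Finset.card_le_card hsub).trans (List.toFinset_card_le _)
        · exact (Finset.card_le_card (fun a ha => List.mem_toFinset.2 (hfx' a ha))).trans
            (List.toFinset_card_le _)
      · refine ih _ j _ h.2 hS' (List.mem_append_left _ h0S) hfx' (fun k hk hkS => ?_) hsub
        rw [List.mem_append, not_or] at hkS
        rcases lt_or_eq_of_le (hmin k (Finset.mem_filter.2 ⟨hk, hkS.1⟩)) with hlt | heq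
        · exact hlt
        · subst heq
          exact absurd (List.mem_map.2 ⟨0, h0S, h0 j (hN j hjB)⟩) hkS.2

/-- The position of the product of two matrices in a table. -/
def mulTab (MT : List (List ℕ)) (i j : ℕ) : ℕ :=
  MT.findIdx fun M => M == (MT.getD j []).map (app (MT.getD i []))

theorem mulTab_eq {MT : List (List ℕ)} (hnd : MT.Nodup) {i j l : ℕ} (hl : l < MT.length)
    (h : MT.getD l [] = (MT.getD j []).map (app (MT.getD i []))) : mulTab MT i j = l := by
  rw [List.getD_eq_getElem _ _ hl] at h
  have hlt : mulTab MT i j < MT.length :=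
    List.findIdx_lt_length_of_exists ⟨MT[l], List.getElem_mem hl, by simp [h]⟩
  have h1 := List.findIdx_getElem (w := hlt)
  simp only [beq_iff_eq] at h1
  refine (hnd.getElem_inj_iff (hi := hlt) (hj := hl)).1 ?_
  rw [h]
  exact h1

end Cfsg.Agent.FischerPresented.TwoCert
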