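import Cfsg.Agent.Lib.FischerPresented.Fi22Class
import Cfsg.Agent.Lib.FischerPresented.TwoCert
import Cfsg.Agent.Lib.FischerPresented.Fi22TwoData

/-! Kernel checks for the Sylow 2-subgroup and involution data of presented Fi22. -/

set_option autoImplicit false
set_option maxRecDepth 100000

namespace Cfsg.Agent.FischerPresented.Fi22Two

open Cfsg.Agent.CosetCert
open Cfsg.Agent.CosetData

/-- Two words agree on the base points. -/
noncomputable def eqW (u v : List ℕ) : Bool := wordFixPts Fi22B.P 3510 Fi22.pts (u ++ v.reverse)

/-- Some base point is moved. -/
noncomputable def moved (w : List ℕ) : Bool :=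
  (w.all fun x => Nat.blt x Fi22B.P.k) &&
    Fi22.pts.any fun p => Nat.blt p 3510 && !Nat.beq (tact Fi22B.P w p) p

/-- The word of the transposition with a given path. -/
def dW (w : List ℕ) : List ℕ := w.reverse ++ [0] ++ w

/-- The product of transpositions with given paths. -/
def dProd (ws : List (List ℕ)) : List ℕ := (ws.map dW).flatten

/-- Commuting and different transpositions. -/
noncomputable def goodPair (u v : List ℕ) : Bool :=
  eqW (dW u ++ dW v) (dW v ++ dW u) && moved (dW u ++ (dW v).reverse)

/-- At most three pairwise good transpositions, at least one. -/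
noncomputable def goodList : List (List ℕ) → Bool
  | [_] => true
  | [u, v] => goodPair u v
  | [u, v, w] => goodPair u v && (goodPair u w && goodPair v w)
  | _ => false

theorem basis_pair : (basisW.all fun u => basisW.all fun v => eqW (u ++ v) (v ++ u)) = true := by
  decide +kernel

theorem basis_square : (basisW.all fun u => eqW (u ++ u) []) = true := by decide +kernel

theorem basis_clique : (basisW.all fun u => cliqueW.any fun w => dW w == u) = true := by decide +kernel

theorem conj_checked : ((List.range 7).all fun m => (List.range 10).all fun k =>
    eqW (liftW.getD m [] ++ basisW.getD k [] ++ (liftW.getD m []).reverse)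
      (TwoCert.words basisW ((GM.getD m []).getD k 0))) = true := by decide +kernel

theorem table_checked : ((List.range 128).all fun i =>
    MT.getD i [] == (List.range 10).map fun k => TwoCert.act GM i (2 ^ k)) = true := by decide +kernel

theorem table_nodup : MT.Nodup := by decide +kernel

theorem gm_lt : ∀ M ∈ GM, ∀ v ∈ M, v < 2 ^ 10 := by decide +kernel

theorem gm_len : ∀ m < 7, (GM.getD m []).length = 10 := by decide +kernel

/-- The inequality check for a block of coordinates. -/
noncomputable def injBlock (r : ℕ) : Bool :=
  (List.range 256).all fun k => Nat.beq (r * 256 + k) 0 || moved (TwoCert.words basisW (r * 256 + k))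

theorem inj0 : injBlock 0 = true := by decide +kernel
theorem inj1 : injBlock 1 = true := by decide +kernel
theorem inj2 : injBlock 2 = true := by decide +kernel
theorem inj3 : injBlock 3 = true := by decide +kernel

/-- The closure check for a block of representatives. -/
noncomputable def stepBlock (r : ℕ) : Bool :=
  (List.range 32).all fun k => (List.range 7).all fun m =>
    (fun c => Nat.blt (c / 128) 1024 &&
      eqW (TwoCert.words liftW (r * 32 + k) ++ liftW.getD m [])
        (TwoCert.words basisW (c / 128) ++ TwoCert.words liftW (c % 128)))
      ((CL.getD (r * 32 + k) []).getD m 0)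

theorem step0 : stepBlock 0 = true := by decide +kernel
theorem step1 : stepBlock 1 = true := by decide +kernel
theorem step2 : stepBlock 2 = true := by decide +kernel
theorem step3 : stepBlock 3 = true := by decide +kernel

theorem search_checked : TwoCert.chk 128 1024 (TwoCert.mulTab MT)
    (fun j a => Nat.beq (TwoCert.app (MT.getD j []) a) a) 8 [0] 0 (List.range 1024) = true := by
  decide +kernel

theorem mul_zero_left : ∀ j < 128, TwoCert.mulTab MT 0 j = j := by decide +kernel

/-- The normal subgroup in the transpositions, by blocks. -/
noncomputable def shortBlock (r : ℕ) : Bool :=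
  (List.range 256).all fun k => Nat.beq (r * 256 + k) 0 ||
    (fun S => goodList S && eqW (TwoCert.words basisW (r * 256 + k)) (dProd S))
      ((shortS.getD (r * 256 + k) []).map fun j => cliqueW.getD j [])

theorem short0 : shortBlock 0 = true := by decide +kernel
theorem short1 : shortBlock 1 = true := by decide +kernel
theorem short2 : shortBlock 2 = true := by decide +kernel
theorem short3 : shortBlock 3 = true := by decide +kernel

/-- The entry for one involution of the quotient. -/
noncomputable def invOK (e : ℕ × ℕ × List ℕ × List (ℕ × List (List ℕ))) : Bool :=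
  Nat.blt e.2.1 1024 && eqW (TwoCert.words liftW e.1 ++ TwoCert.words liftW e.1) (TwoCert.words basisW e.2.1) &&
    (e.2.2.2.all fun r => goodList r.2 &&
      eqW (TwoCert.words basisW r.1 ++ TwoCert.words liftW e.1) (dProd r.2)) &&
    (List.range 1024).all fun a =>
      (fun b => !Nat.beq (Nat.xor (Nat.xor a b) e.2.1) 0 ||
        e.2.2.2.any fun r => e.2.2.1.any fun s =>
          Nat.beq a (Nat.xor (Nat.xor s r.1) (TwoCert.app (MT.getD e.1 []) s)) && Nat.blt r.1 1024 &&
            Nat.blt s 1024)
        (TwoCert.app (MT.getD e.1 []) a)

theorem inv_index : ((List.range 128).all fun i => Nat.beq i 0 ||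
    (!Nat.beq (TwoCert.mulTab MT i i) 0 || invData.any fun e => Nat.beq e.1 i)) = true := by decide +kernel

theorem inv_part0 : ((invData.take 9).all invOK) = true := by decide +kernel
theorem inv_part1 : (((invData.drop 9).take 9).all invOK) = true := by decide +kernel
theorem inv_part2 : (((invData.drop 18).take 9).all invOK) = true := by decide +kernel
theorem inv_part3 : ((invData.drop 27).all invOK) = true := by decide +kernel

/-- Steps of an orbit. -/
noncomputable def grow3 : List (ℕ × ℕ) → ℕ → Option ℕ
  | [], m => some m
  | (c, k) :: l, m =>
      bif bit m c && Nat.blt k stabW.length then grow3 l (insBit m (tact Fi22B.P (stabW.getD k []) c))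
      else none

theorem stab_checked : (stabW.all fun w => (w.all fun x => Nat.blt x Fi22B.P.k) &&
    (Nat.beq (tact Fi22B.P w 0) 0 && Nat.beq (tact Fi22B.P w 7) 7)) = true := by decide +kernel

theorem e1_checked : ((e1W.all fun x => Nat.blt x Fi22B.P.k) && (f0W.all fun x => Nat.blt x Fi22B.P.k) &&
    Nat.beq (tact Fi22B.P e1W 0) 7 && Nat.beq (tact Fi22B.P f0W 0) 50) = true := by decide +kernel

theorem common_checked : (match grow3 comSteps (insBit 0 50) with
    | none => false
    | some m => (List.range 3510).all fun p =>
        !(bit (orbitBits Fi22B.P Fi22B.sw 7 Fi22B.orb1) p &&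
          (Nat.beq (tact Fi22B.P (dW e1W).reverse p) p && !Nat.beq p 7)) || bit m p) = true := by
  decide +kernel

/-- The number of fixed points of a word. -/
noncomputable def fixW (w : List ℕ) : ℕ :=
  ((List.range 3510).filter fun c => Nat.beq (tact Fi22B.P w.reverse c) c).length

theorem fix_checked : fixW (dProd [[]]) = 694 ∧ fixW (dProd [[], e1W]) = 182 ∧
    fixW (dProd [[], e1W, f0W]) = 54 := by decide +kernel

theorem rep_checked : goodList [[], e1W, f0W] = true := by decide +kernel

/-- Conjugation by a word, both ways round. -/
def badWord (g : List ℕ) (ws : List (List ℕ)) (m : ℕ) : List ℕ :=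
  (List.replicate m (dProd ws ++ (g.reverse ++ dProd ws ++ g))).flatten

theorem bad_checked : moved (badWord (badW.getD 0 []) [[], e1W] 2) = true ∧
    moved (badWord (badW.getD 0 []) [[], e1W] 3) = true ∧
    moved (badWord (badW.getD 1 []) [[], e1W, f0W] 2) = true ∧
    moved (badWord (badW.getD 1 []) [[], e1W, f0W] 3) = true := by decide +kernel

end Cfsg.Agent.FischerPresented.Fi22Two
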