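import Cfsg.Agent.Lib.FischerPresented.TwoGroup
import Cfsg.Agent.Lib.FischerPresented.Fi22TwoCheck
import Cfsg.Agent.Lib.Fischer.Basic

/-!
A Sylow 2-subgroup of presented Fi22, the classes of involutions, and the transpositions in a Sylow subgroup.
-/

set_option autoImplicit false
set_option maxRecDepth 100000

namespace Cfsg.Agent.FischerPresented.Fi22Two

open Cfsg.Agent.CosetCert
open Cfsg.Agent.CosetData

local notation "S" => Fi22B.setup
local notation "G₀" => Setup.G Fi22B.setup
local notation "wp" => wprod (Setup.gen Fi22B.setup)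

theorem eq_of_eqW {u v : List ℕ} (h : eqW u v = true) : wp u = wp v := by
  have := Fi22.word_one h
  rw [wprod_append, wprod_reverse (Setup.gen_invol S), mul_inv_eq_one] at this
  exact this

theorem ne_one_of_moved {w : List ℕ} (h : moved w = true) : wp w ≠ 1 := by
  intro he
  simp only [moved, Bool.and_eq_true, List.any_eq_true, Nat.blt_eq, Bool.not_eq_true'] at h
  obtain ⟨hw, p, -, hp, hne⟩ := h
  have h1 := hom_tact (P := Fi22B.P) Fi22B.tab_ok (Setup.hom S) (Setup.hom_gen S) w
    (by simpa [List.all_eq_true] using hw) ⟨p, hp⟩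
  have h2 : wp w.reverse = 1 := by rw [wprod_reverse (Setup.gen_invol S), he, inv_one]
  have h4 : Setup.hom S (wp w.reverse) = 1 := (congrArg (Setup.hom S) h2).trans (map_one _)
  erw [h4] at h1
  exact Nat.ne_of_beq_eq_false hne h1.symm

theorem wp_words : ∀ (W : List (List ℕ)) (a : ℕ),
    wp (TwoCert.words W a) = TwoCert.val (W.map fun w => wp w) a := by
  intro W
  induction W with
  | nil => intro a; rfl
  | cons w W ih =>
    intro a
    by_cases h : a % 2 = 1 <;> simp [TwoCert.words, TwoCert.val, h, wprod_append, ih]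

theorem step_ok : ∀ i < 128, ∀ g ∈ liftW.map (fun w => wp w), ∃ a < 2 ^ 10, ∃ j < 128,
    TwoCert.val (liftW.map fun w => wp w) i * g =
      TwoCert.val (basisW.map fun w => wp w) a * TwoCert.val (liftW.map fun w => wp w) j := by
  intro i hi g hg
  obtain ⟨w, hw, rfl⟩ := List.mem_map.1 hg
  obtain ⟨m, hm, rfl⟩ := List.getElem_of_mem hw
  have h : ∀ r < 4, stepBlock r = true := by
    intro r hr
    interval_cases r
    exacts [step0, step1, step2, step3]
  have hh := List.all_eq_true.1 (List.all_eq_true.1 (h (i / 32) (by omega)) (i % 32)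
    (List.mem_range.2 (by omega))) m (List.mem_range.2 hm)
  rw [show i / 32 * 32 + i % 32 = i by omega] at hh
  simp only [Bool.and_eq_true, Nat.blt_eq] at hh
  obtain ⟨hc, he⟩ := hh
  have := eq_of_eqW he
  rw [wprod_append, wprod_append, wp_words, wp_words, wp_words, List.getD_eq_getElem _ _ hm] at this
  exact ⟨_, hc, (CL.getD i []).getD m 0 % 128, Nat.mod_lt _ (by norm_num), this⟩

theorem conj_forall : List.Forall₂ (fun g M => ((basisW.map fun w => wp w).map fun e => g * e * g⁻¹) =
    M.map (TwoCert.val (basisW.map fun w => wp w))) (liftW.map fun w => wp w) GM := by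
  have hl : liftW.length = 7 := rfl
  have hb : basisW.length = 10 := rfl
  have hg : GM.length = 7 := rfl
  refine List.forall₂_iff_get.2 ⟨by simp [hl, hg], fun m h1 h2 => ?_⟩
  have hm : m < 7 := by omega
  have hlm := gm_len m hm
  rw [List.getD_eq_getElem _ _ h2] at hlm
  refine List.ext_getElem (by simp [hb, hlm]) fun k k1 k2 => ?_
  have hk : k < 10 := by simpa [hlm] using k2
  have := eq_of_eqW (List.all_eq_true.1 (List.all_eq_true.1 conj_checked m (List.mem_range.2 hm)) k
    (List.mem_range.2 hk))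
  rw [wprod_append, wprod_append, wprod_reverse (Setup.gen_invol S), wp_words,
    List.getD_eq_getElem _ _ (show m < liftW.length by omega),
    List.getD_eq_getElem _ _ (show k < basisW.length by omega), List.getD_eq_getElem _ _ h2,
    List.getD_eq_getElem _ _ (show k < GM[m].length by omega)] at this
  simpa using this.trans (by rfl)

/-- The system. -/
noncomputable def sys : TwoCert.Sys G₀ where
  n := 10
  N := 128
  es := basisW.map fun w => wp w
  gs := liftW.map fun w => wp w
  GM := GM
  MT := MT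
  basis_sq := by
    intro e he
    obtain ⟨u, hu, rfl⟩ := List.mem_map.1 he
    have := eq_of_eqW (List.all_eq_true.1 basis_square u hu)
    rw [wprod_append] at this
    exact this
  basis_comm := by
    intro e he e' he'
    obtain ⟨u, hu, rfl⟩ := List.mem_map.1 he
    obtain ⟨v, hv, rfl⟩ := List.mem_map.1 he'
    have := eq_of_eqW (List.all_eq_true.1 (List.all_eq_true.1 basis_pair u hu) v hv)
    rwa [wprod_append, wprod_append] at this
  conj_forall := conj_forall
  gm_lt := gm_lt
  table_eq := fun i hi => by simpa using List.all_eq_true.1 table_checked i (List.mem_range.2 hi)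
  table_nodup := table_nodup
  table_length := rfl
  va_ne_one := by
    intro a ha h0
    have h : ∀ r < 4, injBlock r = true := by
      intro r hr
      interval_cases r
      exacts [inj0, inj1, inj2, inj3]
    have hh := List.all_eq_true.1 (h (a / 256) (by omega)) (a % 256) (List.mem_range.2 (by omega))
    rw [show a / 256 * 256 + a % 256 = a by omega] at hh
    simp only [Bool.or_eq_true, Nat.beq_eq] at hh
    rcases hh with hh | hh
    · exact absurd hh h0
    · rw [← wp_words]
      exact ne_one_of_moved hh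
  step := step_ok
  pos := by norm_num

theorem va_eq (a : ℕ) : sys.va a = wp (TwoCert.words basisW a) := (wp_words basisW a).symm

theorem sv_eq (i : ℕ) : sys.sv i = wp (TwoCert.words liftW i) := (wp_words liftW i).symm

/-- The chosen Sylow subgroup. -/
noncomputable def T0 : Subgroup G₀ := @TwoCert.Sys.top _ _ sys Fi22.order_facts.1

theorem card_T0 : Nat.card T0 = 2 ^ 17 := by
  have := Fi22.order_facts.1
  exact (TwoCert.Sys.card_top sys).trans (by norm_num [sys])

/-- The normal 2^10. -/
noncomputable def A0 : Subgroup G₀ := sys.bottom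

theorem A0_le : A0 ≤ T0 := by
  have := Fi22.order_facts.1
  exact TwoCert.Sys.bottom_le sys

theorem elementary_le {B : Subgroup G₀} (hB : B ≤ T0) (hel : Cfsg.IsElementaryAbelian 2 B) :
    Nat.card B ≤ 2 ^ 10 ∧ (Nat.card B = 2 ^ 10 → B = A0) := by
  have := Fi22.order_facts.1
  exact TwoCert.Sys.elementary_le sys search_checked mul_zero_left hB hel

theorem A0_elementary : Cfsg.IsElementaryAbelian 2 A0 := sys.bottom_elementary

theorem card_A0 : Nat.card A0 = 2 ^ 10 := sys.card_bottom

theorem sylow_conj (T : Sylow 2 G₀) :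
    ∃ g : G₀, (T : Subgroup G₀) = T0.map (MulAut.conj g).toMonoidHom := by
  have : Finite G₀ := Fi22.order_facts.1
  have : Fact (Nat.Prime 2) := ⟨Nat.prime_two⟩
  have hfac : Nat.card T0 = 2 ^ (Nat.card G₀).factorization 2 := by
    rw [card_T0, Fi22.order_facts.2.1]
    congr 1
    rw [show (64561751654400 : ℕ) = 2 ^ 17 * 492567075 by norm_num,
      Nat.factorization_mul (by norm_num) (by norm_num), Finsupp.add_apply,
      Nat.Prime.factorization_pow Nat.prime_two, Finsupp.single_eq_same,
      Nat.factorization_eq_zero_of_not_dvd (by norm_num)]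
  obtain ⟨g, hg⟩ := MulAction.exists_smul_eq G₀ (Sylow.ofCard T0 hfac) T
  exact ⟨g, by rw [← hg]; rfl⟩

/-! ### Transpositions and points -/

/-- The first point. -/
def p0 : Fin Fi22B.setup.n := ⟨0, show 0 < 3510 by norm_num⟩

/-- The point of the conjugate of `z` by `g`. -/
noncomputable def pt (g : G₀) : Fin Fi22B.setup.n := Setup.hom S g p0

theorem pt_mul (g h : G₀) : pt (g * h) = Setup.hom S g (pt h) := by
  rw [pt, map_mul]; rfl

theorem conj_eq_iff (g k : G₀) :
    g * Fi22Class.z * g⁻¹ = k * Fi22Class.z * k⁻¹ ↔ pt g = pt k := by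
  obtain ⟨-, e, q₁, q₂, hq0, he, -⟩ := Fi22Class.exists_frame
  have key : ∀ x : G₀, e (x : G₀ ⧸ Fi22.H) = pt x := fun x => by
    have := he x ((1 : G₀) : G₀ ⧸ Fi22.H)
    rw [show x • ((1 : G₀) : G₀ ⧸ Fi22.H) = (x : G₀ ⧸ Fi22.H) from
      congrArg QuotientGroup.mk (mul_one x)] at this
    rw [this]
    exact congrArg _ (Fin.ext hq0)
  constructor
  · intro h
    rw [← key, ← key]
    refine congrArg e (QuotientGroup.eq.2 (Fi22Class.centralizer_z.le (Subgroup.mem_centralizer_iff.2 ?_)))
    rintro _ rfl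
    calc Fi22Class.z * (g⁻¹ * k) = g⁻¹ * (g * Fi22Class.z * g⁻¹) * k := by group
      _ = g⁻¹ * k * Fi22Class.z := by rw [h]; group
  · intro h
    rw [← key, ← key] at h
    have hm := Fi22Class.z_comm _ (QuotientGroup.eq.1 (e.injective h))
    calc g * Fi22Class.z * g⁻¹ = g * (Fi22Class.z * (g⁻¹ * k)) * k⁻¹ := by group
      _ = k * Fi22Class.z * k⁻¹ := by rw [hm]; group

theorem commute_iff_fix (x g : G₀) :
    Commute x (g * Fi22Class.z * g⁻¹) ↔ Setup.hom S x (pt g) = pt g := by
  rw [← pt_mul, ← conj_eq_iff]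
  constructor
  · intro h
    calc x * g * Fi22Class.z * (x * g)⁻¹ = x * (g * Fi22Class.z * g⁻¹) * x⁻¹ := by group
      _ = g * Fi22Class.z * g⁻¹ := by rw [h.eq, mul_inv_cancel_right]
  · intro h
    refine mul_inv_eq_iff_eq_mul.1 ?_
    calc x * (g * Fi22Class.z * g⁻¹) * x⁻¹ = x * g * Fi22Class.z * (x * g)⁻¹ := by group
      _ = g * Fi22Class.z * g⁻¹ := h

theorem pt_one : pt 1 = p0 := by rw [pt, map_one]; rfl

theorem pt_word {w : List ℕ} (hw : (w.all fun x => Nat.blt x Fi22B.P.k) = true) :
    (pt (wp w.reverse) : ℕ) = tact Fi22B.P w 0 :=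
  hom_tact (P := Fi22B.P) Fi22B.tab_ok (Setup.hom S) (Setup.hom_gen S) w hw p0

/-- The transposition with a given path. -/
noncomputable def dEl (w : List ℕ) : G₀ := wp (dW w)

theorem dEl_eq (w : List ℕ) : dEl w = wp w.reverse * Fi22Class.z * (wp w.reverse)⁻¹ := by
  rw [dEl, dW, wprod_append, wprod_append]
  have e : wp [0] = Fi22Class.z := by simp [Fi22Class.z, wprod]
  rw [e, wprod_reverse (Setup.gen_invol S), inv_inv]

theorem dEl_mem (w : List ℕ) : dEl w ∈ Fi22Class.D := Fi22Class.mem_D.2 ⟨_, (dEl_eq w).symm⟩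

theorem dEl_nil : dEl [] = Fi22Class.z := by
  rw [dEl_eq]; simp [wprod]

theorem wp_dProd : ∀ ws : List (List ℕ), wp (dProd ws) = (ws.map dEl).prod := by
  intro ws
  induction ws with
  | nil => rfl
  | cons w ws ih =>
    have e : dProd (w :: ws) = dW w ++ dProd ws := rfl
    rw [e, wprod_append, ih, List.map_cons, List.prod_cons]
    rfl

/-- A list of pairwise commuting distinct transpositions. -/
def IsFactors (l : List G₀) : Prop :=
  l.Nodup ∧ (∀ a ∈ l, a ∈ Fi22Class.D) ∧ ∀ a ∈ l, ∀ b ∈ l, Commute a b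

theorem goodPair_spec {u v : List ℕ} (h : goodPair u v = true) :
    Commute (dEl u) (dEl v) ∧ dEl u ≠ dEl v := by
  simp only [goodPair, Bool.and_eq_true] at h
  refine ⟨?_, fun e => ne_one_of_moved h.2 ?_⟩
  · have := eq_of_eqW h.1
    rwa [wprod_append, wprod_append] at this
  · rw [wprod_append, wprod_reverse (Setup.gen_invol S)]
    exact mul_inv_eq_one.2 e

theorem goodList_spec : ∀ {ws : List (List ℕ)}, goodList ws = true →
    1 ≤ ws.length ∧ ws.length ≤ 3 ∧ IsFactors (ws.map dEl) := by
  intro ws h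
  match ws, h with
  | [u], _ =>
    exact ⟨le_rfl, by simp, List.nodup_singleton _, by simp [dEl_mem], by simp⟩
  | [u, v], h =>
    obtain ⟨c, n⟩ := goodPair_spec (by simpa [goodList] using h)
    exact ⟨by simp, by simp, by simp [n], by simp [dEl_mem], by simp [c, c.symm]⟩
  | [u, v, w], h =>
    simp only [goodList, Bool.and_eq_true] at h
    obtain ⟨c1, n1⟩ := goodPair_spec h.1
    obtain ⟨c2, n2⟩ := goodPair_spec h.2.1
    obtain ⟨c3, n3⟩ := goodPair_spec h.2.2
    exact ⟨by simp, by simp, by simp [n1, n2, n3], by simp [dEl_mem],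
      by simp [c1, c1.symm, c2, c2.symm, c3, c3.symm]⟩

theorem conj_factors (g : G₀) {l : List G₀} (h : IsFactors l) :
    IsFactors (l.map (MulAut.conj g)) ∧ (l.map (MulAut.conj g)).prod = g * l.prod * g⁻¹ := by
  refine ⟨⟨h.1.map (MulAut.conj g).injective, ?_, ?_⟩, ?_⟩
  · intro a ha
    obtain ⟨b, hb, rfl⟩ := List.mem_map.1 ha
    obtain ⟨k, rfl⟩ := Fi22Class.mem_D.1 (h.2.1 b hb)
    refine Fi22Class.mem_D.2 ⟨g * k, ?_⟩
    simp only [MulAut.conj_apply]; group
  · intro a ha b hb
    obtain ⟨a', ha', rfl⟩ := List.mem_map.1 ha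
    obtain ⟨b', hb', rfl⟩ := List.mem_map.1 hb
    exact (h.2.2 a' ha' b' hb').map (MulAut.conj g).toMonoidHom
  · exact (map_list_prod (MulAut.conj g) l).symm

/-- Every involution is a product of at most three commuting transpositions. -/
theorem exists_factors (x : G₀) (hx : orderOf x = 2) :
    ∃ l : List G₀, 1 ≤ l.length ∧ l.length ≤ 3 ∧ IsFactors l ∧ l.prod = x := by
  have : Finite G₀ := Fi22.order_facts.1
  have : Fact (Nat.Prime 2) := ⟨Nat.prime_two⟩
  suffices h : ∀ y ∈ T0, orderOf y = 2 →
      ∃ l : List G₀, 1 ≤ l.length ∧ l.length ≤ 3 ∧ IsFactors l ∧ l.prod = y by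
    have hp : IsPGroup 2 (Subgroup.zpowers x) :=
      IsPGroup.of_card (n := 1) (by rw [Nat.card_zpowers, hx, pow_one])
    obtain ⟨Q, hQ⟩ := hp.exists_le_sylow
    obtain ⟨g, hg⟩ := sylow_conj Q
    obtain ⟨y, hy, e⟩ := (hg ▸ hQ (Subgroup.mem_zpowers x) : x ∈ T0.map (MulAut.conj g).toMonoidHom)
    obtain ⟨l, h1, h3, hl, hp'⟩ := h y hy (by
      rw [← hx, ← e, orderOf_injective _ (MulAut.conj g).injective])
    obtain ⟨hl', hprod⟩ := conj_factors g hl
    exact ⟨_, by rw [List.length_map]; exact h1, by rw [List.length_map]; exact h3, hl',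
      by rw [hprod, hp']; exact e⟩
  intro y hy ho
  obtain ⟨a, ha : a < 1024, i, hi : i < 128, rfl⟩ := hy
  have hsq : sys.va a * sys.sv i * (sys.va a * sys.sv i) = 1 := by
    rw [← sq, ← ho, pow_orderOf_eq_one]
  by_cases hi0 : i = 0
  · subst hi0
    rw [TwoCert.Sys.sv_zero, mul_one] at ho ⊢
    have h : ∀ r < 4, shortBlock r = true := by
      intro r hr
      interval_cases r
      exacts [short0, short1, short2, short3]
    have hh := List.all_eq_true.1 (h (a / 256) (by omega)) (a % 256) (List.mem_range.2 (by omega))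
    rw [show a / 256 * 256 + a % 256 = a by omega] at hh
    simp only [Bool.or_eq_true, Nat.beq_eq, Bool.and_eq_true] at hh
    rcases hh with hh | ⟨hg, he⟩
    · rw [hh, TwoCert.Sys.va_zero, orderOf_one] at ho; omega
    · obtain ⟨h1, h3, hl⟩ := goodList_spec hg
      exact ⟨_, by rw [List.length_map]; exact h1, by rw [List.length_map]; exact h3, hl,
        by rw [← wp_dProd, ← eq_of_eqW he, va_eq]⟩
  · have hii : TwoCert.mulTab MT i i = 0 :=
      sys.index_mul (a := a) (b := a) (c := 0) (l := 0) hi hi (show 0 < 128 by norm_num)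
        (by rw [hsq, TwoCert.Sys.va_zero, TwoCert.Sys.sv_zero, one_mul])
    have hidx := List.all_eq_true.1 inv_index i (List.mem_range.2 hi)
    simp only [Bool.or_eq_true, Nat.beq_eq, Bool.not_eq_true', List.any_eq_true] at hidx
    rcases hidx with h | h | ⟨e, he, hei⟩
    · exact absurd h hi0
    · exact absurd hii (Nat.ne_of_beq_eq_false h)
    subst hei
    have hok : invOK e = true := by
      have hsplit : invData = invData.take 9 ++ ((invData.drop 9).take 9 ++
          ((invData.drop 18).take 9 ++ invData.drop 27)) := rfl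
      rw [hsplit] at he
      simp only [List.mem_append] at he
      rcases he with h | h | h | h
      · exact List.all_eq_true.1 inv_part0 e h
      · exact List.all_eq_true.1 inv_part1 e h
      · exact List.all_eq_true.1 inv_part2 e h
      · exact List.all_eq_true.1 inv_part3 e h
    simp only [invOK, Bool.and_eq_true, Nat.blt_eq, List.all_eq_true, List.mem_range,
      Bool.or_eq_true, Bool.not_eq_true', List.any_eq_true, Nat.beq_eq] at hok
    obtain ⟨⟨⟨hc, hcsq⟩, hreps⟩, hcov⟩ := hok
    have hsv : sys.sv e.1 * sys.sv e.1 = sys.va e.2.1 := by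
      rw [sv_eq, va_eq, ← wprod_append]; exact eq_of_eqW hcsq
    have hva : sys.va (Nat.xor (Nat.xor a (TwoCert.act GM e.1 a)) e.2.1) = 1 := by
      change sys.va (a ^^^ TwoCert.act sys.GM e.1 a ^^^ e.2.1) = 1
      rw [TwoCert.Sys.va_xor, TwoCert.Sys.va_xor, ← hsv]
      rw [← hsq]
      calc sys.va a * sys.va (TwoCert.act sys.GM e.1 a) * (sys.sv e.1 * sys.sv e.1)
          = sys.va a * (sys.va (TwoCert.act sys.GM e.1 a) * sys.sv e.1) * sys.sv e.1 := by group
        _ = sys.va a * sys.sv e.1 * (sys.va a * sys.sv e.1) := by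
            rw [← TwoCert.Sys.sv_mul_va]; group
    have hz : Nat.xor (Nat.xor a (TwoCert.act GM e.1 a)) e.2.1 = 0 :=
      sys.va_inj (Nat.xor_lt_two_pow (Nat.xor_lt_two_pow ha (sys.act_lt e.1 a ha)) hc)
        (Nat.two_pow_pos _) (hva.trans (TwoCert.Sys.va_zero sys).symm)
    have happ : ∀ v, v < 1024 → TwoCert.app (MT.getD e.1 []) v = TwoCert.act GM e.1 v :=
      fun v hv => sys.app_table hi hv
    rcases hcov a ha with h | ⟨r, hr, s, hs, ⟨hA, hr1⟩, hs1⟩
    · rw [happ a ha] at h
      exact absurd hz (Nat.ne_of_beq_eq_false h)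
    · obtain ⟨hg, hew⟩ := hreps r hr
      obtain ⟨h1, h3, hl⟩ := goodList_spec hg
      obtain ⟨hl', hprod⟩ := conj_factors (sys.va s) hl
      refine ⟨_, by rw [List.length_map, List.length_map]; exact h1,
        by rw [List.length_map, List.length_map]; exact h3, hl', ?_⟩
      rw [hprod, ← wp_dProd, ← eq_of_eqW hew, wprod_append, ← va_eq, ← sv_eq, TwoCert.Sys.va_inv]
      rw [happ s hs1] at hA
      change a = s ^^^ r.1 ^^^ TwoCert.act sys.GM e.1 s at hA
      rw [hA, TwoCert.Sys.va_xor, TwoCert.Sys.va_xor, mul_assoc (sys.va s * sys.va r.1),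
        ← TwoCert.Sys.sv_mul_va]
      group

/-- The standard product of `m` transpositions. -/
noncomputable def std : ℕ → List G₀
  | 1 => [Fi22Class.z]
  | 2 => [Fi22Class.z, dEl e1W]
  | _ => [Fi22Class.z, dEl e1W, dEl f0W]

theorem std_factors : ∀ m, 1 ≤ m → m ≤ 3 → (std m).length = m ∧ IsFactors (std m) := by
  have h := rep_checked
  simp only [goodList, Bool.and_eq_true] at h
  obtain ⟨c1, n1⟩ := goodPair_spec h.1
  obtain ⟨c2, n2⟩ := goodPair_spec h.2.1
  obtain ⟨c3, n3⟩ := goodPair_spec h.2.2
  rw [dEl_nil] at c1 n1 c2 n2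
  have hz : Fi22Class.z ∈ Fi22Class.D := mem_conjugatesOf_self
  intro m h1 h3
  interval_cases m
  · exact ⟨rfl, by simp [std], by simp [std, hz], by simp [std]⟩
  · exact ⟨rfl, by simp [std, n1], by simp [std, hz, dEl_mem], by simp [std, c1, c1.symm]⟩
  · exact ⟨rfl, by simp [std, n1, n2, n3], by simp [std, hz, dEl_mem],
      by simp [std, c1, c1.symm, c2, c2.symm, c3, c3.symm]⟩

theorem grow3_sound : ∀ (l : List (ℕ × ℕ)) (m m' : ℕ), grow3 l m = some m' →
    (∀ p, bit m p = true → ∃ h : G₀, Commute h Fi22Class.z ∧ Commute h (dEl e1W) ∧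
      (pt (h * wp f0W.reverse) : ℕ) = p) →
    ∀ p, bit m' p = true → ∃ h : G₀, Commute h Fi22Class.z ∧ Commute h (dEl e1W) ∧
      (pt (h * wp f0W.reverse) : ℕ) = p := by
  intro l
  induction l with
  | nil =>
    intro m m' h hm
    simp only [grow3, Option.some.injEq] at h
    subst h
    exact hm
  | cons ck l ih =>
    obtain ⟨c, k⟩ := ck
    intro m m' h hm
    rw [grow3] at h
    cases hb : (bit m c && Nat.blt k stabW.length)
    · simp [hb] at h
    rw [hb, cond_true] at h
    simp only [Bool.and_eq_true, Nat.blt_eq] at hb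
    refine ih _ _ h fun p hp => ?_
    rcases bit_insBit hp with rfl | hp
    swap
    · exact hm p hp
    obtain ⟨h0, hz, he, hpt⟩ := hm c hb.1
    have hk := List.all_eq_true.1 stab_checked _ (List.getElem_mem hb.2)
    simp only [Bool.and_eq_true, Nat.beq_eq] at hk
    rw [List.getD_eq_getElem _ _ hb.2]
    generalize stabW[k] = w at hk ⊢
    have hact : ∀ q : Fin Fi22B.setup.n, (Setup.hom S (wp w.reverse) q : ℕ) = tact Fi22B.P w q :=
      fun q => hom_tact (P := Fi22B.P) Fi22B.tab_ok (Setup.hom S) (Setup.hom_gen S) w hk.1 q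
    have hwz : Commute (wp w.reverse) Fi22Class.z := by
      have := (commute_iff_fix (wp w.reverse) 1).2 (by
        rw [pt_one]; exact Fin.ext ((hact p0).trans hk.2.1))
      simpa using this
    have hwe : Commute (wp w.reverse) (dEl e1W) := by
      rw [dEl_eq]
      refine (commute_iff_fix _ _).2 (Fin.ext ?_)
      have he1 := e1_checked
      simp only [Bool.and_eq_true, Nat.beq_eq] at he1
      rw [hact, pt_word he1.1.1.1, he1.1.2]
      exact hk.2.2
    refine ⟨wp w.reverse * h0, hwz.mul_left hz, hwe.mul_left he, ?_⟩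
    rw [mul_assoc, pt_mul, hact, hpt]

theorem nb_conj {u : G₀} (hu : u ∈ Fi22Class.D) (hne : u ≠ Fi22Class.z) (hc : Commute Fi22Class.z u) :
    bit (orbitBits Fi22B.P Fi22B.sw 7 Fi22B.orb1) (pt (Fi22Class.mem_D.1 hu).choose) = true ∧
    ∃ h : G₀, Commute h Fi22Class.z ∧ h * dEl e1W * h⁻¹ = u := by
  obtain ⟨-, e, q₁, q₂, hq0, he, hc₁, hc₂, -, hcov⟩ := Fi22Class.exists_frame
  set g := (Fi22Class.mem_D.1 hu).choose with hgdef
  have hg : g * Fi22Class.z * g⁻¹ = u := (Fi22Class.mem_D.1 hu).choose_spec
  have key : ∀ x : G₀, e (x : G₀ ⧸ Fi22.H) = pt x := fun x => by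
    have := he x ((1 : G₀) : G₀ ⧸ Fi22.H)
    rw [show x • ((1 : G₀) : G₀ ⧸ Fi22.H) = (x : G₀ ⧸ Fi22.H) from
      congrArg QuotientGroup.mk (mul_one x)] at this
    rw [this]
    exact congrArg _ (Fin.ext hq0)
  have hcomm : ∀ h ∈ Fi22.H, Commute h Fi22Class.z := fun h hh => (Fi22Class.z_comm h hh).symm
  have hne1 : pt g ≠ p0 := fun h => hne (by
    rw [← hg, (conj_eq_iff g 1).2 (h.trans pt_one.symm)]; simp)
  obtain ⟨q₁', hc₁', -, hb₁⟩ := orbit_spec (H := Fi22.H) (Setup.gen_invol S) rfl (Setup.hom_gen S) he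
    Fi22B.orb1_ok
  have hq₁ : q₁' = q₁ := e.injective (Fin.ext (hc₁'.trans hc₁.symm))
  subst hq₁
  rcases hcov (g : G₀ ⧸ Fi22.H) with h | h | h
  · exact absurd ((key g).symm.trans ((congrArg e h).trans (Fin.ext hq0))) hne1
  · refine ⟨key g ▸ (hb₁ _).1 h, ?_⟩
    obtain ⟨⟨k, hk⟩, hkq⟩ := h
    have he1 := e1_checked
    simp only [Bool.and_eq_true, Nat.beq_eq] at he1
    refine ⟨k, hcomm k hk, ?_⟩
    rw [dEl_eq, ← hg]
    have h7 : q₁' = ((wp e1W.reverse : G₀) : G₀ ⧸ Fi22.H) := e.injective (Fin.ext (by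
      rw [hc₁, key, pt_word he1.1.1.1, he1.1.2]))
    have e2 : (conj_eq_iff (k * wp e1W.reverse) g).2 (by
      rw [← key, ← key, ← hkq, h7]; rfl) = _ := rfl
    clear e2
    have e3 := (conj_eq_iff (k * wp e1W.reverse) g).2 (by rw [← key, ← key, ← hkq, h7]; rfl)
    rw [← e3]; group
  · exfalso
    obtain ⟨⟨k, hk⟩, hkq⟩ := h
    have h1 : q₂ = ((wp [1] : G₀) : G₀ ⧸ Fi22.H) := e.injective (Fin.ext (by
      rw [hc₂, key]
      have := pt_word (w := [1]) (by decide +kernel)
      rw [List.reverse_singleton] at this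
      rw [this]
      decide +kernel))
    have e3 := (conj_eq_iff (k * wp [1]) g).2 (by rw [← key, ← key, ← hkq, h1]; rfl)
    have hck : Commute Fi22Class.z (wp [1] * Fi22Class.z * (wp [1])⁻¹) := by
      have h4 := hc.map (MulAut.conj k⁻¹).toMonoidHom
      simp only [MulEquiv.coe_toMonoidHom, MulAut.conj_apply, inv_inv] at h4
      rw [← hg, ← e3] at h4
      have h5 : k⁻¹ * Fi22Class.z * k = Fi22Class.z := by
        rw [mul_assoc, ← (hcomm k hk).eq, inv_mul_cancel_left]
      rw [h5] at h4
      convert h4 using 1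
      group
    have h6 := (commute_iff_fix Fi22Class.z (wp [1])).1 hck
    have h7 := hom_tact (P := Fi22B.P) Fi22B.tab_ok (Setup.hom S) (Setup.hom_gen S) [0] (by decide +kernel)
      (pt (wp [1]))
    have hz0 : wp [0].reverse = Fi22Class.z := by simp [wprod, Fi22Class.z]
    erw [hz0, h6] at h7
    have := pt_word (w := [1]) (by decide +kernel)
    rw [List.reverse_singleton] at this
    rw [this] at h7
    exact absurd h7 (by decide +kernel)

theorem triple_conj {u : G₀} (hu : u ∈ Fi22Class.D) (hne : u ≠ Fi22Class.z) (hne1 : u ≠ dEl e1W)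
    (hc : Commute Fi22Class.z u) (hc1 : Commute (dEl e1W) u) :
    ∃ h : G₀, Commute h Fi22Class.z ∧ Commute h (dEl e1W) ∧ h * dEl f0W * h⁻¹ = u := by
  obtain ⟨hbit, -⟩ := nb_conj hu hne hc
  set g := (Fi22Class.mem_D.1 hu).choose with hgdef
  have hg : g * Fi22Class.z * g⁻¹ = u := (Fi22Class.mem_D.1 hu).choose_spec
  have hch := common_checked
  have he1 := e1_checked
  simp only [Bool.and_eq_true, Nat.beq_eq] at he1
  split at hch
  · exact absurd hch (by simp)
  next m hm =>
    have hp := List.all_eq_true.1 hch (pt g) (List.mem_range.2 (pt g).2)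
    have hall : ((dW e1W).all fun x => Nat.blt x Fi22B.P.k) = true := by decide +kernel
    have hfix : tact Fi22B.P (dW e1W).reverse (pt g) = (pt g : ℕ) := by
      have h1 := (commute_iff_fix (dEl e1W) g).1 (hg.symm ▸ hc1)
      have h2 := hom_tact (P := Fi22B.P) Fi22B.tab_ok (Setup.hom S) (Setup.hom_gen S) (dW e1W).reverse
        (by simpa [List.all_eq_true] using hall) (pt g)
      rw [List.reverse_reverse] at h2
      exact h2.symm.trans (congrArg Fin.val h1)
    have h7 : (pt g : ℕ) ≠ 7 := fun h => hne1 (by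
      rw [← hg, dEl_eq]
      exact (conj_eq_iff _ _).2 (Fin.ext (by rw [h, pt_word he1.1.1.1, he1.1.2])))
    simp only [hbit, hfix, Bool.or_eq_true, Bool.not_eq_true', Bool.true_and] at hp
    have hmem : bit m (pt g) = true := by
      rcases hp with hp | hp
      · simp [h7] at hp
      · exact hp
    obtain ⟨h, hz, he, hpt⟩ := grow3_sound comSteps _ m hm (fun p hp => by
      rcases bit_insBit hp with rfl | hp
      · exact ⟨1, Commute.one_left _, Commute.one_left _, by rw [one_mul, pt_word he1.1.1.2, he1.2]⟩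
      · rw [bit_zero] at hp; exact absurd hp (by simp)) _ hmem
    refine ⟨h, hz, he, ?_⟩
    rw [dEl_eq, ← hg]
    rw [← (conj_eq_iff (h * wp f0W.reverse) g).2 (Fin.ext hpt)]
    group

theorem conj_std : ∀ (l : List G₀), IsFactors l → 1 ≤ l.length → l.length ≤ 3 →
    IsConj (std l.length).prod l.prod := by
  intro l hl h1 h3
  match l, hl, h1, h3 with
  | a :: rest, hl, _, h3 =>
    obtain ⟨g, hg⟩ := Fi22Class.mem_D.1 (hl.2.1 a (List.mem_cons_self ..))
    obtain ⟨hl', hp'⟩ := conj_factors g⁻¹ hl
    have ha : MulAut.conj g⁻¹ a = Fi22Class.z := by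
      rw [← hg, MulAut.conj_apply, inv_inv]; group
    suffices IsConj (std (a :: rest).length).prod ((a :: rest).map (MulAut.conj g⁻¹)).prod by
      refine this.trans (isConj_iff.2 ⟨g, ?_⟩)
      rw [hp', inv_inv]; group
    rw [List.map_cons, ha] at hl' ⊢
    match rest, hl', h3 with
    | [], _, _ => exact IsConj.refl _
    | b :: rest', hl', h3 =>
      simp only [List.map_cons] at hl' ⊢
      set b' := MulAut.conj g⁻¹ b with hb'
      obtain ⟨hnd, hD, hcm⟩ := hl'
      obtain ⟨hbit, h, hhz, hh⟩ := nb_conj (hD b' (by simp)) (fun e => by simp [e] at hnd)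
        (hcm _ (by simp) _ (by simp))
      match rest', h3, hnd, hD, hcm with
      | [], _, _, _, _ =>
        refine isConj_iff.2 ⟨h, ?_⟩
        simp only [std, List.length_cons, List.length_nil, List.prod_cons, List.prod_nil, mul_one,
          List.map_nil]
        rw [← hh]
        calc h * (Fi22Class.z * dEl e1W) * h⁻¹ = h * Fi22Class.z * h⁻¹ * (h * dEl e1W * h⁻¹) := by group
          _ = Fi22Class.z * (h * dEl e1W * h⁻¹) := by rw [hhz.eq, mul_inv_cancel_right]
      | [c], _, hnd, hD, hcm =>
        simp only [List.map_cons, List.map_nil] at hnd hD hcm ⊢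
        set c' := MulAut.conj g⁻¹ c with hc'
        simp only [List.nodup_cons, List.mem_cons, List.not_mem_nil, or_false, not_or] at hnd
        have hzinv : h⁻¹ * Fi22Class.z * h = Fi22Class.z := by
          rw [mul_assoc, ← hhz.eq, inv_mul_cancel_left]
        have heinv : h⁻¹ * b' * h = dEl e1W := by rw [← hh]; group
        set u := h⁻¹ * c' * h with hu
        have huD : u ∈ Fi22Class.D := by
          obtain ⟨k, hk⟩ := Fi22Class.mem_D.1 (hD c' (by simp))
          exact Fi22Class.mem_D.2 ⟨h⁻¹ * k, by rw [hu, ← hk]; group⟩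
        have hcu : ∀ x, Commute x c' → Commute (h⁻¹ * x * h) u := fun x hx => by
          have := hx.map (MulAut.conj h⁻¹).toMonoidHom
          simpa [hu] using this
        obtain ⟨k, hkz, hke, hk⟩ := triple_conj huD
          (fun e => hnd.1.2 (by
            have : h⁻¹ * c' * h = h⁻¹ * Fi22Class.z * h := by rw [hzinv]; exact e
            exact ((mul_left_cancel (mul_right_cancel this))).symm))
          (fun e => hnd.2.1 (by
            have : h⁻¹ * c' * h = h⁻¹ * b' * h := by rw [heinv]; exact e
            exact ((mul_left_cancel (mul_right_cancel this))).symm))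
          (hzinv ▸ hcu _ (hcm _ (by simp) _ (by simp))) (heinv ▸ hcu _ (hcm _ (by simp) _ (by simp)))
        refine isConj_iff.2 ⟨h * k, ?_⟩
        simp only [std, List.length_cons, List.length_nil, List.prod_cons, List.prod_nil, mul_one]
        have e1 : h * k * Fi22Class.z * (h * k)⁻¹ = Fi22Class.z := by
          rw [(hhz.mul_left hkz).eq, mul_inv_cancel_right]
        have e2 : h * k * dEl e1W * (h * k)⁻¹ = b' := by
          calc h * k * dEl e1W * (h * k)⁻¹ = h * (k * dEl e1W * k⁻¹) * h⁻¹ := by group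
            _ = b' := by rw [hke.eq, mul_inv_cancel_right, hh]
        have e3 : h * k * dEl f0W * (h * k)⁻¹ = c' := by
          calc h * k * dEl f0W * (h * k)⁻¹ = h * (k * dEl f0W * k⁻¹) * h⁻¹ := by group
            _ = c' := by rw [hk, hu]; group
        calc h * k * (Fi22Class.z * (dEl e1W * dEl f0W)) * (h * k)⁻¹
            = (h * k * Fi22Class.z * (h * k)⁻¹) * ((h * k * dEl e1W * (h * k)⁻¹) *
                (h * k * dEl f0W * (h * k)⁻¹)) := by group
          _ = Fi22Class.z * (b' * c') := by rw [e1, e2, e3]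
      | _ :: _ :: _, h3, _, _, _ => simp only [List.length_cons] at h3; omega

/-- The number of fixed points. -/
noncomputable def fix (x : G₀) : ℕ := (Finset.univ.filter fun c => Setup.hom S x c = c).card

theorem fix_conj {x y : G₀} (h : IsConj x y) : fix x = fix y := by
  obtain ⟨g, rfl⟩ := isConj_iff.1 h
  refine Finset.card_equiv (Setup.hom S g) fun c => ?_
  simp only [Finset.mem_filter, Finset.mem_univ, true_and, map_mul, map_inv, Equiv.Perm.mul_apply,
    Equiv.Perm.inv_def, Equiv.symm_apply_apply]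
  exact ((Setup.hom S g).injective.eq_iff).symm

theorem fix_word {w : List ℕ} (hw : (w.all fun x => Nat.blt x Fi22B.P.k) = true) :
    fix (wp w) = fixW w := by
  classical
  have hact : ∀ c : Fin Fi22B.setup.n, (Setup.hom S (wp w) c : ℕ) = tact Fi22B.P w.reverse c := by
    intro c
    have := hom_tact (P := Fi22B.P) Fi22B.tab_ok (Setup.hom S) (Setup.hom_gen S) w.reverse
      (by simpa [List.all_eq_true] using hw) c
    rwa [List.reverse_reverse] at this
  rw [fix, fixW, ← List.toFinset_card_of_nodup (List.nodup_range.filter _),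
    ← Finset.card_map Fin.valEmbedding]
  congr 1
  ext c
  simp only [Finset.mem_map, Finset.mem_filter, Finset.mem_univ, true_and, Fin.valEmbedding_apply,
    List.mem_toFinset, List.mem_filter, List.mem_range, Nat.beq_eq]
  constructor
  · rintro ⟨d, hd, rfl⟩
    exact ⟨d.2, (hact d).symm.trans (congrArg Fin.val hd)⟩
  · rintro ⟨hc, h⟩
    exact ⟨⟨c, hc⟩, Fin.ext ((hact _).trans h), rfl⟩

theorem fix_std : fix (std 1).prod = 694 ∧ fix (std 2).prod = 182 ∧ fix (std 3).prod = 54 := by
  obtain ⟨h1, h2, h3⟩ := fix_checked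
  have e : ∀ ws : List (List ℕ), ((dProd ws).all fun x => Nat.blt x Fi22B.P.k) = true →
      fix (ws.map dEl).prod = fixW (dProd ws) := fun ws hw => by rw [← wp_dProd, fix_word hw]
  have a1 := e [[]] (by decide +kernel)
  have a2 := e [[], e1W] (by decide +kernel)
  have a3 := e [[], e1W, f0W] (by decide +kernel)
  simp only [List.map_cons, List.map_nil, dEl_nil] at a1 a2 a3
  exact ⟨a1.trans h1, a2.trans h2, a3.trans h3⟩

theorem std_order {m : ℕ} (h1 : 1 ≤ m) (h3 : m ≤ 3) : orderOf (std m).prod = 2 := by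
  have hfix : fix (1 : G₀) = 3510 := by
    rw [fix, map_one]
    simp
    rfl
  obtain ⟨hlen, -, hD, hcm⟩ := std_factors m h1 h3
  have hne : (std m).prod ≠ 1 := fun e => by
    obtain ⟨a, b, c⟩ := fix_std
    interval_cases m <;> simp_all
  refine orderOf_eq_prime ?_ hne
  have hsq : ∀ a ∈ std m, a * a = 1 := fun a ha => Fischer.TSet.sq Fi22Class.isClass.1 (hD a ha)
  revert hcm hsq
  generalize std m = l
  intro hcm hsq
  induction l with
  | nil => simp
  | cons a l ih =>
    have hc : Commute a l.prod :=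
      Commute.list_prod_right l a fun b hb => hcm a (List.mem_cons_self ..) b (List.mem_cons_of_mem _ hb)
    rw [List.prod_cons, hc.mul_pow, pow_two, hsq a (List.mem_cons_self ..), one_mul]
    exact ih (fun x hx y hy => hcm x (List.mem_cons_of_mem _ hx) y (List.mem_cons_of_mem _ hy))
      (fun x hx => hsq x (List.mem_cons_of_mem _ hx))

theorem length_unique {l l' : List G₀} (hl : IsFactors l) (hl' : IsFactors l') (h1 : 1 ≤ l.length)
    (h3 : l.length ≤ 3) (h1' : 1 ≤ l'.length) (h3' : l'.length ≤ 3) (e : l.prod = l'.prod) :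
    l.length = l'.length := by
  have a := fix_conj (conj_std l hl h1 h3)
  have b := fix_conj (conj_std l' hl' h1' h3')
  rw [e] at a
  obtain ⟨f1, f2, f3⟩ := fix_std
  interval_cases hm : l.length <;> interval_cases hm' : l'.length <;> omega

/-- The only class of 3-transpositions. -/
theorem class_unique {E : Set G₀} (hE : Cfsg.IsThreeTranspositionClass E) : E = Fi22Class.D := by
  obtain ⟨⟨hord, hpair⟩, ⟨x, hx, hconj⟩, -⟩ := hE
  obtain ⟨l, h1, h3, hl, rfl⟩ := exists_factors x (hord x hx)
  have hc : IsConj (std l.length).prod l.prod := conj_std l hl h1 h3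
  have hmem : ∀ g : G₀, g * (std l.length).prod * g⁻¹ ∈ E := fun g => by
    rw [hconj]
    exact hc.symm.trans (isConj_iff.2 ⟨g, rfl⟩)
  interval_cases hlen : l.length
  · rw [hconj]
    have e : (std 1).prod = Fi22Class.z := by simp [std]
    rw [e] at hc
    show conjugatesOf _ = conjugatesOf Fi22Class.z
    exact (hc.conjugatesOf_eq).symm
  all_goals exfalso
  all_goals
    obtain ⟨b2, b3, b4, b5⟩ := bad_checked
  all_goals
    have key : ∀ (g : List ℕ) (ws : List (List ℕ)), (ws.map dEl).prod ∈ E →
        wp g.reverse * (ws.map dEl).prod * (wp g.reverse)⁻¹ ∈ E →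
        moved (badWord g ws 2) = true → moved (badWord g ws 3) = true → False := by
      intro g ws hm hm' m2 m3
      have hw : ∀ k, wp (badWord g ws k) =
          ((ws.map dEl).prod * (wp g.reverse * (ws.map dEl).prod * (wp g.reverse)⁻¹)) ^ k := by
        intro k
        rw [← wp_dProd, wprod_reverse (Setup.gen_invol S), inv_inv]
        induction k with
        | zero => simp [badWord, wprod]
        | succ k ih =>
          rw [pow_succ', ← ih]
          simp only [badWord, List.replicate_succ, List.flatten_cons, wprod_append,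
            wprod_reverse (Setup.gen_invol S)]
      rcases hpair _ hm _ hm' with h | h
      · exact ne_one_of_moved m2 (by rw [hw]; exact h)
      · exact ne_one_of_moved m3 (by rw [hw]; exact h)
  · refine key (badW.getD 0 []) [[], e1W] ?_ ?_ b2 b3 <;>
      simp only [List.map_cons, List.map_nil, dEl_nil]
    · have := hmem 1; simpa [std] using this
    · exact hmem _
  · refine key (badW.getD 1 []) [[], e1W, f0W] ?_ ?_ b4 b5 <;>
      simp only [List.map_cons, List.map_nil, dEl_nil]
    · have := hmem 1; simpa [std] using this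
    · exact hmem _

/-- The transpositions in the Sylow subgroup generate its normal 2^10. -/
theorem closure_D_T0 : Subgroup.closure {x | x ∈ Fi22Class.D ∧ x ∈ T0} = A0 := by
  have : Finite G₀ := Fi22.order_facts.1
  refine le_antisymm ((Subgroup.closure_le _).2 ?_) ?_
  · rintro d ⟨hd, hdT⟩
    have hcomm : ∀ e ∈ sys.es, Commute d e := by
      intro e he
      obtain ⟨u, hu, rfl⟩ := List.mem_map.1 he
      have hcl := List.all_eq_true.1 basis_clique u hu
      simp only [List.any_eq_true, beq_iff_eq] at hcl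
      obtain ⟨w, -, rfl⟩ := hcl
      show Commute d (dEl w)
      by_contra hc
      have heA : dEl w ∈ A0 := by
        obtain ⟨k, hk, e⟩ := List.getElem_of_mem hu
        refine ⟨2 ^ k, Nat.pow_lt_pow_right (by norm_num) hk, ?_⟩
        show dEl w = TwoCert.val (basisW.map fun w => wp w) (2 ^ k)
        rw [TwoCert.val_pow _ k (by rw [List.length_map]; exact hk), List.getElem_map, dEl, e]
      have hd2 := Fischer.TSet.sq Fi22Class.isClass.1 hd
      have he2 := Fischer.TSet.sq Fi22Class.isClass.1 (dEl_mem w)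
      have h3 := Fischer.TSet.cube Fi22Class.isClass.1 hd (dEl_mem w) hc
      have hconjA : d * dEl w * d⁻¹ ∈ A0 := TwoCert.Sys.bottom_conj sys hdT heA
      obtain ⟨a, ha, ea⟩ := heA
      obtain ⟨b, hb, eb⟩ := hconjA
      have hcc : dEl w * (d * dEl w * d⁻¹) = (d * dEl w * d⁻¹) * dEl w := by
        rw [eb, ea, TwoCert.Sys.va_comm]
      rw [show d⁻¹ = d from inv_eq_of_mul_eq_one_right hd2] at hcc
      refine hc ?_
      have h5 : d * dEl w * d = dEl w * d * dEl w := by
        have h : d * dEl w * d * (dEl w * d * dEl w) = 1 := by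
          rw [← h3, pow_succ, pow_two]; group
        rw [eq_inv_of_mul_eq_one_left h, mul_inv_rev, mul_inv_rev, inv_eq_of_mul_eq_one_right he2,
          inv_eq_of_mul_eq_one_right hd2, mul_assoc]
      rw [h5] at hcc
      show d * dEl w = dEl w * d
      have h6 : dEl w * dEl w * d * dEl w = dEl w * d * (dEl w * dEl w) := by
        calc dEl w * dEl w * d * dEl w = dEl w * (dEl w * d * dEl w) := by group
          _ = dEl w * d * dEl w * dEl w := hcc
          _ = _ := by group
      rw [he2, one_mul, mul_one] at h6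
      exact h6
    obtain ⟨a, ha, i, hi, rfl⟩ := hdT
    suffices hi0 : i = 0 by
      subst hi0
      exact ⟨a, ha, by rw [TwoCert.Sys.sv_zero, mul_one]⟩
    have hact : ∀ v < 2 ^ sys.n, TwoCert.act sys.GM i v = TwoCert.act sys.GM 0 v := by
      intro v hv
      have hdv : Commute (sys.va a * sys.sv i) (sys.va v) := TwoCert.val_commute hcomm v
      refine sys.va_inj (sys.act_lt i v hv) (sys.act_lt 0 v hv) ?_
      rw [← sys.conj_va a i v, hdv.eq, mul_inv_cancel_right, ← sys.sv_conj 0 v, TwoCert.Sys.sv_zero,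
        one_mul, inv_one, mul_one]
    have h1 : MT.getD i [] = MT.getD 0 [] := by
      refine (sys.table_eq i hi).trans (Eq.trans ?_ (sys.table_eq 0 sys.pos).symm)
      exact List.map_congr_left fun k hk =>
        hact _ (Nat.pow_lt_pow_right (by norm_num) (List.mem_range.1 hk))
    have hi' : i < MT.length := hi
    rw [List.getD_eq_getElem _ _ hi', List.getD_eq_getElem _ _ (show 0 < MT.length by norm_num [MT])] at h1
    exact (table_nodup.getElem_inj_iff).1 h1
  · rintro x ⟨a, ha, rfl⟩
    have hes : ∀ e ∈ sys.es, e ∈ Subgroup.closure {x | x ∈ Fi22Class.D ∧ x ∈ T0} := by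
      intro e he
      obtain ⟨u, hu, rfl⟩ := List.mem_map.1 he
      have hcl := List.all_eq_true.1 basis_clique u hu
      simp only [List.any_eq_true, beq_iff_eq] at hcl
      obtain ⟨w, -, rfl⟩ := hcl
      refine Subgroup.subset_closure ⟨dEl_mem w, A0_le ?_⟩
      obtain ⟨k, hk, e⟩ := List.getElem_of_mem hu
      refine ⟨2 ^ k, Nat.pow_lt_pow_right (by norm_num) hk, ?_⟩
      show dEl w = TwoCert.val (basisW.map fun w => wp w) (2 ^ k)
      rw [TwoCert.val_pow _ k (by rw [List.length_map]; exact hk), List.getElem_map, dEl, e]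
    show TwoCert.val sys.es a ∈ _
    clear ha
    revert hes a
    generalize sys.es = l
    intro a hes
    induction l generalizing a with
    | nil => exact one_mem _
    | cons e l ih =>
      rw [TwoCert.val]
      refine mul_mem ?_ (ih _ fun x hx => hes x (List.mem_cons_of_mem _ hx))
      split
      · exact hes e (List.mem_cons_self ..)
      · exact one_mem _

end Cfsg.Agent.FischerPresented.Fi22Two
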