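/-! Data of a diagram automorphism normalising the Sylow 2-subgroup of presented Fi22. -/

set_option autoImplicit false
set_option maxRecDepth 100000

namespace Cfsg.Agent.FischerPresented.Fi22Outer

/-- The twisting word. -/
def tW : List Nat :=
  [7, 6, 5, 4, 2, 3, 1, 2, 0, 1, 0, 1, 0, 2, 1, 3, 2, 4, 5, 6, 7, 7, 5, 4, 3, 2, 1, 0, 1, 2, 3, 4, 5, 7, 2, 1, 5, 4]

/-- Path to the image of the first transposition. -/
def zW : List Nat :=
  [1, 0, 2, 1, 3, 2, 4, 7]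

/-- The matrix on the normal 2^10. -/
def TM : List Nat :=
  [1, 365, 128, 8, 16, 459, 64, 4, 256, 733]

/-- The squares over the representatives, coded `a * 128 + j`. -/
def sqCode : List Nat :=
  [0, 65049, 41226, 24339, 0, 24721, 41226, 49563,
    5770, 59539, 46976, 18841, 5770, 30235, 46976, 55057,
    7443, 58122, 48153, 16896, 7451, 32138, 48145, 56448,
    2969, 62848, 43667, 21642, 2961, 27392, 43675, 51722,
    46976, 48128, 41216, 43648, 46976, 43650, 41216, 48130,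
    5760, 7424, 0, 2944, 5760, 2946, 0, 7426,
    59520, 58112, 65024, 62848, 59528, 51722, 65032, 56458,
    18816, 16896, 24320, 21632, 18824, 27402, 24328, 32138,
    41230, 65045, 4, 24351, 41230, 24733, 4, 49559,
    46980, 59551, 5774, 18837, 46980, 30231, 5774, 55069,
    35485, 54662, 11159, 29836, 35477, 19206, 11167, 59916,
    39959, 49932, 15645, 25094, 39967, 23948, 15637, 64646,
    10250, 13568, 16010, 9088, 10250, 9090, 16010, 13570,
    35082, 37888, 40842, 33408, 35082, 33410, 40842, 37890,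
    62984, 54402, 57480, 49666, 62976, 64904, 57472, 60168,
    22280, 30082, 16776, 25346, 22272, 23688, 16768, 18952]

/-- For each representative: shifts and class members with paths to fixed points. -/
def outerData : List (Nat × List Nat × List (Nat × List Nat)) :=
  [
    (0, [0, 2, 4, 6, 512, 514, 516, 518],
      [(0, [1, 2]),
       (1, [1, 2]),
       (8, [1, 2]),
       (16, [1, 2]),
       (64, [1, 2]),
       (256, [1, 2]),
       (9, [1]),
       (17, []),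
       (24, [1, 0]),
       (257, [1, 2]),
       (264, [1, 2]),
       (272, [1, 2]),
       (320, [1, 2]),
       (265, [1]),
       (273, [1, 2]),
       (280, [1, 2])]),
    (4, [0, 1, 2, 3, 4, 5, 6, 7],
      [(0, [1, 0, 2, 1]),
       (16, [1, 0, 2, 1]),
       (64, [1, 0, 2, 1]),
       (256, [1, 0, 2, 1]),
       (80, [1, 0, 2, 1]),
       (272, [1, 0, 2, 1]),
       (320, [1, 0, 2, 1]),
       (336, [1, 0, 2, 1]),
       (517, [1, 0, 2, 3, 4, 7]),
       (533, [1, 0, 2, 3, 4, 7]),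
       (547, [1, 0, 2, 3, 4, 7]),
       (581, [1, 0, 2, 3, 4, 7]),
       (773, [1, 0, 2, 3, 4, 7]),
       (563, [1, 0, 2, 3, 4, 7]),
       (597, [1, 0, 2, 3, 4, 7]),
       (789, [1, 0, 2, 3, 4, 7])]),
    (10, [0, 1, 2, 3, 512, 513, 514, 515],
      [(2, [1, 2, 3, 4, 5]),
       (6, []),
       (9, [1]),
       (18, [1, 0, 2, 1, 3, 4]),
       (34, [1, 0]),
       (66, [1, 0, 2, 1, 3, 4]),
       (130, [1, 0, 2]),
       (258, [1, 0, 2, 1, 3, 4]),
       (22, [1, 0, 2, 1, 3, 4]),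
       (38, []),
       (41, [1, 0, 2, 1, 3, 4]),
       (50, [1, 0, 2, 1, 3, 4]),
       (73, [1]),
       (146, [1, 0, 2, 1, 3, 4]),
       (162, [1, 0]),
       (194, [1, 0, 2])]),
    (14, [0, 1, 2, 3, 4, 5, 6, 7],
      [(2, [1, 2, 3, 4]),
       (9, [1]),
       (18, [1, 2, 3, 4]),
       (66, [1, 2, 3, 4]),
       (132, [1, 0, 2, 1]),
       (258, [1, 2, 3, 4]),
       (514, [1, 0, 2, 3, 4, 7]),
       (25, [1]),
       (274, [1, 2, 3, 4]),
       (521, [1, 0, 2, 3, 4, 7]),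
       (530, [1, 0, 2, 3, 4, 7]),
       (578, [1, 0, 2, 3, 4, 7]),
       (644, [1, 0, 2, 3, 4, 7]),
       (770, [1, 0, 2, 3, 4, 7]),
       (537, [1, 0, 2, 3, 4, 7]),
       (786, [1, 0, 2, 3, 4, 7])]),
    (19, [0, 4, 8, 12, 512, 516, 520, 524],
      [(4, [1, 2]),
       (5, [1, 2]),
       (6, []),
       (24, [1, 0]),
       (36, [1]),
       (68, [1, 2]),
       (7, [1, 2]),
       (25, []),
       (26, [1, 2]),
       (37, [1, 2]),
       (38, []),
       (56, [1, 2]),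
       (88, [1, 0]),
       (27, [1]),
       (57, []),
       (58, [1, 2])]),
    (23, [0, 1, 4, 5, 8, 9, 12, 13],
      [(5, [1, 0, 2, 3]),
       (7, [1, 0, 2, 3]),
       (25, [1]),
       (69, [1, 0, 2, 3]),
       (517, [1, 0, 2, 3]),
       (27, [1]),
       (71, [1, 0, 2, 3]),
       (89, [1]),
       (519, [1, 0, 2, 3]),
       (537, [1, 0, 2, 3]),
       (581, [1, 0, 2, 3]),
       (91, [1]),
       (539, [1, 0, 2, 3]),
       (583, [1, 0, 2, 3]),
       (601, [1, 0, 2, 3]),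
       (603, [1, 0, 2, 3])]),
    (25, [0, 1, 16, 17, 512, 513, 528, 529],
      [(32, [1, 0, 2, 3]),
       (17, []),
       (34, [1, 0]),
       (36, [1]),
       (40, [1, 0, 2, 3]),
       (96, [1, 0, 2, 3]),
       (160, [1, 0, 2, 3]),
       (19, [1, 0, 2, 3]),
       (25, []),
       (38, []),
       (42, [1, 0, 2, 3]),
       (44, [1, 0, 2, 3]),
       (81, []),
       (162, [1, 0]),
       (168, [1, 0, 2, 3]),
       (224, [1, 0, 2, 3])]),
    (29, [0, 1, 4, 5, 16, 17, 20, 21],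
      [(36, [1]),
       (129, [1, 0, 2, 3]),
       (528, [1, 0, 2, 3]),
       (21, [1, 0, 2, 3]),
       (38, [1]),
       (100, [1]),
       (131, [1, 0, 2, 3]),
       (176, [1, 0, 2, 3]),
       (193, [1, 0, 2, 3]),
       (530, [1, 0, 2, 3]),
       (545, [1, 0, 2, 3]),
       (592, [1, 0, 2, 3]),
       (644, [1, 0, 2, 3]),
       (547, [1, 0, 2, 3]),
       (609, [1, 0, 2, 3]),
       (611, [1, 0, 2, 3])]),
    (32, [0, 2, 16, 18, 512, 514, 528, 530],
      [(2, [1, 2]),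
       (3, [1, 2]),
       (6, []),
       (10, [1, 2]),
       (34, [1, 0]),
       (80, [1, 2]),
       (130, [1, 2]),
       (7, [1, 2]),
       (11, [1]),
       (14, []),
       (35, [1, 0]),
       (38, []),
       (42, [1, 2]),
       (81, []),
       (88, [1, 0]),
       (112, [1, 2])]),
    (33, [0, 1, 2, 3, 16, 17, 18, 19],
      [(17, []),
       (130, [1, 0, 2, 1, 3, 4]),
       (25, []),
       (49, []),
       (67, [1, 0, 2]),
       (138, [1, 0, 2, 1, 3, 4]),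
       (162, [1, 0]),
       (208, [1, 2, 3]),
       (529, [1, 0, 2, 1, 3, 4]),
       (642, [1, 0, 2, 1, 3, 4]),
       (537, [1, 0, 2, 1, 3, 4]),
       (561, [1, 0, 2, 1, 3, 4]),
       (579, [1, 0, 2, 1, 3, 4]),
       (650, [1, 0, 2, 1, 3, 4]),
       (674, [1, 0, 2, 1, 3, 4]),
       (720, [1, 0, 2, 1, 3, 4])]),
    (34, [0, 1, 2, 3, 8, 9, 10, 11, 16, 17, 18, 19, 24, 25, 26, 27, 512, 513, 514, 515, 520, 521, 522, 523, 528, 529, 530, 531, 536, 537, 538, 539],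
      [(11, [1])]),
    (35, [0, 2, 8, 10, 16, 18, 24, 26],
      [(24, [1, 0]),
       (576, [1, 2]),
       (25, []),
       (28, [1, 0]),
       (74, [1, 2]),
       (152, [1, 0]),
       (530, [1, 2]),
       (577, [1, 2]),
       (580, [1, 2]),
       (704, [1, 2]),
       (153, [1, 0]),
       (156, [1, 0]),
       (202, [1, 2]),
       (658, [1, 2]),
       (705, [1, 2]),
       (708, [1, 2])]),
    (36, [0, 1, 2, 3, 4, 5, 6, 7, 16, 17, 18, 19, 20, 21, 22, 23, 512, 513, 514, 515, 516, 517, 518, 519, 528, 529, 530, 531, 532, 533, 534, 535],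
      [(2, [1, 0, 2, 1])]),
    (38, [0, 1, 2, 3, 4, 5, 6, 7, 16, 17, 18, 19, 20, 21, 22, 23, 512, 513, 514, 515, 516, 517, 518, 519, 528, 529, 530, 531, 532, 533, 534, 535],
      [(7, [1, 0, 2, 1])]),
    (40, [0, 1, 2, 3, 4, 5, 6, 7, 8, 9, 10, 11, 12, 13, 14, 15, 512, 513, 514, 515, 516, 517, 518, 519, 520, 521, 522, 523, 524, 525, 526, 527],
      [(11, [1])]),
    (41, [0, 1, 2, 3, 4, 5, 6, 7, 8, 9, 10, 11, 12, 13, 14, 15, 512, 513, 514, 515, 516, 517, 518, 519, 520, 521, 522, 523, 524, 525, 526, 527],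
      [(11, [1])]),
    (42, [0, 1, 2, 3, 4, 5, 6, 7],
      [(0, [1, 2, 3, 4, 5]),
       (512, [1, 2, 3, 4, 5, 6, 7, 3, 2, 1, 4, 3, 5, 8, 7, 3, 2, 4, 3, 7, 8]),
       (11, [1]),
       (28, [1, 0]),
       (38, []),
       (49, []),
       (69, [1, 2, 3, 4, 5, 6, 7]),
       (82, [1, 0, 2, 3, 4, 5, 6, 7]),
       (104, [1, 0, 2, 3, 4, 5, 6]),
       (523, [1, 2, 3, 4, 5, 6, 7, 3, 2, 1, 4, 3, 5, 8, 7, 3, 2, 1, 4, 3, 5, 7, 8]),
       (540, [1, 2, 3, 4, 5, 6, 7, 3, 2, 1, 4, 5, 8, 7, 3, 2, 4, 3, 7, 8]),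
       (550, [1, 2, 3, 4, 5, 6, 7, 3, 2, 1, 4, 3, 5, 8, 7, 3, 2, 1, 4, 3, 2, 7, 8]),
       (561, [1, 2, 3, 4, 5, 6, 7, 3, 2, 1, 4, 3, 5, 4, 8, 7, 3, 2, 4, 3, 5, 7, 8]),
       (581, [1, 2, 3, 4, 5, 6, 7, 3, 2, 1, 4, 3, 5, 4, 8, 7, 3, 2, 4, 3, 5, 7, 8]),
       (594, [1, 2, 3, 4, 5, 6, 7, 3, 2, 1, 4, 3, 5, 8, 7, 3, 2, 1, 4, 3, 2, 7, 8]),
       (616, [1, 2, 3, 4, 5, 6, 7, 3, 2, 1, 4, 5, 8, 7, 3, 2, 1, 4, 3, 7, 8])]),
    (43, [0, 1, 2, 3, 4, 5, 6, 7, 8, 9, 10, 11, 12, 13, 14, 15, 512, 513, 514, 515, 516, 517, 518, 519, 520, 521, 522, 523, 524, 525, 526, 527],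
      [(11, [1])]),
    (44, [0, 1, 2, 3, 4, 5, 6, 7, 8, 9, 10, 11, 12, 13, 14, 15, 512, 513, 514, 515, 516, 517, 518, 519, 520, 521, 522, 523, 524, 525, 526, 527],
      [(11, [1])]),
    (46, [0, 1, 2, 3, 4, 5, 6, 7, 16, 17, 18, 19, 20, 21, 22, 23, 512, 513, 514, 515, 516, 517, 518, 519, 528, 529, 530, 531, 532, 533, 534, 535],
      [(0, [1, 0, 2, 1, 3, 4, 5])]),
    (48, [0, 2, 8, 10, 32, 34, 40, 42],
      [(10, [1, 2]),
       (288, [1, 2]),
       (11, [1]),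
       (14, []),
       (98, [1, 0]),
       (138, [1, 2]),
       (289, [1, 2]),
       (328, [1, 2]),
       (522, [1, 2]),
       (800, [1, 2]),
       (523, [1, 2]),
       (526, [1, 2]),
       (610, [1, 2]),
       (650, [1, 2]),
       (801, [1, 2]),
       (840, [1, 2])]),
    (49, [0, 1, 8, 9, 32, 33, 40, 41],
      [(512, [1, 0, 2, 3]),
       (9, [1]),
       (160, [1, 0, 2, 3]),
       (514, [1, 0, 2, 3]),
       (528, [1, 0, 2, 3]),
       (768, [1, 0, 2, 3]),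
       (11, [1]),
       (25, []),
       (97, [1, 0, 2, 3]),
       (162, [1, 0]),
       (176, [1, 0, 2, 3]),
       (200, [1, 0, 2, 3]),
       (530, [1, 0, 2, 3]),
       (770, [1, 0, 2, 3]),
       (784, [1, 0, 2, 3]),
       (786, [1, 0, 2, 3])]),
    (50, [0, 1, 2, 3, 8, 9, 10, 11, 32, 33, 34, 35, 40, 41, 42, 43, 512, 513, 514, 515, 520, 521, 522, 523, 544, 545, 546, 547, 552, 553, 554, 555],
      [(35, [1, 0])]),
    (51, [0, 8, 32, 40, 512, 520, 544, 552],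
      [(32, [1, 2]),
       (33, [1, 2]),
       (34, [1, 0]),
       (36, [1]),
       (48, [1, 2]),
       (72, [1, 2]),
       (160, [1, 2]),
       (288, [1, 2]),
       (35, [1, 0]),
       (37, [1, 2]),
       (38, []),
       (49, []),
       (50, [1, 2]),
       (52, [1]),
       (73, [1]),
       (74, [1, 2])]),
    (56, [0, 1, 2, 3, 4, 5, 6, 7],
      [(512, [1, 0, 2, 1, 3, 4]),
       (3, [1, 2, 3]),
       (260, [1, 0, 2]),
       (520, [1, 0, 2, 1, 3, 4]),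
       (544, [1, 0, 2, 1, 3, 4]),
       (11, [1]),
       (35, [1, 0]),
       (70, []),
       (268, [1, 0, 2]),
       (292, [1]),
       (321, [1, 0, 2, 1, 3, 4]),
       (552, [1, 0, 2, 1, 3, 4]),
       (834, [1, 0, 2, 1, 3, 4]),
       (775, [1, 0, 2, 1, 3, 4]),
       (842, [1, 0, 2, 1, 3, 4]),
       (866, [1, 0, 2, 1, 3, 4])]),
    (57, [0, 1, 4, 5, 512, 513, 516, 517],
      [(4, [1, 0, 2, 3]),
       (6, []),
       (12, [1, 0, 2, 3]),
       (20, [1, 0, 2, 3]),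
       (36, [1]),
       (65, [1, 0, 2, 3]),
       (260, [1, 0, 2, 3]),
       (14, []),
       (22, [1, 0, 2, 3]),
       (28, [1, 0]),
       (38, []),
       (44, [1, 0, 2, 3]),
       (52, [1]),
       (67, [1, 0, 2, 3]),
       (73, [1]),
       (97, [1, 0, 2, 3])]),
    (58, [0, 1, 2, 3, 4, 5, 6, 7, 8, 9, 10, 11, 12, 13, 14, 15, 512, 513, 514, 515, 516, 517, 518, 519, 520, 521, 522, 523, 524, 525, 526, 527],
      [(14, [])]),
    (59, [0, 1, 4, 5, 8, 9, 12, 13],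
      [(9, [1]),
       (11, [1]),
       (25, []),
       (76, [1, 0, 2, 3]),
       (265, [1]),
       (521, [1, 0, 2, 3]),
       (267, [1]),
       (281, [1]),
       (332, [1, 0, 2]),
       (523, [1, 0, 2, 3]),
       (537, [1, 0, 2, 3]),
       (588, [1, 0, 2, 3]),
       (777, [1, 0, 2, 3]),
       (779, [1, 0, 2, 3]),
       (793, [1, 0, 2, 3]),
       (844, [1, 0, 2, 3])]),
    (97, [0, 1, 2, 3, 4, 5, 6, 7, 8, 9, 10, 11, 12, 13, 14, 15, 128, 129, 130, 131, 132, 133, 134, 135, 136, 137, 138, 139, 140, 141, 142, 143],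
      [(9, [1])]),
    (99, [0, 1, 2, 3, 4, 5, 6, 7, 8, 9, 10, 11, 12, 13, 14, 15, 128, 129, 130, 131, 132, 133, 134, 135, 136, 137, 138, 139, 140, 141, 142, 143],
      [(9, [1])]),
    (105, [0, 1, 2, 3, 8, 9, 10, 11, 16, 17, 18, 19, 24, 25, 26, 27, 128, 129, 130, 131, 136, 137, 138, 139, 144, 145, 146, 147, 152, 153, 154, 155],
      [(28, [1, 0, 2, 1, 3, 2, 4])]),
    (107, [0, 1, 2, 3, 8, 9, 10, 11, 16, 17, 18, 19, 24, 25, 26, 27, 128, 129, 130, 131, 136, 137, 138, 139, 144, 145, 146, 147, 152, 153, 154, 155],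
      [(28, [1, 0, 2, 1, 3, 2, 4])]),
    (116, [0, 1, 2, 3, 4, 5, 6, 7, 8, 9, 10, 11, 12, 13, 14, 15, 32, 33, 34, 35, 36, 37, 38, 39, 40, 41, 42, 43, 44, 45, 46, 47],
      [(11, [1])]),
    (118, [0, 1, 2, 3, 4, 5, 6, 7, 8, 9, 10, 11, 12, 13, 14, 15, 32, 33, 34, 35, 36, 37, 38, 39, 40, 41, 42, 43, 44, 45, 46, 47],
      [(38, [1])]),
    (124, [0, 1, 2, 3, 4, 5, 6, 7, 8, 9, 10, 11, 12, 13, 14, 15, 32, 33, 34, 35, 36, 37, 38, 39, 40, 41, 42, 43, 44, 45, 46, 47],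
      [(544, [1, 2, 3, 4])]),
    (126, [0, 1, 2, 3, 4, 5, 6, 7, 8, 9, 10, 11, 12, 13, 14, 15, 32, 33, 34, 35, 36, 37, 38, 39, 40, 41, 42, 43, 44, 45, 46, 47],
      [(38, [1])])]

end Cfsg.Agent.FischerPresented.Fi22Outer
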