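import Cfsg.Agent.Lib.Compute.CosetCert

/-! Data for the automorphism group of the presented Fi22: an element of order eleven, candidate sets, a diagram symmetry. -/

set_option autoImplicit false
set_option maxRecDepth 100000

namespace Cfsg.Agent.FischerPresented.Out22

open Cfsg.Agent.CosetCert

/-- Subgroup generators whose product has order eleven. -/
def sW : List ℕ := [6, 3, 7, 8, 5, 1, 7, 4, 7, 3, 2]

/-- Its matrix. -/
def sRows : List (List ℕ) := [[0, 2, 3, 2, 0, 0], [3, 0, 1, 3, 1, 2], [2, 2, 0, 2, 1, 2], [2, 2, 3, 0, 3, 1], [3, 2, 0, 2, 3, 2], [3, 2, 0, 2, 1, 1]]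

/-- A cyclic vector. -/
def vvec : List ℕ := [1, 0, 0, 0, 0, 0]

/-- Coordinates for the cyclic basis. -/
def kInv : List (List ℕ) := [[1, 2, 1, 0, 1, 0], [0, 3, 0, 2, 2, 2], [0, 1, 3, 3, 2, 3], [0, 2, 1, 2, 0, 0], [0, 1, 2, 3, 2, 0], [0, 2, 1, 3, 0, 3]]

/-- The cosets of the nine generators. -/
def gpts : List ℕ := [0, 2, 7, 18, 54, 134, 215, 56, 136]

/-- Words leading to them. -/
def gWords : List (List ℕ) := [[], [1, 0], [1, 0, 2, 1], [1, 0, 2, 1, 3, 2], [1, 0, 2, 1, 3, 2, 4, 3], [1, 0, 2, 1, 3, 2, 4, 3, 5, 4], [1, 0, 2, 1, 3, 2, 4, 3, 5, 4, 6, 5], [1, 0, 2, 1, 3, 2, 7, 3], [1, 0, 2, 1, 3, 2, 7, 3, 8, 7]]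

/-- Candidates with words leading to them. -/
def candW : List (ℕ × List ℕ) := [
  (54, [1, 0, 2, 1, 3, 2, 4, 3]),
  (55, [1, 0, 2, 1, 3, 2, 4, 3, 5]),
  (56, [1, 0, 2, 1, 3, 2, 7, 3]),
  (57, [1, 0, 2, 1, 3, 2, 7, 3, 8]),
  (76, [1, 0, 2, 1, 3, 2, 4, 3, 5, 6]),
  (215, [1, 0, 2, 1, 3, 2, 4, 3, 5, 4, 6, 5]),
  (423, [1, 2, 3, 4, 5, 7, 3, 2, 1, 4, 3, 2, 7, 3]),
  (424, [1, 2, 3, 4, 5, 6, 7, 3, 2, 1, 4, 3, 2, 7, 3]),
  (425, [1, 2, 3, 4, 5, 7, 3, 2, 1, 4, 3, 2, 7, 3, 8]),
  (426, [1, 2, 3, 4, 5, 6, 7, 3, 2, 1, 4, 3, 2, 7, 3, 8]),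
  (427, [1, 2, 3, 4, 5, 6, 7, 3, 2, 1, 4, 3, 2, 5, 7, 3]),
  (428, [1, 2, 3, 4, 5, 6, 7, 3, 2, 1, 4, 3, 2, 5, 7, 3, 8]),
  (447, [1, 2, 3, 4, 5, 6, 7, 3, 2, 1, 4, 3, 2, 5, 4, 3]),
  (448, [1, 2, 3, 4, 5, 6, 7, 3, 2, 1, 4, 3, 2, 5, 4, 3, 8]),
  (579, [1, 2, 3, 4, 7, 3, 2, 1, 8, 7, 3, 2, 4, 3]),
  (580, [1, 2, 3, 4, 7, 3, 2, 1, 8, 7, 3, 2, 4, 3, 5]),
  (581, [1, 2, 3, 4, 7, 3, 2, 1, 8, 7, 3, 2, 4, 3, 5, 6]),
  (1014, [1, 2, 3, 4, 5, 7, 3, 2, 1, 4, 3, 2, 7, 3, 8, 7]),
  (1016, [1, 2, 3, 4, 7, 3, 2, 1, 8, 7, 3, 2, 4, 3, 7]),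
  (1018, [1, 2, 3, 4, 5, 6, 7, 3, 2, 1, 4, 3, 2, 7, 3, 8, 7]),
  (1067, [1, 2, 3, 4, 5, 7, 3, 2, 1, 4, 3, 2, 7, 3, 4, 5]),
  (1068, [1, 2, 3, 4, 5, 6, 7, 3, 2, 1, 4, 3, 2, 5, 7, 3, 8, 7]),
  (1363, [1, 2, 3, 4, 5, 6, 7, 3, 2, 1, 4, 3, 2, 5, 4, 3, 8, 7])]

/-- The numbers of candidates. -/
def candN : List ℕ := [3510, 2816, 567, 96, 10, 6, 1, 4, 1]

/-- The diagram symmetry. -/
def mirror : List ℕ := [6, 5, 4, 3, 2, 1, 0, 7, 8]

/-- Its effect on cosets. -/
def sigTab : WTab :=
  (.node (.node (.node (.node (.node (.node (.node (.node (.node (.node (.node (.node (.leaf [215]) (.leaf [1968])) (.node (.leaf [1232]) (.leaf [3165]))) (.node (.node (.leaf [476]) (.leaf [2548])) (.node (.leaf [1645]) (.leaf [])))) (.node (.node (.node (.leaf [225]) (.leaf [2172])) (.node (.leaf [1056]) (.leaf [3307]))) (.node (.node (.leaf [638]) (.leaf [2831])) (.node (.leaf [1816]) (.leaf []))))) (.node (.node (.node (.node (.leaf [109]) (.leaf [2307])) (.node (.leaf [1362]) (.leaf [3065]))) (.node (.node (.leaf [770]) (.leaf [2732])) (.node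 (.leaf [1555]) (.leaf [])))) (.node (.node (.node (.leaf [385]) (.leaf [2326])) (.node (.leaf [1187]) (.leaf [3472]))) (.node (.node (.leaf [704]) (.leaf [2885])) (.node (.leaf [1855]) (.leaf [])))))) (.node (.node (.node (.node (.node (.leaf [64]) (.leaf [2111])) (.node (.leaf [1317]) (.leaf [3091]))) (.node (.node (.leaf [571]) (.leaf [2748])) (.node (.leaf [1778]) (.leaf [])))) (.node (.node (.node (.leaf [289]) (.leaf [2368])) (.node (.leaf [1134]) (.leaf [3402]))) (.node (.node (.leaf [688]) (.leaf [2881])) (.node (.leaf [1921]) (.leaf []))))) (.node (.node (.node (.node (.leaf [198]) (.leaf [2402])) (.node (.leaf [1462]) (.leaf [3264]))) (.node (.node (.leaf [896]) (.leaf [2626])) (.node (.leaf [1773]) (.leaf [])))) (.node (.node (.node (.leaf [448]) (.leaf [2619])) (.node (.leaf [1472]) (.leaf []))) (.node (.node (.leaf [940]) (.leaf [3008])) (.node (.leaf [1899]) (.leaf [])))))))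
     (.node (.node (.node (.node (.node (.node (.leaf [69]) (.leaf [2064])) (.node (.leaf [1280]) (.leaf [3173]))) (.node (.node (.leaf [468]) (.leaf [2495])) (.node (.leaf [1671]) (.leaf [])))) (.node (.node (.node (.leaf [300]) (.leaf [2268])) (.node (.leaf [1082]) (.leaf [3358]))) (.node (.node (.leaf [800]) (.leaf [2836])) (.node (.leaf [1833]) (.leaf []))))) (.node (.node (.node (.node (.leaf [179]) (.leaf [2136])) (.node (.leaf [1405]) (.leaf [3265]))) (.node (.node (.leaf [865]) (.leaf [2566])) (.node (.leaf [1724]) (.leaf [])))) (.node (.node (.node (.leaf [420]) (.leaf [2653])) (.node (.leaf [1208]) (.leaf [3490]))) (.node (.node (.leaf [958]) (.leaf [2987])) (.node (.leaf [2028]) (.leaf [])))))) (.node (.node (.node (.node (.node (.leaf [91]) (.leaf [2222])) (.node (.leaf [1294]) (.leaf [3139]))) (.node (.node (.leaf [729]) (.leaf [2472])) (.node (.leaf [1529]) (.leaf [])))) (.node (.node (.node (.leaf [338]) (.leaf [2196])) (.node (.leaf [1159]) (.leaf [3424]))) (.node (.node (.leaf [870]) (.leaf [2941])) (.node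 (.leaf [1872]) (.leaf []))))) (.node (.node (.node (.node (.leaf [224]) (.leaf [2384])) (.node (.leaf [1071]) (.leaf [3312]))) (.node (.node (.leaf [619]) (.leaf [2784])) (.node (.leaf [1760]) (.leaf [])))) (.node (.node (.node (.leaf [492]) (.leaf [2485])) (.node (.leaf [1615]) (.leaf []))) (.node (.node (.leaf [990]) (.leaf [3049])) (.node (.leaf [2059]) (.leaf []))))))))
    (.node (.node (.node (.node (.node (.node (.node (.leaf [21]) (.leaf [2080])) (.node (.leaf [1259]) (.leaf [3153]))) (.node (.node (.leaf [527]) (.leaf [2640])) (.node (.leaf [1661]) (.leaf [])))) (.node (.node (.node (.leaf [324]) (.leaf [2366])) (.node (.leaf [1110]) (.leaf [3344]))) (.node (.node (.leaf [657]) (.leaf [2833])) (.node (.leaf [1834]) (.leaf []))))) (.node (.node (.node (.node (.leaf [168]) (.leaf [2383])) (.node (.leaf [1389]) (.leaf [3266]))) (.node (.node (.leaf [846]) (.leaf [2536])) (.node (.leaf [1573]) (.leaf [])))) (.node (.node (.node (.leaf [407]) (.leaf [2448])) (.node (.leaf [1412]) (.leaf [3456]))) (.node (.node (.leaf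 [581]) (.leaf [3002])) (.node (.leaf [1989]) (.leaf [])))))) (.node (.node (.node (.node (.node (.leaf [90]) (.leaf [2125])) (.node (.leaf [1283]) (.leaf [3152]))) (.node (.node (.leaf [713]) (.leaf [2576])) (.node (.leaf [1500]) (.leaf [])))) (.node (.node (.node (.leaf [346]) (.leaf [2272])) (.node (.leaf [1151]) (.leaf [3375]))) (.node (.node (.leaf [815]) (.leaf [2895])) (.node (.leaf [1888]) (.leaf []))))) (.node (.node (.node (.node (.leaf [213]) (.leaf [2160])) (.node (.leaf [1024]) (.leaf [3256]))) (.node (.node (.leaf [597]) (.leaf [2768])) (.node (.leaf [1594]) (.leaf [])))) (.node (.node (.node (.leaf [524]) (.leaf [2556])) (.node (.leaf [1488]) (.leaf []))) (.node (.node (.leaf [944]) (.leaf [3054])) (.node (.leaf [2000]) (.leaf [])))))))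
     (.node (.node (.node (.node (.node (.node (.leaf [71]) (.leaf [2088])) (.node (.leaf [1263]) (.leaf [3127]))) (.node (.node (.leaf [553]) (.leaf [2497])) (.node (.leaf [1738]) (.leaf [])))) (.node (.node (.node (.leaf [287]) (.leaf [2182])) (.node (.leaf [1093]) (.leaf [3379]))) (.node (.node (.leaf [851]) (.leaf [2864])) (.node (.leaf [1809]) (.leaf []))))) (.node (.node (.node (.node (.leaf [157]) (.leaf [2151])) (.node (.leaf [1421]) (.leaf [3286]))) (.node (.node (.leaf [832]) (.leaf [2700])) (.node (.leaf [1581]) (.leaf [])))) (.node (.node (.node (.leaf [452]) (.leaf [2648])) (.node (.leaf [1446]) (.leaf [3503]))) (.node (.node (.leaf [976]) (.leaf [2992])) (.node (.leaf [2048]) (.leaf [])))))) (.node (.node (.node (.node (.node (.leaf [123]) (.leaf [2256])) (.node (.leaf [1346]) (.leaf [3085]))) (.node (.node (.leaf [842]) (.leaf [2659])) (.node (.leaf [1541]) (.leaf [])))) (.node (.node (.node (.leaf [388]) (.leaf [2274])) (.node (.leaf [1163]) (.leaf [3443]))) (.node (.node (.leaf [693]) (.leaf [2950])) (.node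 (.leaf [1988]) (.leaf []))))) (.node (.node (.node (.node (.leaf [240]) (.leaf [2264])) (.node (.leaf [1044]) (.leaf [3296]))) (.node (.node (.leaf [671]) (.leaf [2800])) (.node (.leaf [1769]) (.leaf [])))) (.node (.node (.node (.leaf [508]) (.leaf [2620])) (.node (.leaf [1621]) (.leaf []))) (.node (.node (.leaf [1004]) (.leaf [3056])) (.node (.leaf [1997]) (.leaf [])))))))))
   (.node (.node (.node (.node (.node (.node (.node (.node (.leaf [19]) (.leaf [1972])) (.node (.leaf [1241]) (.leaf [3123]))) (.node (.node (.leaf [535]) (.leaf [2716])) (.node (.leaf [1653]) (.leaf [])))) (.node (.node (.node (.leaf [264]) (.leaf [2267])) (.node (.leaf [1126]) (.leaf [3316]))) (.node (.node (.leaf [653]) (.leaf [2791])) (.node (.leaf [1798]) (.leaf []))))) (.node (.node (.node (.node (.leaf [136]) (.leaf [2376])) (.node (.leaf [1375]) (.leaf [3271]))) (.node (.node (.leaf [773]) (.leaf [2696])) (.node (.leaf [1562]) (.leaf [])))) (.node (.node (.node (.leaf [369]) (.leaf [2440])) (.node (.leaf [1409]) (.leaf [3464]))) (.node (.node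 (.leaf [875]) (.leaf [2953])) (.node (.leaf [1862]) (.leaf [])))))) (.node (.node (.node (.node (.node (.leaf [46]) (.leaf [2116])) (.node (.leaf [1330]) (.leaf [3154]))) (.node (.node (.leaf [738]) (.leaf [2728])) (.node (.leaf [1524]) (.leaf [])))) (.node (.node (.node (.leaf [276]) (.leaf [2184])) (.node (.leaf [1144]) (.leaf [3382]))) (.node (.node (.leaf [622]) (.leaf [2936])) (.node (.leaf [1879]) (.leaf []))))) (.node (.node (.node (.node (.leaf [191]) (.leaf [2248])) (.node (.leaf [1017]) (.leaf [3293]))) (.node (.node (.leaf [586]) (.leaf [2714])) (.node (.leaf [1736]) (.leaf [])))) (.node (.node (.node (.leaf [433]) (.leaf [2514])) (.node (.leaf [1475]) (.leaf []))) (.node (.node (.leaf [926]) (.leaf [2981])) (.node (.leaf [1903]) (.leaf [])))))))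
     (.node (.node (.node (.node (.node (.node (.leaf [34]) (.leaf [2096])) (.node (.leaf [1243]) (.leaf [3147]))) (.node (.node (.leaf [559]) (.leaf [2723])) (.node (.leaf [1707]) (.leaf [])))) (.node (.node (.node (.leaf [310]) (.leaf [2367])) (.node (.leaf [1112]) (.leaf [3412]))) (.node (.node (.leaf [853]) (.leaf [2856])) (.node (.leaf [1805]) (.leaf []))))) (.node (.node (.node (.node (.leaf [144]) (.leaf [2133])) (.node (.leaf [1432]) (.leaf [3212]))) (.node (.node (.leaf [791]) (.leaf [2632])) (.node (.leaf [1763]) (.leaf [])))) (.node (.node (.node (.leaf [441]) (.leaf [2656])) (.node (.leaf [1465]) (.leaf [3495]))) (.node (.node (.leaf [984]) (.leaf [2984])) (.node (.leaf [2038]) (.leaf [])))))) (.node (.node (.node (.node (.node (.leaf [99]) (.leaf [2162])) (.node (.leaf [1287]) (.leaf [3150]))) (.node (.node (.leaf [730]) (.leaf [2664])) (.node (.leaf [1523]) (.leaf [])))) (.node (.node (.node (.leaf [371]) (.leaf [2241])) (.node (.leaf [1365]) (.leaf [3427]))) (.node (.node (.leaf [872]) (.leaf [2923])) (.node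 (.leaf [1991]) (.leaf []))))) (.node (.node (.node (.node (.leaf [260]) (.leaf [2213])) (.node (.leaf [1037]) (.leaf [3313]))) (.node (.node (.leaf [610]) (.leaf [2792])) (.node (.leaf [1774]) (.leaf [])))) (.node (.node (.node (.leaf [491]) (.leaf [2704])) (.node (.leaf [1618]) (.leaf []))) (.node (.node (.leaf [999]) (.leaf [3030])) (.node (.leaf [1970]) (.leaf []))))))))
    (.node (.node (.node (.node (.node (.node (.node (.leaf [61]) (.leaf [2078])) (.node (.leaf [1271]) (.leaf [3096]))) (.node (.node (.leaf [519]) (.leaf [2584])) (.node (.leaf [1669]) (.leaf [])))) (.node (.node (.node (.leaf [319]) (.leaf [2174])) (.node (.leaf [1074]) (.leaf [3355]))) (.node (.node (.leaf [677]) (.leaf [2844])) (.node (.leaf [1792]) (.leaf []))))) (.node (.node (.node (.node (.leaf [156]) (.leaf [2406])) (.node (.leaf [1397]) (.leaf [3224]))) (.node (.node (.leaf [754]) (.leaf [2709])) (.node (.leaf [1683]) (.leaf [])))) (.node (.node (.node (.leaf [411]) (.leaf [2456])) (.node (.leaf [1192]) (.leaf [3478]))) (.node (.node (.leaf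 [959]) (.leaf [2991])) (.node (.leaf [2002]) (.leaf [])))))) (.node (.node (.node (.node (.node (.leaf [97]) (.leaf [2208])) (.node (.leaf [1320]) (.leaf [3146]))) (.node (.node (.leaf [719]) (.leaf [2480])) (.node (.leaf [1499]) (.leaf [])))) (.node (.node (.node (.leaf [333]) (.leaf [2371])) (.node (.leaf [1153]) (.leaf [3389]))) (.node (.node (.leaf [821]) (.leaf [2904])) (.node (.leaf [1869]) (.leaf []))))) (.node (.node (.node (.node (.leaf [220]) (.leaf [2288])) (.node (.leaf [1031]) (.leaf [3288]))) (.node (.node (.leaf [605]) (.leaf [2809])) (.node (.leaf [1593]) (.leaf [])))) (.node (.node (.node (.leaf [505]) (.leaf [2488])) (.node (.leaf [1614]) (.leaf []))) (.node (.node (.leaf [936]) (.leaf [3031])) (.node (.leaf [2031]) (.leaf [])))))))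
     (.node (.node (.node (.node (.node (.node (.leaf [56]) (.leaf [2102])) (.node (.leaf [1311]) (.leaf [3137]))) (.node (.node (.leaf [565]) (.leaf [2541])) (.node (.leaf [1753]) (.leaf [])))) (.node (.node (.node (.leaf [295]) (.leaf [2269])) (.node (.leaf [1100]) (.leaf [3401]))) (.node (.node (.leaf [899]) (.leaf [2875])) (.node (.leaf [1912]) (.leaf []))))) (.node (.node (.node (.node (.leaf [151]) (.leaf [2306])) (.node (.leaf [1440]) (.leaf [3280]))) (.node (.node (.leaf [883]) (.leaf [2663])) (.node (.leaf [1757]) (.leaf [])))) (.node (.node (.node (.leaf [460]) (.leaf [2520])) (.node (.leaf [1218]) (.leaf []))) (.node (.node (.leaf [918]) (.leaf [3006])) (.node (.leaf [1976]) (.leaf [])))))) (.node (.node (.node (.node (.node (.leaf [116]) (.leaf [2287])) (.node (.leaf [1352]) (.leaf [3068]))) (.node (.node (.leaf [762]) (.leaf [2531])) (.node (.leaf [1547]) (.leaf [])))) (.node (.node (.node (.leaf [376]) (.leaf [2324])) (.node (.leaf [1179]) (.leaf [3423]))) (.node (.node (.leaf [706]) (.leaf [2888])) (.node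 (.leaf [1848]) (.leaf []))))) (.node (.node (.node (.node (.leaf [242]) (.leaf [2363])) (.node (.leaf [1051]) (.leaf [3339]))) (.node (.node (.leaf [630]) (.leaf [2793])) (.node (.leaf [1784]) (.leaf [])))) (.node (.node (.node (.leaf [477]) (.leaf [2527])) (.node (.leaf [1612]) (.leaf []))) (.node (.node (.leaf [1226]) (.leaf [3199])) (.node (.leaf [1951]) (.leaf []))))))))))
  (.node (.node (.node (.node (.node (.node (.node (.node (.node (.leaf [55]) (.leaf [1966])) (.node (.leaf [1245]) (.leaf [3155]))) (.node (.node (.leaf [514]) (.leaf [2479])) (.node (.leaf [1649]) (.leaf [])))) (.node (.node (.node (.leaf [232]) (.leaf [2178])) (.node (.leaf [1103]) (.leaf [3317]))) (.node (.node (.leaf [649]) (.leaf [2783])) (.node (.leaf [1826]) (.leaf []))))) (.node (.node (.node (.node (.leaf [121]) (.leaf [2332])) (.node (.leaf [1369]) (.leaf [3267]))) (.node (.node (.leaf [777]) (.leaf [2735])) (.node (.leaf [1561]) (.leaf [])))) (.node (.node (.node (.leaf [368]) (.leaf [2375])) (.node (.leaf [1424]) (.leaf [3453]))) (.node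 (.node (.leaf [828]) (.leaf [2908])) (.node (.leaf [1859]) (.leaf [])))))) (.node (.node (.node (.node (.node (.leaf [36]) (.leaf [2120])) (.node (.leaf [1321]) (.leaf [3164]))) (.node (.node (.leaf [911]) (.leaf [2759])) (.node (.leaf [1498]) (.leaf [])))) (.node (.node (.node (.leaf [272]) (.leaf [2429])) (.node (.leaf [1138]) (.leaf [3405]))) (.node (.node (.leaf [594]) (.leaf [2834])) (.node (.leaf [1926]) (.leaf []))))) (.node (.node (.node (.node (.leaf [203]) (.leaf [2138])) (.node (.leaf [1468]) (.leaf [3219]))) (.node (.node (.leaf [894]) (.leaf [2661])) (.node (.leaf [1767]) (.leaf [])))) (.node (.node (.node (.leaf [432]) (.leaf [2558])) (.node (.leaf [1481]) (.leaf []))) (.node (.node (.leaf [922]) (.leaf [2973])) (.node (.leaf [1904]) (.leaf [])))))))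
     (.node (.node (.node (.node (.node (.node (.leaf [68]) (.leaf [2070])) (.node (.leaf [1258]) (.leaf [3108]))) (.node (.node (.leaf [546]) (.leaf [2546])) (.node (.leaf [1681]) (.leaf [])))) (.node (.node (.node (.leaf [313]) (.leaf [2317])) (.node (.leaf [1086]) (.leaf [3348]))) (.node (.node (.leaf [811]) (.leaf [2849])) (.node (.leaf [1822]) (.leaf []))))) (.node (.node (.node (.node (.leaf [143]) (.leaf [2247])) (.node (.leaf [1426]) (.leaf [3241]))) (.node (.node (.leaf [793]) (.leaf [2602])) (.node (.leaf [1759]) (.leaf [])))) (.node (.node (.node (.leaf [416]) (.leaf [2598])) (.node (.leaf [1212]) (.leaf [3492]))) (.node (.node (.leaf [974]) (.leaf [3015])) (.node (.leaf [2026]) (.leaf [])))))) (.node (.node (.node (.node (.node (.leaf [100]) (.leaf [2147])) (.node (.leaf [1289]) (.leaf [3103]))) (.node (.node (.leaf [732]) (.leaf [2674])) (.node (.leaf [1501]) (.leaf [])))) (.node (.node (.node (.leaf [356]) (.leaf [2198])) (.node (.leaf [1173]) (.leaf [3428]))) (.node (.node (.leaf [862]) (.leaf [2937])) (.node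 (.leaf [1891]) (.leaf []))))) (.node (.node (.node (.node (.leaf [258]) (.leaf [2418])) (.node (.leaf [1035]) (.leaf [3321]))) (.node (.node (.leaf [587]) (.leaf [2821])) (.node (.leaf [1705]) (.leaf [])))) (.node (.node (.node (.leaf [503]) (.leaf [2708])) (.node (.leaf [1606]) (.leaf []))) (.node (.node (.leaf [995]) (.leaf [3044])) (.node (.leaf [1957]) (.leaf []))))))))
    (.node (.node (.node (.node (.node (.node (.node (.leaf [20]) (.leaf [2082])) (.node (.leaf [1264]) (.leaf [3182]))) (.node (.node (.leaf [539]) (.leaf [2582])) (.node (.leaf [1663]) (.leaf [])))) (.node (.node (.node (.leaf [328]) (.leaf [2424])) (.node (.leaf [1108]) (.leaf [3364]))) (.node (.node (.leaf [659]) (.leaf [2848])) (.node (.leaf [1821]) (.leaf []))))) (.node (.node (.node (.node (.leaf [183]) (.leaf [2400])) (.node (.leaf [1379]) (.leaf [3243]))) (.node (.node (.leaf [789]) (.leaf [2532])) (.node (.leaf [1714]) (.leaf [])))) (.node (.node (.node (.leaf [401]) (.leaf [2452])) (.node (.leaf [1190]) (.leaf [3481]))) (.node (.node (.leaf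 [962]) (.leaf [2989])) (.node (.leaf [1934]) (.leaf [])))))) (.node (.node (.node (.node (.node (.leaf [98]) (.leaf [2214])) (.node (.leaf [1300]) (.leaf [3097]))) (.node (.node (.leaf [722]) (.leaf [2492])) (.node (.leaf [1522]) (.leaf [])))) (.node (.node (.node (.leaf [351]) (.leaf [2323])) (.node (.leaf [1364]) (.leaf [3368]))) (.node (.node (.leaf [852]) (.leaf [2900])) (.node (.leaf [1918]) (.leaf []))))) (.node (.node (.node (.node (.leaf [211]) (.leaf [2167])) (.node (.leaf [1026]) (.leaf [3247]))) (.node (.node (.leaf [604]) (.leaf [2772])) (.node (.leaf [1587]) (.leaf [])))) (.node (.node (.node (.leaf [544]) (.leaf [2554])) (.node (.leaf [1492]) (.leaf []))) (.node (.node (.leaf [942]) (.leaf [3055])) (.node (.leaf [1977]) (.leaf [])))))))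
     (.node (.node (.node (.node (.node (.node (.leaf [52]) (.leaf [2100])) (.node (.leaf [1306]) (.leaf [3098]))) (.node (.node (.leaf [567]) (.leaf [2470])) (.node (.leaf [1747]) (.leaf [])))) (.node (.node (.node (.leaf [308]) (.leaf [2187])) (.node (.leaf [1098]) (.leaf [3380]))) (.node (.node (.leaf [857]) (.leaf [2868])) (.node (.leaf [1906]) (.leaf []))))) (.node (.node (.node (.node (.leaf [180]) (.leaf [2255])) (.node (.leaf [1438]) (.leaf [3291]))) (.node (.node (.leaf [881]) (.leaf [2636])) (.node (.leaf [1716]) (.leaf [])))) (.node (.node (.node (.leaf [458]) (.leaf [2588])) (.node (.leaf [1214]) (.leaf [3499]))) (.node (.node (.leaf [982]) (.leaf [2958])) (.node (.leaf [2056]) (.leaf [])))))) (.node (.node (.node (.node (.node (.leaf [120]) (.leaf [2226])) (.node (.leaf [1354]) (.leaf [3188]))) (.node (.node (.leaf [758]) (.leaf [2755])) (.node (.leaf [1545]) (.leaf [])))) (.node (.node (.node (.leaf [357]) (.leaf [2301])) (.node (.leaf [1175]) (.leaf [3439]))) (.node (.node (.leaf [695]) (.leaf [2918])) (.node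 (.leaf [1845]) (.leaf []))))) (.node (.node (.node (.node (.leaf [237]) (.leaf [2315])) (.node (.leaf [1047]) (.leaf [3336]))) (.node (.node (.leaf [626]) (.leaf [2778])) (.node (.leaf [1598]) (.leaf [])))) (.node (.node (.node (.leaf [500]) (.leaf [2560])) (.node (.leaf [1608]) (.leaf []))) (.node (.node (.leaf [1223]) (.leaf [3201])) (.node (.leaf [2011]) (.leaf [])))))))))
   (.node (.node (.node (.node (.node (.node (.node (.node (.leaf [74]) (.leaf [1946])) (.node (.leaf [1255]) (.leaf [3181]))) (.node (.node (.leaf [464]) (.leaf [2718])) (.node (.leaf [1655]) (.leaf [])))) (.node (.node (.node (.leaf [246]) (.leaf [2316])) (.node (.leaf [1107]) (.leaf [3333]))) (.node (.node (.leaf [647]) (.leaf [2828])) (.node (.leaf [1831]) (.leaf []))))) (.node (.node (.node (.node (.leaf [169]) (.leaf [2311])) (.node (.leaf [1393]) (.leaf [3240]))) (.node (.node (.leaf [774]) (.leaf [2736])) (.node (.leaf [1563]) (.leaf [])))) (.node (.node (.node (.leaf [406]) (.leaf [2442])) (.node (.leaf [1199]) (.leaf [3468]))) (.node (.node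 (.leaf [879]) (.leaf [3019])) (.node (.leaf [1930]) (.leaf [])))))) (.node (.node (.node (.node (.node (.leaf [3]) (.leaf [2124])) (.node (.leaf [1336]) (.leaf [3148]))) (.node (.node (.leaf [715]) (.leaf [2740])) (.node (.leaf [1528]) (.leaf [])))) (.node (.node (.node (.leaf [275]) (.leaf [2194])) (.node (.leaf [1146]) (.leaf [3395]))) (.node (.node (.leaf [654]) (.leaf [2924])) (.node (.leaf [1887]) (.leaf []))))) (.node (.node (.node (.node (.leaf [193]) (.leaf [2156])) (.node (.leaf [1015]) (.leaf [3259]))) (.node (.node (.leaf [585]) (.leaf [2764])) (.node (.leaf [1582]) (.leaf [])))) (.node (.node (.node (.leaf [440]) (.leaf [2518])) (.node (.leaf [1487]) (.leaf []))) (.node (.node (.leaf [930]) (.leaf [2962])) (.node (.leaf [2029]) (.leaf [])))))))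
     (.node (.node (.node (.node (.node (.node (.leaf [65]) (.leaf [2092])) (.node (.leaf [1237]) (.leaf [3074]))) (.node (.node (.leaf [481]) (.leaf [2686])) (.node (.leaf [1713]) (.leaf [])))) (.node (.node (.node (.leaf [288]) (.leaf [2425])) (.node (.leaf [1113]) (.leaf [3406]))) (.node (.node (.leaf [812]) (.leaf [2854])) (.node (.leaf [1841]) (.leaf []))))) (.node (.node (.node (.node (.leaf [137]) (.leaf [2210])) (.node (.leaf [1434]) (.leaf [3279]))) (.node (.node (.leaf [798]) (.leaf [2688])) (.node (.leaf [1575]) (.leaf [])))) (.node (.node (.node (.leaf [446]) (.leaf [2563])) (.node (.leaf [1452]) (.leaf [3500]))) (.node (.node (.leaf [960]) (.leaf [2963])) (.node (.leaf [2015]) (.leaf [])))))) (.node (.node (.node (.node (.node (.leaf [81]) (.leaf [2252])) (.node (.leaf [1342]) (.leaf [3189]))) (.node (.node (.leaf [838]) (.leaf [2668])) (.node (.leaf [1537]) (.leaf [])))) (.node (.node (.node (.leaf [364]) (.leaf [2204])) (.node (.leaf [1167]) (.leaf [3421]))) (.node (.node (.leaf [907]) (.leaf [2892])) (.node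 (.leaf [1979]) (.leaf []))))) (.node (.node (.node (.node (.leaf [249]) (.leaf [2170])) (.node (.leaf [1041]) (.leaf [3308]))) (.node (.node (.leaf [666]) (.leaf [2810])) (.node (.leaf [1735]) (.leaf [])))) (.node (.node (.node (.leaf [480]) (.leaf [2694])) (.node (.leaf [1610]) (.leaf []))) (.node (.node (.leaf [1008]) (.leaf [3050])) (.node (.leaf [1952]) (.leaf []))))))))
    (.node (.node (.node (.node (.node (.node (.node (.leaf [6]) (.leaf [2063])) (.node (.leaf [1274]) (.leaf [3170]))) (.node (.node (.leaf [534]) (.leaf [2484])) (.node (.leaf [1673]) (.leaf [])))) (.node (.node (.node (.leaf [302]) (.leaf [2180])) (.node (.leaf [1078]) (.leaf [3349]))) (.node (.node (.leaf [678]) (.leaf [2840])) (.node (.leaf [1820]) (.leaf []))))) (.node (.node (.node (.node (.leaf [152]) (.leaf [2412])) (.node (.leaf [1402]) (.leaf [3222]))) (.node (.node (.leaf [750]) (.leaf [2568])) (.node (.leaf [1715]) (.leaf [])))) (.node (.node (.node (.leaf [418]) (.leaf [2617])) (.node (.leaf [1198]) (.leaf [3484]))) (.node (.node (.leaf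 [965]) (.leaf [3010])) (.node (.leaf [2044]) (.leaf [])))))) (.node (.node (.node (.node (.node (.leaf [92]) (.leaf [2142])) (.node (.leaf [1333]) (.leaf [3140]))) (.node (.node (.leaf [724]) (.leaf [2690])) (.node (.leaf [1525]) (.leaf [])))) (.node (.node (.node (.leaf [339]) (.leaf [2431])) (.node (.leaf [1157]) (.leaf [3434]))) (.node (.node (.leaf [818]) (.leaf [2948])) (.node (.leaf [1866]) (.leaf []))))) (.node (.node (.node (.node (.leaf [216]) (.leaf [2336])) (.node (.leaf [1027]) (.leaf [3273]))) (.node (.node (.leaf [612]) (.leaf [2780])) (.node (.leaf [1721]) (.leaf [])))) (.node (.node (.node (.leaf [512]) (.leaf [2501])) (.node (.leaf [1616]) (.leaf []))) (.node (.node (.leaf [988]) (.leaf [3036])) (.node (.leaf [1961]) (.leaf [])))))))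
     (.node (.node (.node (.node (.node (.node (.leaf [60]) (.leaf [2107])) (.node (.leaf [1314]) (.leaf [3167]))) (.node (.node (.leaf [577]) (.leaf [2544])) (.node (.leaf [1742]) (.leaf [])))) (.node (.node (.node (.leaf [316]) (.leaf [2321])) (.node (.leaf [1131]) (.leaf [3415]))) (.node (.node (.leaf [900]) (.leaf [2869])) (.node (.leaf [1910]) (.leaf []))))) (.node (.node (.node (.node (.leaf [202]) (.leaf [2354])) (.node (.leaf [1444]) (.leaf [3217]))) (.node (.node (.leaf [892]) (.leaf [2624])) (.node (.leaf [1696]) (.leaf [])))) (.node (.node (.node (.leaf [426]) (.leaf [2644])) (.node (.leaf [1220]) (.leaf []))) (.node (.node (.leaf [919]) (.leaf [2961])) (.node (.leaf [1901]) (.leaf [])))))) (.node (.node (.node (.node (.node (.leaf [124]) (.leaf [2304])) (.node (.leaf [1357]) (.leaf [3066]))) (.node (.node (.leaf [766]) (.leaf [2534])) (.node (.leaf [1553]) (.leaf [])))) (.node (.node (.node (.leaf [380]) (.leaf [2373])) (.node (.leaf [1183]) (.leaf [3452]))) (.node (.node (.leaf [700]) (.leaf [2907])) (.node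 (.leaf [1854]) (.leaf []))))) (.node (.node (.node (.node (.leaf [239]) (.leaf [2421])) (.node (.leaf [1054]) (.leaf [3302]))) (.node (.node (.leaf [634]) (.leaf [2812])) (.node (.leaf [1785]) (.leaf [])))) (.node (.node (.node (.leaf [496]) (.leaf [2512])) (.node (.leaf [1619]) (.leaf []))) (.node (.node (.leaf [1222]) (.leaf [3192])) (.node (.leaf [1948]) (.leaf [])))))))))))
 (.node (.node (.node (.node (.node (.node (.node (.node (.node (.node (.leaf [134]) (.leaf [1955])) (.node (.leaf [1236]) (.leaf [3116]))) (.node (.node (.leaf [516]) (.leaf [2507])) (.node (.leaf [1647]) (.leaf [])))) (.node (.node (.node (.leaf [228]) (.leaf [2232])) (.node (.leaf [1105]) (.leaf [3314]))) (.node (.node (.leaf [640]) (.leaf [2787])) (.node (.leaf [1810]) (.leaf []))))) (.node (.node (.node (.node (.leaf [115]) (.leaf [2308])) (.node (.leaf [1371]) (.leaf [3063]))) (.node (.node (.leaf [781]) (.leaf [2652])) (.node (.leaf [1557]) (.leaf [])))) (.node (.node (.node (.leaf [381]) (.leaf [2327])) (.node (.leaf [1417]) (.leaf [3458])))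 (.node (.node (.leaf [825]) (.leaf [2925])) (.node (.leaf [1858]) (.leaf [])))))) (.node (.node (.node (.node (.node (.leaf [42]) (.leaf [2118])) (.node (.leaf [1319]) (.leaf [3105]))) (.node (.node (.leaf [573]) (.leaf [2752])) (.node (.leaf [1494]) (.leaf [])))) (.node (.node (.node (.leaf [297]) (.leaf [2393])) (.node (.leaf [1136]) (.leaf [3374]))) (.node (.node (.leaf [689]) (.leaf [2882])) (.node (.leaf [1922]) (.leaf []))))) (.node (.node (.node (.node (.leaf [199]) (.leaf [2407])) (.node (.leaf [1464]) (.leaf [3216]))) (.node (.node (.leaf [888]) (.leaf [2713])) (.node (.leaf [1726]) (.leaf [])))) (.node (.node (.node (.leaf [429]) (.leaf [2595])) (.node (.leaf [1479]) (.leaf []))) (.node (.node (.leaf [916]) (.leaf [2972])) (.node (.leaf [1939]) (.leaf [])))))))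
     (.node (.node (.node (.node (.node (.node (.leaf [40]) (.leaf [2068])) (.node (.leaf [1279]) (.leaf [3131]))) (.node (.node (.leaf [548]) (.leaf [2459])) (.node (.leaf [1678]) (.leaf [])))) (.node (.node (.node (.leaf [330]) (.leaf [2295])) (.node (.leaf [1084]) (.leaf [3365]))) (.node (.node (.leaf [847]) (.leaf [2850])) (.node (.leaf [1796]) (.leaf []))))) (.node (.node (.node (.node (.leaf [158]) (.leaf [2220])) (.node (.leaf [1407]) (.leaf [3262]))) (.node (.node (.leaf [786]) (.leaf [2571])) (.node (.leaf [1758]) (.leaf [])))) (.node (.node (.node (.leaf [412]) (.leaf [2622])) (.node (.leaf [1210]) (.leaf [3488]))) (.node (.node (.leaf [972]) (.leaf [3018])) (.node (.leaf [2049]) (.leaf [])))))) (.node (.node (.node (.node (.node (.leaf [84]) (.leaf [2146])) (.node (.leaf [1293]) (.leaf [3100]))) (.node (.node (.leaf [744]) (.leaf [2681])) (.node (.leaf [1497]) (.leaf [])))) (.node (.node (.node (.leaf [354]) (.leaf [2240])) (.node (.leaf [1171]) (.leaf [3430]))) (.node (.node (.leaf [673]) (.leaf [2949])) (.node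 (.leaf [1890]) (.leaf []))))) (.node (.node (.node (.node (.leaf [255]) (.leaf [2416])) (.node (.leaf [1062]) (.leaf [3337]))) (.node (.node (.leaf [584]) (.leaf [2822])) (.node (.leaf [1703]) (.leaf [])))) (.node (.node (.node (.leaf [555]) (.leaf [2705])) (.node (.leaf [1605]) (.leaf []))) (.node (.node (.leaf [994]) (.leaf [3037])) (.node (.leaf [2018]) (.leaf []))))))))
    (.node (.node (.node (.node (.node (.node (.node (.leaf [18]) (.leaf [2074])) (.node (.leaf [1261]) (.leaf [3099]))) (.node (.node (.leaf [531]) (.leaf [2578])) (.node (.leaf [1662]) (.leaf [])))) (.node (.node (.node (.leaf [331]) (.leaf [2390])) (.node (.leaf [1121]) (.leaf [3342]))) (.node (.node (.leaf [674]) (.leaf [2884])) (.node (.leaf [1794]) (.leaf []))))) (.node (.node (.node (.node (.leaf [170]) (.leaf [2380])) (.node (.leaf [1399]) (.leaf [3270]))) (.node (.node (.leaf [785]) (.leaf [2533])) (.node (.leaf [1682]) (.leaf [])))) (.node (.node (.node (.leaf [399]) (.leaf [2454])) (.node (.leaf [1188]) (.leaf [3489]))) (.node (.node (.leaf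 [953]) (.leaf [3020])) (.node (.leaf [1993]) (.leaf [])))))) (.node (.node (.node (.node (.node (.leaf [107]) (.leaf [2127])) (.node (.leaf [1290]) (.leaf [3144]))) (.node (.node (.leaf [836]) (.leaf [2575])) (.node (.leaf [1512]) (.leaf [])))) (.node (.node (.node (.leaf [352]) (.leaf [2298])) (.node (.leaf [1152]) (.leaf [3377]))) (.node (.node (.leaf [805]) (.leaf [2906])) (.node (.leaf [1889]) (.leaf []))))) (.node (.node (.node (.node (.leaf [206]) (.leaf [2230])) (.node (.leaf [1022]) (.leaf [3338]))) (.node (.node (.leaf [596]) (.leaf [2769])) (.node (.leaf [1586]) (.leaf [])))) (.node (.node (.node (.leaf [523]) (.leaf [2504])) (.node (.leaf [1490]) (.leaf []))) (.node (.node (.leaf [941]) (.leaf [3043])) (.node (.leaf [1944]) (.leaf [])))))))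
     (.node (.node (.node (.node (.node (.node (.leaf [50]) (.leaf [2099])) (.node (.leaf [1304]) (.leaf [3083]))) (.node (.node (.leaf [469]) (.leaf [2545])) (.node (.leaf [1746]) (.leaf [])))) (.node (.node (.node (.leaf [309]) (.leaf [2236])) (.node (.leaf [1096]) (.leaf [3378]))) (.node (.node (.leaf [860]) (.leaf [2867])) (.node (.leaf [1842]) (.leaf []))))) (.node (.node (.node (.node (.leaf [163]) (.leaf [2164])) (.node (.leaf [1423]) (.leaf [3250]))) (.node (.node (.leaf [833]) (.leaf [2691])) (.node (.leaf [1684]) (.leaf [])))) (.node (.node (.node (.leaf [459]) (.leaf [2525])) (.node (.leaf [1447]) (.leaf [3506]))) (.node (.node (.leaf [979]) (.leaf [2970])) (.node (.leaf [2024]) (.leaf [])))))) (.node (.node (.node (.node (.node (.leaf [114]) (.leaf [2152])) (.node (.leaf [1348]) (.leaf [3094]))) (.node (.node (.leaf [756]) (.leaf [2660])) (.node (.leaf [1543]) (.leaf [])))) (.node (.node (.node (.leaf [391]) (.leaf [2276])) (.node (.leaf [1165]) (.leaf [3429]))) (.node (.node (.leaf [694]) (.leaf [2930])) (.node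 (.leaf [1844]) (.leaf []))))) (.node (.node (.node (.node (.leaf [248]) (.leaf [2290])) (.node (.leaf [1045]) (.leaf [3330]))) (.node (.node (.leaf [664]) (.leaf [2806])) (.node (.leaf [1600]) (.leaf [])))) (.node (.node (.node (.leaf [494]) (.leaf [2596])) (.node (.leaf [1620]) (.leaf []))) (.node (.node (.leaf [1010]) (.leaf [3058])) (.node (.leaf [2009]) (.leaf [])))))))))
   (.node (.node (.node (.node (.node (.node (.node (.node (.leaf [26]) (.leaf [1945])) (.node (.leaf [1251]) (.leaf [3119]))) (.node (.node (.leaf [467]) (.leaf [2717])) (.node (.leaf [1654]) (.leaf [])))) (.node (.node (.node (.leaf [266]) (.leaf [2294])) (.node (.leaf [1106]) (.leaf [3282]))) (.node (.node (.leaf [645]) (.leaf [2826])) (.node (.leaf [1823]) (.leaf []))))) (.node (.node (.node (.node (.leaf [165]) (.leaf [2355])) (.node (.leaf [1377]) (.leaf [3225]))) (.node (.node (.leaf [783]) (.leaf [2742])) (.node (.leaf [1567]) (.leaf [])))) (.node (.node (.node (.leaf [394]) (.leaf [2444])) (.node (.leaf [1366]) (.leaf [3466]))) (.node (.node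 (.leaf [878]) (.leaf [2954])) (.node (.leaf [1932]) (.leaf [])))))) (.node (.node (.node (.node (.node (.leaf [12]) (.leaf [2122])) (.node (.leaf [1332]) (.leaf [3160]))) (.node (.node (.leaf [712]) (.leaf [2733])) (.node (.leaf [1516]) (.leaf [])))) (.node (.node (.node (.leaf [290]) (.leaf [2237])) (.node (.leaf [1140]) (.leaf [3392]))) (.node (.node (.leaf [624]) (.leaf [2934])) (.node (.leaf [1884]) (.leaf []))))) (.node (.node (.node (.node (.leaf [188]) (.leaf [2154])) (.node (.leaf [1016]) (.leaf [3294]))) (.node (.node (.leaf [582]) (.leaf [2762])) (.node (.leaf [1584]) (.leaf [])))) (.node (.node (.node (.leaf [436]) (.leaf [2506])) (.node (.leaf [1477]) (.leaf []))) (.node (.node (.leaf [934]) (.leaf [2978])) (.node (.leaf [1937]) (.leaf [])))))))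
     (.node (.node (.node (.node (.node (.node (.leaf [66]) (.leaf [2093])) (.node (.leaf [1242]) (.leaf [3081]))) (.node (.node (.leaf [489]) (.leaf [2724])) (.node (.leaf [1709]) (.leaf [])))) (.node (.node (.node (.leaf [285]) (.leaf [2391])) (.node (.leaf [1091]) (.leaf [3397]))) (.node (.node (.leaf [807]) (.leaf [2855])) (.node (.leaf [1808]) (.leaf []))))) (.node (.node (.node (.node (.leaf [146]) (.leaf [2218])) (.node (.leaf [1430]) (.leaf [3207]))) (.node (.node (.leaf [867]) (.leaf [2629])) (.node (.leaf [1574]) (.leaf [])))) (.node (.node (.node (.leaf [444]) (.leaf [2651])) (.node (.leaf [1450]) (.leaf [3498]))) (.node (.node (.leaf [954]) (.leaf [2975])) (.node (.leaf [2013]) (.leaf [])))))) (.node (.node (.node (.node (.node (.leaf [77]) (.leaf [2250])) (.node (.leaf [1339]) (.leaf [3174]))) (.node (.node (.leaf [737]) (.leaf [2666])) (.node (.leaf [1535]) (.leaf [])))) (.node (.node (.node (.leaf [362]) (.leaf [2203])) (.node (.leaf [1177]) (.leaf [3420]))) (.node (.node (.leaf [905]) (.leaf [2945])) (.node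 (.leaf [1987]) (.leaf []))))) (.node (.node (.node (.node (.leaf [241]) (.leaf [2282])) (.node (.leaf [1060]) (.leaf [3329]))) (.node (.node (.leaf [663]) (.leaf [2807])) (.node (.leaf [1729]) (.leaf [])))) (.node (.node (.node (.leaf [490]) (.leaf [2683])) (.node (.leaf [1617]) (.leaf []))) (.node (.node (.leaf [1006]) (.leaf [3052])) (.node (.leaf [1956]) (.leaf []))))))))
    (.node (.node (.node (.node (.node (.node (.node (.leaf [10]) (.leaf [2066])) (.node (.leaf [1273]) (.leaf [3124]))) (.node (.node (.leaf [533]) (.leaf [2490])) (.node (.leaf [1672]) (.leaf [])))) (.node (.node (.node (.leaf [301]) (.leaf [2233])) (.node (.leaf [1076]) (.leaf [3359]))) (.node (.node (.leaf [679]) (.leaf [2815])) (.node (.leaf [1793]) (.leaf []))))) (.node (.node (.node (.node (.leaf [177]) (.leaf [2409])) (.node (.leaf [1387]) (.leaf [3226]))) (.node (.node (.leaf [748]) (.leaf [2760])) (.node (.leaf [1690]) (.leaf [])))) (.node (.node (.node (.leaf [410]) (.leaf [2613])) (.node (.leaf [1196]) (.leaf [3482]))) (.node (.node (.leaf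 [964]) (.leaf [2994])) (.node (.leaf [2060]) (.leaf [])))))) (.node (.node (.node (.node (.node (.leaf [80]) (.leaf [2244])) (.node (.leaf [1325]) (.leaf [3145]))) (.node (.node (.leaf [742]) (.leaf [2685])) (.node (.leaf [1509]) (.leaf [])))) (.node (.node (.node (.leaf [336]) (.leaf [2394])) (.node (.leaf [1155]) (.leaf [3447]))) (.node (.node (.leaf [819]) (.leaf [2898])) (.node (.leaf [1871]) (.leaf []))))) (.node (.node (.node (.node (.leaf [223]) (.leaf [2337])) (.node (.leaf [1066]) (.leaf [3253]))) (.node (.node (.leaf [616]) (.leaf [2804])) (.node (.leaf [1699]) (.leaf [])))) (.node (.node (.node (.leaf [510]) (.leaf [2491])) (.node (.leaf [1604]) (.leaf []))) (.node (.node (.leaf [987]) (.leaf [3038])) (.node (.leaf [2035]) (.leaf [])))))))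
     (.node (.node (.node (.node (.node (.node (.leaf [58]) (.leaf [2106])) (.node (.leaf [1312]) (.leaf [3117]))) (.node (.node (.leaf [574]) (.leaf [2457])) (.node (.leaf [1744]) (.leaf [])))) (.node (.node (.node (.leaf [317]) (.leaf [2297])) (.node (.leaf [1102]) (.leaf [3414]))) (.node (.node (.leaf [901]) (.leaf [2870])) (.node (.leaf [1915]) (.leaf []))))) (.node (.node (.node (.node (.leaf [147]) (.leaf [2310])) (.node (.leaf [1442]) (.leaf [3275]))) (.node (.node (.leaf [887]) (.leaf [2665])) (.node (.leaf [1695]) (.leaf [])))) (.node (.node (.node (.leaf [423]) (.leaf [2586])) (.node (.leaf [1449]) (.leaf []))) (.node (.node (.leaf [938]) (.leaf [2960])) (.node (.leaf [1894]) (.leaf [])))))) (.node (.node (.node (.node (.node (.leaf [122]) (.leaf [2284])) (.node (.leaf [1356]) (.leaf [3067]))) (.node (.node (.leaf [764]) (.leaf [2537])) (.node (.leaf [1549]) (.leaf [])))) (.node (.node (.node (.leaf [393]) (.leaf [2325])) (.node (.leaf [1180]) (.leaf [3462]))) (.node (.node (.leaf [699]) (.leaf [2919])) (.node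 (.leaf [1849]) (.leaf []))))) (.node (.node (.node (.node (.leaf [250]) (.leaf [2386])) (.node (.leaf [1052]) (.leaf [3295]))) (.node (.node (.leaf [632]) (.leaf [2796])) (.node (.leaf [1783]) (.leaf [])))) (.node (.node (.node (.leaf [487]) (.leaf [2516])) (.node (.leaf [1609]) (.leaf []))) (.node (.node (.leaf [1229]) (.leaf [3196])) (.node (.leaf [1950]) (.leaf []))))))))))
  (.node (.node (.node (.node (.node (.node (.node (.node (.node (.leaf [28]) (.leaf [1974])) (.node (.leaf [1247]) (.leaf [3161]))) (.node (.node (.leaf [518]) (.leaf [2720])) (.node (.leaf [1651]) (.leaf [])))) (.node (.node (.node (.leaf [229]) (.leaf [2234])) (.node (.leaf [1119]) (.leaf [3281]))) (.node (.node (.leaf [652]) (.leaf [2786])) (.node (.leaf [1800]) (.leaf []))))) (.node (.node (.node (.node (.leaf [2]) (.leaf [2352])) (.node (.leaf [1373]) (.leaf [3269]))) (.node (.node (.leaf [779]) (.leaf [2540])) (.node (.leaf [1566]) (.leaf [])))) (.node (.node (.node (.leaf [377]) (.leaf [2398])) (.node (.leaf [1205]) (.leaf [3450]))) (.node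 (.node (.leaf [829]) (.leaf [2928])) (.node (.leaf [1860]) (.leaf [])))))) (.node (.node (.node (.node (.node (.leaf [70]) (.leaf [2114])) (.node (.leaf [1327]) (.leaf [3171]))) (.node (.node (.leaf [714]) (.leaf [2737])) (.node (.leaf [1508]) (.leaf [])))) (.node (.node (.node (.leaf [273]) (.leaf [2437])) (.node (.leaf [1142]) (.leaf [3371]))) (.node (.node (.leaf [620]) (.leaf [2817])) (.node (.leaf [1928]) (.leaf []))))) (.node (.node (.node (.node (.leaf [192]) (.leaf [2221])) (.node (.leaf [1020]) (.leaf [3218]))) (.node (.node (.leaf [583]) (.leaf [2627])) (.node (.leaf [1771]) (.leaf [])))) (.node (.node (.node (.leaf [438]) (.leaf [2526])) (.node (.leaf [1483]) (.leaf []))) (.node (.node (.leaf [923]) (.leaf [3014])) (.node (.leaf [1985]) (.leaf [])))))))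
     (.node (.node (.node (.node (.node (.node (.leaf [33]) (.leaf [2086])) (.node (.leaf [1250]) (.leaf [3110]))) (.node (.node (.leaf [558]) (.leaf [2468])) (.node (.leaf [1706]) (.leaf [])))) (.node (.node (.node (.leaf [323]) (.leaf [2319])) (.node (.leaf [1089]) (.leaf [3409]))) (.node (.node (.leaf [806]) (.leaf [2860])) (.node (.leaf [1830]) (.leaf []))))) (.node (.node (.node (.node (.leaf [145]) (.leaf [2132])) (.node (.leaf [1428]) (.leaf [3237]))) (.node (.node (.leaf [796]) (.leaf [2601])) (.node (.leaf [1765]) (.leaf [])))) (.node (.node (.node (.leaf [422]) (.leaf [2612])) (.node (.leaf [1456]) (.leaf [3494]))) (.node (.node (.leaf [970]) (.leaf [2982])) (.node (.leaf [2047]) (.leaf [])))))) (.node (.node (.node (.node (.node (.leaf [83]) (.leaf [2223])) (.node (.leaf [1288]) (.leaf [3178]))) (.node (.node (.leaf [733]) (.leaf [2757])) (.node (.leaf [1513]) (.leaf [])))) (.node (.node (.node (.leaf [358]) (.leaf [2200])) (.node (.leaf [1382]) (.leaf [3426]))) (.node (.node (.leaf [864]) (.leaf [2932])) (.node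 (.leaf [1978]) (.leaf []))))) (.node (.node (.node (.node (.leaf [261]) (.leaf [2159])) (.node (.leaf [1065]) (.leaf [3324]))) (.node (.node (.leaf [602]) (.leaf [2819])) (.node (.leaf [1733]) (.leaf [])))) (.node (.node (.node (.leaf [541]) (.leaf [2684])) (.node (.leaf [1607]) (.leaf []))) (.node (.node (.leaf [998]) (.leaf [3051])) (.node (.leaf [1995]) (.leaf []))))))))
    (.node (.node (.node (.node (.node (.node (.node (.leaf [59]) (.leaf [2084])) (.node (.leaf [1267]) (.leaf [3186]))) (.node (.node (.leaf [540]) (.leaf [2580])) (.node (.leaf [1665]) (.leaf [])))) (.node (.node (.node (.leaf [303]) (.leaf [2432])) (.node (.leaf [1067]) (.leaf [3357]))) (.node (.node (.leaf [661]) (.leaf [2845])) (.node (.leaf [1829]) (.leaf []))))) (.node (.node (.node (.node (.leaf [182]) (.leaf [2404])) (.node (.leaf [1381]) (.leaf [3228]))) (.node (.node (.leaf [747]) (.leaf [2710])) (.node (.leaf [1686]) (.leaf [])))) (.node (.node (.node (.leaf [396]) (.leaf [2450])) (.node (.leaf [1194]) (.leaf [3480]))) (.node (.node (.leaf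 [952]) (.leaf [3001])) (.node (.leaf [1942]) (.leaf [])))))) (.node (.node (.node (.node (.node (.leaf [89]) (.leaf [2215])) (.node (.leaf [1296]) (.leaf [3075]))) (.node (.node (.leaf [723]) (.leaf [2486])) (.node (.leaf [1495]) (.leaf [])))) (.node (.node (.node (.leaf [350]) (.leaf [2322])) (.node (.leaf [1418]) (.leaf [3386]))) (.node (.node (.leaf [817]) (.leaf [2905])) (.node (.leaf [1863]) (.leaf []))))) (.node (.node (.node (.node (.leaf [214]) (.leaf [2262])) (.node (.leaf [1069]) (.leaf [3248]))) (.node (.node (.leaf [606]) (.leaf [2782])) (.node (.leaf [1589]) (.leaf [])))) (.node (.node (.node (.leaf [561]) (.leaf [2508])) (.node (.leaf [1602]) (.leaf []))) (.node (.node (.leaf [948]) (.leaf [3048])) (.node (.leaf [2030]) (.leaf [])))))))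
     (.node (.node (.node (.node (.node (.node (.leaf [7]) (.leaf [2104])) (.node (.leaf [1308]) (.leaf [3118]))) (.node (.node (.leaf [563]) (.leaf [2493])) (.node (.leaf [1749]) (.leaf [])))) (.node (.node (.node (.leaf [296]) (.leaf [2190])) (.node (.leaf [1118]) (.leaf [3400]))) (.node (.node (.leaf [859]) (.leaf [2874])) (.node (.leaf [1909]) (.leaf []))))) (.node (.node (.node (.node (.leaf [150]) (.leaf [2258])) (.node (.leaf [1415]) (.leaf [3254]))) (.node (.node (.leaf [882]) (.leaf [2698])) (.node (.leaf [1685]) (.leaf [])))) (.node (.node (.node (.leaf [454]) (.leaf [2646])) (.node (.leaf [1216]) (.leaf []))) (.node (.node (.leaf [913]) (.leaf [2998])) (.node (.leaf [2054]) (.leaf [])))))) (.node (.node (.node (.node (.node (.leaf [110]) (.leaf [2259])) (.node (.leaf [1350]) (.leaf [3086]))) (.node (.node (.leaf [760]) (.leaf [2678])) (.node (.leaf [1546]) (.leaf [])))) (.node (.node (.node (.leaf [366]) (.leaf [2302])) (.node (.leaf [1169]) (.leaf [3438]))) (.node (.node (.leaf [702]) (.leaf [2890])) (.node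 (.leaf [1852]) (.leaf []))))) (.node (.node (.node (.node (.leaf [268]) (.leaf [2314])) (.node (.leaf [1049]) (.leaf [3299]))) (.node (.node (.leaf [628]) (.leaf [2802])) (.node (.leaf [1782]) (.leaf [])))) (.node (.node (.node (.leaf [475]) (.leaf [2550])) (.node (.leaf [1611]) (.leaf []))) (.node (.node (.leaf [1227]) (.leaf [3198])) (.node (.leaf [1960]) (.leaf [])))))))))
   (.node (.node (.node (.node (.node (.node (.node (.node (.leaf [63]) (.leaf [2079])) (.node (.leaf [1253]) (.leaf [3190]))) (.node (.node (.leaf [529]) (.leaf [2639])) (.node (.leaf [1657]) (.leaf [])))) (.node (.node (.node (.leaf [270]) (.leaf [2318])) (.node (.leaf [1120]) (.leaf [3346]))) (.node (.node (.leaf [643]) (.leaf [2830])) (.node (.leaf [1837]) (.leaf []))))) (.node (.node (.node (.node (.leaf [171]) (.leaf [2358])) (.node (.leaf [1395]) (.leaf [3231]))) (.node (.node (.leaf [844]) (.leaf [2605])) (.node (.leaf [1570]) (.leaf [])))) (.node (.node (.node (.leaf [405]) (.leaf [2446])) (.node (.leaf [1201]) (.leaf [3470]))) (.node (.node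 (.leaf [579]) (.leaf [2996])) (.node (.leaf [1940]) (.leaf [])))))) (.node (.node (.node (.node (.node (.leaf [105]) (.leaf [2126])) (.node (.leaf [1338]) (.leaf [3176]))) (.node (.node (.leaf [739]) (.leaf [2638])) (.node (.leaf [1496]) (.leaf [])))) (.node (.node (.node (.leaf [347]) (.leaf [2195])) (.node (.leaf [1147]) (.leaf [3372]))) (.node (.node (.leaf [656]) (.leaf [2897])) (.node (.leaf [1886]) (.leaf []))))) (.node (.node (.node (.node (.leaf [210]) (.leaf [2227])) (.node (.leaf [1019]) (.leaf [3257]))) (.node (.node (.leaf [601]) (.leaf [2765])) (.node (.leaf [1596]) (.leaf [])))) (.node (.node (.node (.leaf [462]) (.leaf [2561])) (.node (.leaf [1485]) (.leaf []))) (.node (.node (.leaf [932]) (.leaf [3022])) (.node (.leaf [2019]) (.leaf [])))))))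
     (.node (.node (.node (.node (.node (.node (.leaf [72]) (.leaf [2094])) (.node (.leaf [1239]) (.leaf [3126]))) (.node (.node (.leaf [550]) (.leaf [2693])) (.node (.leaf [1740]) (.leaf [])))) (.node (.node (.node (.leaf [284]) (.leaf [2433])) (.node (.leaf [1115]) (.leaf [3394]))) (.node (.node (.leaf [814]) (.leaf [2865])) (.node (.leaf [1807]) (.leaf []))))) (.node (.node (.node (.node (.leaf [174]) (.leaf [2144])) (.node (.leaf [1436]) (.leaf [3277]))) (.node (.node (.leaf [831]) (.leaf [2699])) (.node (.leaf [1577]) (.leaf [])))) (.node (.node (.node (.leaf [453]) (.leaf [2590])) (.node (.leaf [1454]) (.leaf [3502]))) (.node (.node (.leaf [980]) (.leaf [2965])) (.node (.leaf [2052]) (.leaf [])))))) (.node (.node (.node (.node (.node (.leaf [118]) (.leaf [2277])) (.node (.leaf [1344]) (.leaf [3092]))) (.node (.node (.leaf [840]) (.leaf [2750])) (.node (.leaf [1539]) (.leaf [])))) (.node (.node (.node (.leaf [374]) (.leaf [2207])) (.node (.leaf [1390]) (.leaf [3446]))) (.node (.node (.leaf [906]) (.leaf [2947])) (.node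 (.leaf [1982]) (.leaf []))))) (.node (.node (.node (.node (.leaf [238]) (.leaf [2171])) (.node (.leaf [1043]) (.leaf [3310]))) (.node (.node (.leaf [668]) (.leaf [2851])) (.node (.leaf [1768]) (.leaf [])))) (.node (.node (.node (.leaf [498]) (.leaf [2609])) (.node (.leaf [1613]) (.leaf []))) (.node (.node (.leaf [1002]) (.leaf [3024])) (.node (.leaf [2006]) (.leaf []))))))))
    (.node (.node (.node (.node (.node (.node (.node (.leaf [75]) (.leaf [2072])) (.node (.leaf [1276]) (.leaf [3149]))) (.node (.node (.leaf [478]) (.leaf [2478])) (.node (.leaf [1670]) (.leaf [])))) (.node (.node (.node (.leaf [318]) (.leaf [2235])) (.node (.leaf [1081]) (.leaf [3360]))) (.node (.node (.leaf [684]) (.leaf [2837])) (.node (.leaf [1828]) (.leaf []))))) (.node (.node (.node (.node (.leaf [162]) (.leaf [2415])) (.node (.leaf [1403]) (.leaf [3205]))) (.node (.node (.leaf [753]) (.leaf [2572])) (.node (.leaf [1725]) (.leaf [])))) (.node (.node (.node (.leaf [419]) (.leaf [2593])) (.node (.leaf [1204]) (.leaf [3487]))) (.node (.node (.leaf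 [968]) (.leaf [3009])) (.node (.leaf [2042]) (.leaf [])))))) (.node (.node (.node (.node (.node (.leaf [79]) (.leaf [2140])) (.node (.leaf [1334]) (.leaf [3073]))) (.node (.node (.leaf [726]) (.leaf [2473])) (.node (.leaf [1517]) (.leaf [])))) (.node (.node (.node (.leaf [342]) (.leaf [2438])) (.node (.leaf [1161]) (.leaf [3437]))) (.node (.node (.leaf [868]) (.leaf [2911])) (.node (.leaf [1870]) (.leaf []))))) (.node (.node (.node (.node (.leaf [221]) (.leaf [2361])) (.node (.leaf [1029]) (.leaf [3274]))) (.node (.node (.leaf [611]) (.leaf [2774])) (.node (.leaf [1698]) (.leaf [])))) (.node (.node (.node (.leaf [542]) (.leaf [2502])) (.node (.leaf [1603]) (.leaf []))) (.node (.node (.leaf [992]) (.leaf [3034])) (.node (.leaf [1963]) (.leaf [])))))))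
     (.node (.node (.node (.node (.node (.node (.leaf [9]) (.leaf [2110])) (.node (.leaf [1316]) (.leaf [3115]))) (.node (.node (.leaf [570]) (.leaf [2466])) (.node (.leaf [1780]) (.leaf [])))) (.node (.node (.node (.leaf [286]) (.leaf [2320])) (.node (.leaf [1132]) (.leaf [3417]))) (.node (.node (.leaf [687]) (.leaf [2878])) (.node (.leaf [1916]) (.leaf []))))) (.node (.node (.node (.node (.leaf [205]) (.leaf [2357])) (.node (.leaf [1460]) (.leaf [3234]))) (.node (.node (.leaf [886]) (.leaf [2670])) (.node (.leaf [1730]) (.leaf [])))) (.node (.node (.node (.leaf [428]) (.leaf [2607])) (.node (.leaf [1473]) (.leaf []))) (.node (.node (.leaf [928]) (.leaf [3000])) (.node (.leaf [1902]) (.leaf [])))))) (.node (.node (.node (.node (.node (.leaf [129]) (.leaf [2328])) (.node (.leaf [1359]) (.leaf [3062]))) (.node (.node (.leaf [768]) (.leaf [2604])) (.node (.leaf [1554]) (.leaf [])))) (.node (.node (.node (.leaf [382]) (.leaf [2397])) (.node (.leaf [1185]) (.leaf [3461]))) (.node (.node (.leaf [708]) (.leaf [2915])) (.node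 (.leaf [1876]) (.leaf []))))) (.node (.node (.node (.node (.leaf [269]) (.leaf [2422])) (.node (.leaf [1061]) (.leaf [3326]))) (.node (.node (.leaf [636]) (.leaf [2813])) (.node (.leaf [1815]) (.leaf [])))) (.node (.node (.node (.leaf [474]) (.leaf [2500])) (.node (.leaf [1643]) (.leaf []))) (.node (.node (.leaf [1234]) (.leaf [3195])) (.node (.leaf [1949]) (.leaf []))))))))))))
(.node (.node (.node (.node (.node (.node (.node (.node (.node (.node (.node (.leaf [135]) (.leaf [1954])) (.node (.leaf [1235]) (.leaf [3166]))) (.node (.node (.leaf [471]) (.leaf [2510])) (.node (.leaf [1644]) (.leaf [])))) (.node (.node (.node (.leaf [231]) (.leaf [2173])) (.node (.leaf [1057]) (.leaf [3306]))) (.node (.node (.leaf [639]) (.leaf [2886])) (.node (.leaf [1818]) (.leaf []))))) (.node (.node (.node (.node (.leaf [126]) (.leaf [2331])) (.node (.leaf [1368]) (.leaf [3060]))) (.node (.node (.leaf [771]) (.leaf [2539])) (.node (.leaf [1558]) (.leaf [])))) (.node (.node (.node (.leaf [384]) (.leaf [2350])) (.node (.leaf [1416]) (.leaf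 [3457]))) (.node (.node (.leaf [705]) (.leaf [2922])) (.node (.leaf [1856]) (.leaf [])))))) (.node (.node (.node (.node (.node (.leaf [44]) (.leaf [2113])) (.node (.leaf [1318]) (.leaf [3128]))) (.node (.node (.leaf [572]) (.leaf [2751])) (.node (.leaf [1779]) (.leaf [])))) (.node (.node (.node (.leaf [283]) (.leaf [2369])) (.node (.leaf [1135]) (.leaf [3403]))) (.node (.node (.leaf [690]) (.leaf [2880])) (.node (.leaf [1923]) (.leaf []))))) (.node (.node (.node (.node (.leaf [204]) (.leaf [2408])) (.node (.leaf [1463]) (.leaf [3232]))) (.node (.node (.leaf [897]) (.leaf [2675])) (.node (.leaf [1770]) (.leaf [])))) (.node (.node (.node (.leaf [431]) (.leaf [2608])) (.node (.leaf [1470]) (.leaf []))) (.node (.node (.leaf [915]) (.leaf [2974])) (.node (.leaf [1990]) (.leaf [])))))))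
     (.node (.node (.node (.node (.node (.node (.leaf [38]) (.leaf [2067])) (.node (.leaf [1281]) (.leaf [3138]))) (.node (.node (.leaf [465]) (.leaf [2462])) (.node (.leaf [1675]) (.leaf [])))) (.node (.node (.node (.leaf [320]) (.leaf [2266])) (.node (.leaf [1083]) (.leaf [3351]))) (.node (.node (.leaf [813]) (.leaf [2852])) (.node (.leaf [1839]) (.leaf []))))) (.node (.node (.node (.node (.leaf [161]) (.leaf [2137])) (.node (.leaf [1406]) (.leaf [3233]))) (.node (.node (.leaf [866]) (.leaf [2569])) (.node (.leaf [1723]) (.leaf [])))) (.node (.node (.node (.leaf [413]) (.leaf [2649])) (.node (.leaf [1209]) (.leaf [3474]))) (.node (.node (.leaf [971]) (.leaf [2985])) (.node (.leaf [2027]) (.leaf [])))))) (.node (.node (.node (.node (.node (.leaf [88]) (.leaf [2145])) (.node (.leaf [1298]) (.leaf [3101]))) (.node (.node (.leaf [727]) (.leaf [2679])) (.node (.leaf [1519]) (.leaf [])))) (.node (.node (.node (.leaf [353]) (.leaf [2197])) (.node (.leaf [1162]) (.leaf [3431]))) (.node (.node (.leaf [672]) (.leaf [2939])) (.node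 (.leaf [1874]) (.leaf []))))) (.node (.node (.node (.node (.leaf [256]) (.leaf [2417])) (.node (.leaf [1033]) (.leaf [3335]))) (.node (.node (.leaf [618]) (.leaf [2779])) (.node (.leaf [1761]) (.leaf [])))) (.node (.node (.node (.leaf [556]) (.leaf [2707])) (.node (.leaf [1635]) (.leaf []))) (.node (.node (.leaf [993]) (.leaf [3035])) (.node (.leaf [2033]) (.leaf []))))))))
    (.node (.node (.node (.node (.node (.node (.node (.leaf [17]) (.leaf [2073])) (.node (.leaf [1260]) (.leaf [3089]))) (.node (.node (.leaf [526]) (.leaf [2577])) (.node (.leaf [1660]) (.leaf [])))) (.node (.node (.node (.leaf [326]) (.leaf [2364])) (.node (.leaf [1111]) (.leaf [3283]))) (.node (.node (.leaf [658]) (.leaf [2832])) (.node (.leaf [1840]) (.leaf []))))) (.node (.node (.node (.node (.leaf [166]) (.leaf [2379])) (.node (.leaf [1398]) (.leaf [3260]))) (.node (.node (.leaf [784]) (.leaf [2530])) (.node (.leaf [1572]) (.leaf [])))) (.node (.node (.node (.leaf [404]) (.leaf [2451])) (.node (.leaf [1413]) (.leaf [3469]))) (.node (.node (.leaf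 [950]) (.leaf [3004])) (.node (.leaf [1994]) (.leaf [])))))) (.node (.node (.node (.node (.node (.leaf [108]) (.leaf [2129])) (.node (.leaf [1282]) (.leaf [3088]))) (.node (.node (.leaf [741]) (.leaf [2573])) (.node (.leaf [1514]) (.leaf [])))) (.node (.node (.node (.leaf [349]) (.leaf [2271])) (.node (.leaf [1149]) (.leaf [3366]))) (.node (.node (.leaf [849]) (.leaf [2894])) (.node (.leaf [1883]) (.leaf []))))) (.node (.node (.node (.node (.leaf [209]) (.leaf [2161])) (.node (.leaf [1021]) (.leaf [3334]))) (.node (.node (.leaf [599]) (.leaf [2770])) (.node (.leaf [1595]) (.leaf [])))) (.node (.node (.node (.leaf [545]) (.leaf [2513])) (.node (.leaf [1489]) (.leaf []))) (.node (.node (.leaf [945]) (.leaf [3047])) (.node (.leaf [1943]) (.leaf [])))))))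
     (.node (.node (.node (.node (.node (.node (.leaf [49]) (.leaf [2097])) (.node (.leaf [1303]) (.leaf [3133]))) (.node (.node (.leaf [470]) (.leaf [2542])) (.node (.leaf [1739]) (.leaf [])))) (.node (.node (.node (.leaf [281]) (.leaf [2183])) (.node (.leaf [1095]) (.leaf [3410]))) (.node (.node (.leaf [854]) (.leaf [2862])) (.node (.leaf [1836]) (.leaf []))))) (.node (.node (.node (.node (.leaf [154]) (.leaf [2225])) (.node (.leaf [1422]) (.leaf [3287]))) (.node (.node (.leaf [834]) (.leaf [2630])) (.node (.leaf [1580]) (.leaf [])))) (.node (.node (.node (.leaf [456]) (.leaf [2587])) (.node (.leaf [1367]) (.leaf [3501]))) (.node (.node (.leaf [977]) (.leaf [2969])) (.node (.leaf [2043]) (.leaf [])))))) (.node (.node (.node (.node (.node (.leaf [125]) (.leaf [2257])) (.node (.leaf [1347]) (.leaf [3095]))) (.node (.node (.leaf [843]) (.leaf [2673])) (.node (.leaf [1540]) (.leaf [])))) (.node (.node (.node (.leaf [392]) (.leaf [2273])) (.node (.leaf [1164]) (.leaf [3445]))) (.node (.node (.leaf [692]) (.leaf [2929])) (.node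 (.leaf [1843]) (.leaf []))))) (.node (.node (.node (.node (.leaf [234]) (.leaf [2263])) (.node (.leaf [1063]) (.leaf [3304]))) (.node (.node (.leaf [670]) (.leaf [2801])) (.node (.leaf [1777]) (.leaf [])))) (.node (.node (.node (.leaf [493]) (.leaf [2610])) (.node (.leaf [1641]) (.leaf []))) (.node (.node (.leaf [1005]) (.leaf [3059])) (.node (.leaf [2017]) (.leaf [])))))))))
   (.node (.node (.node (.node (.node (.node (.node (.node (.leaf [62]) (.leaf [2003])) (.node (.leaf [1249]) (.leaf [3114]))) (.node (.node (.leaf [537]) (.leaf [2721])) (.node (.leaf [1652]) (.leaf [])))) (.node (.node (.node (.leaf [265]) (.leaf [2265])) (.node (.leaf [1124]) (.leaf [3298]))) (.node (.node (.leaf [644]) (.leaf [2825])) (.node (.leaf [1799]) (.leaf []))))) (.node (.node (.node (.node (.leaf [172]) (.leaf [2377])) (.node (.leaf [1374]) (.leaf [3227]))) (.node (.node (.leaf [772]) (.leaf [2741])) (.node (.leaf [1564]) (.leaf [])))) (.node (.node (.node (.leaf [378]) (.leaf [2441])) (.node (.leaf [1410]) (.leaf [3465]))) (.node (.node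 (.leaf [874]) (.leaf [2952])) (.node (.leaf [1929]) (.leaf [])))))) (.node (.node (.node (.node (.node (.leaf [5]) (.leaf [2117])) (.node (.leaf [1331]) (.leaf [3162]))) (.node (.node (.leaf [716]) (.leaf [2729])) (.node (.leaf [1530]) (.leaf [])))) (.node (.node (.node (.leaf [291]) (.leaf [2185])) (.node (.leaf [1143]) (.leaf [3384]))) (.node (.node (.leaf [623]) (.leaf [2943])) (.node (.leaf [1881]) (.leaf []))))) (.node (.node (.node (.node (.leaf [189]) (.leaf [2281])) (.node (.leaf [1013]) (.leaf [3292]))) (.node (.node (.leaf [592]) (.leaf [2761])) (.node (.leaf [1737]) (.leaf [])))) (.node (.node (.node (.leaf [439]) (.leaf [2555])) (.node (.leaf [1476]) (.leaf []))) (.node (.node (.leaf [933]) (.leaf [2979])) (.node (.leaf [1938]) (.leaf [])))))))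
     (.node (.node (.node (.node (.node (.node (.leaf [31]) (.leaf [2095])) (.node (.leaf [1254]) (.leaf [3079]))) (.node (.node (.leaf [560]) (.leaf [2726])) (.node (.leaf [1710]) (.leaf [])))) (.node (.node (.node (.leaf [322]) (.leaf [2365])) (.node (.leaf [1092]) (.leaf [3413]))) (.node (.node (.leaf [809]) (.leaf [2857])) (.node (.leaf [1824]) (.leaf []))))) (.node (.node (.node (.node (.leaf [140]) (.leaf [2135])) (.node (.leaf [1433]) (.leaf [3236]))) (.node (.node (.leaf [795]) (.leaf [2633])) (.node (.leaf [1764]) (.leaf [])))) (.node (.node (.node (.leaf [445]) (.leaf [2654])) (.node (.leaf [1466]) (.leaf [3497]))) (.node (.node (.leaf [951]) (.leaf [2977])) (.node (.leaf [2012]) (.leaf [])))))) (.node (.node (.node (.node (.node (.leaf [78]) (.leaf [2163])) (.node (.leaf [1341]) (.leaf [3177]))) (.node (.node (.leaf [745]) (.leaf [2746])) (.node (.leaf [1521]) (.leaf [])))) (.node (.node (.node (.leaf [365]) (.leaf [2202])) (.node (.leaf [1385]) (.leaf [3435]))) (.node (.node (.leaf [873]) (.leaf [2921])) (.node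 (.leaf [1983]) (.leaf []))))) (.node (.node (.node (.node (.leaf [263]) (.leaf [2249])) (.node (.leaf [1039]) (.leaf [3315]))) (.node (.node (.leaf [617]) (.leaf [2808])) (.node (.leaf [1776]) (.leaf [])))) (.node (.node (.node (.leaf [554]) (.leaf [2682])) (.node (.leaf [1638]) (.leaf []))) (.node (.node (.leaf [1001]) (.leaf [3040])) (.node (.leaf [2007]) (.leaf []))))))))
    (.node (.node (.node (.node (.node (.node (.node (.leaf [25]) (.leaf [2065])) (.node (.leaf [1270]) (.leaf [3156]))) (.node (.node (.leaf [521]) (.leaf [2487])) (.node (.leaf [1668]) (.leaf [])))) (.node (.node (.node (.leaf [305]) (.leaf [2175])) (.node (.leaf [1075]) (.leaf [3363]))) (.node (.node (.leaf [676]) (.leaf [2843])) (.node (.leaf [1791]) (.leaf []))))) (.node (.node (.node (.node (.leaf [153]) (.leaf [2405])) (.node (.leaf [1386]) (.leaf [3210]))) (.node (.node (.leaf [749]) (.leaf [2754])) (.node (.leaf [1689]) (.leaf [])))) (.node (.node (.node (.leaf [409]) (.leaf [2618])) (.node (.leaf [1193]) (.leaf [3476]))) (.node (.node (.leaf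 [963]) (.leaf [2993])) (.node (.leaf [2058]) (.leaf [])))))) (.node (.node (.node (.node (.node (.leaf [86]) (.leaf [2209])) (.node (.leaf [1324]) (.leaf [3078]))) (.node (.node (.leaf [718]) (.leaf [2465])) (.node (.leaf [1507]) (.leaf [])))) (.node (.node (.node (.leaf [341]) (.leaf [2370])) (.node (.leaf [1156]) (.leaf [3390]))) (.node (.node (.leaf [820]) (.leaf [2902])) (.node (.leaf [1865]) (.leaf []))))) (.node (.node (.node (.node (.leaf [217]) (.leaf [2313])) (.node (.leaf [1032]) (.leaf [3289]))) (.node (.node (.leaf [608]) (.leaf [2775])) (.node (.leaf [1592]) (.leaf [])))) (.node (.node (.node (.leaf [543]) (.leaf [2521])) (.node (.leaf [1634]) (.leaf []))) (.node (.node (.leaf [985]) (.leaf [3033])) (.node (.leaf [2034]) (.leaf [])))))))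
     (.node (.node (.node (.node (.node (.node (.leaf [57]) (.leaf [2105])) (.node (.leaf [1310]) (.leaf [3107]))) (.node (.node (.leaf [575]) (.leaf [2460])) (.node (.leaf [1752]) (.leaf [])))) (.node (.node (.node (.leaf [292]) (.leaf [2270])) (.node (.leaf [1101]) (.leaf [3385]))) (.node (.node (.leaf [898]) (.leaf [2873])) (.node (.leaf [1914]) (.leaf []))))) (.node (.node (.node (.node (.leaf [149]) (.leaf [2330])) (.node (.leaf [1441]) (.leaf [3278]))) (.node (.node (.leaf [885]) (.leaf [2745])) (.node (.leaf [1756]) (.leaf [])))) (.node (.node (.node (.leaf [424]) (.leaf [2643])) (.node (.leaf [1448]) (.leaf []))) (.node (.node (.leaf [914]) (.leaf [2966])) (.node (.leaf [2004]) (.leaf [])))))) (.node (.node (.node (.node (.node (.leaf [132]) (.leaf [2283])) (.node (.leaf [1351]) (.leaf [3069]))) (.node (.node (.leaf [763]) (.leaf [2658])) (.node (.leaf [1550]) (.leaf [])))) (.node (.node (.node (.leaf [390]) (.leaf [2348])) (.node (.leaf [1181]) (.leaf [3419]))) (.node (.node (.leaf [703]) (.leaf [2916])) (.node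 (.leaf [1853]) (.leaf []))))) (.node (.node (.node (.node (.leaf [236]) (.leaf [2362])) (.node (.leaf [1050]) (.leaf [3300]))) (.node (.node (.leaf [631]) (.leaf [2776])) (.node (.leaf [1788]) (.leaf [])))) (.node (.node (.node (.leaf [472]) (.leaf [2515])) (.node (.leaf [1632]) (.leaf []))) (.node (.node (.leaf [1224]) (.leaf [3200])) (.node (.leaf [1959]) (.leaf []))))))))))
  (.node (.node (.node (.node (.node (.node (.node (.node (.node (.leaf [73]) (.leaf [1973])) (.node (.leaf [1246]) (.leaf [3163]))) (.node (.node (.leaf [515]) (.leaf [2719])) (.node (.leaf [1648]) (.leaf [])))) (.node (.node (.node (.leaf [230]) (.leaf [2179])) (.node (.leaf [1117]) (.leaf [3340]))) (.node (.node (.leaf [648]) (.leaf [2788])) (.node (.leaf [1827]) (.leaf []))))) (.node (.node (.node (.node (.leaf [111]) (.leaf [2333])) (.node (.leaf [1372]) (.leaf [3230]))) (.node (.node (.leaf [778]) (.leaf [2606])) (.node (.leaf [1560]) (.leaf [])))) (.node (.node (.node (.leaf [367]) (.leaf [2374])) (.node (.leaf [1425]) (.leaf [3454]))) (.node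 (.node (.leaf [826]) (.leaf [2914])) (.node (.leaf [1925]) (.leaf [])))))) (.node (.node (.node (.node (.node (.leaf [32]) (.leaf [2121])) (.node (.leaf [1328]) (.leaf [3159]))) (.node (.node (.leaf [912]) (.leaf [2730])) (.node (.leaf [1506]) (.leaf [])))) (.node (.node (.node (.leaf [271]) (.leaf [2428])) (.node (.leaf [1139]) (.leaf [3370]))) (.node (.node (.leaf [595]) (.leaf [2944])) (.node (.leaf [1927]) (.leaf []))))) (.node (.node (.node (.node (.leaf [195]) (.leaf [2139])) (.node (.leaf [1469]) (.leaf [3206]))) (.node (.node (.leaf [895]) (.leaf [2662])) (.node (.leaf [1766]) (.leaf [])))) (.node (.node (.node (.leaf [430]) (.leaf [2524])) (.node (.leaf [1482]) (.leaf []))) (.node (.node (.leaf [924]) (.leaf [3021])) (.node (.leaf [1936]) (.leaf [])))))))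
     (.node (.node (.node (.node (.node (.node (.leaf [37]) (.leaf [2087])) (.node (.leaf [1278]) (.leaf [3111]))) (.node (.node (.leaf [547]) (.leaf [2471])) (.node (.leaf [1680]) (.leaf [])))) (.node (.node (.node (.leaf [311]) (.leaf [2341])) (.node (.leaf [1088]) (.leaf [3362]))) (.node (.node (.leaf [850]) (.leaf [2853])) (.node (.leaf [1814]) (.leaf []))))) (.node (.node (.node (.node (.leaf [138]) (.leaf [2280])) (.node (.leaf [1427]) (.leaf [3238]))) (.node (.node (.leaf [792]) (.leaf [2599])) (.node (.leaf [1755]) (.leaf [])))) (.node (.node (.node (.leaf [415]) (.leaf [2621])) (.node (.leaf [1455]) (.leaf [3493]))) (.node (.node (.leaf [969]) (.leaf [3016])) (.node (.leaf [2020]) (.leaf [])))))) (.node (.node (.node (.node (.node (.leaf [87]) (.leaf [2149])) (.node (.leaf [1301]) (.leaf [3104]))) (.node (.node (.leaf [735]) (.leaf [2756])) (.node (.leaf [1515]) (.leaf [])))) (.node (.node (.node (.leaf [372]) (.leaf [2201])) (.node (.leaf [1174]) (.leaf [3442]))) (.node (.node (.leaf [863]) (.leaf [2933])) (.node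 (.leaf [1893]) (.leaf []))))) (.node (.node (.node (.node (.leaf [262]) (.leaf [2158])) (.node (.leaf [1038]) (.leaf [3319]))) (.node (.node (.leaf [593]) (.leaf [2823])) (.node (.leaf [1702]) (.leaf [])))) (.node (.node (.node (.leaf [485]) (.leaf [2706])) (.node (.leaf [1626]) (.leaf []))) (.node (.node (.leaf [997]) (.leaf [3039])) (.node (.leaf [2005]) (.leaf []))))))))
    (.node (.node (.node (.node (.node (.node (.node (.leaf [16]) (.leaf [2083])) (.node (.leaf [1266]) (.leaf [3187]))) (.node (.node (.leaf [538]) (.leaf [2579])) (.node (.leaf [1666]) (.leaf [])))) (.node (.node (.node (.leaf [327]) (.leaf [2426])) (.node (.leaf [1125]) (.leaf [3356]))) (.node (.node (.leaf [660]) (.leaf [2846])) (.node (.leaf [1813]) (.leaf []))))) (.node (.node (.node (.node (.leaf [185]) (.leaf [2401])) (.node (.leaf [1380]) (.leaf [3239]))) (.node (.node (.leaf [790]) (.leaf [2712])) (.node (.leaf [1718]) (.leaf [])))) (.node (.node (.node (.leaf [398]) (.leaf [2455])) (.node (.leaf [1191]) (.leaf [3477]))) (.node (.node (.leaf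 [949]) (.leaf [2990])) (.node (.leaf [1935]) (.leaf [])))))) (.node (.node (.node (.node (.node (.leaf [93]) (.leaf [2216])) (.node (.leaf [1299]) (.leaf [3157]))) (.node (.node (.leaf [720]) (.leaf [2483])) (.node (.leaf [1520]) (.leaf [])))) (.node (.node (.node (.leaf [345]) (.leaf [2347])) (.node (.leaf [1384]) (.leaf [3369]))) (.node (.node (.leaf [808]) (.leaf [2901])) (.node (.leaf [1919]) (.leaf []))))) (.node (.node (.node (.node (.leaf [208]) (.leaf [2261])) (.node (.leaf [1068]) (.leaf [3245]))) (.node (.node (.leaf [603]) (.leaf [2803])) (.node (.leaf [1590]) (.leaf [])))) (.node (.node (.node (.leaf [562]) (.leaf [2511])) (.node (.leaf [1493]) (.leaf []))) (.node (.node (.leaf [947]) (.leaf [3029])) (.node (.leaf [2021]) (.leaf [])))))))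
     (.node (.node (.node (.node (.node (.node (.leaf [47]) (.leaf [2103])) (.node (.leaf [1307]) (.leaf [3135]))) (.node (.node (.leaf [568]) (.leaf [2458])) (.node (.leaf [1750]) (.leaf [])))) (.node (.node (.node (.leaf [306]) (.leaf [2238])) (.node (.leaf [1116]) (.leaf [3381]))) (.node (.node (.leaf [856]) (.leaf [2876])) (.node (.leaf [1908]) (.leaf []))))) (.node (.node (.node (.node (.leaf [181]) (.leaf [2279])) (.node (.leaf [1414]) (.leaf [3290]))) (.node (.node (.leaf [880]) (.leaf [2697])) (.node (.leaf [1717]) (.leaf [])))) (.node (.node (.node (.leaf [451]) (.leaf [2528])) (.node (.leaf [1215]) (.leaf [3509]))) (.node (.node (.leaf [917]) (.leaf [2957])) (.node (.leaf [2053]) (.leaf [])))))) (.node (.node (.node (.node (.node (.leaf [117]) (.leaf [2165])) (.node (.leaf [1355]) (.leaf [3180]))) (.node (.node (.leaf [759]) (.leaf [2677])) (.node (.leaf [1544]) (.leaf [])))) (.node (.node (.node (.leaf [373]) (.leaf [2300])) (.node (.leaf [1176]) (.leaf [3441]))) (.node (.node (.leaf [697]) (.leaf [2917])) (.node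 (.leaf [1846]) (.leaf []))))) (.node (.node (.node (.node (.leaf [251]) (.leaf [2339])) (.node (.leaf [1059]) (.leaf [3332]))) (.node (.node (.leaf [627]) (.leaf [2799])) (.node (.leaf [1599]) (.leaf [])))) (.node (.node (.node (.leaf [501]) (.leaf [2549])) (.node (.leaf [1628]) (.leaf []))) (.node (.node (.leaf [1225]) (.leaf [3203])) (.node (.leaf [2037]) (.leaf [])))))))))
   (.node (.node (.node (.node (.node (.node (.node (.node (.leaf [29]) (.leaf [2075])) (.node (.leaf [1256]) (.leaf [3184]))) (.node (.node (.leaf [463]) (.leaf [2641])) (.node (.leaf [1658]) (.leaf [])))) (.node (.node (.node (.leaf [254]) (.leaf [2340])) (.node (.leaf [1122]) (.leaf [3341]))) (.node (.node (.leaf [642]) (.leaf [2827])) (.node (.leaf [1832]) (.leaf []))))) (.node (.node (.node (.node (.leaf [167]) (.leaf [2335])) (.node (.leaf [1394]) (.leaf [3213]))) (.node (.node (.leaf [776]) (.leaf [2603])) (.node (.leaf [1565]) (.leaf [])))) (.node (.node (.node (.leaf [403]) (.leaf [2443])) (.node (.leaf [1200]) (.leaf [3473]))) (.node (.node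 (.leaf [877]) (.leaf [2997])) (.node (.leaf [1933]) (.leaf [])))))) (.node (.node (.node (.node (.node (.leaf [106]) (.leaf [2128])) (.node (.leaf [1337]) (.leaf [3102]))) (.node (.node (.leaf [711]) (.leaf [2637])) (.node (.leaf [1518]) (.leaf [])))) (.node (.node (.node (.leaf [344]) (.leaf [2239])) (.node (.leaf [1148]) (.leaf [3396]))) (.node (.node (.leaf [655]) (.leaf [2893])) (.node (.leaf [1880]) (.leaf []))))) (.node (.node (.node (.node (.leaf [190]) (.leaf [2157])) (.node (.leaf [1018]) (.leaf [3246]))) (.node (.node (.leaf [591]) (.leaf [2766])) (.node (.leaf [1583]) (.leaf [])))) (.node (.node (.node (.leaf [461]) (.leaf [2503])) (.node (.leaf [1486]) (.leaf []))) (.node (.node (.leaf [931]) (.leaf [3013])) (.node (.leaf [2032]) (.leaf [])))))))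
     (.node (.node (.node (.node (.node (.node (.leaf [45]) (.leaf [2090])) (.node (.leaf [1238]) (.leaf [3130]))) (.node (.node (.leaf [551]) (.leaf [2702])) (.node (.leaf [1712]) (.leaf [])))) (.node (.node (.node (.leaf [282]) (.leaf [2427])) (.node (.leaf [1114]) (.leaf [3407]))) (.node (.node (.leaf [801]) (.leaf [2859])) (.node (.leaf [1806]) (.leaf []))))) (.node (.node (.node (.node (.leaf [139]) (.leaf [2246])) (.node (.leaf [1435]) (.leaf [3285]))) (.node (.node (.leaf [799]) (.leaf [2634])) (.node (.leaf [1578]) (.leaf [])))) (.node (.node (.node (.leaf [450]) (.leaf [2647])) (.node (.leaf [1453]) (.leaf [3505]))) (.node (.node (.leaf [978]) (.leaf [2964])) (.node (.leaf [2039]) (.leaf [])))))) (.node (.node (.node (.node (.node (.leaf [128]) (.leaf [2253])) (.node (.leaf [1343]) (.leaf [3084]))) (.node (.node (.leaf [839]) (.leaf [2747])) (.node (.leaf [1536]) (.leaf [])))) (.node (.node (.node (.leaf [361]) (.leaf [2205])) (.node (.leaf [1168]) (.leaf [3422]))) (.node (.node (.leaf [909]) (.leaf [2946])) (.node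 (.leaf [1980]) (.leaf []))))) (.node (.node (.node (.node (.leaf [244]) (.leaf [2231])) (.node (.leaf [1042]) (.leaf [3309]))) (.node (.node (.leaf [665]) (.leaf [2795])) (.node (.leaf [1728]) (.leaf [])))) (.node (.node (.node (.leaf [497]) (.leaf [2616])) (.node (.leaf [1630]) (.leaf []))) (.node (.node (.leaf [1009]) (.leaf [3027])) (.node (.leaf [1996]) (.leaf []))))))))
    (.node (.node (.node (.node (.node (.node (.node (.leaf [13]) (.leaf [2071])) (.node (.leaf [1275]) (.leaf [3169]))) (.node (.node (.leaf [486]) (.leaf [2475])) (.node (.leaf [1677]) (.leaf [])))) (.node (.node (.node (.leaf [298]) (.leaf [2181])) (.node (.leaf [1079]) (.leaf [3350]))) (.node (.node (.leaf [683]) (.leaf [2838])) (.node (.leaf [1812]) (.leaf []))))) (.node (.node (.node (.node (.leaf [176]) (.leaf [2413])) (.node (.leaf [1401]) (.leaf [3223]))) (.node (.node (.leaf [755]) (.leaf [2570])) (.node (.leaf [1719]) (.leaf [])))) (.node (.node (.node (.leaf [417]) (.leaf [2611])) (.node (.leaf [1203]) (.leaf [3485]))) (.node (.node (.leaf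 [967]) (.leaf [3012])) (.node (.leaf [2046]) (.leaf [])))))) (.node (.node (.node (.node (.node (.leaf [85]) (.leaf [2143])) (.node (.leaf [1285]) (.leaf [3072]))) (.node (.node (.leaf [728]) (.leaf [2464])) (.node (.leaf [1531]) (.leaf [])))) (.node (.node (.node (.leaf [337]) (.leaf [2430])) (.node (.leaf [1158]) (.leaf [3436]))) (.node (.node (.leaf [823]) (.leaf [2887])) (.node (.leaf [1867]) (.leaf []))))) (.node (.node (.node (.node (.leaf [222]) (.leaf [2360])) (.node (.leaf [1028]) (.leaf [3272]))) (.node (.node (.leaf [614]) (.leaf [2811])) (.node (.leaf [1720]) (.leaf [])))) (.node (.node (.node (.leaf [504]) (.leaf [2482])) (.node (.leaf [1636]) (.leaf []))) (.node (.node (.leaf [991]) (.leaf [3042])) (.node (.leaf [1962]) (.leaf [])))))))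
     (.node (.node (.node (.node (.node (.node (.leaf [24]) (.leaf [2109])) (.node (.leaf [1315]) (.leaf [3121]))) (.node (.node (.leaf [578]) (.leaf [2469])) (.node (.leaf [1743]) (.leaf [])))) (.node (.node (.node (.leaf [314]) (.leaf [2345])) (.node (.leaf [1129]) (.leaf [3416]))) (.node (.node (.leaf [902]) (.leaf [2871])) (.node (.leaf [1913]) (.leaf []))))) (.node (.node (.node (.node (.leaf [201]) (.leaf [2378])) (.node (.leaf [1459]) (.leaf [3215]))) (.node (.node (.leaf [893]) (.leaf [2623])) (.node (.leaf [1694]) (.leaf [])))) (.node (.node (.node (.leaf [425]) (.leaf [2614])) (.node (.leaf [1221]) (.leaf []))) (.node (.node (.leaf [939]) (.leaf [2967])) (.node (.leaf [1895]) (.leaf [])))))) (.node (.node (.node (.node (.node (.leaf [113]) (.leaf [2305])) (.node (.leaf [1361]) (.leaf [3071]))) (.node (.node (.leaf [767]) (.leaf [2650])) (.node (.leaf [1552]) (.leaf [])))) (.node (.node (.node (.leaf [386]) (.leaf [2372])) (.node (.leaf [1184]) (.leaf [3460]))) (.node (.node (.leaf [701]) (.leaf [2912])) (.node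 (.leaf [1875]) (.leaf []))))) (.node (.node (.node (.node (.leaf [253]) (.leaf [2420])) (.node (.leaf [1055]) (.leaf [3331]))) (.node (.node (.leaf [635]) (.leaf [2814])) (.node (.leaf [1789]) (.leaf [])))) (.node (.node (.node (.leaf [495]) (.leaf [2499])) (.node (.leaf [1639]) (.leaf []))) (.node (.node (.leaf [1233]) (.leaf [3193])) (.node (.leaf [1947]) (.leaf [])))))))))))
 (.node (.node (.node (.node (.node (.node (.node (.node (.node (.node (.leaf [76]) (.leaf [1967])) (.node (.leaf [1244]) (.leaf [3158]))) (.node (.node (.leaf [517]) (.leaf [2476])) (.node (.leaf [1646]) (.leaf [])))) (.node (.node (.node (.leaf [227]) (.leaf [2176])) (.node (.leaf [1104]) (.leaf [3325]))) (.node (.node (.leaf [641]) (.leaf [2790])) (.node (.leaf [1811]) (.leaf []))))) (.node (.node (.node (.node (.leaf [131]) (.leaf [2309])) (.node (.leaf [1370]) (.leaf [3061]))) (.node (.node (.leaf [782]) (.leaf [2738])) (.node (.leaf [1559]) (.leaf [])))) (.node (.node (.node (.leaf [387]) (.leaf [2351])) (.node (.leaf [1419]) (.leaf [3459])))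 (.node (.node (.leaf [824]) (.leaf [2926])) (.node (.leaf [1857]) (.leaf [])))))) (.node (.node (.node (.node (.node (.leaf [67]) (.leaf [2119])) (.node (.leaf [1322]) (.leaf [3168]))) (.node (.node (.leaf [910]) (.leaf [2758])) (.node (.leaf [1502]) (.leaf [])))) (.node (.node (.node (.leaf [294]) (.leaf [2392])) (.node (.leaf [1137]) (.leaf [3404]))) (.node (.node (.leaf [691]) (.leaf [2883])) (.node (.leaf [1924]) (.leaf []))))) (.node (.node (.node (.node (.leaf [197]) (.leaf [2411])) (.node (.leaf [1467]) (.leaf [3204]))) (.node (.node (.leaf [891]) (.leaf [2676])) (.node (.leaf [1727]) (.leaf [])))) (.node (.node (.node (.leaf [437]) (.leaf [2557])) (.node (.leaf [1480]) (.leaf []))) (.node (.node (.leaf [921]) (.leaf [3003])) (.node (.leaf [1898]) (.leaf [])))))))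
     (.node (.node (.node (.node (.node (.node (.leaf [35]) (.leaf [2069])) (.node (.leaf [1269]) (.leaf [3129]))) (.node (.node (.leaf [549]) (.leaf [2498])) (.node (.leaf [1679]) (.leaf [])))) (.node (.node (.node (.leaf [329]) (.leaf [2293])) (.node (.leaf [1085]) (.leaf [3353]))) (.node (.node (.leaf [803]) (.leaf [2798])) (.node (.leaf [1797]) (.leaf []))))) (.node (.node (.node (.node (.leaf [178]) (.leaf [2211])) (.node (.leaf [1408]) (.leaf [3235]))) (.node (.node (.leaf [787]) (.leaf [2600])) (.node (.leaf [1754]) (.leaf [])))) (.node (.node (.node (.leaf [414]) (.leaf [2615])) (.node (.leaf [1211]) (.leaf [3491]))) (.node (.node (.leaf [973]) (.leaf [3017])) (.node (.leaf [2050]) (.leaf [])))))) (.node (.node (.node (.node (.node (.leaf [104]) (.leaf [2148])) (.node (.leaf [1295]) (.leaf [3142]))) (.node (.node (.leaf [734]) (.leaf [2672])) (.node (.leaf [1505]) (.leaf [])))) (.node (.node (.node (.leaf [359]) (.leaf [2199])) (.node (.leaf [1172]) (.leaf [3432]))) (.node (.node (.leaf [682]) (.leaf [2942])) (.node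 (.leaf [1892]) (.leaf []))))) (.node (.node (.node (.node (.leaf [259]) (.leaf [2419])) (.node (.leaf [1034]) (.leaf [3318]))) (.node (.node (.leaf [590]) (.leaf [2818])) (.node (.leaf [1704]) (.leaf [])))) (.node (.node (.node (.leaf [511]) (.leaf [2680])) (.node (.leaf [1625]) (.leaf []))) (.node (.node (.leaf [996]) (.leaf [3026])) (.node (.leaf [1998]) (.leaf []))))))))
    (.node (.node (.node (.node (.node (.node (.node (.leaf [8]) (.leaf [2081])) (.node (.leaf [1262]) (.leaf [3136]))) (.node (.node (.leaf [530]) (.leaf [2581])) (.node (.leaf [1664]) (.leaf [])))) (.node (.node (.node (.leaf [332]) (.leaf [2388])) (.node (.leaf [1109]) (.leaf [3347]))) (.node (.node (.leaf [675]) (.leaf [2835])) (.node (.leaf [1795]) (.leaf []))))) (.node (.node (.node (.node (.leaf [186]) (.leaf [2382])) (.node (.leaf [1378]) (.leaf [3268]))) (.node (.node (.leaf [788]) (.leaf [2529])) (.node (.leaf [1688]) (.leaf [])))) (.node (.node (.node (.leaf [397]) (.leaf [2449])) (.node (.leaf [1189]) (.leaf [3475]))) (.node (.node (.leaf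 [961]) (.leaf [2988])) (.node (.leaf [1986]) (.leaf [])))))) (.node (.node (.node (.node (.node (.leaf [102]) (.leaf [2131])) (.node (.leaf [1292]) (.leaf [3076]))) (.node (.node (.leaf [837]) (.leaf [2489])) (.node (.leaf [1532]) (.leaf [])))) (.node (.node (.node (.leaf [348]) (.leaf [2299])) (.node (.leaf [1363]) (.leaf [3383]))) (.node (.node (.leaf [816]) (.leaf [2903])) (.node (.leaf [1917]) (.leaf []))))) (.node (.node (.node (.node (.leaf [212]) (.leaf [2166])) (.node (.leaf [1025]) (.leaf [3345]))) (.node (.node (.leaf [598]) (.leaf [2771])) (.node (.leaf [1588]) (.leaf [])))) (.node (.node (.node (.leaf [522]) (.leaf [2553])) (.node (.leaf [1491]) (.leaf []))) (.node (.node (.leaf [946]) (.leaf [3053])) (.node (.leaf [2057]) (.leaf [])))))))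
     (.node (.node (.node (.node (.node (.node (.leaf [43]) (.leaf [2098])) (.node (.leaf [1305]) (.leaf [3080]))) (.node (.node (.leaf [566]) (.leaf [2461])) (.node (.leaf [1748]) (.leaf [])))) (.node (.node (.node (.leaf [307]) (.leaf [2186])) (.node (.leaf [1097]) (.leaf [3376]))) (.node (.node (.leaf [858]) (.leaf [2866])) (.node (.leaf [1905]) (.leaf []))))) (.node (.node (.node (.node (.leaf [160]) (.leaf [2254])) (.node (.leaf [1437]) (.leaf [3251]))) (.node (.node (.leaf [835]) (.leaf [2635])) (.node (.leaf [1692]) (.leaf [])))) (.node (.node (.node (.leaf [455]) (.leaf [2645])) (.node (.leaf [1213]) (.leaf [3507]))) (.node (.node (.leaf [981]) (.leaf [2971])) (.node (.leaf [2055]) (.leaf [])))))) (.node (.node (.node (.node (.node (.leaf [130]) (.leaf [2153])) (.node (.leaf [1349]) (.leaf [3093]))) (.node (.node (.leaf [757]) (.leaf [2753])) (.node (.leaf [1542]) (.leaf [])))) (.node (.node (.node (.leaf [360]) (.leaf [2275])) (.node (.leaf [1166]) (.leaf [3440]))) (.node (.node (.leaf [696]) (.leaf [2935])) (.node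 (.leaf [1851]) (.leaf []))))) (.node (.node (.node (.node (.leaf [243]) (.leaf [2291])) (.node (.leaf [1046]) (.leaf [3305]))) (.node (.node (.leaf [669]) (.leaf [2773])) (.node (.leaf [1601]) (.leaf [])))) (.node (.node (.node (.leaf [499]) (.leaf [2559])) (.node (.leaf [1640]) (.leaf []))) (.node (.node (.leaf [1011]) (.leaf [3057])) (.node (.leaf [2010]) (.leaf [])))))))))
   (.node (.node (.node (.node (.node (.node (.node (.node (.leaf [11]) (.leaf [2016])) (.node (.leaf [1252]) (.leaf [3122]))) (.node (.node (.leaf [466]) (.leaf [2722])) (.node (.leaf [1656]) (.leaf [])))) (.node (.node (.node (.leaf [247]) (.leaf [2292])) (.node (.leaf [1127]) (.leaf [3320]))) (.node (.node (.leaf [646]) (.leaf [2829])) (.node (.leaf [1803]) (.leaf []))))) (.node (.node (.node (.node (.leaf [173]) (.leaf [2356])) (.node (.leaf [1392]) (.leaf [3211]))) (.node (.node (.leaf [775]) (.leaf [2734])) (.node (.leaf [1569]) (.leaf [])))) (.node (.node (.node (.leaf [395]) (.leaf [2445])) (.node (.leaf [1411]) (.leaf [3467]))) (.node (.node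 (.leaf [876]) (.leaf [2955])) (.node (.leaf [1931]) (.leaf [])))))) (.node (.node (.node (.node (.node (.leaf [30]) (.leaf [2123])) (.node (.leaf [1335]) (.leaf [3112]))) (.node (.node (.leaf [740]) (.leaf [2739])) (.node (.leaf [1526]) (.leaf [])))) (.node (.node (.node (.leaf [274]) (.leaf [2193])) (.node (.leaf [1141]) (.leaf [3393]))) (.node (.node (.leaf [625]) (.leaf [2927])) (.node (.leaf [1885]) (.leaf []))))) (.node (.node (.node (.node (.leaf [196]) (.leaf [2155])) (.node (.leaf [1014]) (.leaf [3258]))) (.node (.node (.leaf [588]) (.leaf [2763])) (.node (.leaf [1585]) (.leaf [])))) (.node (.node (.node (.leaf [434]) (.leaf [2562])) (.node (.leaf [1478]) (.leaf []))) (.node (.node (.leaf [929]) (.leaf [2956])) (.node (.leaf [2022]) (.leaf [])))))))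
     (.node (.node (.node (.node (.node (.node (.leaf [51]) (.leaf [2091])) (.node (.leaf [1302]) (.leaf [3134]))) (.node (.node (.leaf [482]) (.leaf [2701])) (.node (.leaf [1711]) (.leaf [])))) (.node (.node (.node (.leaf [279]) (.leaf [2389])) (.node (.leaf [1087]) (.leaf [3398]))) (.node (.node (.leaf [804]) (.leaf [2861])) (.node (.leaf [1835]) (.leaf []))))) (.node (.node (.node (.node (.leaf [142]) (.leaf [2219])) (.node (.leaf [1431]) (.leaf [3220]))) (.node (.node (.leaf [797]) (.leaf [2687])) (.node (.leaf [1576]) (.leaf [])))) (.node (.node (.node (.leaf [443]) (.leaf [2589])) (.node (.leaf [1451]) (.leaf [3508]))) (.node (.node (.leaf [957]) (.leaf [2976])) (.node (.leaf [2014]) (.leaf [])))))) (.node (.node (.node (.node (.node (.leaf [82]) (.leaf [2251])) (.node (.leaf [1340]) (.leaf [3179]))) (.node (.node (.leaf [736]) (.leaf [2667])) (.node (.leaf [1534]) (.leaf [])))) (.node (.node (.node (.leaf [375]) (.leaf [2243])) (.node (.leaf [1178]) (.leaf [3433]))) (.node (.node (.leaf [904]) (.leaf [2920])) (.node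 (.leaf [1984]) (.leaf []))))) (.node (.node (.node (.node (.leaf [235]) (.leaf [2169])) (.node (.leaf [1040]) (.leaf [3328]))) (.node (.node (.leaf [662]) (.leaf [2797])) (.node (.leaf [1734]) (.leaf [])))) (.node (.node (.node (.leaf [488]) (.leaf [2689])) (.node (.leaf [1637]) (.leaf []))) (.node (.node (.leaf [1007]) (.leaf [3046])) (.node (.leaf [1953]) (.leaf []))))))))
    (.node (.node (.node (.node (.node (.node (.node (.leaf [15]) (.leaf [2061])) (.node (.leaf [1272]) (.leaf [3090]))) (.node (.node (.leaf [532]) (.leaf [2481])) (.node (.leaf [1676]) (.leaf [])))) (.node (.node (.node (.leaf [321]) (.leaf [2177])) (.node (.leaf [1077]) (.leaf [3352]))) (.node (.node (.leaf [681]) (.leaf [2841])) (.node (.leaf [1819]) (.leaf []))))) (.node (.node (.node (.node (.leaf [155]) (.leaf [2410])) (.node (.leaf [1400]) (.leaf [3209]))) (.node (.node (.leaf [751]) (.leaf [2567])) (.node (.leaf [1687]) (.leaf [])))) (.node (.node (.node (.leaf [408]) (.leaf [2594])) (.node (.leaf [1197]) (.leaf [3483]))) (.node (.node (.leaf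 [966]) (.leaf [2995])) (.node (.leaf [2045]) (.leaf [])))))) (.node (.node (.node (.node (.node (.leaf [96]) (.leaf [2245])) (.node (.leaf [1326]) (.leaf [3077]))) (.node (.node (.leaf [725]) (.leaf [2474])) (.node (.leaf [1511]) (.leaf [])))) (.node (.node (.node (.leaf [334]) (.leaf [2395])) (.node (.leaf [1154]) (.leaf [3449]))) (.node (.node (.leaf [822]) (.leaf [2940])) (.node (.leaf [1873]) (.leaf []))))) (.node (.node (.node (.node (.leaf [219]) (.leaf [2312])) (.node (.leaf [1064]) (.leaf [3252]))) (.node (.node (.leaf [615]) (.leaf [2785])) (.node (.leaf [1701]) (.leaf [])))) (.node (.node (.node (.leaf [502]) (.leaf [2551])) (.node (.leaf [1624]) (.leaf []))) (.node (.node (.leaf [986]) (.leaf [3041])) (.node (.leaf [2036]) (.leaf [])))))))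
     (.node (.node (.node (.node (.node (.node (.leaf [22]) (.leaf [2108])) (.node (.leaf [1313]) (.leaf [3106]))) (.node (.node (.leaf [576]) (.leaf [2496])) (.node (.leaf [1745]) (.leaf [])))) (.node (.node (.node (.leaf [315]) (.leaf [2296])) (.node (.leaf [1130]) (.leaf [3391]))) (.node (.node (.leaf [903]) (.leaf [2872])) (.node (.leaf [1907]) (.leaf []))))) (.node (.node (.node (.node (.leaf [187]) (.leaf [2334])) (.node (.leaf [1443]) (.leaf [3276]))) (.node (.node (.leaf [890]) (.leaf [2669])) (.node (.leaf [1697]) (.leaf [])))) (.node (.node (.node (.leaf [427]) (.leaf [2522])) (.node (.leaf [1219]) (.leaf []))) (.node (.node (.leaf [927]) (.leaf [3011])) (.node (.leaf [1900]) (.leaf [])))))) (.node (.node (.node (.node (.node (.leaf [112]) (.leaf [2286])) (.node (.leaf [1358]) (.leaf [3070]))) (.node (.node (.leaf [765]) (.leaf [2538])) (.node (.leaf [1551]) (.leaf [])))) (.node (.node (.node (.leaf [383]) (.leaf [2349])) (.node (.leaf [1182]) (.leaf [3451]))) (.node (.node (.leaf [707]) (.leaf [2913])) (.node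 (.leaf [1850]) (.leaf []))))) (.node (.node (.node (.node (.leaf [245]) (.leaf [2387])) (.node (.leaf [1053]) (.leaf [3303]))) (.node (.node (.leaf [633]) (.leaf [2781])) (.node (.leaf [1787]) (.leaf [])))) (.node (.node (.node (.leaf [479]) (.leaf [2505])) (.node (.leaf [1629]) (.leaf []))) (.node (.node (.leaf [1230]) (.leaf [3194])) (.node (.leaf [1969]) (.leaf []))))))))))
  (.node (.node (.node (.node (.node (.node (.node (.node (.node (.leaf [54]) (.leaf [1971])) (.node (.leaf [1240]) (.leaf [3113]))) (.node (.node (.leaf [536]) (.leaf [2715])) (.node (.leaf [1650]) (.leaf [])))) (.node (.node (.node (.leaf [233]) (.leaf [2188])) (.node (.leaf [1128]) (.leaf [3297]))) (.node (.node (.leaf [651]) (.leaf [2789])) (.node (.leaf [1801]) (.leaf []))))) (.node (.node (.node (.node (.leaf [1]) (.leaf [2353])) (.node (.leaf [1376]) (.leaf [3242]))) (.node (.node (.leaf [780]) (.leaf [2695])) (.node (.leaf [1568]) (.leaf [])))) (.node (.node (.node (.leaf [370]) (.leaf [2399])) (.node (.leaf [1206]) (.leaf [3455]))) (.node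 (.node (.leaf [827]) (.leaf [2951])) (.node (.leaf [1861]) (.leaf [])))))) (.node (.node (.node (.node (.node (.leaf [48]) (.leaf [2115])) (.node (.leaf [1329]) (.leaf [3143]))) (.node (.node (.leaf [710]) (.leaf [2727])) (.node (.leaf [1510]) (.leaf [])))) (.node (.node (.node (.leaf [277]) (.leaf [2436])) (.node (.leaf [1145]) (.leaf [3367]))) (.node (.node (.leaf [621]) (.leaf [2909])) (.node (.leaf [1878]) (.leaf []))))) (.node (.node (.node (.node (.leaf [194]) (.leaf [2212])) (.node (.leaf [1012]) (.leaf [3208]))) (.node (.node (.leaf [589]) (.leaf [2628])) (.node (.leaf [1772]) (.leaf [])))) (.node (.node (.node (.leaf [435]) (.leaf [2509])) (.node (.leaf [1474]) (.leaf []))) (.node (.node (.leaf [925]) (.leaf [2980])) (.node (.leaf [1896]) (.leaf [])))))))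
     (.node (.node (.node (.node (.node (.node (.leaf [39]) (.leaf [2085])) (.node (.leaf [1265]) (.leaf [3109]))) (.node (.node (.leaf [557]) (.leaf [2725])) (.node (.leaf [1708]) (.leaf [])))) (.node (.node (.node (.leaf [312]) (.leaf [2343])) (.node (.leaf [1090]) (.leaf [3399]))) (.node (.node (.leaf [810]) (.leaf [2858])) (.node (.leaf [1804]) (.leaf []))))) (.node (.node (.node (.node (.leaf [141]) (.leaf [2134])) (.node (.leaf [1429]) (.leaf [3221]))) (.node (.node (.leaf [794]) (.leaf [2631])) (.node (.leaf [1762]) (.leaf [])))) (.node (.node (.node (.leaf [442]) (.leaf [2597])) (.node (.leaf [1458]) (.leaf [3496]))) (.node (.node (.leaf [983]) (.leaf [3023])) (.node (.leaf [2041]) (.leaf [])))))) (.node (.node (.node (.node (.node (.leaf [103]) (.leaf [2224])) (.node (.leaf [1291]) (.leaf [3151]))) (.node (.node (.leaf [731]) (.leaf [2744])) (.node (.leaf [1533]) (.leaf [])))) (.node (.node (.node (.leaf [355]) (.leaf [2242])) (.node (.leaf [1383]) (.leaf [3425]))) (.node (.node (.leaf [871]) (.leaf [2938])) (.node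 (.leaf [1981]) (.leaf []))))) (.node (.node (.node (.node (.leaf [257]) (.leaf [2229])) (.node (.leaf [1036]) (.leaf [3323]))) (.node (.node (.leaf [607]) (.leaf [2824])) (.node (.leaf [1732]) (.leaf [])))) (.node (.node (.node (.leaf [506]) (.leaf [2703])) (.node (.leaf [1627]) (.leaf []))) (.node (.node (.leaf [1000]) (.leaf [3025])) (.node (.leaf [1975]) (.leaf []))))))))
    (.node (.node (.node (.node (.node (.node (.node (.leaf [23]) (.leaf [2077])) (.node (.leaf [1268]) (.leaf [3185]))) (.node (.node (.leaf [520]) (.leaf [2583])) (.node (.leaf [1667]) (.leaf [])))) (.node (.node (.node (.leaf [299]) (.leaf [2434])) (.node (.leaf [1073]) (.leaf [3361]))) (.node (.node (.leaf [680]) (.leaf [2847])) (.node (.leaf [1790]) (.leaf []))))) (.node (.node (.node (.node (.leaf [184]) (.leaf [2403])) (.node (.leaf [1396]) (.leaf [3229]))) (.node (.node (.leaf [746]) (.leaf [2711])) (.node (.leaf [1691]) (.leaf [])))) (.node (.node (.node (.leaf [400]) (.leaf [2453])) (.node (.leaf [1195]) (.leaf [3479]))) (.node (.node (.leaf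 [956]) (.leaf [3005])) (.node (.leaf [2001]) (.leaf [])))))) (.node (.node (.node (.node (.node (.leaf [101]) (.leaf [2217])) (.node (.leaf [1297]) (.leaf [3141]))) (.node (.node (.leaf [721]) (.leaf [2477])) (.node (.leaf [1503]) (.leaf [])))) (.node (.node (.node (.leaf [335]) (.leaf [2346])) (.node (.leaf [1457]) (.leaf [3388]))) (.node (.node (.leaf [855]) (.leaf [2899])) (.node (.leaf [1864]) (.leaf []))))) (.node (.node (.node (.node (.leaf [0]) (.leaf [2289])) (.node (.leaf [1070]) (.leaf [3249]))) (.node (.node (.leaf [609]) (.leaf [2777])) (.node (.leaf [1591]) (.leaf [])))) (.node (.node (.node (.leaf [513]) (.leaf [2519])) (.node (.leaf [1622]) (.leaf []))) (.node (.node (.leaf [935]) (.leaf [3032])) (.node (.leaf [2025]) (.leaf [])))))))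
     (.node (.node (.node (.node (.node (.node (.leaf [4]) (.leaf [2101])) (.node (.leaf [1309]) (.leaf [3120]))) (.node (.node (.leaf [564]) (.leaf [2467])) (.node (.leaf [1751]) (.leaf [])))) (.node (.node (.node (.leaf [293]) (.leaf [2191])) (.node (.leaf [1099]) (.leaf [3411]))) (.node (.node (.leaf [861]) (.leaf [2877])) (.node (.leaf [1911]) (.leaf []))))) (.node (.node (.node (.node (.leaf [148]) (.leaf [2285])) (.node (.leaf [1439]) (.leaf [3255]))) (.node (.node (.leaf [884]) (.leaf [2743])) (.node (.leaf [1693]) (.leaf [])))) (.node (.node (.node (.leaf [457]) (.leaf [2585])) (.node (.leaf [1217]) (.leaf []))) (.node (.node (.leaf [937]) (.leaf [2959])) (.node (.leaf [2023]) (.leaf [])))))) (.node (.node (.node (.node (.node (.leaf [127]) (.leaf [2260])) (.node (.leaf [1353]) (.leaf [3087]))) (.node (.node (.leaf [761]) (.leaf [2657])) (.node (.leaf [1548]) (.leaf [])))) (.node (.node (.node (.leaf [363]) (.leaf [2303])) (.node (.leaf [1170]) (.leaf [3418]))) (.node (.node (.leaf [698]) (.leaf [2931])) (.node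 (.leaf [1847]) (.leaf []))))) (.node (.node (.node (.node (.leaf [267]) (.leaf [2338])) (.node (.leaf [1048]) (.leaf [3301]))) (.node (.node (.leaf [629]) (.leaf [2794])) (.node (.leaf [1786]) (.leaf [])))) (.node (.node (.node (.leaf [484]) (.leaf [2523])) (.node (.leaf [1631]) (.leaf []))) (.node (.node (.leaf [1228]) (.leaf [3202])) (.node (.leaf [1965]) (.leaf [])))))))))
   (.node (.node (.node (.node (.node (.node (.node (.node (.leaf [27]) (.leaf [2076])) (.node (.leaf [1257]) (.leaf [3191]))) (.node (.node (.leaf [528]) (.leaf [2642])) (.node (.leaf [1659]) (.leaf [])))) (.node (.node (.node (.leaf [325]) (.leaf [2342])) (.node (.leaf [1123]) (.leaf [3343]))) (.node (.node (.leaf [650]) (.leaf [2816])) (.node (.leaf [1838]) (.leaf []))))) (.node (.node (.node (.node (.leaf [164]) (.leaf [2359])) (.node (.leaf [1388]) (.leaf [3261]))) (.node (.node (.leaf [845]) (.leaf [2535])) (.node (.leaf [1571]) (.leaf [])))) (.node (.node (.node (.leaf [402]) (.leaf [2447])) (.node (.leaf [1202]) (.leaf [3471]))) (.node (.node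 (.leaf [580]) (.leaf [2999])) (.node (.leaf [1941]) (.leaf [])))))) (.node (.node (.node (.node (.node (.leaf [94]) (.leaf [2130])) (.node (.leaf [1284]) (.leaf [3175]))) (.node (.node (.leaf [717]) (.leaf [2574])) (.node (.leaf [1504]) (.leaf [])))) (.node (.node (.node (.leaf [343]) (.leaf [2192])) (.node (.leaf [1150]) (.leaf [3373]))) (.node (.node (.leaf [802]) (.leaf [2896])) (.node (.leaf [1882]) (.leaf []))))) (.node (.node (.node (.node (.leaf [207]) (.leaf [2228])) (.node (.leaf [1023]) (.leaf [3244]))) (.node (.node (.leaf [600]) (.leaf [2767])) (.node (.leaf [1597]) (.leaf [])))) (.node (.node (.node (.leaf [525]) (.leaf [2517])) (.node (.leaf [1484]) (.leaf []))) (.node (.node (.leaf [943]) (.leaf [2983])) (.node (.leaf [1999]) (.leaf [])))))))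
     (.node (.node (.node (.node (.node (.node (.leaf [53]) (.leaf [2089])) (.node (.leaf [1248]) (.leaf [3082]))) (.node (.node (.leaf [552]) (.leaf [2494])) (.node (.leaf [1741]) (.leaf [])))) (.node (.node (.node (.leaf [278]) (.leaf [2435])) (.node (.leaf [1094]) (.leaf [3408]))) (.node (.node (.leaf [848]) (.leaf [2863])) (.node (.leaf [1825]) (.leaf []))))) (.node (.node (.node (.node (.leaf [175]) (.leaf [2150])) (.node (.leaf [1420]) (.leaf [3284]))) (.node (.node (.leaf [830]) (.leaf [2692])) (.node (.leaf [1579]) (.leaf [])))) (.node (.node (.node (.leaf [449]) (.leaf [2564])) (.node (.leaf [1445]) (.leaf [3504]))) (.node (.node (.leaf [975]) (.leaf [2968])) (.node (.leaf [2051]) (.leaf [])))))) (.node (.node (.node (.node (.node (.leaf [133]) (.leaf [2278])) (.node (.leaf [1345]) (.leaf [3183]))) (.node (.node (.leaf [841]) (.leaf [2671])) (.node (.leaf [1538]) (.leaf [])))) (.node (.node (.node (.leaf [389]) (.leaf [2206])) (.node (.leaf [1391]) (.leaf [3444]))) (.node (.node (.leaf [908]) (.leaf [2891])) (.node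 (.leaf [1992]) (.leaf []))))) (.node (.node (.node (.node (.leaf [252]) (.leaf [2168])) (.node (.leaf [1072]) (.leaf [3311]))) (.node (.node (.leaf [667]) (.leaf [2805])) (.node (.leaf [1775]) (.leaf [])))) (.node (.node (.node (.leaf [509]) (.leaf [2591])) (.node (.leaf [1633]) (.leaf []))) (.node (.node (.leaf [1003]) (.leaf [3028])) (.node (.leaf [2008]) (.leaf []))))))))
    (.node (.node (.node (.node (.node (.node (.node (.leaf [41]) (.leaf [2062])) (.node (.leaf [1277]) (.leaf [3172]))) (.node (.node (.leaf [473]) (.leaf [2543])) (.node (.leaf [1674]) (.leaf [])))) (.node (.node (.node (.leaf [304]) (.leaf [2189])) (.node (.leaf [1080]) (.leaf [3354]))) (.node (.node (.leaf [685]) (.leaf [2839])) (.node (.leaf [1802]) (.leaf []))))) (.node (.node (.node (.node (.leaf [159]) (.leaf [2414])) (.node (.leaf [1404]) (.leaf [3214]))) (.node (.node (.leaf [752]) (.leaf [2565])) (.node (.leaf [1722]) (.leaf [])))) (.node (.node (.node (.leaf [421]) (.leaf [2655])) (.node (.leaf [1207]) (.leaf [3486]))) (.node (.node (.leaf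 [955]) (.leaf [2986])) (.node (.leaf [2040]) (.leaf [])))))) (.node (.node (.node (.node (.node (.leaf [95]) (.leaf [2141])) (.node (.leaf [1286]) (.leaf [3132]))) (.node (.node (.leaf [743]) (.leaf [2463])) (.node (.leaf [1527]) (.leaf [])))) (.node (.node (.node (.leaf [340]) (.leaf [2439])) (.node (.leaf [1160]) (.leaf [3448]))) (.node (.node (.leaf [869]) (.leaf [2910])) (.node (.leaf [1868]) (.leaf []))))) (.node (.node (.node (.node (.leaf [218]) (.leaf [2385])) (.node (.leaf [1030]) (.leaf [3322]))) (.node (.node (.leaf [613]) (.leaf [2820])) (.node (.leaf [1700]) (.leaf [])))) (.node (.node (.node (.leaf [507]) (.leaf [2552])) (.node (.leaf [1623]) (.leaf []))) (.node (.node (.leaf [989]) (.leaf [3045])) (.node (.leaf [1964]) (.leaf [])))))))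
     (.node (.node (.node (.node (.node (.node (.leaf [14]) (.leaf [2112])) (.node (.leaf [1323]) (.leaf [3125]))) (.node (.node (.leaf [569]) (.leaf [2749])) (.node (.leaf [1781]) (.leaf [])))) (.node (.node (.node (.leaf [280]) (.leaf [2344])) (.node (.leaf [1133]) (.leaf [3387]))) (.node (.node (.leaf [686]) (.leaf [2879])) (.node (.leaf [1920]) (.leaf []))))) (.node (.node (.node (.node (.leaf [200]) (.leaf [2381])) (.node (.leaf [1461]) (.leaf [3263]))) (.node (.node (.leaf [889]) (.leaf [2625])) (.node (.leaf [1731]) (.leaf [])))) (.node (.node (.node (.leaf [447]) (.leaf [2592])) (.node (.leaf [1471]) (.leaf []))) (.node (.node (.leaf [920]) (.leaf [3007])) (.node (.leaf [1897]) (.leaf [])))))) (.node (.node (.node (.node (.node (.leaf [119]) (.leaf [2329])) (.node (.leaf [1360]) (.leaf [3064]))) (.node (.node (.leaf [769]) (.leaf [2731])) (.node (.leaf [1556]) (.leaf [])))) (.node (.node (.node (.leaf [379]) (.leaf [2396])) (.node (.leaf [1186]) (.leaf [3463]))) (.node (.node (.leaf [709]) (.leaf [2889])) (.node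 (.leaf [1877]) (.leaf []))))) (.node (.node (.node (.node (.leaf [226]) (.leaf [2423])) (.node (.leaf [1058]) (.leaf [3327]))) (.node (.node (.leaf [637]) (.leaf [2842])) (.node (.leaf [1817]) (.leaf [])))) (.node (.node (.node (.leaf [483]) (.leaf [2547])) (.node (.leaf [1642]) (.leaf []))) (.node (.node (.leaf [1231]) (.leaf [3197])) (.node (.leaf [1958]) (.leaf [])))))))))))))

end Cfsg.Agent.FischerPresented.Out22
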