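import Cfsg.Agent.Lib.FischerPresented.Fi22TwoCheck
import Cfsg.Agent.Lib.FischerPresented.Fi22OuterData
import Cfsg.Agent.Lib.FischerPresented.OutData

/-! Kernel checks for the outer involutions of presented Fi22. -/

set_option autoImplicit false
set_option maxRecDepth 100000

namespace Cfsg.Agent.FischerPresented.Fi22Outer

open Cfsg.Agent.CosetCert
open Cfsg.Agent.CosetData
open Cfsg.Agent.FischerPresented.Fi22Two

/-- The mirrored word. -/
def mirW (w : List ℕ) : List ℕ := w.map fun x => Out22.mirror.getD x 0

/-- The image of a word under the twisted symmetry. -/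
def tauW (w : List ℕ) : List ℕ := tW ++ mirW w ++ tW.reverse

/-- The square of the twisted symmetry. -/
def uW : List ℕ := tW ++ mirW tW

/-- All letters are generators. -/
def okW (w : List ℕ) : Bool := w.all fun x => Nat.blt x 9

theorem words_ok : (okW tW && (basisW.all okW && liftW.all okW)) = true := by decide +kernel

theorem tm_checked : (((List.range 10).all fun k =>
    eqW (tauW (basisW.getD k [])) (TwoCert.words basisW (TM.getD k 0))) &&
      (Nat.beq TM.length 10 && TM.all fun v => Nat.blt v 1024)) = true := by decide +kernel

/-- The squares for a block of representatives. -/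
noncomputable def sqBlock (r : ℕ) : Bool :=
  (List.range 32).all fun k =>
    (fun c => Nat.blt (c / 128) 1024 &&
      eqW (TwoCert.words liftW (r * 32 + k) ++ tauW (TwoCert.words liftW (r * 32 + k)) ++ uW)
        (TwoCert.words basisW (c / 128) ++ TwoCert.words liftW (c % 128)))
      (sqCode.getD (r * 32 + k) 0)

theorem sq0 : sqBlock 0 = true := by decide +kernel
theorem sq1 : sqBlock 1 = true := by decide +kernel
theorem sq2 : sqBlock 2 = true := by decide +kernel
theorem sq3 : sqBlock 3 = true := by decide +kernel

/-- The fixed transposition of one class member. -/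
noncomputable def repOK (i : ℕ) (r : ℕ × List ℕ) : Bool :=
  okW (dW r.2) && (Nat.blt r.1 1024 &&
    eqW ((TwoCert.words basisW r.1 ++ TwoCert.words liftW i) ++ tauW (dW r.2) ++
      (TwoCert.words basisW r.1 ++ TwoCert.words liftW i).reverse) (dW r.2))

/-- The entry for one representative. -/
noncomputable def outOK (e : ℕ × List ℕ × List (ℕ × List ℕ)) : Bool :=
  (e.2.1.all fun s => Nat.blt s 1024) && (e.2.2.all (repOK e.1)) &&
    (List.range 1024).all fun a =>
      (fun L k => !Nat.beq (Nat.xor (Nat.xor a (L a)) k) 0 ||
        e.2.2.any fun r => e.2.1.any fun s => Nat.beq a (Nat.xor (Nat.xor s r.1) (L s)))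
        (fun v => TwoCert.app (MT.getD e.1 []) (TwoCert.app TM v)) (sqCode.getD e.1 0 / 128)

theorem out_part0 : ((outerData.take 9).all outOK) = true := by decide +kernel
theorem out_part1 : (((outerData.drop 9).take 9).all outOK) = true := by decide +kernel
theorem out_part2 : (((outerData.drop 18).take 9).all outOK) = true := by decide +kernel
theorem out_part3 : ((outerData.drop 27).all outOK) = true := by decide +kernel

/-- Whether a representative can carry an involution. -/
noncomputable def idxBlock (r : ℕ) : Bool :=
  (List.range 32).all fun k =>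
    (outerData.any fun e => Nat.beq e.1 (r * 32 + k)) ||
    (!Nat.beq (sqCode.getD (r * 32 + k) 0 % 128) 0 ||
      (List.range 1024).all fun a => !Nat.beq (Nat.xor (Nat.xor a
        (TwoCert.app (MT.getD (r * 32 + k) []) (TwoCert.app TM a))) (sqCode.getD (r * 32 + k) 0 / 128)) 0)

theorem idx0 : idxBlock 0 = true := by decide +kernel
theorem idx1 : idxBlock 1 = true := by decide +kernel
theorem idx2 : idxBlock 2 = true := by decide +kernel
theorem idx3 : idxBlock 3 = true := by decide +kernel

theorem tz_checked : (okW (dW zW) && eqW (tauW [0]) (dW zW)) = true := by decide +kernel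

theorem mir_lt : ((List.range 9).all fun x => Nat.blt (Out22.mirror.getD x 0) 9 &&
    Nat.beq (Out22.mirror.getD (Out22.mirror.getD x 0) 0) x) = true := by decide +kernel

end Cfsg.Agent.FischerPresented.Fi22Outer
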