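import Cfsg.Agent.Lib.FischerPresented.OutClass

/-!
The automorphism group of the presented Fi22 has order at most twice the order of the group.
-/

set_option autoImplicit false
set_option maxRecDepth 100000

namespace Cfsg.Agent.FischerPresented.Out22

open Cfsg.Agent.CosetCert
open Cfsg.Agent.CosetData
open Cfsg.Agent.FischerPresented.Fi22Class (z)

local notation "FS" => Fi22B.setup

instance finite_aut : Finite (MulAut (Setup.G FS)) :=
  haveI := Fi22.order_facts.1
  Finite.of_injective (fun φ : MulAut (Setup.G FS) => φ.toEquiv) fun _ _ h => MulEquiv.ext fun a => congrArg (fun e : Setup.G FS ≃ Setup.G FS => e a) h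

/-- Number of indices below a bound passing a test. -/
def countBelow (f : ℕ → Bool) (m : ℕ) : ℕ := Nat.rec 0 (fun i r => bif f i then r + 1 else r) m

theorem countBelow_eq (f : ℕ → Bool) (m : ℕ) : countBelow f m = {p : Fin m | f p = true}.ncard := by
  rw [Set.ncard_eq_toFinset_card', Set.toFinset_setOf, Finset.card_filter,
    Fin.sum_univ_eq_sum_range (fun i => if f i = true then 1 else 0) m]
  induction m with
  | zero => rfl
  | succ m ih =>
    rw [Finset.sum_range_succ, ← ih]
    show (bif f m then countBelow f m + 1 else countBelow f m) = _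
    cases f m <;> simp

theorem allBelow_intro {f : ℕ → Bool} : ∀ {m : ℕ}, (∀ i < m, f i = true) → allBelow f m = true
  | 0, _ => rfl
  | m + 1, h => by
    show Bool.rec false (allBelow f m) (f m) = true
    rw [h m (Nat.lt_succ_self m)]
    exact allBelow_intro fun i hi => h i (Nat.lt_succ_of_lt hi)

/-- Whether the table entry fixes a coset. -/
noncomputable def fixG (y p : ℕ) : Bool := Nat.beq (Fi22B.P.T.get (p * 9 + y)) p

/-- The cosets fixed by the first generators and by a word. -/
noncomputable def cntN (x : ℕ) (w : List ℕ) : ℕ :=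
  countBelow (fun p => allBelow (fun y => fixG y p) x && Nat.beq (tact Fi22B.P w p) p) 3510

/-- The agreement of a coset with the pattern of a generator. -/
noncomputable def patOK (x q : ℕ) : Bool :=
  allBelow (fun y => !(Nat.beq q (gpt y)) && (if fixG y q then fixG y (gpt x) else !(fixG y (gpt x)))) x

/-- The refined test. -/
noncomputable def refOK (x q : ℕ) : Bool :=
  if x = 4 ∨ x = 6 ∨ x = 7 then
    match candW.find? fun e => Nat.beq e.1 q with
    | some e => Nat.beq (cntN x (e.2.reverse ++ [0] ++ e.2)) (cntN x [x])
    | none => true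
  else true

/-- The possible images of a generator. -/
noncomputable def keep (x q : ℕ) : Bool := patOK x q && refOK x q

theorem candW_ok : (candW.all fun e =>
    (e.2.all fun x => Nat.blt x 9) && Nat.beq (tact Fi22B.P e.2 0) e.1) = true := by
  decide +kernel

theorem keep_ok : allBelow (fun x => Nat.ble (countBelow (keep x) 3510) (candN.getD x 0)) 9 = true := by
  decide +kernel

theorem candN_prod : (candN.getD 0 0 * candN.getD 1 0 * candN.getD 2 0 * candN.getD 3 0 * candN.getD 4 0 *
    candN.getD 5 0 * candN.getD 6 0 * candN.getD 7 0 * candN.getD 8 0) = 2 * 64561751654400 := by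
  decide +kernel

/-- Automorphisms fixing the first generators. -/
def fixer (x : ℕ) : Subgroup (MulAut (Setup.G FS)) where
  carrier := {φ | ∀ y < x, φ (Setup.gen FS y) = Setup.gen FS y}
  one_mem' := fun _ _ => rfl
  mul_mem' := fun {a b} ha hb y hy => by rw [MulAut.mul_apply, hb y hy, ha y hy]
  inv_mem' := fun {a} ha y hy => by
    refine a.injective ?_
    rw [MulAut.apply_inv_self, ha y hy]

theorem commute_map_iff (φ : MulAut (Setup.G FS)) (a b : Setup.G FS) :
    Commute (φ a) (φ b) ↔ Commute a b :=
  ⟨fun h => φ.injective (by rw [map_mul, map_mul]; exact h.eq), fun h => h.map φ⟩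

theorem fixG_iff {y : ℕ} (hy : y < 9) (p : Fin 3510) :
    fixG y p = true ↔ Commute (Setup.gen FS y) (tr p) := by
  rw [← fix_iff, fixG, Nat.beq_eq, ← hom_gen_val hy]
  exact (Fin.ext_iff).symm

theorem keep_of_aut {x : ℕ} (hx : x < 9) {φ : MulAut (Setup.G FS)} (hφ : φ ∈ fixer x) {q : Fin 3510}
    (hq : φ (Setup.gen FS x) = tr q) : keep x q = true := by
  obtain ⟨hxl, hxp⟩ := tr_gpt hx
  rw [keep, Bool.and_eq_true]
  constructor
  · have key : ∀ y < x, (!(Nat.beq (q : ℕ) (gpt y)) &&
        (if fixG y q then fixG y (gpt x) else !(fixG y (gpt x)))) = true := by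
      intro y hy
      obtain ⟨hyl, hyp⟩ := tr_gpt (hy.trans hx)
      rw [Bool.and_eq_true]
      constructor
      · rw [Bool.not_eq_true', ← Bool.not_eq_true, Nat.beq_eq]
        intro h
        have e : φ (Setup.gen FS x) = φ (Setup.gen FS y) := by
          rw [hq, hφ y hy, ← hyp]
          exact congrArg tr (Fin.ext h)
        have e2 := φ.injective e
        rw [← hxp, ← hyp] at e2
        have hne : allBelow (fun x => allBelow (fun y => !(Nat.beq (gpt x) (gpt y))) x) 9 = true := by
          decide +kernel
        have h2 := allBelow_spec (allBelow_spec hne hx) hy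
        rw [Bool.not_eq_true', ← Bool.not_eq_true, Nat.beq_eq] at h2
        exact h2 (congrArg Fin.val (tr_injective e2))
      · have e : fixG y q = true ↔ fixG y (⟨gpt x, hxl⟩ : Fin 3510) = true := by
          rw [fixG_iff (hy.trans hx), fixG_iff (hy.trans hx), ← hq, hxp]
          conv_lhs => rw [← hφ y hy]
          exact commute_map_iff φ _ _
        cases h1 : fixG y q <;> cases h2 : fixG y (gpt x) <;> simp_all
    exact allBelow_intro key
  · rw [refOK]
    split_ifs
    · split
      · rename_i e he
        have hmem := List.mem_of_find?_eq_some he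
        have heq := List.find?_some he
        rw [Nat.beq_eq] at heq
        have hok := List.all_eq_true.1 candW_ok e hmem
        rw [Bool.and_eq_true, Nat.beq_eq, heq] at hok
        have hw := tr_word hok.1 hok.2
        set W := e.2.reverse ++ [0] ++ e.2 with hW
        have hWl : (W.all fun t => Nat.blt t 9) = true := by
          have h1 := List.all_eq_true.1 hok.1
          rw [List.all_eq_true]
          intro t ht
          simp only [hW, List.mem_append, List.mem_reverse, List.mem_singleton] at ht
          rcases ht with (ht | rfl) | ht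
          · exact h1 t ht
          · rfl
          · exact h1 t ht
        have hWr : W.reverse = W := by simp [hW]
        have cnt : ∀ (V : List ℕ), (V.all fun t => Nat.blt t 9) = true → V.reverse = V →
            cntN x V = {p : Fin 3510 | (∀ y < x, Commute (Setup.gen FS y) (tr p)) ∧
              Commute (wprod (Setup.gen FS) V) (tr p)}.ncard := by
          intro V hV hVr
          rw [cntN, countBelow_eq]
          refine congrArg Set.ncard (Set.ext fun p => ?_)
          simp only [Set.mem_setOf_eq, Bool.and_eq_true]
          refine and_congr ⟨fun h y hy => (fixG_iff (hy.trans hx) p).1 (allBelow_spec h hy), fun h => ?_⟩ ?_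
          · exact allBelow_intro fun m hm => (fixG_iff (hm.trans hx) p).2 (h m hm)
          · rw [← fix_iff, Nat.beq_eq]
            have h1 := hom_word hV p
            rw [hVr] at h1
            rw [← h1]
            exact Fin.ext_iff.symm
        rw [Nat.beq_eq, cnt W hWl hWr, cnt [x] (by simp [Nat.blt_eq, hx]) rfl, wprod_cons, wprod_nil, mul_one,
          ← hw, ← hq]
        have hex : ∀ p : Fin 3510, ∃ r, tr r = φ (tr p) := fun p => exists_tr (aut_mem_D φ (tr_mem p))
        choose π hπ using hex
        have hπi : Function.Injective π := fun a b h => tr_injective (φ.injective (by rw [← hπ, ← hπ, h]))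
        have hπs : Function.Surjective π := Finite.surjective_of_injective hπi
        rw [← Set.ncard_image_of_injective {p : Fin 3510 | (∀ y < x, Commute (Setup.gen FS y) (tr p)) ∧
          Commute (Setup.gen FS x) (tr p)} hπi]
        refine congrArg Set.ncard (Set.ext fun r => ?_)
        obtain ⟨p, rfl⟩ := hπs r
        rw [hπi.mem_set_image]
        simp only [Set.mem_setOf_eq]
        refine and_congr (forall_congr' fun y => imp_congr_right fun hy => ?_) ?_
        · rw [hπ]
          conv_lhs => rw [← hφ y hy]
          exact commute_map_iff φ _ _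
        · rw [hπ]
          exact commute_map_iff φ _ _
      · rfl
    · rfl

theorem fixer_le {x : ℕ} (hx : x < 9) :
    Nat.card (fixer x) ≤ candN.getD x 0 * Nat.card (fixer (x + 1)) := by
  have h := Subgroup.index_mul_card (MulAction.stabilizer (fixer x) (Setup.gen FS x))
  rw [MulAction.index_stabilizer] at h
  rw [← h]
  refine Nat.mul_le_mul ?_ ?_
  · refine le_trans ?_ (Nat.le_of_ble_eq_true (allBelow_spec keep_ok hx))
    rw [countBelow_eq, ← Set.ncard_image_of_injective _ tr_injective]
    refine Set.ncard_le_ncard ?_ (Set.toFinite _)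
    rintro _ ⟨⟨φ, hφ⟩, rfl⟩
    obtain ⟨q, hq⟩ := exists_tr (d := φ (Setup.gen FS x)) (aut_mem_D φ (d := Setup.gen FS x) (by
      obtain ⟨hl, hp⟩ := tr_gpt hx
      rw [← hp]
      exact tr_mem _))
    exact ⟨q, keep_of_aut hx hφ hq.symm, hq⟩
  · refine Nat.card_le_card_of_injective
      (fun φ : MulAction.stabilizer (fixer x) (Setup.gen FS x) =>
        (⟨(φ : fixer x).1, fun y hy => ?_⟩ : fixer (x + 1))) ?_
    · rcases Nat.lt_succ_iff_lt_or_eq.1 hy with h | h
      · exact φ.1.2 y h
      · rw [h]; exact φ.2
    · intro a b hab
      exact Subtype.ext (Subtype.ext (congrArg (fun t : fixer (x + 1) => (t : MulAut (Setup.G FS))) hab))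

theorem card_aut_le : Nat.card (MulAut (Setup.G FS)) ≤ 2 * 64561751654400 := by
  have h9 : Nat.card (fixer 9) ≤ 1 := by
    have : fixer 9 = ⊥ := by
      rw [eq_bot_iff]
      intro φ hφ
      rw [Subgroup.mem_bot]
      refine MulEquiv.ext fun g => ?_
      exact DFunLike.congr_fun (MonoidHom.eq_of_eqOn_dense (Setup.closure_gen FS)
        (f := φ.toMonoidHom) (g := MonoidHom.id _) (by rintro _ ⟨y, hy, rfl⟩; exact hφ y hy)) g
    rw [this]
    simp
  have h0 : fixer 0 = ⊤ := eq_top_iff.2 fun φ _ y hy => absurd hy (Nat.not_lt_zero y)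
  rw [← Subgroup.card_top, ← h0, ← candN_prod]
  have step : ∀ (x : ℕ) (m : ℕ), x < 9 → Nat.card (fixer (x + 1)) ≤ m →
      Nat.card (fixer x) ≤ candN.getD x 0 * m := fun x m hx h =>
    (fixer_le hx).trans (Nat.mul_le_mul_left _ h)
  refine le_trans (step 0 _ (by norm_num) (step 1 _ (by norm_num) (step 2 _ (by norm_num) (step 3 _ (by norm_num)
    (step 4 _ (by norm_num) (step 5 _ (by norm_num) (step 6 _ (by norm_num) (step 7 _ (by norm_num)
      (step 8 _ (by norm_num) h9))))))))) ?_
  exact le_of_eq (by ring)

end Cfsg.Agent.FischerPresented.Out22
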