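import Cfsg.Prelude.Def_KGroupFacts
import Cfsg.Agent.Lib.FischerPresented.OutBound

/-!
The diagram symmetry of the presented Fi22 is outer, so the outer automorphism group has order two.
-/

set_option autoImplicit false
set_option maxRecDepth 100000

namespace Cfsg.Agent.FischerPresented.Out22

open Cfsg.Agent.CosetCert
open Cfsg.Agent.CosetData
open Cfsg.Agent.FischerPresented.Fi22Class (z)

local notation "FS" => Fi22B.setup

/-- The mirrored index. -/
def mir (x : ℕ) : ℕ := mirror.getD x 0

theorem mir_ok : allBelow (fun x => Nat.blt (mir x) 9 && Nat.beq (mir (mir x)) x) 9 = true := by decide +kernel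

theorem mirror_rels : (Fi22B.setup.base.all fun w =>
    wordFixPts Fi22B.P 3510 Fi22.pts (w.map mir)) = true := by decide +kernel

theorem exists_sigma : ∃ σ : MulAut (Setup.G FS), ∀ x < 9, σ (Setup.gen FS x) = Setup.gen FS (mir x) := by
  obtain ⟨ψ, hψ⟩ := Setup.exists_hom FS (fun x => Setup.gen FS (mir x)) (fun x => Setup.gen_invol FS _)
    (fun w hw => by
      have h := Fi22.word_one (List.all_eq_true.1 mirror_rels w hw)
      rw [wprod, List.map_map] at h
      exact h)
  have h2 : ψ.comp ψ = MonoidHom.id _ := by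
    refine MonoidHom.eq_of_eqOn_dense (Setup.closure_gen FS) ?_
    rintro _ ⟨x, hx, rfl⟩
    have hm := allBelow_spec mir_ok (show x < 9 from hx)
    rw [Bool.and_eq_true, Nat.blt_eq, Nat.beq_eq] at hm
    show ψ (ψ (Setup.gen FS x)) = _
    rw [hψ x hx, hψ _ hm.1, hm.2]
    rfl
  exact ⟨MonoidHom.toMulEquiv ψ ψ h2 h2, hψ⟩

/-- The effect of the symmetry on cosets. -/
noncomputable def sigPt (p : ℕ) : ℕ := (sigTab.get p).getD 0 0

theorem sigPt_ok : (Nat.beq (sigPt 0) (gpt 6) && allBelow (fun p => Nat.blt (sigPt p) 3510 &&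
    Nat.beq (sigPt (sigPt p)) p && allBelow (fun x =>
      Nat.beq (sigPt (Fi22B.P.T.get (p * 9 + x))) (Fi22B.P.T.get (sigPt p * 9 + mir x))) 9) 3510) = true := by
  decide +kernel

theorem sig_fixed : countBelow (fun p => Nat.beq (sigPt p) p) 3510 = 360 := by decide +kernel

/-- The symmetry of the cosets. -/
noncomputable def sigF (p : Fin 3510) : Fin 3510 :=
  ⟨sigPt p, by
    have h := sigPt_ok
    rw [Bool.and_eq_true] at h
    have := allBelow_spec h.2 p.2
    simp only [Bool.and_eq_true, Nat.blt_eq] at this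
    exact this.1.1⟩

theorem sign_hom (g : Setup.G FS) : Equiv.Perm.sign (hm g) = 1 := by
  have := Fi22.isSimpleGroup
  let f := (Equiv.Perm.sign).comp (hm)
  rcases (inferInstance : f.ker.Normal).eq_bot_or_eq_top with h | h
  · exfalso
    have := Fi22.order_facts.1
    have hinj : Function.Injective f := (MonoidHom.ker_eq_bot_iff f).1 h
    have h2 := Nat.card_le_card_of_injective f hinj
    rw [Fi22.order_facts.2.1, Nat.card_eq_fintype_card, Fintype.card_units_int] at h2
    norm_num at h2
  · exact MonoidHom.mem_ker.1 (h.ge (Subgroup.mem_top g))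

theorem not_inner {σ : MulAut (Setup.G FS)} (hσ : ∀ x < 9, σ (Setup.gen FS x) = Setup.gen FS (mir x)) :
    σ ∉ Cfsg.Inn (Setup.G FS) := by
  rintro ⟨g, hgσ⟩
  have hconj : ∀ x < 9, g * Setup.gen FS x * g⁻¹ = Setup.gen FS (mir x) := fun x hx => by
    rw [← hσ x hx, ← hgσ]; rfl
  obtain ⟨h0, hall⟩ := Bool.and_eq_true _ _ ▸ sigPt_ok
  have hbase : hm g (0 : Fin 3510) = sigF 0 := by
    obtain ⟨h6, e6⟩ := tr_gpt (show 6 < 9 by norm_num)
    refine tr_injective ?_
    rw [tr_hom, tr_zero, show sigF 0 = ⟨gpt 6, h6⟩ from Fin.ext (Nat.eq_of_beq_eq_true h0), e6]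
    exact hconj 0 (by norm_num)
  have hstep : ∀ (x : ℕ), x < 9 → ∀ p : Fin 3510, hm g p = sigF p →
      hm g (hm (Setup.gen FS x) p) = sigF (hm (Setup.gen FS x) p) := by
    intro x hx p hp
    have hmir := allBelow_spec mir_ok hx
    rw [Bool.and_eq_true, Nat.blt_eq] at hmir
    rw [← hom_mul_apply, show g * Setup.gen FS x = Setup.gen FS (mir x) * g by
      rw [← hconj x hx, inv_mul_cancel_right], hom_mul_apply, hp]
    have h := allBelow_spec hall p.2
    simp only [Bool.and_eq_true] at h
    have h' := Nat.eq_of_beq_eq_true (allBelow_spec h.2 hx)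
    refine Fin.ext ?_
    rw [hom_gen_val hmir.1]
    show _ = sigPt (hm (Setup.gen FS x) p : Fin 3510)
    rw [hom_gen_val hx]
    exact h'.symm
  have heq : ∀ p, hm g p = sigF p := by
    have key : ∀ (a : Setup.G FS) (p : Fin 3510), hm g p = sigF p →
        hm g (hm a p) = sigF (hm a p) := by
      intro a
      have ha : a ∈ Subgroup.closure (Setup.gen FS '' {x | x < 9}) := Setup.closure_gen FS ▸ Subgroup.mem_top a
      induction ha using Subgroup.closure_induction'' with
      | mem y hy => obtain ⟨x, hx, rfl⟩ := hy; exact hstep x hx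
      | inv_mem y hy =>
        obtain ⟨x, hx, rfl⟩ := hy
        rw [inv_eq_of_mul_eq_one_right (Setup.gen_invol FS x)]
        exact hstep x hx
      | one => intro p hp; rw [map_one]; exact hp
      | mul a b _ _ iha ihb => intro p hp; rw [hom_mul_apply]; exact iha _ (ihb p hp)
    intro p
    obtain ⟨a, ha⟩ := exists_hom_zero p
    rw [← ha]
    exact key a _ hbase
  have hsq : hm g ^ 2 = 1 := by
    refine Equiv.ext fun p => Fin.ext ?_
    have h := allBelow_spec hall p.2
    simp only [Bool.and_eq_true] at h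
    rw [sq, Equiv.Perm.mul_apply, heq, heq]
    exact Nat.eq_of_beq_eq_true h.1.2
  have hfix : Fintype.card (Function.fixedPoints (hm g)) = 360 := by
    rw [← Nat.card_eq_fintype_card, Nat.card_coe_set_eq]
    refine Eq.trans ?_ sig_fixed
    rw [countBelow_eq]
    refine congrArg Set.ncard (Set.ext fun p => ?_)
    show hm g p = p ↔ Nat.beq (sigPt p) p = true
    rw [heq, Fin.ext_iff, Nat.beq_eq]
    rfl
  have hs := sign_hom g
  rw [Equiv.Perm.sign_of_pow_two_eq_one hsq, hfix, Fintype.card_fin] at hs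
  exact absurd hs (by decide)

theorem card_out : Nat.card (Cfsg.Out (Setup.G FS)) = 2 := by
  have := Fi22.order_facts.1
  have := Fi22.isSimpleGroup
  show Nat.card (MulAut (Setup.G FS) ⧸ Cfsg.Inn (Setup.G FS)) = 2
  rw [← Subgroup.index_eq_card]
  have hinn : Nat.card (Cfsg.Inn (Setup.G FS)) = 64561751654400 := by
    have hinj : Function.Injective (MulAut.conj : Setup.G FS →* MulAut (Setup.G FS)) := by
      rw [← MonoidHom.ker_eq_bot_iff]
      refine ((MonoidHom.normal_ker _).eq_bot_or_eq_top).resolve_right fun h => ?_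
      have hz : MulAut.conj z = 1 := MonoidHom.mem_ker.1 (h ▸ Subgroup.mem_top z)
      have hall : ∀ x, z * x * z⁻¹ = x := fun x => DFunLike.congr_fun hz x
      have htop : Subgroup.centralizer ({z} : Set (Setup.G FS)) = ⊤ := by
        refine eq_top_iff.2 fun x _ => Subgroup.mem_centralizer_iff.2 ?_
        rintro _ rfl
        exact mul_inv_eq_iff_eq_mul.1 (hall x)
      rw [Fi22Class.centralizer_z] at htop
      have := Fi22Class.exists_frame.1
      rw [htop, Subgroup.index_top] at this
      norm_num at this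
    rw [← Fi22.order_facts.2.1]
    exact (Nat.card_congr (MonoidHom.ofInjective hinj).toEquiv).symm
  obtain ⟨σ, hσ⟩ := exists_sigma
  have h := Subgroup.card_mul_index (Cfsg.Inn (Setup.G FS))
  rw [hinn] at h
  have hle := card_aut_le
  rw [← h] at hle
  have h1 : (Cfsg.Inn (Setup.G FS)).index ≠ 1 := fun e => by
    refine not_inner hσ ?_
    rw [Subgroup.index_eq_one.1 e]
    exact Subgroup.mem_top σ
  have h0 : (Cfsg.Inn (Setup.G FS)).index ≠ 0 := Subgroup.index_ne_zero_of_finite
  omega

end Cfsg.Agent.FischerPresented.Out22
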