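import Cfsg.Agent.Lib.FischerPresented.Fi22Two
import Cfsg.Agent.Lib.FischerPresented.Fi22OuterCheck
import Cfsg.Agent.Lib.FischerPresented.OutSigma

/-!
A Sylow 2-subgroup of the automorphism group of presented Fi22, and the fixed transposition of an involution.
-/

set_option autoImplicit false
set_option maxRecDepth 100000

namespace Cfsg.Agent.FischerPresented.Fi22Outer

open Cfsg.Agent.CosetCert
open Cfsg.Agent.CosetData
open Cfsg.Agent.FischerPresented.Fi22Two

local notation "S" => Fi22B.setup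
local notation "G₀" => Setup.G Fi22B.setup
local notation "wp" => wprod (Setup.gen Fi22B.setup)

/-- The diagram symmetry. -/
noncomputable def sigma : MulAut G₀ := Out22.exists_sigma.choose

theorem sigma_gen {x : ℕ} (hx : x < 9) :
    sigma (Setup.gen S x) = Setup.gen S (Out22.mir x) :=
  Out22.exists_sigma.choose_spec x hx

theorem okW_iff {w : List ℕ} : okW w = true ↔ ∀ x ∈ w, x < 9 := by simp [okW, List.all_eq_true]

theorem sigma_word : ∀ {w : List ℕ}, okW w = true → sigma (wp w) = wp (mirW w) := by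
  intro w hw
  rw [okW_iff] at hw
  induction w with
  | nil => simp [wprod, mirW]
  | cons x w ih =>
    have e1 : wp (x :: w) = Setup.gen S x * wp w := by simp [wprod]
    have e2 : wp (mirW (x :: w)) = Setup.gen S (Out22.mir x) * wp (mirW w) := by
      simp [wprod, mirW, Out22.mir]
    rw [e1, e2, map_mul, sigma_gen (hw x (List.mem_cons_self ..)),
      ih fun y hy => hw y (List.mem_cons_of_mem _ hy)]

theorem sigma_sigma (y : G₀) : sigma (sigma y) = y := by
  have h : sigma.toMonoidHom.comp sigma.toMonoidHom = MonoidHom.id G₀ := by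
    refine MonoidHom.eq_of_eqOn_dense (Setup.closure_gen S) ?_
    rintro _ ⟨x, hx, rfl⟩
    have hm := List.all_eq_true.1 mir_lt x (List.mem_range.2 hx)
    simp only [Bool.and_eq_true, Nat.blt_eq, Nat.beq_eq] at hm
    show sigma (sigma (Setup.gen S x)) = _
    rw [sigma_gen hx, sigma_gen (show Out22.mir x < 9 from hm.1)]
    show Setup.gen S (Out22.mirror.getD (Out22.mirror.getD x 0) 0) = _
    rw [hm.2]
    rfl
  exact DFunLike.congr_fun h y

/-- The symmetry normalising the chosen Sylow subgroup. -/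
noncomputable def tau : MulAut G₀ := MulAut.conj (wp tW) * sigma

theorem tau_apply (y : G₀) : tau y = wp tW * sigma y * (wp tW)⁻¹ := rfl

theorem tau_word {w : List ℕ} (hw : okW w = true) : tau (wp w) = wp (tauW w) := by
  rw [tau_apply, sigma_word hw, tauW, wprod_append, wprod_append, wprod_reverse (Setup.gen_invol S)]

theorem tau_tau (y : G₀) : tau (tau y) = wp uW * y * (wp uW)⁻¹ := by
  have ht := words_ok
  simp only [Bool.and_eq_true] at ht
  rw [tau_apply, tau_apply y, map_mul, map_mul, sigma_sigma, map_inv, sigma_word ht.1, uW, wprod_append]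
  group

theorem not_inner : tau ∉ Cfsg.Inn G₀ := fun h =>
  Out22.not_inner (σ := sigma) (fun x hx => sigma_gen hx) (by
    have := mul_mem (inv_mem (⟨wp tW, rfl⟩ : MulAut.conj (wp tW) ∈ Cfsg.Inn G₀)) h
    rwa [tau, inv_mul_cancel_left] at this)

theorem words_okW {l : List (List ℕ)} (hl : l.all okW = true) : ∀ a, okW (TwoCert.words l a) = true := by
  induction l with
  | nil => intro a; rfl
  | cons w l ih =>
    intro a
    rw [List.all_cons, Bool.and_eq_true] at hl
    have h2 := ih hl.2 (a / 2)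
    rw [okW_iff] at h2 ⊢
    intro x hx
    simp only [TwoCert.words, List.mem_append] at hx
    rcases hx with hx | hx
    · split at hx
      · exact okW_iff.1 hl.1 x hx
      · simp at hx
    · exact h2 x hx

theorem tau_va (a : ℕ) : tau (sys.va a) = sys.va (TwoCert.app TM a) := by
  have ht := words_ok
  have hm := tm_checked
  simp only [Bool.and_eq_true, Nat.beq_eq] at ht hm
  show tau.toMonoidHom (TwoCert.val sys.es a) = TwoCert.val sys.es _
  rw [TwoCert.val_map, ← TwoCert.val_app sys.basis_sq sys.basis_comm TM a]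
  have hl : (basisW.map fun w => wp w).length = 10 := by rw [List.length_map]; rfl
  congr 1
  refine List.ext_getElem (by simp [sys, hm.2.1, show basisW.length = 10 from rfl]) fun k k1 k2 => ?_
  have hk : k < 10 := by
    rw [List.length_map] at k2
    omega
  have := eq_of_eqW (List.all_eq_true.1 hm.1 k (List.mem_range.2 hk))
  rw [List.getD_eq_getElem _ _ (show k < basisW.length from hk),
    List.getD_eq_getElem _ _ (show k < TM.length by omega), wp_words] at this
  simp only [List.getElem_map, sys]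
  refine Eq.trans ?_ this
  exact tau_word (List.all_eq_true.1 ht.2.1 _ (List.getElem_mem _))

theorem sv_tau {i : ℕ} (hi : i < 128) : sqCode.getD i 0 / 128 < 1024 ∧
    sys.sv i * tau (sys.sv i) * wp uW =
      sys.va (sqCode.getD i 0 / 128) * sys.sv (sqCode.getD i 0 % 128) := by
  have ht := words_ok
  simp only [Bool.and_eq_true] at ht
  have h : ∀ r < 4, sqBlock r = true := by
    intro r hr
    interval_cases r
    exacts [sq0, sq1, sq2, sq3]
  have hh := List.all_eq_true.1 (h (i / 32) (by omega)) (i % 32) (List.mem_range.2 (by omega))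
  rw [show i / 32 * 32 + i % 32 = i by omega] at hh
  simp only [Bool.and_eq_true, Nat.blt_eq] at hh
  refine ⟨hh.1, ?_⟩
  have := eq_of_eqW hh.2
  rw [wprod_append, wprod_append, wprod_append, ← va_eq, ← sv_eq, ← sv_eq,
    ← tau_word (words_okW ht.2.2 i), ← sv_eq] at this
  exact this

theorem va_mem {a : ℕ} (ha : a < 1024) : sys.va a ∈ T0 := by
  have := Fi22.order_facts.1
  exact A0_le ⟨a, ha, rfl⟩

theorem sv_mem {i : ℕ} (hi : i < 128) : sys.sv i ∈ T0 :=
  ⟨0, Nat.two_pow_pos _, i, hi, by rw [TwoCert.Sys.va_zero, one_mul]⟩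

theorem uW_mem : wp uW ∈ T0 := by
  obtain ⟨hc, h⟩ := sv_tau (show 0 < 128 by norm_num)
  rw [TwoCert.Sys.sv_zero, map_one, one_mul, one_mul] at h
  rw [h]
  exact mul_mem (va_mem hc) (sv_mem (Nat.mod_lt _ (by norm_num)))

theorem tm_lt (a : ℕ) : TwoCert.app TM a < 1024 := by
  have hm := tm_checked
  simp only [Bool.and_eq_true, List.all_eq_true, Nat.blt_eq] at hm
  exact TwoCert.app_lt (n := 10) hm.2.2 a

theorem tau_T0 {y : G₀} (hy : y ∈ T0) : tau y ∈ T0 := by
  obtain ⟨a, -, i, hi : i < 128, rfl⟩ := hy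
  rw [map_mul, tau_va]
  refine mul_mem (va_mem (tm_lt a)) ?_
  obtain ⟨hc, h⟩ := sv_tau hi
  have e : tau (sys.sv i) =
      (sys.sv i)⁻¹ * (sys.va (sqCode.getD i 0 / 128) * sys.sv (sqCode.getD i 0 % 128)) * (wp uW)⁻¹ := by
    rw [← h]; group
  rw [e]
  exact mul_mem (mul_mem (inv_mem (sv_mem hi)) (mul_mem (va_mem hc) (sv_mem (Nat.mod_lt _ (by norm_num)))))
    (inv_mem uW_mem)

theorem conj_inj {x y : G₀} (h : MulAut.conj x = MulAut.conj y) : x = y := by
  have := Fi22.order_facts.1
  have := Fi22.isSimpleGroup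
  have hinj : Function.Injective (MulAut.conj : G₀ →* MulAut G₀) := by
    rw [← MonoidHom.ker_eq_bot_iff]
    refine ((MonoidHom.normal_ker _).eq_bot_or_eq_top).resolve_right fun hk => ?_
    have hz : MulAut.conj Fi22Class.z = 1 :=
      MonoidHom.mem_ker.1 (hk ▸ Subgroup.mem_top Fi22Class.z)
    have htop : Subgroup.centralizer ({Fi22Class.z} : Set G₀) = ⊤ := by
      refine eq_top_iff.2 fun x _ => Subgroup.mem_centralizer_iff.2 ?_
      rintro _ rfl
      exact mul_inv_eq_iff_eq_mul.1 (DFunLike.congr_fun hz x)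
    rw [Fi22Class.centralizer_z] at htop
    have := Fi22Class.exists_frame.1
    rw [htop, Subgroup.index_top] at this
    norm_num at this
  exact hinj h

theorem tau_conj (y : G₀) : tau * MulAut.conj y = MulAut.conj (tau y) * tau := by
  ext v
  simp [MulAut.mul_apply, MulAut.conj_apply]

theorem tau_mul_tau : tau * tau = MulAut.conj (wp uW) := by
  ext v
  exact tau_tau v

/-- The extended Sylow subgroup. -/
noncomputable def PT : Subgroup (MulAut G₀) where
  carrier := {x | ∃ t ∈ T0, x = MulAut.conj t ∨ x = MulAut.conj t * tau}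
  one_mem' := ⟨1, one_mem _, Or.inl (map_one _).symm⟩
  mul_mem' := by
    rintro _ _ ⟨s, hs, rfl | rfl⟩ ⟨t, ht, rfl | rfl⟩
    · exact ⟨s * t, mul_mem hs ht, Or.inl (map_mul _ _ _).symm⟩
    · exact ⟨s * t, mul_mem hs ht, Or.inr (by rw [map_mul, mul_assoc])⟩
    · exact ⟨s * tau t, mul_mem hs (tau_T0 ht), Or.inr (by rw [map_mul, mul_assoc, tau_conj, mul_assoc])⟩
    · refine ⟨s * tau t * wp uW, mul_mem (mul_mem hs (tau_T0 ht)) uW_mem, Or.inl ?_⟩
      rw [map_mul, map_mul, mul_assoc _ tau, ← mul_assoc tau, tau_conj, mul_assoc _ tau tau, tau_mul_tau,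
        mul_assoc]
  inv_mem' := by
    rintro _ ⟨t, ht, rfl | rfl⟩
    · exact ⟨t⁻¹, inv_mem ht, Or.inl (map_inv _ _).symm⟩
    · refine ⟨(wp uW)⁻¹ * tau t⁻¹, mul_mem (inv_mem uW_mem) (tau_T0 (inv_mem ht)), Or.inr ?_⟩
      rw [mul_inv_rev, map_mul, map_inv MulAut.conj (wp uW), ← tau_mul_tau, ← map_inv, mul_assoc (tau * tau)⁻¹,
        ← tau_conj, mul_inv_rev, mul_assoc, inv_mul_cancel_left]

theorem mem_conj_inn (t : G₀) : MulAut.conj t ∈ Cfsg.Inn G₀ := ⟨t, rfl⟩

theorem card_PT : Nat.card PT = 2 ^ 18 := by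
  have := Fi22.order_facts.1
  let f : T0 × Bool → PT := fun p =>
    ⟨if p.2 then MulAut.conj (p.1 : G₀) * tau else MulAut.conj (p.1 : G₀), p.1, p.1.2, by
      cases p.2 <;> simp⟩
  have hf : Function.Bijective f := by
    refine ⟨?_, ?_⟩
    · rintro ⟨s, b⟩ ⟨t, c⟩ h
      have h' := congrArg Subtype.val h
      cases b <;> cases c <;> simp only [f, if_true, if_false, Bool.false_eq_true] at h'
      · exact Prod.ext (Subtype.ext (conj_inj h')) rfl
      · exact absurd (show tau ∈ Cfsg.Inn G₀ by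
          rw [← inv_mul_cancel_left (MulAut.conj (t : G₀)) tau, ← h']
          exact mul_mem (inv_mem (mem_conj_inn _)) (mem_conj_inn _)) not_inner
      · exact absurd (show tau ∈ Cfsg.Inn G₀ by
          rw [← inv_mul_cancel_left (MulAut.conj (s : G₀)) tau, h']
          exact mul_mem (inv_mem (mem_conj_inn _)) (mem_conj_inn _)) not_inner
      · exact Prod.ext (Subtype.ext (conj_inj (mul_right_cancel h'))) rfl
    · rintro ⟨x, t, ht, rfl | rfl⟩
      · exact ⟨(⟨t, ht⟩, false), rfl⟩
      · exact ⟨(⟨t, ht⟩, true), rfl⟩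
  rw [← Nat.card_congr (Equiv.ofBijective f hf), Nat.card_prod, card_T0, Nat.card_eq_fintype_card,
    Fintype.card_bool, ← pow_succ]

theorem card_aut : Nat.card (MulAut G₀) = 2 ^ 18 * 492567075 := by
  have := Fi22.order_facts.1
  have h1 : Nat.card (Cfsg.Inn G₀) = 64561751654400 := by
    rw [← Fi22.order_facts.2.1]
    exact (Nat.card_congr (MonoidHom.ofInjective
      (f := (MulAut.conj : G₀ →* MulAut G₀)) fun x y => conj_inj).toEquiv).symm
  have h2 : (Cfsg.Inn G₀).index = 2 := by
    rw [Subgroup.index_eq_card]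
    exact Out22.card_out
  rw [← Subgroup.card_mul_index (Cfsg.Inn G₀), h1, h2]; norm_num

theorem sylow_conj_aut (φ : MulAut G₀) (hφ : orderOf φ = 2) :
    ∃ h ψ : MulAut G₀, ψ ∈ PT ∧ φ = h * ψ * h⁻¹ := by
  have := Fi22.order_facts.1
  have : Fact (Nat.Prime 2) := ⟨Nat.prime_two⟩
  have hfac : Nat.card PT = 2 ^ (Nat.card (MulAut G₀)).factorization 2 := by
    rw [card_PT, card_aut]
    congr 1
    rw [Nat.factorization_mul (by norm_num) (by norm_num), Finsupp.add_apply,
      Nat.Prime.factorization_pow Nat.prime_two, Finsupp.single_eq_same,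
      Nat.factorization_eq_zero_of_not_dvd (by norm_num)]
  have hp : IsPGroup 2 (Subgroup.zpowers φ) :=
    IsPGroup.of_card (n := 1) (by rw [Nat.card_zpowers, hφ, pow_one])
  obtain ⟨Q, hQ⟩ := hp.exists_le_sylow
  obtain ⟨h, hh⟩ := MulAction.exists_smul_eq (MulAut G₀) (Sylow.ofCard PT hfac) Q
  have hmem : φ ∈ PT.map (MulAut.conj h).toMonoidHom := by
    have := hQ (Subgroup.mem_zpowers φ)
    rw [← hh] at this
    exact this
  obtain ⟨ψ, hψ, e⟩ := hmem
  exact ⟨h, ψ, hψ, e.symm⟩

theorem outer_fix {t : G₀} (ht : t ∈ T0) (hsq : MulAut.conj t * tau * (MulAut.conj t * tau) = 1) :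
    ∃ d ∈ Fi22Class.D, (MulAut.conj t * tau) d = d := by
  have := Fi22.order_facts.1
  obtain ⟨a, ha : a < 1024, i, hi : i < 128, rfl⟩ := ht
  have hone : sys.va a * sys.sv i * tau (sys.va a * sys.sv i) * wp uW = 1 := by
    refine conj_inj ?_
    rw [map_one, ← hsq, map_mul MulAut.conj _ (wp uW), map_mul MulAut.conj _ (tau _), ← tau_mul_tau,
      mul_assoc, ← mul_assoc (MulAut.conj (tau _)) tau tau, ← tau_conj]
    simp only [mul_assoc]
  obtain ⟨hc, hsv⟩ := sv_tau hi
  set c := sqCode.getD i 0 / 128 with hcdef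
  set r := sqCode.getD i 0 % 128 with hrdef
  have hM : TwoCert.act sys.GM i (TwoCert.app TM a) < 1024 := sys.act_lt i _ (tm_lt a)
  have hprod : sys.va (a ^^^ TwoCert.act sys.GM i (TwoCert.app TM a) ^^^ c) * sys.sv r =
      sys.va 0 * sys.sv 0 := by
    rw [TwoCert.Sys.va_xor, TwoCert.Sys.va_xor, mul_assoc, ← hsv, TwoCert.Sys.va_zero,
      TwoCert.Sys.sv_zero, one_mul, ← hone, map_mul, tau_va]
    calc sys.va a * sys.va (TwoCert.act sys.GM i (TwoCert.app TM a)) * (sys.sv i * tau (sys.sv i) * wp uW)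
        = sys.va a * (sys.va (TwoCert.act sys.GM i (TwoCert.app TM a)) * sys.sv i) *
            tau (sys.sv i) * wp uW := by group
      _ = _ := by rw [← TwoCert.Sys.sv_mul_va]; group
  obtain ⟨h0, hr0⟩ := sys.coords_unique (Nat.xor_lt_two_pow (Nat.xor_lt_two_pow ha hM) hc)
    (Nat.two_pow_pos _) (Nat.mod_lt _ (show 0 < 128 by norm_num)) sys.pos hprod
  have happ : ∀ v, v < 1024 → TwoCert.app (MT.getD i []) v = TwoCert.act sys.GM i v :=
    fun v hv => sys.app_table hi hv
  have hb : ∀ q < 4, idxBlock q = true := by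
    intro q hq
    interval_cases q
    exacts [idx0, idx1, idx2, idx3]
  have hidx := List.all_eq_true.1 (hb (i / 32) (by omega)) (i % 32) (List.mem_range.2 (by omega))
  rw [show i / 32 * 32 + i % 32 = i by omega] at hidx
  simp only [Bool.or_eq_true, List.any_eq_true, Nat.beq_eq, Bool.not_eq_true', List.all_eq_true,
    List.mem_range] at hidx
  rcases hidx with ⟨e, he, hei⟩ | h | h
  swap
  · exact absurd hr0 (Nat.ne_of_beq_eq_false h)
  swap
  · have := Nat.ne_of_beq_eq_false (h a ha)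
    rw [happ _ (tm_lt a)] at this
    exact absurd h0 this
  subst hei
  have hok : outOK e = true := by
    have hsplit : outerData = outerData.take 9 ++ ((outerData.drop 9).take 9 ++
        ((outerData.drop 18).take 9 ++ outerData.drop 27)) := rfl
    rw [hsplit] at he
    simp only [List.mem_append] at he
    rcases he with h | h | h | h
    · exact List.all_eq_true.1 out_part0 e h
    · exact List.all_eq_true.1 out_part1 e h
    · exact List.all_eq_true.1 out_part2 e h
    · exact List.all_eq_true.1 out_part3 e h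
  simp only [outOK, repOK, Bool.and_eq_true, Nat.blt_eq, List.all_eq_true, List.mem_range,
    Bool.or_eq_true, Bool.not_eq_true', List.any_eq_true, Nat.beq_eq] at hok
  obtain ⟨⟨hB, hreps⟩, hcov⟩ := hok
  rcases hcov a ha with h | ⟨q, hq, s, hs, hA⟩
  · have := Nat.ne_of_beq_eq_false h
    rw [happ _ (tm_lt a)] at this
    exact absurd h0 this
  obtain ⟨hokd, hq1, hew⟩ := hreps q hq
  refine ⟨sys.va s * dEl q.2 * (sys.va s)⁻¹, ?_, ?_⟩
  · obtain ⟨k, hk⟩ := Fi22Class.mem_D.1 (dEl_mem q.2)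
    exact Fi22Class.mem_D.2 ⟨sys.va s * k, by rw [← hk]; group⟩
  · have hd := eq_of_eqW hew
    rw [wprod_append, wprod_append, wprod_reverse (Setup.gen_invol S), wprod_append, ← va_eq, ← sv_eq,
      ← tau_word hokd] at hd
    rw [happ _ (tm_lt s)] at hA
    change a = s ^^^ q.1 ^^^ TwoCert.act sys.GM e.1 (TwoCert.app TM s) at hA
    show sys.va a * sys.sv e.1 * tau (sys.va s * dEl q.2 * (sys.va s)⁻¹) * (sys.va a * sys.sv e.1)⁻¹ = _
    have key : sys.va a * sys.sv e.1 * tau (sys.va s) = sys.va s * (sys.va q.1 * sys.sv e.1) := by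
      rw [tau_va, mul_assoc, sys.sv_mul_va, ← mul_assoc, ← TwoCert.Sys.va_xor, hA, Nat.xor_assoc,
        Nat.xor_self, Nat.xor_zero, TwoCert.Sys.va_xor, mul_assoc]
    rw [map_mul, map_mul, map_inv]
    calc sys.va a * sys.sv e.1 * (tau (sys.va s) * tau (dEl q.2) * (tau (sys.va s))⁻¹) *
          (sys.va a * sys.sv e.1)⁻¹
        = (sys.va a * sys.sv e.1 * tau (sys.va s)) * tau (dEl q.2) *
            (sys.va a * sys.sv e.1 * tau (sys.va s))⁻¹ := by group
      _ = sys.va s * (sys.va q.1 * sys.sv e.1 * tau (dEl q.2) * (sys.va q.1 * sys.sv e.1)⁻¹) *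
            (sys.va s)⁻¹ := by rw [key]; group
      _ = sys.va s * dEl q.2 * (sys.va s)⁻¹ := by
          simp only [dEl] at hd ⊢
          rw [hd]

theorem tau_z : tau Fi22Class.z ∈ Fi22Class.D := by
  have h := tz_checked
  simp only [Bool.and_eq_true] at h
  have e := eq_of_eqW h.2
  rw [← tau_word (w := [0]) rfl, show wp [0] = Fi22Class.z by simp [Fi22Class.z, wprod]] at e
  rw [e]
  exact dEl_mem zW

theorem aut_cases (f : MulAut G₀) : ∃ g, f = MulAut.conj g ∨ f = MulAut.conj g * tau := by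
  have h2 : (Cfsg.Inn G₀).index = 2 := by
    rw [Subgroup.index_eq_card]
    exact Out22.card_out
  by_cases hf : f ∈ Cfsg.Inn G₀
  · obtain ⟨g, hg⟩ := hf
    exact ⟨g, Or.inl hg.symm⟩
  · have : f * tau⁻¹ ∈ Cfsg.Inn G₀ := by
      rw [Subgroup.mul_mem_iff_of_index_two h2, inv_mem_iff]
      exact iff_of_false hf not_inner
    obtain ⟨g, hg⟩ := this
    exact ⟨g, Or.inr (by rw [show MulAut.conj g = _ from hg]; group)⟩

theorem aut_D (f : MulAut G₀) {d : G₀} (hd : d ∈ Fi22Class.D) : f d ∈ Fi22Class.D := by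
  obtain ⟨k, rfl⟩ := Fi22Class.mem_D.1 hd
  obtain ⟨j, hj⟩ := Fi22Class.mem_D.1 tau_z
  obtain ⟨g, rfl | rfl⟩ := aut_cases f
  · exact Fi22Class.mem_D.2 ⟨g * k, by simp only [MulAut.conj_apply]; group⟩
  · refine Fi22Class.mem_D.2 ⟨g * tau k * j, ?_⟩
    simp only [MulAut.mul_apply, MulAut.conj_apply, map_mul, map_inv]
    rw [← hj]
    group

/-- Every involution of the automorphism group fixes a transposition. -/
theorem fixes_some (φ : MulAut G₀) (hφ : orderOf φ = 2) : ∃ d ∈ Fi22Class.D, φ d = d := by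
  have := Fi22.order_facts.1
  suffices h : ∀ ψ ∈ PT, orderOf ψ = 2 → ∃ d ∈ Fi22Class.D, ψ d = d by
    obtain ⟨g, ψ, hψ, rfl⟩ := sylow_conj_aut φ hφ
    obtain ⟨d, hd, e⟩ := h ψ hψ (by
      rw [← hφ]; exact (orderOf_injective (MulAut.conj g).toMonoidHom (MulEquiv.injective (MulAut.conj g)) ψ).symm)
    refine ⟨g d, aut_D g hd, ?_⟩
    simp only [MulAut.mul_apply, MulAut.inv_apply_self, e]
  rintro ψ ⟨t, ht, rfl | rfl⟩ ho
  · rw [orderOf_injective (MulAut.conj : G₀ →* MulAut G₀) (fun x y => conj_inj)] at ho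
    obtain ⟨l, h1, -, hl, rfl⟩ := exists_factors t ho
    obtain ⟨a, l, rfl⟩ := List.exists_cons_of_length_pos h1
    refine ⟨a, hl.2.1 a (List.mem_cons_self ..), ?_⟩
    have hc : Commute a (a :: l).prod :=
      Commute.list_prod_right _ a fun b hb => hl.2.2 a (List.mem_cons_self ..) b hb
    rw [MulAut.conj_apply, ← hc.eq, mul_inv_cancel_right]
  · exact outer_fix ht (by rw [← sq, ← ho, pow_orderOf_eq_one])

end Cfsg.Agent.FischerPresented.Fi22Outer
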