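import Cfsg.Prelude.Def_Classical
import Cfsg.Agent.Lib.AutPSU.FourTwo.Main
import Cfsg.Agent.Lib.Orthogonal.Counts

/-!
The Coxeter group of type E6 is the isometry group of the elliptic quadratic form in dimension six over
the field with two elements.
-/

set_option autoImplicit false
set_option maxRecDepth 100000

namespace Cfsg.Agent.WE6Orth

open Matrix
open Cfsg.Agent.AutPSU.FourTwo (cox)

local notation "Wg" => CoxeterMatrix.E₆.Group

/-- The index type. -/
abbrev I6 := (Fin 2 ⊕ Fin 2) ⊕ Fin 2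

/-- The form. -/
abbrev q6 : (I6 → ZMod 2) → ZMod 2 := Cfsg.quadFormMinus 2 (ZMod 2) 1 1

/-- The isometry group. -/
abbrev O6 := Cfsg.isometryGroup (ZMod 2) q6

/-- Six non-singular vectors forming a diagram of type E6. -/
def root (i : Fin 6) : I6 → ZMod 2 := fun k =>
  (![![0, 0, 0, 0, 0, 1], ![0, 0, 0, 1, 0, 1], ![0, 1, 0, 0, 1, 0], ![0, 1, 0, 0, 0, 1],
    ![0, 0, 1, 1, 0, 1], ![1, 0, 1, 0, 0, 0]] : Fin 6 → Fin 6 → ZMod 2) i
    (Sum.elim (Sum.elim (fun a => ⟨a.1, by omega⟩) (fun a => ⟨2 + a.1, by omega⟩)) (fun a => ⟨4 + a.1, by omega⟩) k)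

/-- The polar form. -/
def bf (u v : I6 → ZMod 2) : ZMod 2 := q6 (u + v) + q6 u + q6 v

/-- The orthogonal transvection of a root, as a matrix. -/
def mT (i : Fin 6) : Matrix I6 I6 (ZMod 2) := Matrix.of fun a b => (if a = b then 1 else 0) + root i a * bf (Pi.single b 1) (root i)

theorem mT_sq : ∀ i, mT i * mT i = 1 := by decide +kernel

theorem mT_form : ∀ i, ∀ v, q6 (mT i *ᵥ v) = q6 v := by decide +kernel

/-- The transvections as isometries. -/
def refl (i : Fin 6) : O6 :=
  ⟨⟨mT i, mT i, mT_sq i, mT_sq i⟩, fun v _ => mT_form i v⟩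

theorem rel_checked : ∀ i i', (mT i * mT i') ^ CoxeterMatrix.E₆.M i i' = 1 := by decide +kernel

theorem liftable : CoxeterMatrix.E₆.IsLiftable refl := fun i i' => by
  refine Subtype.ext (Units.ext ?_)
  rw [SubmonoidClass.coe_pow, Units.val_pow_eq_pow_val]
  exact rel_checked i i'

theorem aniso : ∀ z₁ z₂ : ZMod 2, z₁ ^ 2 + 1 * z₁ * z₂ + 1 * z₂ ^ 2 = 0 → z₁ = 0 ∧ z₂ = 0 := by decide

theorem card_O6 : Nat.card O6 = 51840 := by
  rw [Orth.card_isometryGroup (Orth.qMinus (ZMod 2) 2 1 1) (Orth.coe_qMinus 2 1 1),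
    Orth.card_oGroup_qMinus aniso]
  simp [Finset.prod_range_succ]

theorem exists_F4 : ∃ (F : Type) (_ : Field F) (_ : Fintype F), Fintype.card F = 4 := by
  haveI : Fact (Nat.Prime 2) := ⟨Nat.prime_two⟩
  haveI : Fintype (GaloisField 2 2) := Fintype.ofFinite _
  exact ⟨GaloisField 2 2, inferInstance, inferInstance, by
    rw [← Nat.card_eq_fintype_card, GaloisField.card 2 2 (by norm_num)]; norm_num⟩

theorem moved : mT 0 * mT 1 ≠ 1 := by decide +kernel

/-- The Coxeter group of type E6 is the isometry group. -/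
theorem nonempty_equiv : Nonempty (Wg ≃* O6) := by
  obtain ⟨F, hFF, hFt, hF⟩ := exists_F4
  set f : Wg →* O6 := cox.lift ⟨refl, liftable⟩ with hf
  have hinj : Function.Injective f := by
    rw [← MonoidHom.ker_eq_bot_iff]
    by_contra hne
    have h := (AutPSU.FourTwo.normal_dichotomy hF f.ker hne).1 [0, 1] rfl
    rw [MonoidHom.mem_ker, CoxeterSystem.wordProd_cons, CoxeterSystem.wordProd_singleton, map_mul, hf,
      CoxeterSystem.lift_apply_simple, CoxeterSystem.lift_apply_simple] at h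
    exact moved (congrArg (fun g : O6 => ((g : GL I6 (ZMod 2)) : Matrix I6 I6 (ZMod 2))) h)
  haveI : Finite O6 := inferInstance
  exact ⟨MulEquiv.ofBijective f ((Nat.bijective_iff_injective_and_card f).2
    ⟨hinj, by rw [AutPSU.FourTwo.card_W, card_O6]⟩)⟩

end Cfsg.Agent.WE6Orth
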