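import Cfsg.Prelude.Def_Classical
import Cfsg.Agent.Lib.RigidGraph.He.FieldFour
import Mathlib.FieldTheory.Finite.Basic
import Mathlib.FieldTheory.Finite.GaloisField
import Mathlib.GroupTheory.QuotientGroup.Basic

/-! Transport of PSU₆(2) between fields with four elements, in any universe. -/

set_option autoImplicit false

namespace Cfsg.Agent.FischerPresented.U62

open Cfsg.Agent.RigidGraph.He

/-- Field transport of the unitary group. -/
theorem nonempty_psu_six_model {F : Type*} [Field F] [Fintype F] (hF : Fintype.card F = 4) :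
    Nonempty (Cfsg.PSU 6 F 2 ≃* Cfsg.PSU 6 K4 2) := by
  have e : F ≃+* K4 := FiniteField.ringEquivOfCardEq (by rw [hF, K4.card_K4])
  have hh : ∀ (A : Matrix.SpecialLinearGroup (Fin 6) F) (u : Fin 6 → F),
      (Cfsg.slToMat 6 K4 (Matrix.SpecialLinearGroup.map e.toRingHom A)).mulVec (fun i => e (u i)) =
      fun i => e ((Cfsg.slToMat 6 F A).mulVec u i) := by
    intro A u
    funext i
    show ((Matrix.SpecialLinearGroup.map e.toRingHom A : Matrix.SpecialLinearGroup (Fin 6) K4) :
        Matrix (Fin 6) (Fin 6) K4).mulVec (fun i => e (u i)) i = e ((A : Matrix (Fin 6) (Fin 6) F).mulVec u i)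
    simp [Matrix.mulVec, dotProduct, map_sum]
  have hform : ∀ u v : Fin 6 → F, Cfsg.hermForm 6 K4 2 (fun i => e (u i)) (fun i => e (v i)) =
      e (Cfsg.hermForm 6 F 2 u v) := fun u v => by simp [Cfsg.hermForm, map_sum]
  have hinv : ∀ A : Matrix.SpecialLinearGroup (Fin 6) F,
      Matrix.SpecialLinearGroup.map e.toRingHom A ∈ Cfsg.SU 6 K4 2 ↔ A ∈ Cfsg.SU 6 F 2 := by
    intro A
    constructor
    · intro h u v
      refine e.injective ?_
      rw [← hform, ← hform]
      have h' := h (fun i => e (u i)) (fun i => e (v i))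
      change Cfsg.hermForm 6 K4 2 (Matrix.mulVec _ _) (Matrix.mulVec _ _) = _ at h'
      rw [hh, hh] at h'
      exact h'
    · intro h u v
      have eu : ∀ w : Fin 6 → K4, (fun i => e (e.symm (w i))) = w := fun w => funext fun i => e.apply_symm_apply _
      rw [← eu u, ← eu v]
      show Cfsg.hermForm 6 K4 2 (Matrix.mulVec _ _) (Matrix.mulVec _ _) = _
      rw [hh, hh, hform, hform]
      exact congrArg e (h _ _)
  let f : Cfsg.SU 6 F 2 →* Cfsg.SU 6 K4 2 :=
    ((Matrix.SpecialLinearGroup.map e.toRingHom).comp (Cfsg.SU 6 F 2).subtype).codRestrict _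
      fun A => (hinv _).2 A.2
  have hcomp : ∀ A : Matrix.SpecialLinearGroup (Fin 6) K4,
      Matrix.SpecialLinearGroup.map e.toRingHom (Matrix.SpecialLinearGroup.map e.symm.toRingHom A) = A := fun A => by
    ext i j; simp
  have hb : Function.Bijective f := by
    constructor
    · intro A B h
      have := congrArg (fun X : Cfsg.SU 6 K4 2 =>
        Matrix.SpecialLinearGroup.map e.symm.toRingHom X.1) h
      refine Subtype.ext ?_
      ext i j
      have := congrArg (fun X : Matrix.SpecialLinearGroup (Fin 6) F => (X : Matrix (Fin 6) (Fin 6) F) i j) this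
      simpa [f] using this
    · intro B
      refine ⟨⟨Matrix.SpecialLinearGroup.map e.symm.toRingHom B.1, (hinv _).1 ?_⟩, Subtype.ext (hcomp _)⟩
      rw [hcomp]; exact B.2
  let E := MulEquiv.ofBijective f hb
  have hcen : (Subgroup.center (Cfsg.SU 6 F 2)).map E.toMonoidHom = Subgroup.center (Cfsg.SU 6 K4 2) := by
    ext x
    simp only [Subgroup.mem_map, Subgroup.mem_center_iff]
    constructor
    · rintro ⟨y, hy, rfl⟩ g
      obtain ⟨g, rfl⟩ := E.surjective g
      exact (map_mul E g y).symm.trans ((congrArg E (hy g)).trans (map_mul E y g))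
    · intro hx
      refine ⟨E.symm x, fun g => E.injective ?_, E.apply_symm_apply x⟩
      rw [map_mul, map_mul, E.apply_symm_apply]
      exact hx (E g)
  exact ⟨QuotientGroup.congr _ _ E hcen⟩

end Cfsg.Agent.FischerPresented.U62
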