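import Cfsg.Agent.Lib.Compute.CosetCert

/-! The 693 isotropic points of the unitary space of dimension 6 over the field of 4 elements. -/

set_option autoImplicit false
set_option maxRecDepth 100000

namespace Cfsg.Agent.FischerPresented.U62

open Cfsg.Agent.CosetCert

/-- Rows of the matrices of the nine subgroup generators, entries coded by digits. -/
def mats : List (List (List ℕ)) := [
  [[1, 0, 0, 0, 0, 0], [0, 1, 0, 0, 0, 0], [0, 0, 1, 0, 0, 0], [0, 0, 0, 1, 0, 0], [0, 0, 0, 0, 1, 0], [0, 0, 0, 0, 0, 1]],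
  [[1, 0, 0, 0, 0, 0], [0, 1, 0, 0, 0, 0], [0, 0, 1, 0, 0, 0], [0, 0, 0, 1, 0, 0], [0, 0, 0, 0, 0, 1], [0, 0, 0, 0, 1, 0]],
  [[1, 0, 0, 0, 0, 0], [0, 1, 0, 0, 0, 0], [0, 0, 1, 0, 0, 0], [0, 0, 0, 1, 0, 0], [0, 0, 0, 0, 0, 3], [0, 0, 0, 0, 2, 0]],
  [[1, 0, 0, 0, 0, 0], [0, 1, 0, 0, 0, 0], [0, 0, 0, 1, 1, 1], [0, 0, 1, 0, 1, 1], [0, 0, 1, 1, 0, 1], [0, 0, 1, 1, 1, 0]],
  [[1, 0, 0, 0, 0, 0], [0, 1, 0, 0, 0, 0], [0, 0, 0, 3, 0, 0], [0, 0, 2, 0, 0, 0], [0, 0, 0, 0, 1, 0], [0, 0, 0, 0, 0, 1]],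
  [[1, 0, 0, 0, 0, 0], [0, 1, 0, 0, 0, 0], [0, 0, 0, 1, 0, 0], [0, 0, 1, 0, 0, 0], [0, 0, 0, 0, 1, 0], [0, 0, 0, 0, 0, 1]],
  [[0, 1, 0, 0, 1, 1], [1, 0, 0, 0, 1, 1], [0, 0, 1, 0, 0, 0], [0, 0, 0, 1, 0, 0], [1, 1, 0, 0, 0, 1], [1, 1, 0, 0, 1, 0]],
  [[0, 3, 0, 0, 0, 0], [2, 0, 0, 0, 0, 0], [0, 0, 1, 0, 0, 0], [0, 0, 0, 1, 0, 0], [0, 0, 0, 0, 1, 0], [0, 0, 0, 0, 0, 1]],
  [[0, 1, 3, 3, 0, 0], [1, 0, 3, 3, 0, 0], [2, 2, 0, 1, 0, 0], [2, 2, 1, 0, 0, 0], [0, 0, 0, 0, 1, 0], [0, 0, 0, 0, 0, 1]]]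

/-- Seven cosets whose points form a frame. -/
def frame : List ℕ := [443, 1389, 1026, 1053, 3197, 1388, 1823]

/-- The unit vectors in terms of the first six frame points. -/
def unitCoef : List (List ℕ) := [[2, 2, 0, 3, 1, 0], [1, 0, 0, 2, 3, 3], [1, 1, 0, 1, 3, 0], [1, 3, 2, 1, 0, 0], [3, 0, 3, 1, 3, 2], [2, 1, 3, 2, 2, 0]]

/-- The seventh frame point in terms of the first six. -/
def lastCoef : List ℕ := [3, 1, 1, 3, 1, 1]

/-- Subgroup generators whose product to the seventh power is the central transposition. -/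
def evenWord : List ℕ := [1, 4, 1, 6, 7, 1, 8, 4, 2, 8, 6, 3, 6, 2]

/-- The point of each coset in the orbit (empty outside it). -/
def pointTab : WTab :=
  (.node (.node (.node (.node (.node (.node (.node (.node (.node (.node (.node (.node (.leaf []) (.leaf [1, 3, 0, 1, 0, 1])) (.node (.leaf [0, 1, 0, 2, 1, 2]) (.leaf []))) (.leaf [])) (.node (.node (.node (.leaf []) (.leaf [1, 1, 1, 0, 0, 3])) (.leaf [])) (.leaf []))) (.node (.node (.node (.node (.leaf [1, 2, 1, 2, 0, 0]) (.leaf [])) (.node (.leaf [1, 0, 0, 2, 2, 3]) (.leaf [0, 0, 1, 0, 0, 1]))) (.leaf [])) (.node (.node (.node (.leaf [0, 1, 1, 3, 1, 0]) (.leaf [])) (.leaf [])) (.node (.leaf []) (.node (.leaf [1, 3, 2, 2, 3, 3]) (.leaf [])))))) (.node (.node (.node (.node (.node (.leaf []) (.leaf [1, 3, 2, 1, 1, 1])) (.leaf [])) (.node (.node (.leaf []) (.leaf [1, 3, 2, 1, 3, 1])) (.leaf []))) (.node (.leaf []) (.node (.leaf []) (.node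 (.leaf [1, 3, 3, 2, 3, 3]) (.leaf []))))) (.node (.node (.leaf []) (.node (.node (.leaf [1, 2, 0, 1, 2, 0]) (.leaf [])) (.leaf []))) (.node (.node (.node (.leaf [1, 3, 0, 0, 1, 1]) (.leaf [])) (.leaf [])) (.leaf [])))))
     (.node (.node (.node (.node (.node (.leaf []) (.node (.leaf [1, 0, 1, 0, 0, 0]) (.leaf []))) (.node (.leaf []) (.node (.leaf [0, 1, 2, 0, 1, 3]) (.leaf [])))) (.leaf [])) (.node (.node (.node (.node (.leaf [1, 3, 2, 3, 3, 2]) (.leaf [1, 1, 2, 3, 2, 2])) (.leaf [])) (.node (.node (.leaf [1, 2, 1, 2, 3, 2]) (.leaf [])) (.leaf []))) (.node (.node (.node (.leaf [0, 1, 2, 0, 3, 2]) (.leaf [])) (.leaf [])) (.leaf [])))) (.node (.node (.leaf []) (.node (.node (.node (.leaf []) (.leaf [1, 1, 3, 0, 0, 3])) (.node (.leaf [0, 1, 3, 3, 0, 3]) (.leaf []))) (.leaf []))) (.node (.node (.node (.node (.leaf [1, 1, 2, 2, 3, 1]) (.leaf [])) (.node (.leaf [1, 2, 1, 3, 3, 1]) (.leaf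 []))) (.leaf [])) (.node (.node (.node (.leaf []) (.leaf [1, 1, 2, 0, 1, 0])) (.node (.leaf [1, 0, 0, 1, 2, 1]) (.leaf []))) (.leaf []))))))
    (.node (.node (.node (.node (.node (.node (.node (.leaf [1, 1, 0, 0, 2, 3]) (.leaf [])) (.leaf [])) (.leaf [])) (.leaf [])) (.node (.node (.node (.node (.leaf [1, 3, 2, 3, 0, 0]) (.leaf [])) (.node (.leaf [0, 1, 1, 1, 2, 0]) (.leaf []))) (.node (.node (.leaf [0, 1, 2, 1, 1, 0]) (.leaf [])) (.leaf []))) (.node (.node (.node (.leaf []) (.leaf [1, 1, 2, 2, 3, 3])) (.leaf [])) (.leaf [])))) (.node (.node (.node (.node (.node (.leaf []) (.leaf [1, 1, 3, 2, 3, 3])) (.node (.leaf [0, 1, 3, 0, 2, 1]) (.leaf []))) (.leaf [])) (.node (.node (.node (.leaf [1, 2, 2, 0, 1, 0]) (.leaf [])) (.leaf [])) (.leaf []))) (.node (.node (.node (.node (.leaf [1, 2, 3, 1, 3, 2]) (.leaf [1, 1, 1, 3, 1, 2])) (.leaf [])) (.leaf [])) (.leaf []))))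
     (.node (.node (.node (.node (.leaf []) (.node (.leaf []) (.node (.leaf [1, 0, 3, 0, 1, 2]) (.leaf [])))) (.node (.node (.node (.leaf []) (.leaf [1, 1, 0, 1, 2, 0])) (.leaf [])) (.node (.leaf []) (.node (.leaf [1, 3, 0, 2, 1, 0]) (.leaf []))))) (.node (.node (.node (.leaf []) (.node (.leaf [0, 1, 3, 2, 2, 0]) (.leaf []))) (.node (.node (.leaf [1, 0, 3, 2, 1, 0]) (.leaf [])) (.leaf []))) (.node (.node (.node (.leaf [1, 0, 2, 1, 1, 0]) (.leaf [])) (.leaf [])) (.leaf [])))) (.node (.node (.node (.node (.leaf []) (.node (.leaf [1, 0, 2, 0, 1, 1]) (.leaf [0, 0, 1, 3, 2, 3]))) (.node (.node (.leaf [1, 0, 1, 0, 1, 3]) (.leaf [])) (.leaf []))) (.node (.node (.node (.leaf [1, 3, 2, 1, 2, 1]) (.leaf [])) (.node (.leaf [1, 0, 3, 2, 0, 1]) (.leaf []))) (.leaf []))) (.node (.leaf []) (.node (.node (.leaf []) (.node (.leaf [1, 0, 2, 0, 2, 1]) (.leaf []))) (.node (.node (.leaf [0, 1, 1, 2, 0, 2])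 (.leaf [])) (.leaf []))))))))
   (.node (.node (.node (.node (.node (.node (.node (.node (.leaf [0, 0, 0, 0, 1, 3]) (.leaf [])) (.node (.leaf [0, 1, 0, 3, 2, 1]) (.leaf []))) (.leaf [])) (.node (.node (.node (.leaf [1, 1, 0, 0, 2, 1]) (.leaf [])) (.leaf [])) (.node (.leaf []) (.node (.leaf [1, 3, 3, 3, 2, 3]) (.leaf []))))) (.node (.node (.node (.node (.leaf [1, 2, 0, 0, 0, 0]) (.leaf [])) (.node (.leaf [0, 1, 1, 1, 0, 1]) (.leaf []))) (.leaf [])) (.leaf []))) (.node (.node (.node (.node (.node (.leaf [1, 3, 3, 1, 2, 2]) (.leaf [])) (.node (.leaf [0, 1, 3, 0, 0, 0]) (.leaf []))) (.node (.node (.leaf [1, 2, 0, 3, 3, 0]) (.leaf [])) (.leaf []))) (.node (.node (.node (.leaf []) (.leaf [1, 1, 1, 0, 2, 0])) (.leaf [])) (.leaf []))) (.leaf [])))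
     (.node (.node (.node (.node (.node (.node (.leaf [1, 3, 2, 2, 3, 1]) (.leaf [])) (.node (.leaf [0, 1, 1, 0, 2, 1]) (.leaf []))) (.node (.node (.leaf [1, 2, 0, 1, 0, 1]) (.leaf [])) (.leaf []))) (.leaf [])) (.node (.node (.node (.node (.leaf []) (.leaf [1, 1, 2, 3, 2, 1])) (.leaf [])) (.leaf [])) (.node (.node (.node (.leaf [1, 1, 1, 3, 2, 2]) (.leaf [])) (.node (.leaf [1, 0, 3, 1, 0, 3]) (.leaf []))) (.node (.node (.leaf [0, 1, 0, 1, 1, 1]) (.leaf [])) (.leaf []))))) (.node (.node (.node (.node (.node (.leaf []) (.leaf [1, 1, 3, 3, 1, 3])) (.node (.leaf [0, 1, 0, 1, 1, 2]) (.leaf []))) (.leaf [])) (.node (.node (.node (.leaf [1, 3, 2, 1, 1, 2]) (.leaf [])) (.node (.leaf [1, 2, 0, 0, 2, 3]) (.leaf []))) (.leaf []))) (.node (.node (.node (.node (.leaf [1, 1, 2, 2, 1, 3]) (.leaf [])) (.leaf [])) (.leaf [])) (.node (.node (.leaf []) (.node (.leaf [0, 1, 3, 0, 1, 3]) (.leaf []))) (.node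 (.node (.leaf [0, 1, 2, 1, 0, 2]) (.leaf [])) (.leaf [])))))))
    (.node (.node (.node (.node (.node (.leaf []) (.node (.leaf []) (.node (.leaf [1, 0, 2, 0, 1, 2]) (.leaf [])))) (.node (.node (.node (.leaf [1, 2, 0, 2, 3, 0]) (.leaf [1, 1, 0, 1, 0, 3])) (.leaf [])) (.leaf []))) (.node (.node (.leaf []) (.node (.node (.leaf [1, 2, 1, 2, 2, 3]) (.leaf [])) (.leaf []))) (.node (.node (.leaf []) (.node (.leaf [1, 0, 2, 3, 3, 0]) (.leaf []))) (.leaf [])))) (.node (.node (.leaf []) (.node (.node (.leaf []) (.node (.leaf [1, 0, 0, 0, 1, 0]) (.leaf []))) (.leaf []))) (.node (.leaf []) (.node (.node (.node (.leaf []) (.leaf [1, 3, 0, 1, 2, 0])) (.node (.leaf [1, 0, 1, 0, 2, 1]) (.leaf []))) (.leaf [])))))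
     (.node (.node (.node (.node (.node (.node (.leaf [1, 1, 0, 0, 1, 1]) (.leaf [])) (.node (.leaf [1, 0, 0, 3, 1, 1]) (.leaf []))) (.node (.node (.leaf [1, 2, 2, 3, 1, 2]) (.leaf [])) (.leaf []))) (.leaf [])) (.node (.leaf []) (.node (.node (.node (.leaf [0, 1, 2, 2, 3, 0]) (.leaf [])) (.leaf [])) (.leaf [])))) (.node (.node (.node (.node (.leaf []) (.node (.leaf []) (.leaf [0, 0, 1, 0, 3, 0]))) (.leaf [])) (.node (.node (.node (.leaf [0, 1, 2, 2, 0, 2]) (.leaf [])) (.node (.leaf [1, 2, 0, 0, 3, 1]) (.leaf []))) (.leaf []))) (.node (.node (.leaf []) (.node (.leaf []) (.node (.leaf [1, 3, 2, 2, 3, 2]) (.leaf [])))) (.node (.node (.leaf []) (.node (.leaf [0, 1, 2, 0, 2, 2]) (.leaf []))) (.node (.node (.leaf [1, 3, 3, 3, 0, 0]) (.leaf [])) (.node (.leaf [1, 3, 3, 0, 1, 0]) (.leaf []))))))))))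
  (.node (.node (.node (.node (.node (.node (.node (.leaf []) (.node (.node (.leaf []) (.leaf [1, 1, 3, 0, 1, 0])) (.leaf []))) (.node (.node (.node (.leaf [1, 1, 0, 0, 1, 3]) (.leaf [1, 1, 3, 0, 2, 0])) (.leaf [])) (.leaf []))) (.node (.node (.node (.leaf []) (.node (.leaf [1, 0, 1, 3, 1, 0]) (.leaf []))) (.leaf [])) (.node (.node (.leaf []) (.node (.leaf [1, 0, 1, 3, 0, 3]) (.leaf []))) (.leaf [])))) (.node (.node (.node (.leaf []) (.node (.node (.leaf [1, 2, 3, 2, 3, 3]) (.leaf [1, 1, 3, 1, 2, 3])) (.leaf []))) (.node (.node (.node (.leaf [1, 2, 1, 2, 1, 2]) (.leaf [])) (.leaf [])) (.node (.leaf []) (.node (.leaf [1, 3, 1, 1, 2, 1]) (.leaf []))))) (.node (.node (.node (.node (.leaf [1, 2, 3, 1, 2, 1]) (.leaf [1, 1, 3, 2, 2, 2])) (.leaf [])) (.node (.node (.leaf [1, 2, 3, 0, 2, 0]) (.leaf [])) (.leaf []))) (.leaf []))))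
     (.node (.node (.node (.leaf []) (.node (.node (.leaf []) (.node (.leaf []) (.leaf [0, 0, 1, 3, 1, 1]))) (.leaf []))) (.leaf [])) (.node (.node (.node (.node (.node (.leaf []) (.leaf [1, 1, 2, 1, 3, 1])) (.leaf [])) (.leaf [])) (.node (.node (.node (.leaf []) (.leaf [1, 1, 2, 0, 2, 0])) (.leaf [])) (.leaf []))) (.node (.node (.node (.node (.leaf [1, 1, 1, 3, 1, 3]) (.leaf [])) (.leaf [])) (.leaf [])) (.node (.node (.leaf []) (.node (.leaf [0, 1, 1, 0, 2, 2]) (.leaf []))) (.node (.node (.leaf [1, 0, 3, 2, 0, 3]) (.leaf [])) (.leaf [])))))))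
    (.node (.node (.node (.node (.node (.node (.node (.leaf [1, 1, 0, 0, 3, 2]) (.leaf [])) (.leaf [])) (.node (.leaf []) (.node (.leaf [1, 0, 0, 1, 1, 2]) (.leaf [])))) (.node (.node (.node (.leaf [1, 2, 1, 3, 1, 2]) (.leaf [])) (.leaf [])) (.leaf []))) (.node (.node (.node (.node (.leaf [1, 2, 1, 3, 3, 3]) (.leaf [])) (.node (.leaf [1, 0, 3, 1, 0, 1]) (.leaf []))) (.leaf [])) (.node (.node (.node (.leaf [0, 1, 0, 2, 2, 3]) (.leaf [])) (.node (.leaf [0, 1, 1, 2, 0, 3]) (.leaf []))) (.leaf [])))) (.node (.node (.leaf []) (.node (.node (.node (.leaf [1, 0, 3, 0, 1, 3]) (.leaf [])) (.node (.leaf [1, 2, 0, 0, 3, 2]) (.leaf []))) (.leaf []))) (.node (.node (.node (.node (.leaf []) (.leaf [1, 1, 3, 2, 3, 1])) (.leaf [])) (.leaf [])) (.node (.node (.node (.leaf [1, 2, 1, 0, 3, 0]) (.leaf [])) (.leaf [])) (.node (.leaf []) (.node (.leaf [1, 3, 0, 1, 0, 3]) (.leaf [])))))))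
     (.node (.node (.node (.node (.node (.node (.leaf [1, 3, 2, 2, 2, 2]) (.leaf [])) (.node (.leaf [1, 0, 0, 3, 3, 2]) (.leaf []))) (.node (.node (.leaf []) (.leaf [1, 1, 0, 1, 1, 0])) (.leaf []))) (.leaf [])) (.node (.node (.node (.node (.leaf [1, 1, 3, 3, 2, 1]) (.leaf [])) (.leaf [])) (.leaf [])) (.node (.node (.node (.leaf [0, 1, 1, 3, 3, 0]) (.leaf [])) (.leaf [])) (.node (.node (.leaf [0, 1, 3, 0, 1, 1]) (.leaf [])) (.leaf []))))) (.node (.node (.node (.node (.leaf []) (.node (.leaf []) (.leaf [0, 0, 1, 1, 3, 1]))) (.node (.node (.leaf []) (.leaf [1, 1, 3, 1, 1, 1])) (.leaf []))) (.node (.leaf []) (.node (.leaf []) (.node (.leaf [1, 3, 1, 3, 2, 1]) (.leaf []))))) (.node (.leaf []) (.node (.node (.leaf []) (.node (.leaf [1, 0, 3, 0, 3, 3]) (.leaf []))) (.node (.node (.leaf [1, 1, 1, 3, 0, 0]) (.leaf [])) (.leaf []))))))))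
   (.node (.node (.node (.node (.node (.node (.node (.node (.leaf []) (.leaf [1, 3, 2, 0, 0, 3])) (.leaf [])) (.leaf [])) (.leaf [])) (.node (.node (.node (.node (.leaf [1, 3, 3, 2, 0, 0]) (.leaf [])) (.leaf [])) (.leaf [])) (.node (.leaf []) (.node (.leaf []) (.node (.leaf [1, 3, 3, 2, 1, 2]) (.leaf [])))))) (.node (.node (.node (.node (.node (.leaf [0, 0, 1, 2, 3, 3]) (.leaf [1, 1, 1, 1, 3, 3])) (.leaf [])) (.leaf [])) (.node (.node (.node (.leaf [1, 2, 0, 0, 2, 1]) (.leaf [])) (.leaf [])) (.leaf []))) (.node (.leaf []) (.node (.node (.node (.leaf [0, 1, 3, 3, 3, 0]) (.leaf [])) (.node (.leaf [1, 2, 3, 1, 0, 0]) (.leaf []))) (.leaf [])))))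
     (.node (.node (.node (.node (.node (.leaf []) (.node (.leaf [1, 2, 1, 1, 2, 2]) (.leaf []))) (.leaf [])) (.leaf [])) (.node (.node (.node (.node (.leaf [1, 1, 1, 1, 0, 0]) (.leaf [])) (.leaf [])) (.leaf [])) (.node (.node (.node (.leaf [1, 3, 3, 3, 3, 3]) (.leaf [])) (.leaf [])) (.leaf [])))) (.node (.node (.node (.node (.node (.leaf [1, 3, 1, 3, 0, 0]) (.leaf [1, 1, 2, 1, 2, 2])) (.node (.leaf [1, 0, 1, 0, 2, 3]) (.leaf [0, 0, 1, 1, 1, 3]))) (.node (.node (.leaf [1, 2, 0, 3, 1, 0]) (.leaf [])) (.leaf []))) (.node (.node (.node (.leaf []) (.leaf [1, 1, 3, 0, 3, 0])) (.node (.leaf [1, 0, 1, 1, 3, 0]) (.leaf []))) (.leaf []))) (.node (.node (.node (.node (.leaf [1, 0, 1, 2, 0, 3]) (.leaf [])) (.leaf [])) (.leaf [])) (.node (.node (.leaf []) (.node (.leaf [1, 0, 2, 0, 3, 3]) (.leaf []))) (.leaf []))))))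
    (.node (.node (.node (.node (.node (.node (.node (.leaf [0, 0, 1, 3, 1, 3]) (.leaf [])) (.node (.leaf [1, 0, 0, 2, 0, 0]) (.leaf []))) (.node (.node (.leaf []) (.leaf [1, 1, 2, 0, 0, 1])) (.node (.leaf [1, 0, 0, 3, 2, 1]) (.leaf [])))) (.node (.node (.node (.leaf []) (.leaf [1, 1, 0, 3, 2, 0])) (.leaf [])) (.leaf []))) (.node (.node (.node (.leaf []) (.node (.leaf [1, 2, 3, 3, 1, 3]) (.leaf []))) (.leaf [])) (.node (.node (.node (.leaf [0, 1, 3, 1, 0, 1]) (.leaf [])) (.leaf [])) (.leaf [])))) (.node (.node (.node (.node (.node (.leaf []) (.leaf [1, 1, 1, 1, 1, 2])) (.node (.leaf [0, 1, 0, 3, 0, 0]) (.leaf []))) (.leaf [])) (.node (.leaf []) (.node (.leaf []) (.node (.leaf [1, 3, 0, 3, 0, 1]) (.leaf []))))) (.node (.leaf []) (.node (.node (.leaf []) (.node (.leaf [1, 0, 0, 2, 2, 1]) (.leaf []))) (.node (.leaf []) (.node (.leaf [1, 3, 0, 1, 3, 0]) (.leaf [])))))))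
     (.node (.node (.node (.node (.node (.node (.leaf []) (.leaf [1, 2, 3, 2, 1, 1])) (.leaf [])) (.node (.node (.leaf [1, 2, 0, 1, 0, 3]) (.leaf [])) (.leaf []))) (.leaf [])) (.node (.node (.leaf []) (.node (.node (.leaf [1, 2, 1, 0, 2, 0]) (.leaf [])) (.leaf []))) (.node (.node (.leaf []) (.node (.leaf [1, 2, 1, 3, 2, 2]) (.leaf []))) (.leaf [])))) (.node (.node (.node (.node (.leaf []) (.node (.leaf [1, 0, 0, 2, 1, 1]) (.leaf [0, 0, 1, 0, 2, 0]))) (.leaf [])) (.node (.node (.leaf []) (.node (.leaf [1, 2, 1, 3, 1, 3]) (.leaf []))) (.leaf []))) (.node (.node (.leaf []) (.node (.leaf []) (.node (.leaf [1, 3, 1, 3, 3, 2]) (.leaf [])))) (.node (.node (.leaf []) (.node (.leaf [0, 1, 0, 3, 1, 3]) (.leaf []))) (.node (.node (.leaf [1, 1, 3, 1, 0, 0]) (.leaf [])) (.leaf []))))))))))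
 (.node (.node (.node (.node (.node (.node (.node (.node (.node (.leaf []) (.node (.leaf [0, 1, 0, 2, 2, 1]) (.leaf []))) (.node (.node (.leaf []) (.leaf [1, 3, 2, 3, 1, 3])) (.leaf []))) (.leaf [])) (.node (.node (.node (.leaf []) (.node (.leaf [1, 0, 2, 2, 0, 1]) (.leaf [0, 0, 0, 1, 0, 1]))) (.node (.node (.leaf [0, 1, 0, 3, 2, 3]) (.leaf [])) (.leaf []))) (.node (.node (.leaf []) (.node (.leaf [0, 1, 3, 2, 1, 0]) (.leaf []))) (.leaf [])))) (.node (.node (.node (.node (.node (.leaf [1, 1, 2, 3, 1, 1]) (.leaf [])) (.leaf [])) (.node (.node (.leaf []) (.leaf [1, 1, 1, 3, 2, 3])) (.leaf []))) (.node (.leaf []) (.node (.leaf []) (.node (.leaf [1, 3, 2, 3, 3, 3]) (.leaf []))))) (.node (.node (.leaf []) (.node (.node (.leaf [1, 2, 0, 3, 2, 0]) (.leaf [])) (.leaf []))) (.leaf []))))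
     (.node (.node (.node (.node (.node (.node (.leaf [1, 3, 0, 0, 3, 1]) (.leaf [])) (.leaf [])) (.node (.node (.leaf []) (.leaf [1, 3, 0, 3, 0, 2])) (.leaf []))) (.node (.node (.node (.leaf [1, 2, 0, 2, 0, 3]) (.leaf [])) (.node (.leaf []) (.leaf [0, 0, 1, 1, 2, 2]))) (.node (.leaf []) (.node (.leaf [1, 3, 1, 3, 3, 3]) (.leaf []))))) (.node (.node (.node (.leaf []) (.node (.leaf [1, 2, 1, 2, 1, 3]) (.leaf []))) (.leaf [])) (.leaf []))) (.node (.node (.node (.node (.node (.leaf []) (.leaf [1, 1, 3, 3, 3, 1])) (.leaf [])) (.node (.node (.leaf [1, 0, 1, 0, 3, 1]) (.leaf [])) (.leaf []))) (.node (.node (.node (.leaf [1, 0, 1, 1, 2, 0]) (.leaf [])) (.leaf [])) (.leaf []))) (.node (.node (.node (.node (.leaf [1, 1, 2, 1, 1, 2]) (.leaf [])) (.leaf [])) (.leaf [])) (.node (.node (.node (.leaf [1, 0, 2, 0, 1, 3]) (.leaf [])) (.node (.leaf [0, 1, 0, 1, 2, 2]) (.leaf []))) (.node (.node (.leaf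 [1, 0, 1, 1, 0, 3]) (.leaf [])) (.leaf [])))))))
    (.node (.node (.node (.node (.node (.node (.node (.leaf [0, 0, 0, 0, 1, 2]) (.leaf [])) (.leaf [])) (.node (.leaf []) (.node (.leaf [1, 0, 1, 0, 1, 2]) (.leaf [])))) (.node (.node (.node (.leaf [1, 2, 2, 2, 1, 2]) (.leaf [])) (.leaf [])) (.node (.leaf []) (.node (.leaf [1, 3, 3, 1, 3, 3]) (.leaf []))))) (.node (.node (.node (.node (.leaf [1, 3, 3, 2, 1, 1]) (.leaf [])) (.leaf [])) (.leaf [])) (.node (.node (.leaf []) (.node (.leaf [1, 0, 2, 3, 0, 1]) (.leaf []))) (.leaf [])))) (.node (.node (.node (.node (.node (.leaf []) (.leaf [1, 1, 3, 2, 2, 1])) (.node (.leaf [0, 1, 3, 0, 3, 3]) (.leaf []))) (.node (.node (.leaf [1, 2, 0, 3, 0, 3]) (.leaf [])) (.leaf []))) (.node (.node (.node (.leaf [1, 0, 0, 3, 1, 3]) (.leaf [])) (.leaf [])) (.leaf []))) (.node (.leaf []) (.node (.leaf []) (.node (.leaf []) (.node (.leaf [1, 3, 0, 2, 0, 3]) (.leaf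 [])))))))
     (.node (.node (.node (.node (.node (.node (.leaf [1, 1, 1, 1, 1, 1]) (.leaf [])) (.node (.leaf [1, 0, 0, 3, 2, 3]) (.leaf []))) (.leaf [])) (.leaf [])) (.node (.node (.node (.node (.leaf []) (.leaf [1, 1, 1, 2, 1, 3])) (.leaf [])) (.leaf [])) (.node (.node (.node (.leaf [0, 1, 3, 1, 3, 0]) (.leaf [])) (.leaf [])) (.leaf [])))) (.node (.node (.node (.node (.node (.leaf []) (.leaf [1, 1, 1, 1, 1, 3])) (.node (.leaf []) (.leaf [0, 0, 1, 3, 1, 2]))) (.leaf [])) (.node (.node (.node (.leaf [0, 1, 1, 3, 2, 0]) (.leaf [])) (.node (.leaf [0, 1, 2, 1, 0, 3]) (.leaf []))) (.leaf []))) (.node (.node (.node (.node (.leaf [1, 0, 2, 1, 0, 3]) (.leaf [])) (.leaf [])) (.leaf [])) (.node (.node (.leaf []) (.node (.leaf [0, 1, 1, 0, 1, 3]) (.leaf []))) (.leaf [])))))))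
   (.node (.node (.node (.node (.node (.node (.node (.node (.leaf []) (.leaf [1, 3, 3, 1, 1, 2])) (.node (.leaf [0, 1, 2, 0, 3, 3]) (.leaf []))) (.leaf [])) (.node (.node (.node (.leaf [1, 3, 0, 0, 3, 2]) (.leaf [])) (.leaf [])) (.leaf []))) (.node (.node (.node (.node (.leaf [1, 1, 2, 1, 0, 0]) (.leaf [])) (.node (.leaf [0, 1, 3, 2, 0, 3]) (.leaf []))) (.node (.node (.leaf [0, 1, 2, 1, 0, 1]) (.leaf [])) (.leaf []))) (.node (.node (.node (.leaf [1, 3, 0, 0, 1, 2]) (.leaf [])) (.leaf [])) (.leaf [])))) (.node (.node (.node (.node (.node (.leaf [1, 1, 2, 3, 2, 3]) (.leaf [])) (.node (.leaf [1, 0, 0, 1, 3, 2]) (.leaf []))) (.leaf [])) (.leaf [])) (.node (.node (.node (.node (.leaf [1, 2, 2, 1, 2, 1]) (.leaf [1, 1, 1, 1, 2, 2])) (.node (.leaf [1, 3, 0, 0, 0, 0]) (.leaf []))) (.node (.node (.leaf []) (.leaf [1, 2, 1, 1, 0, 0])) (.leaf []))) (.node (.leaf []) (.node (.leaf []) (.node (.leaf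 [1, 3, 1, 0, 0, 3]) (.leaf [])))))))
     (.node (.node (.node (.node (.node (.leaf []) (.node (.leaf [0, 1, 1, 0, 1, 2]) (.leaf []))) (.leaf [])) (.node (.leaf []) (.node (.leaf []) (.node (.leaf [1, 3, 2, 0, 1, 0]) (.leaf []))))) (.node (.node (.leaf []) (.node (.node (.leaf [0, 1, 1, 2, 1, 0]) (.leaf [])) (.leaf []))) (.node (.node (.node (.leaf [1, 3, 2, 1, 3, 3]) (.leaf [])) (.leaf [])) (.leaf [])))) (.node (.node (.node (.node (.node (.leaf [1, 1, 3, 2, 0, 0]) (.leaf [1, 1, 3, 3, 2, 2])) (.leaf [])) (.leaf [])) (.leaf [])) (.node (.node (.node (.node (.leaf []) (.leaf [1, 1, 3, 3, 1, 1])) (.leaf [])) (.leaf [])) (.node (.node (.leaf []) (.node (.leaf [0, 1, 0, 1, 1, 3]) (.leaf []))) (.leaf []))))))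
    (.node (.node (.node (.node (.node (.node (.node (.leaf [0, 0, 1, 3, 3, 1]) (.leaf [1, 3, 3, 0, 0, 3])) (.leaf [])) (.node (.node (.leaf []) (.leaf [1, 1, 0, 3, 0, 1])) (.node (.leaf [0, 1, 0, 2, 1, 3]) (.leaf [])))) (.leaf [])) (.node (.node (.node (.node (.leaf [1, 1, 1, 2, 2, 1]) (.leaf [])) (.node (.leaf [0, 1, 3, 2, 0, 1]) (.leaf []))) (.node (.node (.leaf []) (.leaf [1, 2, 2, 3, 0, 0])) (.leaf []))) (.node (.node (.leaf []) (.node (.leaf [1, 2, 3, 1, 1, 3]) (.leaf []))) (.leaf [])))) (.node (.node (.node (.leaf []) (.node (.node (.leaf [1, 2, 2, 1, 2, 3]) (.leaf [])) (.leaf []))) (.node (.node (.leaf []) (.node (.leaf [1, 0, 0, 0, 0, 2]) (.leaf []))) (.leaf []))) (.node (.node (.node (.node (.leaf [1, 1, 3, 1, 3, 1]) (.leaf [])) (.leaf [])) (.leaf [])) (.node (.node (.node (.leaf []) (.leaf [1, 1, 0, 3, 1, 0])) (.node (.leaf [1, 0, 0, 2, 3, 3]) (.leaf []))) (.leaf [])))))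
     (.node (.node (.node (.node (.node (.node (.leaf []) (.leaf [1, 2, 1, 1, 1, 1])) (.leaf [])) (.node (.node (.leaf [0, 1, 0, 1, 3, 2]) (.leaf [1, 3, 2, 0, 0, 2])) (.leaf []))) (.leaf [])) (.node (.node (.node (.node (.leaf [1, 2, 3, 3, 3, 3]) (.leaf [])) (.leaf [])) (.node (.node (.leaf [1, 2, 0, 2, 2, 0]) (.leaf [])) (.leaf []))) (.node (.leaf []) (.node (.leaf []) (.node (.leaf [1, 3, 1, 0, 0, 1]) (.leaf [])))))) (.node (.node (.node (.node (.leaf []) (.node (.leaf [0, 1, 2, 0, 0, 0]) (.leaf [0, 0, 0, 1, 0, 2]))) (.leaf [])) (.node (.node (.node (.leaf [0, 1, 2, 2, 2, 0]) (.leaf [])) (.node (.leaf [1, 2, 2, 2, 1, 3]) (.leaf []))) (.node (.leaf []) (.node (.leaf [1, 3, 0, 2, 3, 0]) (.leaf []))))) (.node (.node (.node (.node (.leaf [1, 0, 3, 3, 0, 3]) (.leaf [])) (.leaf [])) (.node (.leaf []) (.node (.leaf [1, 3, 1, 3, 1, 1]) (.leaf [])))) (.node (.node (.leaf []) (.node (.leaf [0,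 1, 0, 3, 2, 2]) (.leaf []))) (.node (.node (.leaf [1, 2, 3, 2, 2, 2]) (.leaf [])) (.leaf [])))))))))
  (.node (.node (.node (.node (.node (.node (.leaf []) (.node (.leaf []) (.node (.leaf []) (.node (.leaf [1, 3, 2, 2, 2, 3]) (.leaf []))))) (.node (.node (.node (.node (.leaf [0, 0, 1, 2, 0, 0]) (.leaf [])) (.node (.leaf [0, 1, 1, 1, 3, 0]) (.leaf []))) (.leaf [])) (.node (.node (.node (.leaf [1, 3, 0, 0, 2, 1]) (.leaf [])) (.leaf [])) (.node (.leaf []) (.node (.leaf [1, 3, 2, 2, 2, 1]) (.leaf [])))))) (.node (.node (.node (.node (.node (.leaf []) (.leaf [1, 2, 2, 3, 1, 1])) (.leaf [])) (.leaf [])) (.node (.node (.node (.leaf [1, 2, 3, 3, 1, 2]) (.leaf [])) (.leaf [])) (.node (.leaf []) (.node (.leaf [1, 3, 2, 3, 2, 1]) (.leaf []))))) (.node (.leaf []) (.node (.node (.node (.leaf [1, 0, 1, 1, 1, 0]) (.leaf [])) (.leaf [])) (.leaf [])))))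
     (.node (.node (.node (.node (.node (.node (.leaf [1, 3, 1, 3, 1, 3]) (.leaf [])) (.leaf [])) (.node (.node (.leaf [1, 0, 0, 2, 3, 1]) (.leaf [1, 1, 0, 2, 0, 1])) (.leaf []))) (.node (.node (.node (.leaf [1, 0, 0, 3, 3, 1]) (.leaf [])) (.leaf [])) (.leaf []))) (.node (.node (.node (.node (.leaf []) (.leaf [1, 1, 2, 3, 3, 3])) (.leaf [])) (.node (.node (.leaf [0, 1, 1, 2, 0, 1]) (.leaf [])) (.leaf []))) (.node (.node (.node (.leaf [0, 1, 3, 3, 1, 0]) (.leaf [])) (.node (.leaf [0, 1, 2, 3, 1, 0]) (.leaf []))) (.leaf [])))) (.node (.node (.node (.node (.leaf []) (.node (.leaf [0, 1, 0, 1, 2, 1]) (.leaf []))) (.node (.node (.leaf []) (.leaf [1, 1, 3, 1, 3, 2])) (.leaf []))) (.node (.node (.leaf []) (.node (.leaf [1, 0, 2, 2, 2, 0]) (.leaf []))) (.leaf []))) (.node (.node (.node (.node (.leaf [1, 3, 3, 2, 2, 3]) (.leaf [])) (.leaf [])) (.leaf [])) (.node (.node (.node (.leaf [0, 1, 1,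 0, 2, 3]) (.leaf [])) (.node (.leaf [0, 1, 3, 0, 2, 2]) (.leaf []))) (.node (.node (.leaf [0, 1, 3, 3, 0, 2]) (.leaf [])) (.leaf [])))))))
    (.node (.node (.node (.node (.node (.leaf []) (.node (.leaf []) (.node (.leaf [0, 1, 0, 1, 3, 1]) (.leaf [])))) (.node (.node (.leaf []) (.node (.leaf [1, 1, 0, 0, 0, 0]) (.leaf []))) (.leaf []))) (.node (.node (.node (.node (.leaf [1, 2, 3, 1, 3, 3]) (.leaf [])) (.node (.leaf [0, 1, 2, 3, 0, 3]) (.leaf []))) (.leaf [])) (.node (.node (.node (.leaf []) (.leaf [1, 1, 3, 1, 3, 3])) (.leaf [])) (.leaf [])))) (.node (.node (.leaf []) (.node (.node (.node (.leaf [1, 0, 3, 3, 0, 2]) (.leaf [])) (.node (.leaf [1, 2, 3, 2, 2, 3]) (.leaf []))) (.node (.leaf []) (.node (.leaf [1, 3, 2, 1, 2, 3]) (.leaf []))))) (.node (.node (.node (.node (.leaf [1, 2, 2, 2, 3, 2]) (.leaf [])) (.node (.leaf [1, 2, 0, 0, 1, 3]) (.leaf []))) (.leaf [])) (.node (.node (.node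 (.leaf [1, 2, 1, 0, 0, 3]) (.leaf [1, 3, 3, 2, 1, 3])) (.node (.leaf [1, 0, 1, 0, 3, 3]) (.leaf []))) (.leaf [])))))
     (.node (.node (.node (.node (.node (.node (.leaf [0, 0, 1, 1, 1, 1]) (.leaf [])) (.leaf [])) (.leaf [])) (.node (.node (.node (.leaf []) (.leaf [1, 1, 0, 2, 3, 0])) (.leaf [])) (.leaf []))) (.node (.node (.node (.leaf []) (.node (.leaf [0, 1, 2, 3, 0, 1]) (.leaf []))) (.node (.node (.leaf [1, 0, 2, 3, 1, 0]) (.leaf [])) (.leaf []))) (.node (.node (.node (.leaf [1, 0, 3, 3, 1, 0]) (.leaf [])) (.leaf [])) (.leaf [])))) (.node (.node (.node (.node (.node (.leaf [1, 2, 2, 1, 0, 0]) (.leaf [])) (.node (.leaf []) (.leaf [0, 0, 1, 3, 3, 2]))) (.leaf [])) (.node (.node (.leaf []) (.node (.leaf [1, 0, 3, 2, 3, 0]) (.leaf []))) (.leaf []))) (.node (.node (.node (.node (.leaf [1, 0, 1, 2, 3, 0]) (.leaf [])) (.leaf [])) (.node (.leaf []) (.node (.leaf [1, 3, 2, 2, 1, 1]) (.leaf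 [])))) (.node (.node (.leaf []) (.node (.leaf [1, 0, 0, 3, 3, 3]) (.leaf []))) (.node (.node (.leaf [1, 2, 2, 3, 2, 2]) (.leaf [])) (.leaf []))))))))
   (.node (.node (.node (.node (.node (.node (.node (.leaf []) (.node (.leaf [0, 1, 0, 3, 3, 3]) (.leaf []))) (.leaf [])) (.node (.node (.node (.leaf [1, 0, 0, 0, 0, 3]) (.leaf [])) (.leaf [])) (.leaf []))) (.node (.node (.node (.node (.leaf [1, 3, 2, 3, 1, 1]) (.leaf [])) (.leaf [])) (.node (.node (.leaf [0, 1, 0, 3, 3, 2]) (.leaf [])) (.leaf []))) (.node (.leaf []) (.node (.node (.leaf [1, 2, 0, 0, 3, 3]) (.leaf [])) (.node (.leaf [1, 3, 2, 3, 1, 2]) (.leaf [])))))) (.node (.node (.node (.node (.node (.leaf []) (.leaf [1, 1, 1, 1, 2, 1])) (.node (.leaf [1, 0, 0, 1, 2, 3]) (.leaf []))) (.node (.node (.leaf [1, 2, 3, 0, 3, 0]) (.leaf [])) (.leaf []))) (.node (.node (.node (.leaf [1, 2, 0, 2, 1, 0]) (.leaf [1, 1, 2, 0, 3, 0])) (.leaf []))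 (.leaf []))) (.node (.leaf []) (.node (.node (.node (.leaf [0, 1, 0, 0, 1, 0]) (.leaf [])) (.leaf [])) (.leaf [])))))
     (.node (.node (.node (.node (.node (.leaf []) (.node (.leaf [1, 2, 1, 1, 3, 1]) (.leaf []))) (.node (.leaf []) (.node (.leaf [0, 1, 0, 2, 3, 1]) (.leaf [])))) (.leaf [])) (.node (.node (.node (.node (.leaf [1, 1, 3, 3, 3, 3]) (.leaf [1, 1, 2, 3, 1, 2])) (.leaf [])) (.leaf [])) (.node (.node (.node (.leaf [1, 0, 1, 2, 1, 0]) (.leaf [])) (.leaf [])) (.leaf [])))) (.node (.node (.node (.node (.leaf []) (.node (.leaf [1, 0, 2, 0, 3, 2]) (.leaf [0, 0, 1, 2, 2, 3]))) (.node (.node (.leaf [1, 2, 2, 1, 3, 2]) (.leaf [1, 1, 1, 3, 1, 1])) (.leaf []))) (.node (.node (.node (.leaf [0, 1, 1, 3, 0, 2]) (.leaf [1, 1, 0, 3, 3, 0])) (.node (.leaf [1, 0, 2, 2, 0, 3]) (.leaf []))) (.leaf []))) (.node (.node (.node (.node (.leaf []) (.leaf [1, 1, 3, 1, 2, 1])) (.leaf [])) (.leaf []))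 (.node (.node (.leaf []) (.node (.leaf [0, 1, 0, 2, 2, 2]) (.leaf []))) (.node (.node (.leaf [1, 0, 2, 3, 0, 3]) (.leaf [])) (.leaf [])))))))
    (.node (.node (.node (.node (.node (.leaf []) (.node (.node (.leaf []) (.leaf [1, 1, 3, 0, 0, 1])) (.node (.leaf [1, 0, 3, 0, 2, 1]) (.leaf [])))) (.node (.node (.node (.leaf [1, 2, 2, 0, 3, 0]) (.leaf [])) (.leaf [])) (.leaf []))) (.node (.node (.node (.leaf []) (.node (.leaf [1, 2, 2, 1, 1, 3]) (.leaf []))) (.leaf [])) (.node (.node (.node (.leaf [0, 1, 2, 2, 0, 1]) (.leaf [])) (.leaf [])) (.leaf [])))) (.node (.node (.node (.node (.node (.leaf []) (.leaf [1, 1, 2, 2, 1, 2])) (.node (.leaf [1, 0, 1, 0, 1, 1]) (.leaf []))) (.leaf [])) (.node (.node (.node (.leaf [1, 0, 1, 1, 0, 2]) (.leaf [])) (.leaf [])) (.leaf []))) (.node (.leaf []) (.node (.node (.node (.leaf [1, 0, 2, 0, 3, 1]) (.leaf [])) (.node (.leaf [1, 0, 0, 1, 3, 3]) (.leaf [])))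 (.leaf [])))))
     (.node (.node (.node (.node (.node (.node (.leaf [0, 0, 1, 2, 1, 2]) (.leaf [1, 3, 3, 3, 1, 1])) (.leaf [])) (.node (.node (.leaf []) (.leaf [1, 1, 1, 0, 0, 1])) (.leaf []))) (.leaf [])) (.node (.node (.node (.node (.leaf [1, 2, 2, 2, 2, 1]) (.leaf [])) (.node (.leaf [0, 1, 2, 3, 2, 0]) (.leaf []))) (.node (.node (.leaf [1, 2, 2, 0, 2, 0]) (.leaf [])) (.leaf []))) (.node (.node (.node (.leaf [1, 3, 0, 0, 3, 3]) (.leaf [])) (.leaf [])) (.leaf [])))) (.node (.node (.node (.node (.leaf []) (.node (.leaf []) (.leaf [0, 0, 0, 1, 3, 0]))) (.leaf [])) (.leaf [])) (.node (.node (.node (.node (.leaf [1, 0, 3, 3, 3, 0]) (.leaf [])) (.leaf [])) (.leaf [])) (.node (.leaf []) (.node (.node (.leaf [1, 2, 3, 2, 3, 1]) (.leaf [])) (.node (.leaf [1, 3, 3, 0, 0, 1]) (.leaf []))))))))))))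
(.node (.node (.node (.node (.node (.node (.node (.node (.node (.node (.leaf []) (.node (.leaf [0, 1, 2, 0, 2, 1]) (.leaf []))) (.node (.node (.leaf []) (.leaf [1, 1, 1, 2, 3, 2])) (.leaf []))) (.node (.node (.node (.leaf [1, 1, 0, 0, 1, 2]) (.leaf [])) (.leaf [])) (.leaf []))) (.node (.node (.node (.leaf []) (.node (.leaf [1, 0, 2, 2, 1, 0]) (.leaf [0, 0, 1, 0, 1, 0]))) (.leaf [])) (.node (.node (.leaf []) (.node (.leaf [1, 0, 1, 3, 2, 0]) (.leaf []))) (.leaf [])))) (.node (.node (.node (.leaf []) (.node (.node (.leaf []) (.leaf [1, 1, 2, 2, 2, 3])) (.leaf []))) (.node (.leaf []) (.node (.leaf []) (.node (.leaf [1, 3, 2, 3, 2, 2]) (.leaf []))))) (.node (.node (.node (.node (.leaf [1, 2, 1, 3, 2, 1]) (.leaf [])) (.leaf [])) (.node (.node (.leaf [1, 2, 0, 1, 0, 2]) (.leaf [])) (.leaf []))) (.leaf []))))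
     (.node (.node (.node (.node (.node (.leaf []) (.node (.leaf [1, 0, 0, 3, 0, 0]) (.leaf []))) (.node (.node (.leaf []) (.leaf [1, 3, 0, 3, 2, 0])) (.leaf []))) (.node (.node (.node (.leaf [1, 2, 2, 0, 0, 1]) (.leaf [])) (.node (.leaf []) (.leaf [0, 0, 1, 2, 2, 2]))) (.leaf []))) (.node (.node (.node (.leaf []) (.node (.leaf [1, 2, 1, 2, 3, 1]) (.leaf []))) (.node (.node (.leaf [1, 0, 2, 3, 2, 0]) (.leaf [1, 1, 1, 2, 2, 3])) (.leaf []))) (.leaf []))) (.node (.node (.node (.node (.node (.leaf []) (.leaf [1, 1, 2, 2, 2, 1])) (.leaf [])) (.leaf [])) (.node (.node (.node (.leaf [1, 2, 3, 3, 3, 2]) (.leaf [])) (.leaf [])) (.leaf []))) (.node (.node (.node (.node (.leaf [1, 1, 1, 2, 1, 2]) (.leaf [])) (.leaf [])) (.leaf [])) (.node (.node (.node (.leaf [1, 2, 1, 0, 1, 0]) (.leaf [])) (.leaf [])) (.leaf []))))))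
    (.node (.node (.node (.node (.node (.node (.node (.leaf [1, 1, 1, 1, 3, 2]) (.leaf [])) (.leaf [])) (.leaf [])) (.node (.node (.node (.leaf [1, 2, 1, 1, 1, 2]) (.leaf [])) (.leaf [])) (.leaf []))) (.node (.node (.node (.node (.leaf [1, 1, 2, 1, 3, 3]) (.leaf [])) (.leaf [])) (.leaf [])) (.node (.leaf []) (.node (.node (.leaf [1, 0, 0, 3, 2, 2]) (.leaf [])) (.leaf []))))) (.node (.node (.node (.leaf []) (.node (.node (.leaf [1, 2, 3, 0, 0, 1]) (.leaf [])) (.leaf []))) (.node (.node (.node (.leaf [1, 0, 1, 2, 0, 2]) (.leaf [])) (.leaf [])) (.leaf []))) (.node (.leaf []) (.node (.node (.node (.leaf [1, 2, 3, 2, 1, 2]) (.leaf [])) (.leaf [])) (.node (.leaf []) (.node (.leaf [1, 3, 1, 3, 1, 2]) (.leaf [])))))))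
     (.node (.node (.node (.node (.node (.leaf []) (.node (.leaf [1, 0, 3, 0, 2, 3]) (.leaf []))) (.node (.leaf []) (.node (.leaf [0, 1, 2, 0, 3, 1]) (.leaf [])))) (.leaf [])) (.node (.leaf []) (.node (.node (.node (.leaf [0, 1, 3, 1, 0, 3]) (.leaf [])) (.leaf [])) (.leaf [])))) (.node (.node (.node (.node (.leaf []) (.node (.leaf []) (.leaf [0, 0, 1, 3, 2, 1]))) (.node (.node (.leaf [1, 0, 3, 2, 2, 0]) (.leaf [])) (.leaf []))) (.node (.node (.node (.leaf [0, 1, 3, 1, 2, 0]) (.leaf [])) (.leaf [])) (.node (.leaf []) (.node (.leaf [1, 3, 3, 1, 2, 1]) (.leaf []))))) (.leaf [])))))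
   (.node (.node (.node (.node (.node (.leaf []) (.node (.node (.node (.leaf [1, 1, 0, 0, 3, 1]) (.leaf [])) (.leaf [])) (.leaf []))) (.node (.node (.node (.node (.leaf [1, 1, 3, 3, 0, 0]) (.leaf [])) (.node (.leaf [0, 1, 3, 2, 3, 0]) (.leaf []))) (.leaf [])) (.node (.node (.node (.leaf [0, 1, 0, 0, 2, 0]) (.leaf [])) (.leaf [])) (.node (.leaf []) (.node (.leaf [1, 3, 1, 1, 1, 2]) (.leaf [])))))) (.node (.node (.node (.node (.node (.leaf [0, 0, 1, 2, 2, 1]) (.leaf [1, 3, 1, 2, 1, 1])) (.node (.leaf [0, 1, 0, 1, 0, 0]) (.leaf []))) (.leaf [])) (.leaf [])) (.node (.node (.node (.node (.leaf [1, 2, 1, 2, 2, 1]) (.leaf [1, 1, 2, 1, 1, 1])) (.leaf [])) (.node (.node (.leaf []) (.leaf [1, 3, 3, 3, 2, 2])) (.leaf []))) (.node (.node (.node (.leaf [0, 1, 0, 0, 0, 3]) (.leaf [])) (.leaf [])) (.leaf [])))))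
     (.node (.node (.node (.node (.node (.node (.leaf [1, 3, 1, 3, 3, 1]) (.leaf [])) (.node (.leaf [0, 1, 1, 0, 3, 3]) (.leaf []))) (.node (.node (.leaf [1, 2, 0, 1, 3, 0]) (.leaf [])) (.leaf []))) (.node (.node (.node (.leaf [1, 0, 3, 0, 3, 1]) (.leaf [])) (.leaf [])) (.leaf []))) (.node (.leaf []) (.node (.node (.node (.leaf [1, 3, 1, 2, 3, 3]) (.leaf [])) (.node (.leaf [0, 1, 2, 3, 0, 2]) (.leaf []))) (.node (.node (.leaf [1, 0, 0, 1, 2, 2]) (.leaf [])) (.leaf []))))) (.node (.node (.node (.node (.node (.leaf [1, 1, 2, 3, 0, 0]) (.leaf [1, 1, 2, 1, 1, 3])) (.node (.leaf [1, 0, 1, 0, 3, 2]) (.leaf []))) (.node (.node (.leaf [1, 0, 3, 2, 0, 2]) (.leaf [1, 1, 1, 3, 3, 2])) (.leaf []))) (.node (.node (.node (.leaf []) (.leaf [1, 1, 0, 2, 2, 0])) (.node (.leaf [1, 2, 1, 1, 3, 2]) (.leaf []))) (.leaf []))) (.node (.node (.node (.node (.leaf [1, 3, 1, 1, 2, 3]) (.leaf [])) (.leaf [])) (.leaf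 [])) (.node (.node (.node (.leaf [0, 1, 1, 0, 3, 2]) (.leaf [])) (.leaf [])) (.leaf []))))))
    (.node (.node (.node (.node (.node (.node (.node (.leaf []) (.leaf [1, 3, 0, 3, 0, 3])) (.leaf [])) (.node (.node (.leaf []) (.leaf [1, 3, 0, 1, 0, 2])) (.node (.leaf [0, 1, 1, 0, 3, 1]) (.leaf [])))) (.node (.leaf []) (.node (.leaf []) (.node (.leaf [1, 3, 3, 1, 3, 2]) (.leaf []))))) (.node (.node (.node (.leaf []) (.node (.leaf [1, 0, 1, 3, 0, 2]) (.leaf []))) (.node (.node (.leaf []) (.leaf [1, 2, 3, 2, 0, 0])) (.leaf []))) (.node (.node (.leaf []) (.node (.leaf [0, 1, 1, 2, 2, 0]) (.leaf []))) (.node (.node (.leaf [0, 1, 1, 0, 1, 1]) (.leaf [])) (.leaf []))))) (.node (.node (.leaf []) (.node (.node (.node (.leaf [1, 2, 3, 3, 2, 3]) (.leaf [])) (.leaf [])) (.node (.leaf []) (.node (.leaf [1, 3, 2, 1, 3, 2]) (.leaf []))))) (.node (.leaf []) (.node (.node (.node (.leaf [1, 2, 1, 0, 0, 1])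 (.leaf [1, 1, 3, 3, 3, 2])) (.leaf [])) (.node (.node (.leaf [1, 2, 3, 3, 1, 1]) (.leaf [])) (.leaf []))))))
     (.node (.node (.node (.node (.node (.node (.leaf [1, 3, 0, 0, 2, 2]) (.leaf [])) (.leaf [])) (.node (.node (.leaf [1, 0, 0, 2, 1, 3]) (.leaf [1, 3, 2, 0, 2, 0])) (.leaf []))) (.leaf [])) (.node (.node (.node (.leaf []) (.node (.leaf [1, 2, 1, 2, 2, 2]) (.leaf []))) (.node (.node (.leaf [0, 1, 1, 2, 3, 0]) (.leaf [1, 1, 2, 2, 3, 2])) (.leaf []))) (.leaf []))) (.node (.node (.node (.node (.leaf []) (.node (.leaf []) (.leaf [0, 0, 0, 1, 2, 0]))) (.leaf [])) (.node (.node (.node (.leaf [1, 3, 3, 3, 2, 1]) (.leaf [])) (.leaf [])) (.leaf []))) (.node (.leaf []) (.node (.leaf []) (.node (.node (.leaf [1, 3, 1, 2, 0, 0]) (.leaf [])) (.leaf [])))))))))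
  (.node (.node (.node (.node (.node (.leaf []) (.node (.node (.node (.node (.leaf [1, 2, 2, 1, 3, 3]) (.leaf [])) (.node (.leaf [1, 0, 1, 3, 0, 1]) (.leaf []))) (.leaf [])) (.node (.node (.leaf []) (.node (.leaf [0, 1, 3, 2, 0, 2]) (.leaf []))) (.node (.leaf []) (.node (.leaf [1, 3, 1, 1, 2, 2]) (.leaf [])))))) (.node (.node (.node (.node (.node (.leaf [1, 3, 3, 1, 1, 3]) (.leaf [])) (.leaf [])) (.node (.node (.leaf [1, 2, 2, 3, 3, 3]) (.leaf [])) (.leaf []))) (.node (.node (.node (.leaf [1, 2, 2, 1, 1, 2]) (.leaf [])) (.leaf [])) (.node (.leaf []) (.node (.leaf [1, 3, 3, 2, 2, 1]) (.leaf []))))) (.node (.node (.leaf []) (.node (.node (.leaf [1, 2, 3, 0, 0, 2]) (.leaf [])) (.leaf []))) (.node (.leaf []) (.node (.leaf []) (.node (.leaf [1, 3, 1, 2, 3, 2]) (.leaf [])))))))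
     (.node (.node (.node (.node (.leaf []) (.node (.node (.leaf []) (.leaf [1, 1, 0, 2, 1, 0])) (.leaf []))) (.node (.node (.leaf []) (.node (.leaf []) (.leaf [0, 0, 1, 1, 3, 3]))) (.leaf []))) (.node (.node (.node (.node (.leaf []) (.leaf [1, 1, 1, 2, 1, 1])) (.leaf [])) (.leaf [])) (.node (.node (.leaf []) (.node (.leaf [1, 0, 3, 1, 2, 0]) (.leaf []))) (.leaf [])))) (.node (.node (.node (.leaf []) (.node (.node (.leaf []) (.leaf [1, 3, 1, 2, 1, 3])) (.leaf []))) (.node (.node (.node (.leaf [1, 3, 1, 2, 1, 2]) (.leaf [])) (.leaf [])) (.leaf []))) (.node (.node (.node (.node (.leaf [1, 3, 2, 3, 2, 3]) (.leaf [1, 1, 2, 3, 1, 3])) (.leaf [])) (.leaf [])) (.leaf [])))))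
    (.node (.node (.node (.node (.node (.node (.node (.leaf [1, 1, 1, 1, 2, 3]) (.leaf [])) (.leaf [])) (.node (.leaf []) (.node (.leaf [0, 1, 3, 0, 3, 1]) (.leaf [])))) (.node (.node (.node (.leaf [1, 2, 3, 1, 1, 2]) (.leaf [])) (.leaf [])) (.leaf []))) (.node (.node (.node (.node (.leaf [1, 2, 3, 1, 1, 1]) (.leaf [])) (.node (.leaf [0, 1, 2, 3, 3, 0]) (.leaf []))) (.leaf [])) (.node (.leaf []) (.node (.node (.leaf [1, 0, 3, 0, 2, 2]) (.leaf [])) (.leaf []))))) (.node (.node (.leaf []) (.node (.node (.node (.leaf [1, 2, 2, 2, 2, 3]) (.leaf [])) (.node (.leaf [1, 2, 1, 1, 2, 3]) (.leaf []))) (.leaf []))) (.node (.node (.node (.leaf []) (.node (.leaf [1, 2, 0, 0, 2, 2]) (.leaf []))) (.leaf [])) (.node (.node (.node (.leaf [1, 2, 3, 2, 2, 1]) (.leaf [1, 1, 2, 1, 3, 2])) (.node (.leaf [1, 2, 2, 2, 0, 0]) (.leaf []))) (.leaf [])))))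
     (.node (.node (.node (.node (.node (.node (.leaf [1, 3, 1, 3, 2, 2]) (.leaf [])) (.leaf [])) (.node (.node (.leaf []) (.leaf [1, 3, 0, 2, 0, 2])) (.leaf []))) (.leaf [])) (.node (.node (.node (.node (.leaf [1, 3, 1, 1, 3, 2]) (.leaf [])) (.node (.leaf [1, 0, 3, 1, 0, 2]) (.leaf []))) (.leaf [])) (.node (.node (.node (.leaf [1, 0, 3, 3, 0, 1]) (.leaf [])) (.leaf [])) (.leaf [])))) (.node (.node (.node (.node (.node (.leaf [1, 2, 3, 3, 0, 0]) (.leaf [1, 1, 1, 1, 3, 1])) (.node (.leaf []) (.leaf [0, 0, 1, 1, 2, 1]))) (.leaf [])) (.node (.node (.node (.leaf [1, 3, 3, 3, 1, 2]) (.leaf [])) (.leaf [])) (.leaf []))) (.node (.node (.node (.node (.leaf [1, 0, 2, 1, 2, 0]) (.leaf [])) (.leaf [])) (.leaf [])) (.node (.leaf []) (.node (.node (.leaf [1, 3, 2, 1, 0, 0]) (.leaf [])) (.leaf []))))))))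
   (.node (.node (.node (.node (.node (.leaf []) (.node (.node (.node (.leaf [1, 0, 0, 0, 3, 0]) (.leaf [])) (.leaf [])) (.leaf []))) (.node (.node (.node (.node (.leaf [1, 1, 1, 2, 3, 3]) (.leaf [])) (.leaf [])) (.leaf [])) (.leaf []))) (.node (.node (.leaf []) (.node (.node (.node (.leaf [1, 2, 3, 1, 2, 3]) (.leaf [])) (.leaf [])) (.leaf []))) (.node (.node (.node (.node (.leaf [1, 2, 3, 3, 2, 1]) (.leaf [])) (.leaf [])) (.leaf [])) (.node (.node (.node (.leaf [1, 0, 0, 0, 2, 0]) (.leaf [])) (.node (.leaf [1, 2, 1, 3, 0, 0]) (.leaf []))) (.leaf [])))))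
     (.node (.node (.node (.node (.node (.leaf []) (.node (.leaf [1, 2, 1, 1, 1, 3]) (.leaf []))) (.leaf [])) (.node (.leaf []) (.node (.leaf []) (.node (.leaf [1, 3, 0, 2, 0, 1]) (.leaf []))))) (.node (.node (.node (.node (.leaf [1, 3, 2, 2, 0, 0]) (.leaf [])) (.leaf [])) (.leaf [])) (.node (.node (.node (.leaf [1, 0, 1, 2, 0, 1]) (.leaf [])) (.leaf [])) (.leaf [])))) (.node (.node (.node (.node (.leaf []) (.node (.leaf [1, 0, 2, 0, 2, 3]) (.leaf [0, 0, 1, 2, 3, 1]))) (.node (.node (.leaf [1, 2, 3, 0, 1, 0]) (.leaf [1, 3, 2, 1, 2, 2])) (.leaf []))) (.node (.node (.node (.leaf []) (.leaf [1, 1, 2, 0, 0, 2])) (.node (.leaf [0, 1, 3, 3, 2, 0]) (.leaf []))) (.leaf []))) (.leaf []))))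
    (.node (.node (.node (.node (.node (.node (.node (.leaf [1, 1, 3, 2, 2, 3]) (.leaf [])) (.node (.leaf [1, 0, 2, 0, 0, 0]) (.leaf []))) (.node (.node (.leaf []) (.leaf [1, 3, 1, 0, 0, 2])) (.leaf []))) (.leaf [])) (.node (.node (.node (.node (.leaf [1, 1, 2, 1, 2, 1]) (.leaf [])) (.node (.leaf [1, 2, 2, 1, 3, 1]) (.leaf []))) (.node (.node (.leaf [1, 0, 2, 3, 0, 2]) (.leaf [1, 1, 2, 1, 2, 3])) (.leaf []))) (.node (.node (.node (.leaf [0, 1, 1, 3, 0, 1]) (.leaf [])) (.leaf [])) (.leaf [])))) (.node (.node (.node (.node (.node (.leaf []) (.leaf [1, 1, 3, 2, 1, 2])) (.node (.leaf [1, 0, 0, 1, 0, 0]) (.leaf []))) (.leaf [])) (.node (.node (.leaf []) (.node (.leaf [0, 1, 0, 0, 3, 0]) (.leaf []))) (.leaf []))) (.node (.node (.node (.node (.leaf [1, 1, 1, 3, 3, 1]) (.leaf [])) (.leaf [])) (.leaf [])) (.node (.node (.node (.leaf []) (.leaf [1, 3, 3, 0, 2, 0])) (.leaf [])) (.leaf [])))))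
     (.node (.node (.node (.node (.leaf []) (.node (.node (.leaf [1, 2, 2, 3, 2, 1]) (.leaf [1, 1, 1, 0, 1, 0])) (.leaf []))) (.leaf [])) (.node (.node (.node (.leaf []) (.node (.leaf [1, 0, 3, 1, 3, 0]) (.leaf []))) (.node (.node (.leaf [1, 2, 1, 0, 0, 2]) (.leaf [1, 3, 1, 1, 3, 1])) (.leaf []))) (.node (.node (.leaf []) (.node (.leaf [1, 2, 3, 1, 2, 2]) (.leaf []))) (.leaf [])))) (.node (.node (.node (.node (.leaf []) (.node (.leaf [1, 0, 0, 2, 3, 2]) (.leaf [0, 0, 0, 1, 0, 3]))) (.leaf [])) (.node (.node (.node (.leaf [0, 1, 3, 1, 1, 0]) (.leaf [])) (.leaf [])) (.node (.leaf []) (.node (.leaf [1, 3, 0, 3, 3, 0]) (.leaf []))))) (.node (.node (.node (.node (.leaf [1, 0, 3, 3, 2, 0]) (.leaf [])) (.leaf [])) (.leaf [])) (.node (.leaf []) (.node (.node (.leaf [1, 2, 2, 3, 3, 1]) (.leaf [])) (.node (.leaf [1, 3, 1, 2, 2, 3]) (.leaf [])))))))))))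
 (.node (.node (.node (.node (.node (.node (.node (.node (.leaf []) (.node (.node (.leaf []) (.leaf [1, 3, 1, 0, 2, 0])) (.leaf []))) (.node (.node (.node (.leaf []) (.leaf [1, 1, 1, 0, 3, 0])) (.leaf [])) (.leaf []))) (.node (.node (.node (.leaf []) (.node (.leaf [1, 0, 2, 2, 0, 2]) (.leaf [0, 0, 0, 1, 1, 0]))) (.node (.node (.leaf [0, 1, 3, 0, 2, 3]) (.leaf [])) (.leaf []))) (.node (.node (.node (.leaf [0, 1, 2, 2, 1, 0]) (.leaf [])) (.node (.leaf [1, 2, 3, 2, 3, 2]) (.leaf []))) (.leaf [])))) (.node (.node (.node (.leaf []) (.node (.node (.leaf [1, 2, 1, 1, 3, 3]) (.leaf [1, 3, 1, 2, 3, 1])) (.leaf []))) (.node (.leaf []) (.node (.leaf []) (.node (.leaf [1, 3, 3, 2, 2, 2]) (.leaf []))))) (.node (.node (.node (.leaf []) (.node (.leaf [1, 2, 3, 3, 2, 2]) (.leaf []))) (.node (.node (.leaf [1, 2, 0, 3, 0, 2]) (.leaf [])) (.leaf []))) (.node (.node (.node (.leaf [1, 0, 0, 0, 0, 1]) (.leaf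 [])) (.leaf [])) (.leaf [])))))
     (.node (.node (.node (.node (.node (.node (.leaf [1, 3, 2, 2, 1, 3]) (.leaf [])) (.leaf [])) (.leaf [])) (.node (.node (.node (.leaf [1, 2, 2, 0, 0, 3]) (.leaf [])) (.node (.leaf []) (.leaf [0, 0, 1, 2, 1, 1]))) (.leaf []))) (.node (.node (.node (.node (.leaf [1, 3, 3, 2, 3, 2]) (.leaf [])) (.leaf [])) (.leaf [])) (.node (.node (.node (.leaf [0, 1, 3, 3, 0, 1]) (.leaf [])) (.leaf [])) (.leaf [])))) (.node (.node (.leaf []) (.node (.node (.node (.leaf []) (.leaf [1, 1, 0, 3, 0, 3])) (.leaf [])) (.leaf []))) (.node (.node (.node (.node (.leaf [1, 1, 3, 1, 1, 3]) (.leaf [])) (.leaf [])) (.leaf [])) (.leaf [])))))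
    (.node (.node (.node (.node (.node (.node (.node (.leaf [0, 0, 1, 1, 3, 2]) (.leaf [])) (.leaf [])) (.node (.leaf []) (.node (.leaf [1, 0, 0, 2, 1, 2]) (.leaf [])))) (.node (.node (.node (.leaf [1, 2, 1, 1, 2, 1]) (.leaf [])) (.leaf [])) (.leaf []))) (.node (.node (.node (.node (.leaf [1, 2, 2, 2, 3, 3]) (.leaf [])) (.node (.leaf [1, 0, 3, 1, 1, 0]) (.leaf []))) (.leaf [])) (.node (.node (.node (.leaf []) (.leaf [1, 1, 1, 3, 3, 3])) (.leaf [])) (.node (.node (.leaf [1, 0, 2, 0, 2, 2]) (.leaf [])) (.leaf []))))) (.node (.node (.node (.leaf []) (.node (.node (.leaf [1, 2, 3, 0, 0, 3]) (.leaf [])) (.leaf []))) (.node (.node (.node (.leaf [1, 0, 2, 1, 0, 2]) (.leaf [])) (.node (.leaf [1, 2, 0, 0, 1, 1]) (.leaf []))) (.leaf []))) (.node (.node (.node (.node (.leaf [1, 2, 1, 3, 3, 2]) (.leaf [1, 1, 1, 3, 2, 1])) (.leaf [])) (.leaf [])) (.leaf []))))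
     (.node (.node (.node (.node (.node (.node (.leaf [1, 1, 3, 2, 1, 1]) (.leaf [])) (.node (.leaf [1, 0, 3, 0, 3, 2]) (.leaf []))) (.node (.node (.leaf []) (.leaf [1, 3, 0, 2, 2, 0])) (.leaf []))) (.node (.node (.node (.leaf []) (.leaf [1, 1, 0, 2, 0, 3])) (.leaf [])) (.leaf []))) (.node (.node (.node (.node (.leaf []) (.leaf [1, 1, 1, 2, 2, 2])) (.leaf [])) (.node (.node (.leaf [0, 1, 2, 1, 3, 0]) (.leaf [])) (.leaf []))) (.node (.node (.node (.leaf [0, 1, 1, 3, 0, 3]) (.leaf [])) (.leaf [])) (.node (.node (.leaf [1, 0, 1, 0, 2, 2]) (.leaf [])) (.leaf []))))) (.node (.node (.node (.node (.leaf []) (.node (.leaf []) (.leaf [0, 0, 1, 2, 3, 2]))) (.node (.node (.leaf []) (.leaf [1, 3, 1, 2, 2, 2])) (.leaf []))) (.leaf [])) (.leaf [])))))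
   (.node (.node (.node (.node (.node (.node (.node (.node (.leaf [0, 0, 1, 1, 2, 3]) (.leaf [])) (.node (.leaf [0, 1, 0, 2, 3, 3]) (.leaf []))) (.leaf [])) (.node (.leaf []) (.node (.leaf []) (.node (.leaf [1, 3, 3, 3, 3, 2]) (.leaf []))))) (.node (.node (.node (.node (.leaf [1, 3, 1, 1, 0, 0]) (.leaf [])) (.leaf [])) (.leaf [])) (.node (.node (.node (.leaf [0, 1, 0, 0, 0, 2]) (.leaf [])) (.leaf [])) (.node (.leaf []) (.node (.leaf [1, 3, 2, 2, 1, 2]) (.leaf [])))))) (.node (.node (.node (.node (.node (.leaf [1, 3, 3, 1, 3, 1]) (.leaf [])) (.node (.leaf [0, 1, 1, 0, 0, 0]) (.leaf []))) (.node (.node (.leaf [1, 2, 0, 3, 0, 1]) (.leaf [])) (.leaf []))) (.node (.node (.node (.leaf [1, 2, 0, 0, 1, 2]) (.leaf [1, 1, 2, 0, 0, 3])) (.leaf [])) (.leaf []))) (.node (.node (.node (.node (.leaf []) (.leaf [1, 1, 3, 2, 1, 3])) (.leaf [])) (.node (.node (.leaf []) (.leaf [1, 1, 2, 2, 1, 1])) (.leaf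 []))) (.leaf []))))
     (.node (.node (.node (.node (.node (.leaf []) (.node (.leaf [1, 1, 2, 2, 0, 0]) (.leaf []))) (.leaf [])) (.leaf [])) (.node (.leaf []) (.node (.node (.node (.leaf [1, 1, 2, 2, 2, 2]) (.leaf [])) (.leaf [])) (.node (.node (.leaf [0, 1, 0, 3, 1, 1]) (.leaf [])) (.leaf []))))) (.node (.node (.node (.node (.node (.leaf [1, 3, 3, 1, 0, 0]) (.leaf [])) (.leaf [])) (.leaf [])) (.node (.node (.node (.leaf [0, 1, 3, 1, 0, 2]) (.leaf [])) (.leaf [])) (.leaf []))) (.node (.node (.node (.node (.leaf []) (.leaf [1, 1, 3, 1, 1, 2])) (.leaf [])) (.leaf [])) (.leaf [])))))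
    (.node (.node (.node (.node (.node (.node (.node (.leaf [1, 1, 3, 2, 3, 2]) (.leaf [])) (.leaf [])) (.node (.node (.leaf []) (.leaf [1, 3, 3, 0, 0, 2])) (.leaf []))) (.node (.node (.node (.leaf [1, 2, 0, 2, 0, 1]) (.leaf [1, 1, 0, 1, 3, 0])) (.node (.leaf []) (.leaf [0, 0, 1, 3, 3, 3]))) (.leaf []))) (.node (.node (.node (.leaf []) (.node (.leaf [1, 2, 3, 3, 3, 1]) (.leaf []))) (.node (.node (.leaf []) (.leaf [1, 3, 3, 2, 3, 1])) (.leaf []))) (.leaf []))) (.node (.node (.leaf []) (.node (.node (.leaf []) (.node (.leaf [1, 0, 1, 1, 0, 1]) (.leaf []))) (.leaf []))) (.node (.leaf []) (.node (.leaf []) (.node (.node (.leaf [1, 2, 2, 1, 1, 1]) (.leaf [])) (.leaf []))))))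
     (.node (.node (.node (.node (.leaf []) (.node (.node (.leaf [1, 2, 0, 1, 1, 0]) (.leaf [])) (.leaf []))) (.leaf [])) (.node (.node (.node (.node (.leaf [1, 2, 2, 2, 1, 1]) (.leaf [])) (.leaf [])) (.node (.node (.leaf [1, 2, 0, 2, 0, 2]) (.leaf [])) (.leaf []))) (.node (.node (.node (.leaf [1, 1, 0, 0, 2, 2]) (.leaf [])) (.node (.leaf [1, 2, 2, 2, 2, 2]) (.leaf []))) (.node (.leaf []) (.node (.leaf [1, 3, 1, 0, 3, 0]) (.leaf [])))))) (.node (.node (.node (.node (.node (.leaf [1, 2, 1, 2, 3, 3]) (.leaf [])) (.node (.leaf [0, 1, 0, 2, 0, 0]) (.leaf [0, 0, 1, 0, 0, 3]))) (.leaf [])) (.leaf [])) (.node (.leaf []) (.node (.leaf []) (.node (.node (.leaf [1, 2, 3, 2, 1, 3]) (.leaf [])) (.leaf [])))))))))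
  (.node (.node (.node (.node (.node (.node (.node (.node (.node (.leaf [0, 0, 0, 0, 1, 1]) (.leaf [1, 3, 0, 1, 1, 0])) (.node (.leaf [0, 1, 0, 3, 1, 2]) (.leaf []))) (.leaf [])) (.node (.node (.node (.leaf [1, 3, 0, 0, 2, 3]) (.leaf [1, 1, 3, 0, 0, 2])) (.leaf [])) (.node (.leaf []) (.node (.leaf [1, 3, 1, 3, 2, 3]) (.leaf []))))) (.node (.node (.node (.node (.leaf [0, 0, 1, 3, 0, 0]) (.leaf [])) (.node (.leaf [0, 1, 1, 1, 0, 3]) (.leaf []))) (.leaf [])) (.leaf []))) (.node (.node (.node (.node (.leaf []) (.node (.leaf [1, 0, 0, 1, 1, 1]) (.leaf []))) (.leaf [])) (.leaf [])) (.node (.leaf []) (.node (.leaf []) (.node (.leaf []) (.node (.leaf [1, 3, 1, 0, 1, 0]) (.leaf [])))))))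
     (.node (.node (.node (.node (.node (.node (.leaf [1, 3, 0, 0, 1, 3]) (.leaf [])) (.leaf [])) (.node (.node (.leaf [0, 1, 0, 1, 2, 3]) (.leaf [])) (.leaf []))) (.node (.leaf []) (.node (.leaf []) (.node (.leaf [1, 3, 2, 0, 0, 1]) (.leaf []))))) (.node (.leaf []) (.node (.node (.node (.leaf [1, 1, 3, 1, 2, 2]) (.leaf [])) (.node (.leaf [1, 2, 2, 3, 3, 2]) (.leaf []))) (.node (.node (.leaf [1, 0, 0, 2, 2, 2]) (.leaf [])) (.leaf []))))) (.node (.node (.node (.node (.leaf []) (.node (.leaf [0, 1, 0, 1, 3, 3]) (.leaf []))) (.node (.node (.leaf []) (.leaf [1, 3, 2, 1, 1, 3])) (.leaf []))) (.node (.node (.leaf []) (.node (.leaf [0, 1, 1, 1, 1, 0]) (.leaf []))) (.leaf []))) (.node (.node (.node (.node (.leaf [1, 1, 3, 3, 1, 2]) (.leaf [])) (.leaf [])) (.leaf [])) (.leaf [])))))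
    (.node (.node (.node (.node (.node (.leaf []) (.node (.leaf []) (.node (.leaf [0, 1, 0, 3, 3, 1]) (.leaf [])))) (.node (.leaf []) (.node (.leaf []) (.node (.leaf [1, 3, 3, 1, 1, 1]) (.leaf []))))) (.node (.node (.node (.node (.leaf [1, 2, 1, 3, 1, 1]) (.leaf [])) (.leaf [])) (.leaf [])) (.node (.node (.node (.leaf [0, 1, 2, 0, 2, 3]) (.leaf [])) (.leaf [])) (.node (.node (.leaf [0, 1, 0, 2, 1, 1]) (.leaf [])) (.leaf []))))) (.node (.node (.leaf []) (.node (.node (.leaf []) (.node (.leaf [1, 2, 2, 3, 2, 3]) (.leaf []))) (.leaf []))) (.node (.node (.node (.node (.leaf [0, 0, 1, 1, 0, 0]) (.leaf [])) (.node (.leaf [1, 2, 2, 2, 3, 1]) (.leaf []))) (.leaf [])) (.node (.node (.node (.leaf []) (.leaf [1, 3, 1, 1, 1, 3])) (.leaf [])) (.leaf [])))))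
     (.node (.node (.node (.node (.node (.node (.leaf [0, 0, 1, 3, 2, 2]) (.leaf [])) (.node (.leaf [1, 0, 3, 0, 1, 1]) (.leaf []))) (.node (.node (.leaf []) (.leaf [1, 1, 0, 1, 0, 1])) (.leaf []))) (.node (.node (.node (.leaf []) (.leaf [1, 1, 0, 1, 0, 2])) (.leaf [])) (.leaf []))) (.node (.node (.node (.leaf []) (.node (.leaf [1, 2, 2, 1, 2, 2]) (.leaf []))) (.node (.node (.leaf []) (.leaf [1, 3, 3, 3, 1, 3])) (.leaf []))) (.node (.node (.node (.leaf [0, 1, 2, 2, 0, 3]) (.leaf [])) (.leaf [])) (.leaf [])))) (.node (.node (.node (.node (.leaf []) (.node (.leaf []) (.leaf [0, 0, 1, 2, 1, 3]))) (.leaf [])) (.node (.node (.leaf []) (.node (.leaf [0, 1, 2, 1, 2, 0]) (.leaf []))) (.node (.leaf []) (.node (.leaf [1, 3, 2, 0, 3, 0]) (.leaf []))))) (.node (.node (.node (.node (.leaf [1, 0, 2, 1, 3, 0]) (.leaf [])) (.leaf [])) (.leaf [])) (.node (.leaf []) (.node (.node (.leaf [1, 2, 2, 3, 1,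 3]) (.leaf [])) (.leaf []))))))))
   (.node (.node (.node (.node (.leaf []) (.node (.node (.node (.node (.leaf [1, 1, 1, 2, 0, 0]) (.leaf [])) (.node (.leaf [1, 0, 2, 2, 3, 0]) (.leaf []))) (.node (.node (.leaf [0, 1, 3, 0, 3, 2]) (.leaf [])) (.leaf []))) (.leaf []))) (.node (.node (.node (.node (.leaf []) (.node (.leaf [0, 1, 3, 0, 1, 2]) (.leaf []))) (.leaf [])) (.node (.node (.node (.leaf [1, 2, 1, 3, 2, 3]) (.leaf [1, 1, 1, 0, 0, 2])) (.leaf [])) (.leaf []))) (.leaf [])))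
     (.node (.node (.node (.node (.leaf []) (.node (.leaf []) (.node (.leaf [1, 0, 0, 3, 1, 2]) (.leaf [])))) (.leaf [])) (.node (.node (.node (.node (.leaf [1, 3, 1, 1, 1, 1]) (.leaf [1, 1, 1, 2, 3, 1])) (.node (.leaf [1, 0, 1, 3, 3, 0]) (.leaf []))) (.leaf [])) (.node (.node (.node (.leaf [1, 0, 2, 1, 0, 1]) (.leaf [])) (.leaf [])) (.leaf [])))) (.node (.node (.node (.node (.leaf []) (.node (.leaf []) (.leaf [0, 0, 1, 1, 1, 2]))) (.node (.node (.leaf [1, 0, 0, 1, 1, 3]) (.leaf [])) (.leaf []))) (.node (.node (.node (.leaf [1, 3, 1, 2, 2, 1]) (.leaf [1, 1, 0, 2, 0, 2])) (.node (.leaf [0, 1, 1, 1, 0, 2]) (.leaf []))) (.leaf []))) (.node (.node (.node (.node (.leaf [1, 0, 1, 2, 2, 0]) (.leaf [1, 1, 2, 3, 3, 1])) (.node (.leaf [1, 2, 3, 1, 3, 1]) (.leaf []))) (.leaf [])) (.leaf [])))))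
    (.node (.node (.node (.node (.leaf []) (.node (.node (.node (.leaf []) (.leaf [1, 1, 0, 3, 0, 2])) (.leaf [])) (.node (.leaf []) (.node (.leaf [1, 3, 3, 1, 2, 3]) (.leaf []))))) (.node (.node (.leaf []) (.node (.node (.leaf []) (.leaf [1, 3, 2, 3, 3, 1])) (.leaf []))) (.node (.node (.node (.leaf [0, 1, 0, 2, 3, 2]) (.leaf [])) (.leaf [])) (.node (.node (.leaf [0, 1, 2, 0, 1, 1]) (.leaf [])) (.leaf []))))) (.node (.node (.node (.node (.leaf []) (.node (.leaf [1, 0, 3, 0, 0, 0]) (.leaf []))) (.node (.node (.leaf [1, 0, 0, 1, 3, 1]) (.leaf [])) (.leaf []))) (.node (.node (.leaf []) (.node (.leaf [0, 1, 0, 0, 0, 1]) (.leaf []))) (.node (.leaf []) (.node (.leaf [1, 3, 0, 3, 1, 0]) (.leaf []))))) (.node (.leaf []) (.node (.leaf []) (.node (.node (.leaf [1, 2, 1, 2, 1, 1]) (.leaf [])) (.leaf []))))))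
     (.node (.node (.node (.node (.node (.node (.leaf [1, 1, 2, 3, 3, 2]) (.leaf [])) (.leaf [])) (.node (.node (.leaf []) (.leaf [1, 3, 3, 3, 3, 1])) (.leaf []))) (.node (.leaf []) (.node (.leaf []) (.node (.leaf [1, 3, 1, 1, 3, 3]) (.leaf []))))) (.node (.node (.leaf []) (.node (.node (.leaf [1, 2, 2, 0, 0, 2]) (.leaf [1, 1, 3, 3, 2, 3])) (.leaf []))) (.node (.node (.node (.leaf [1, 1, 0, 0, 3, 3]) (.leaf [])) (.leaf [])) (.leaf [])))) (.node (.node (.node (.node (.leaf []) (.node (.leaf []) (.leaf [0, 0, 1, 0, 0, 2]))) (.leaf [])) (.leaf [])) (.node (.leaf []) (.node (.leaf []) (.node (.node (.leaf [0, 1, 2, 0, 1, 2]) (.leaf [])) (.node (.leaf [1, 3, 3, 0, 3, 0]) (.leaf [])))))))))))))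

end Cfsg.Agent.FischerPresented.U62
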