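import Cfsg.Prelude.Def_Classical
import Cfsg.Agent.Lib.RigidGraph.He.FieldFour
import Cfsg.Agent.Lib.Classical.HermSU
import Cfsg.Agent.Lib.FischerPresented.U62Data

/-!
The unitary model: nine matrices in SU₆(2) and their evaluation on coded vectors.
-/

set_option autoImplicit false
set_option maxRecDepth 100000

namespace Cfsg.Agent.FischerPresented.U62

open Cfsg.Agent.CosetCert
open Cfsg.Agent.RigidGraph.He

/-- The Frobenius of the field with four elements. -/
def frob : K4 →+* K4 where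
  toFun x := x * x
  map_one' := by decide
  map_mul' := by decide
  map_zero' := by decide
  map_add' := by decide

theorem frob_ne_id : frob ≠ RingHom.id K4 := fun h =>
  absurd (RingHom.congr_fun h K4.w) (by decide)

theorem frob_frob : ∀ a, frob (frob a) = a := by decide

theorem frob_eq_pow (x : K4) : frob x = x ^ 2 := (sq x).symm

theorem card_fixed : Nat.card (Cfsg.Agent.Hermitian.fixed frob) = 2 := by
  have h' : ∀ x : K4, frob x = x ↔ x = 0 ∨ x = 1 := by decide
  have h : {x : K4 | frob x = x} = ↑({0, 1} : Finset K4) := by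
    ext x
    simpa using h' x
  show Nat.card ({x : K4 | frob x = x} : Set K4) = 2
  rw [Nat.card_coe_set_eq, h, Set.ncard_coe_finset]
  rfl

/-- A digit of a coded vector. -/
def dig (l : List ℕ) (i : ℕ) : ℕ := l.getD i 0 % 4

/-- A coded vector. -/
def of6 (l : List ℕ) : Fin 6 → K4 := fun i => K4.ofDigit (dig l i)

/-- Product of digits. -/
def mulD (a b : ℕ) : ℕ := [0, 0, 0, 0, 0, 1, 2, 3, 0, 2, 3, 1, 0, 3, 1, 2].getD (4 * a + b) 0

theorem ofDigit_mulD : ∀ a < 4, ∀ b < 4,
    mulD a b < 4 ∧ K4.ofDigit (mulD a b) = K4.ofDigit a * K4.ofDigit b := by decide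

theorem ofDigit_xor : ∀ a < 4, ∀ b < 4,
    Nat.xor a b < 4 ∧ K4.ofDigit (Nat.xor a b) = K4.ofDigit a + K4.ofDigit b := by decide

theorem ofDigit_inj : ∀ a < 4, ∀ b < 4, K4.ofDigit a = K4.ofDigit b → a = b := by decide

theorem dig_lt (l : List ℕ) (i : ℕ) : dig l i < 4 := Nat.mod_lt _ (by norm_num)

/-- A coded dot product of length six. -/
def dot6 (r x : List ℕ) : ℕ :=
  Nat.xor (Nat.xor (Nat.xor (Nat.xor (Nat.xor (mulD (dig r 0) (dig x 0)) (mulD (dig r 1) (dig x 1)))
    (mulD (dig r 2) (dig x 2))) (mulD (dig r 3) (dig x 3))) (mulD (dig r 4) (dig x 4))) (mulD (dig r 5) (dig x 5))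

theorem dot6_spec (r x : List ℕ) :
    dot6 r x < 4 ∧ K4.ofDigit (dot6 r x) = ∑ i : Fin 6, of6 r i * of6 x i := by
  have hm : ∀ i, mulD (dig r i) (dig x i) < 4 ∧
      K4.ofDigit (mulD (dig r i) (dig x i)) = K4.ofDigit (dig r i) * K4.ofDigit (dig x i) := fun i =>
    ofDigit_mulD _ (dig_lt r i) _ (dig_lt x i)
  have h1 := ofDigit_xor _ (hm 0).1 _ (hm 1).1
  have h2 := ofDigit_xor _ h1.1 _ (hm 2).1
  have h3 := ofDigit_xor _ h2.1 _ (hm 3).1
  have h4 := ofDigit_xor _ h3.1 _ (hm 4).1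
  have h5 := ofDigit_xor _ h4.1 _ (hm 5).1
  refine ⟨h5.1, h5.2.trans ?_⟩
  rw [h4.2, h3.2, h2.2, h1.2, (hm 0).2, (hm 1).2, (hm 2).2, (hm 3).2, (hm 4).2, (hm 5).2, Fin.sum_univ_six]
  rfl

/-- The matrix with the given rows. -/
def matOf (R : List (List ℕ)) : Matrix (Fin 6) (Fin 6) K4 := Matrix.of fun i => of6 (R.getD i [])

/-- Matrix times coded vector. -/
def mulN (R : List (List ℕ)) (x : List ℕ) : List ℕ := (List.range 6).map fun i => dot6 (R.getD i []) x

theorem mulVec_of6 (R : List (List ℕ)) (x : List ℕ) : (matOf R).mulVec (of6 x) = of6 (mulN R x) := by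
  funext i
  obtain ⟨h1, h2⟩ := dot6_spec (R.getD i []) x
  show ∑ j, of6 (R.getD i []) j * of6 x j = K4.ofDigit (dig (mulN R x) i)
  rw [← h2, dig, mulN, List.getD_eq_getElem?_getD (l := List.map _ _), List.getElem?_map, List.getElem?_range i.2]
  simp only [Option.map_some, Option.getD_some]
  rw [Nat.mod_eq_of_lt h1]

/-- Coded scalar multiple. -/
def smulN (s : ℕ) (b : List ℕ) : List ℕ := (List.range 6).map fun i => mulD s (dig b i)

theorem of6_smulN {s : ℕ} (hs : s < 4) (b : List ℕ) : of6 (smulN s b) = K4.ofDigit s • of6 b := by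
  funext i
  obtain ⟨h1, h2⟩ := ofDigit_mulD s hs _ (dig_lt b i)
  show K4.ofDigit (dig (smulN s b) i) = K4.ofDigit s * K4.ofDigit (dig b i)
  rw [← h2, dig, smulN, List.getD_eq_getElem?_getD, List.getElem?_map, List.getElem?_range i.2]
  simp only [Option.map_some, Option.getD_some]
  rw [Nat.mod_eq_of_lt h1]

/-- Equality of coded vectors. -/
def vecEq (a b : List ℕ) : Bool := (List.range 6).all fun i => Nat.beq (dig a i) (dig b i)

theorem vecEq_iff {a b : List ℕ} : vecEq a b = true ↔ of6 a = of6 b := by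
  constructor
  · intro h
    funext i
    have := List.all_eq_true.1 h i (List.mem_range.2 i.2)
    rw [Nat.beq_eq] at this
    exact congrArg K4.ofDigit this
  · intro h
    rw [vecEq, List.all_eq_true]
    intro i hi
    rw [List.mem_range] at hi
    rw [Nat.beq_eq]
    exact ofDigit_inj _ (dig_lt a i) _ (dig_lt b i) (congrFun h ⟨i, hi⟩)

/-- Equality up to a nonzero scalar. -/
def scEq (a b : List ℕ) : Bool := [1, 2, 3].any fun s => vecEq a (smulN s b)

theorem scEq_spec {a b : List ℕ} (h : scEq a b = true) : ∃ s : K4, s ≠ 0 ∧ of6 a = s • of6 b := by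
  rw [scEq, List.any_eq_true] at h
  obtain ⟨s, hs, he⟩ := h
  have h2 : ∀ s ∈ [1, 2, 3], s < 4 ∧ K4.ofDigit s ≠ 0 := by decide
  exact ⟨_, (h2 s hs).2, (vecEq_iff.1 he).trans (of6_smulN (h2 s hs).1 b)⟩

theorem scEq_of_smul {a b : List ℕ} {s : K4} (hs : s ≠ 0) (h : of6 a = s • of6 b) : scEq a b = true := by
  have h2 : ∀ s : K4, s ≠ 0 → ∃ d ∈ [1, 2, 3], d < 4 ∧ K4.ofDigit d = s := by decide
  obtain ⟨d, hd, hd4, rfl⟩ := h2 s hs
  rw [scEq, List.any_eq_true]
  exact ⟨d, hd, vecEq_iff.2 (h.trans (of6_smulN hd4 b).symm)⟩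

/-- The matrix is a unitary involution. -/
def suOK (R : List (List ℕ)) : Prop :=
  (matOf R).transpose * (matOf R).map frob = 1 ∧ matOf R * matOf R = 1

theorem det_eq_one {R : List (List ℕ)} (h : suOK R) : (matOf R).det = 1 := by
  have h1 := congrArg Matrix.det h.2
  rw [Matrix.det_mul, Matrix.det_one] at h1
  have h2 : ∀ d : K4, d * d = 1 → d = 1 := by decide
  exact h2 _ h1

instance decSuOK (R : List (List ℕ)) : Decidable (suOK R) := instDecidableAnd

theorem mats_ok : ∀ R ∈ mats, suOK R := by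
  decide +kernel

/-- The model group. -/
abbrev SU6 : Type := Cfsg.SU 6 K4 2

theorem mem_su {R : List (List ℕ)} (h : suOK R) :
    (⟨matOf R, det_eq_one h⟩ : Matrix.SpecialLinearGroup (Fin 6) K4) ∈ Cfsg.SU 6 K4 2 :=
  (Cfsg.Agent.HermSU.mem_SU_iff frob_eq_pow _).2 h.1

theorem getD_mem (j : ℕ) (hj : j < 9) : mats.getD j [] ∈ mats := by
  have h : mats.length = 9 := rfl
  rw [List.getD_eq_getElem _ _ (h.symm ▸ hj)]
  exact List.getElem_mem _

/-- The generators of the model. -/
noncomputable def gen (j : ℕ) : SU6 :=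
  if h : j < 9 then ⟨_, mem_su (mats_ok _ (getD_mem j h))⟩ else 1

/-- The natural action. -/
noncomputable def mv (A : SU6) (u : Fin 6 → K4) : Fin 6 → K4 :=
  ((A : Matrix.SpecialLinearGroup (Fin 6) K4) : Matrix (Fin 6) (Fin 6) K4).mulVec u

theorem mv_one (u : Fin 6 → K4) : mv 1 u = u := Matrix.one_mulVec u

theorem mv_mul (A B : SU6) (u : Fin 6 → K4) : mv (A * B) u = mv A (mv B u) :=
  (Matrix.mulVec_mulVec u _ _).symm

theorem mv_smul (A : SU6) (s : K4) (u : Fin 6 → K4) : mv A (s • u) = s • mv A u :=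
  Matrix.mulVec_smul _ s u

theorem mv_gen {j : ℕ} (hj : j < 9) (x : List ℕ) : mv (gen j) (of6 x) = of6 (mulN (mats.getD j []) x) := by
  rw [gen, dif_pos hj]
  exact mulVec_of6 _ x

/-- The point of a coset. -/
noncomputable def pointOf (c : ℕ) : List ℕ := pointTab.get c

/-- Being in the orbit. -/
noncomputable def inO (c : ℕ) : Bool := !(pointOf c).isEmpty

/-- The seventh point is a combination, with nonzero coefficients, of the first six, and these give all unit vectors. -/
theorem frame_ok :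
    (∀ j : Fin 6, K4.ofDigit (dig lastCoef j) ≠ 0) ∧
    (∀ i, of6 (pointOf (frame.getD 6 0)) i =
      ∑ j : Fin 6, K4.ofDigit (dig lastCoef j) * of6 (pointOf (frame.getD j 0)) i) ∧
    ∀ k i : Fin 6, (Pi.single k 1 : Fin 6 → K4) i =
      ∑ j : Fin 6, K4.ofDigit (dig (unitCoef.getD k []) j) * of6 (pointOf (frame.getD j 0)) i := by
  decide +kernel

/-- A linear map fixing the seven lines is scalar. -/
theorem scalar_of_frame (A : SU6)
    (h : ∀ j, j < 7 → ∃ s : K4, s ≠ 0 ∧ mv A (of6 (pointOf (frame.getD j 0))) = s • of6 (pointOf (frame.getD j 0))) :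
    ∃ s : K4, s ≠ 0 ∧ ((A : Matrix.SpecialLinearGroup (Fin 6) K4) : Matrix (Fin 6) (Fin 6) K4) = s • 1 := by
  obtain ⟨hc, h7, hu⟩ := frame_ok
  set u : Fin 6 → Fin 6 → K4 := fun j => of6 (pointOf (frame.getD j 0)) with hudef
  set c : Fin 6 → K4 := fun j => K4.ofDigit (dig lastCoef j)
  have h7' : of6 (pointOf (frame.getD 6 0)) = ∑ j, c j • u j := funext fun i => by
    rw [Finset.sum_apply]; exact h7 i
  choose s hs0 hs using fun j : Fin 6 => h (j : ℕ) (by omega)
  obtain ⟨s7, hs70, hs7⟩ := h 6 (by omega)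
  have hlin : ∀ a : Fin 6 → K4, mv A (∑ j, a j • u j) = ∑ j, (a j * s j) • u j := by
    intro a
    show ((A : Matrix.SpecialLinearGroup (Fin 6) K4) : Matrix (Fin 6) (Fin 6) K4).mulVec _ = _
    rw [Matrix.mulVec_sum]
    refine Finset.sum_congr rfl fun j _ => ?_
    rw [mul_smul, ← hs j]
    exact mv_smul A (a j) (u j)
  have hspan : Submodule.span K4 (Set.range u) = ⊤ := by
    rw [eq_top_iff]
    intro x _
    rw [pi_eq_sum_univ' x]
    refine Submodule.sum_mem _ fun k _ => Submodule.smul_mem _ _ ?_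
    have hk : (Pi.single k 1 : Fin 6 → K4) = ∑ j : Fin 6, K4.ofDigit (dig (unitCoef.getD k []) j) • u j :=
      funext fun i => by rw [Finset.sum_apply]; exact hu k i
    rw [hk]
    exact Submodule.sum_mem _ fun j _ => Submodule.smul_mem _ _ (Submodule.subset_span ⟨j, rfl⟩)
  have hli : LinearIndependent K4 u :=
    linearIndependent_of_top_le_span_of_card_eq_finrank hspan.ge (by simp)
  have heq : ∀ j, s j = s7 := by
    intro j
    have h1 : ∑ i, (c i * s i) • u i = ∑ i, (c i * s7) • u i := by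
      rw [← hlin c, ← h7', hs7, h7', Finset.smul_sum]
      exact Finset.sum_congr rfl fun i _ => by rw [smul_smul, mul_comm]
    exact mul_left_cancel₀ (hc j) (Fintype.linearIndependent_iffₛ.1 hli _ _ h1 j)
  refine ⟨s7, hs70, Matrix.ext_iff_mulVec.2 fun x => ?_⟩
  rw [Matrix.smul_mulVec, Matrix.one_mulVec]
  obtain ⟨a, rfl⟩ := (Submodule.mem_span_range_iff_exists_fun K4).1 (hspan ▸ Submodule.mem_top : x ∈ _)
  refine (hlin a).trans ?_
  rw [Finset.smul_sum]
  exact Finset.sum_congr rfl fun j _ => by rw [heq j, smul_smul, mul_comm]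

/-- Scalars are central. -/
theorem mem_center_of_scalar {A : SU6} {s : K4}
    (h : ((A : Matrix.SpecialLinearGroup (Fin 6) K4) : Matrix (Fin 6) (Fin 6) K4) = s • 1) :
    A ∈ Subgroup.center SU6 := by
  refine Subgroup.mem_center_iff.2 fun B => Subtype.ext (Subtype.ext ?_)
  show (B.1.1 * A.1.1 : Matrix (Fin 6) (Fin 6) K4) = A.1.1 * B.1.1
  rw [h, Matrix.mul_smul, Matrix.smul_mul, mul_one, one_mul]

/-- Central elements are scalars. -/
theorem scalar_of_mem_center {A : SU6} (h : A ∈ Subgroup.center SU6) :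
    ∃ s : K4, ((A : Matrix.SpecialLinearGroup (Fin 6) K4) : Matrix (Fin 6) (Fin 6) K4) = s • 1 := by
  obtain ⟨c, hc⟩ := Cfsg.Agent.HermSU.scalar_of_commute frob_ne_id frob_frob frob_eq_pow (by norm_num)
    card_fixed A.1.1 fun B hB =>
      congrArg (fun X : SU6 => X.1.1) (Subgroup.mem_center_iff.1 h ⟨B, hB⟩).symm
  exact ⟨c, hc.trans (Matrix.smul_one_eq_diagonal c).symm⟩

theorem card_psu : Nat.card (Cfsg.PSU 6 K4 2) = 9196830720 := by
  have h := Cfsg.Agent.HermSU.card_PSU_mul (n := 6) frob_ne_id frob_frob frob_eq_pow (by norm_num) card_fixed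
  rw [Cfsg.Agent.HermStd.card_GU frob_ne_id frob_frob frob_eq_pow 6 card_fixed] at h
  simp only [Finset.prod_range_succ, Finset.prod_range_zero] at h
  norm_num [Nat.even_iff] at h
  omega

end Cfsg.Agent.FischerPresented.U62
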