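import Cfsg.Prelude.Def_SporadicB
import Cfsg.Agent.Lib.FischerPresented.Fi22
import Cfsg.Agent.Lib.FischerPresented.U62Model
import Cfsg.Agent.Lib.FischerPresented.CoverCongr
import Cfsg.Agent.Lib.Compute.CosetData.Fi22BOrbitBase
import Cfsg.Agent.Lib.Classical.UnitaryStd

/-!
The point stabiliser of the presented Fi22 acts on the 693 isotropic points of a unitary space and is a
non-split double cover of PSU₆(2).
-/

set_option autoImplicit false
set_option maxRecDepth 100000
set_option maxHeartbeats 1000000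

namespace Cfsg.Agent.FischerPresented.U62

open Cfsg.Agent.CosetCert
open Cfsg.Agent.CosetData
open Cfsg.Agent.RigidGraph.He

local notation "FS" => Fi22B.setup

/-- The word of a generator of the stabiliser. -/
def swj (j : ℕ) : List ℕ := Fi22B.sw.getD j []

/-- A generator of the stabiliser. -/
noncomputable def hg (j : ℕ) : Setup.G FS := wprod (Setup.gen FS) (swj j)

theorem hg_mem (j : ℕ) (hj : j < 9) : hg j ∈ Fi22.H := by
  refine Subgroup.subset_closure ⟨swj j, ?_, rfl⟩
  have h : ∀ j < 9, swj j ∈ Fi22B.sw := by decide +kernel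
  exact h j hj

theorem hg_zero : hg 0 = Setup.gen FS 0 := by simp [hg, swj, Fi22B.sw, wprod]

theorem hom_hg {j : ℕ} (hj : j < 9) (c : Fin 3510) :
    (Setup.hom FS (hg j) c : ℕ) = tact Fi22B.P (swj j).reverse c := by
  have h : ∀ j < 9, ((swj j).reverse.all fun x => Nat.blt x Fi22B.P.k) = true := by decide +kernel
  have := hom_tact (P := Fi22B.P) Fi22B.tab_ok (Setup.hom FS) (Setup.hom_gen FS) _ (h j hj) c
  rwa [List.reverse_reverse] at this

theorem hg_invol {j : ℕ} (hj : j < 9) : hg j * hg j = 1 := by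
  have h : ∀ j < 9, wordFixPts Fi22B.P 3510 Fi22.pts (swj j ++ swj j) = true := by decide +kernel
  have := Fi22.word_one (h j hj)
  rwa [wprod_append] at this

theorem induct {motive : Setup.G FS → Prop} (hgen : ∀ j < 9, motive (hg j)) (h1 : motive 1)
    (hmul : ∀ a b, motive a → motive b → motive (a * b)) {g : Setup.G FS} (h : g ∈ Fi22.H) : motive g := by
  have hidx : ∀ w ∈ Fi22B.sw, ∃ j ∈ List.range 9, swj j = w := by decide +kernel
  unfold Fi22.H at h
  induction h using Subgroup.closure_induction'' with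
  | mem x hx =>
    obtain ⟨w, hw, rfl⟩ := hx
    obtain ⟨j, hj, rfl⟩ := hidx w hw
    exact hgen j (List.mem_range.1 hj)
  | inv_mem x hx =>
    obtain ⟨w, hw, rfl⟩ := hx
    obtain ⟨j, hj, rfl⟩ := hidx w hw
    have := hg_invol (List.mem_range.1 hj)
    change motive (hg j)⁻¹
    rw [inv_eq_of_mul_eq_one_right this]
    exact hgen j (List.mem_range.1 hj)
  | one => exact h1
  | mul a b _ _ ha hb => exact hmul a b ha hb

/-- The matrix lifts the permutation of the orbit. -/
def Rel (g : Setup.G FS) (A : SU6) : Prop :=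
  ∀ c : Fin 3510, inO c = true → inO (Setup.hom FS g c : Fin 3510) = true ∧
    ∃ s : K4, s ≠ 0 ∧ mv A (of6 (pointOf c)) = s • of6 (pointOf (Setup.hom FS g c : Fin 3510))

theorem gens_ok : allBelow (fun c => allBelow (fun j => !(inO c) ||
    (inO (tact Fi22B.P (swj j).reverse c) &&
      scEq (mulN (mats.getD j []) (pointOf c)) (pointOf (tact Fi22B.P (swj j).reverse c)))) 9) 3510 = true := by
  decide +kernel

theorem rel_gen {j : ℕ} (hj : j < 9) : Rel (hg j) (gen j) := by
  intro c hc
  have h := allBelow_spec (allBelow_spec gens_ok c.2) hj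
  rw [hc, Bool.not_true, Bool.false_or, Bool.and_eq_true] at h
  rw [hom_hg hj, mv_gen hj]
  exact ⟨h.1, scEq_spec h.2⟩

theorem rel_one : Rel 1 1 := fun c hc => by
  rw [map_one]
  exact ⟨hc, 1, one_ne_zero, by rw [mv_one, one_smul]; rfl⟩

theorem rel_mul {g h : Setup.G FS} {A B : SU6} (ha : Rel g A) (hb : Rel h B) : Rel (g * h) (A * B) := by
  intro c hc
  obtain ⟨h1, s, hs, e1⟩ := hb c hc
  obtain ⟨h2, t, ht, e2⟩ := ha _ h1
  rw [show Setup.hom FS (g * h) c = Setup.hom FS g (Setup.hom FS h c) by rw [map_mul]; rfl]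
  exact ⟨h2, s * t, mul_ne_zero hs ht, by rw [mv_mul, e1, mv_smul, e2, smul_smul]⟩

theorem exists_rel {g : Setup.G FS} (h : g ∈ Fi22.H) : ∃ A, Rel g A :=
  induct (motive := fun g => ∃ A, Rel g A) (fun j hj => ⟨_, rel_gen hj⟩) ⟨1, rel_one⟩
    (fun _ _ ⟨_, ha⟩ ⟨_, hb⟩ => ⟨_, rel_mul ha hb⟩) h

theorem rel_unique {g : Setup.G FS} {A B : SU6} (ha : Rel g A) (hb : Rel g B) :
    A⁻¹ * B ∈ Subgroup.center SU6 := by
  have hf : ∀ j < 7, frame.getD j 0 < 3510 ∧ inO (frame.getD j 0) = true := by decide +kernel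
  obtain ⟨s, -, hs⟩ := scalar_of_frame (A⁻¹ * B) fun j hj => by
    obtain ⟨hlt, hin⟩ := hf j hj
    obtain ⟨-, s, hs, e1⟩ := ha ⟨_, hlt⟩ hin
    obtain ⟨-, t, ht, e2⟩ := hb ⟨_, hlt⟩ hin
    change mv A (of6 (pointOf (frame.getD j 0))) = _ at e1
    change mv B (of6 (pointOf (frame.getD j 0))) = _ at e2
    refine ⟨t * s⁻¹, mul_ne_zero ht (inv_ne_zero hs), ?_⟩
    have e3 := congrArg (fun u => s⁻¹ • mv A⁻¹ u) e1
    simp only [← mv_mul, inv_mul_cancel, mv_one, mv_smul, smul_smul] at e3
    rw [inv_mul_cancel₀ hs, one_smul] at e3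
    rw [mv_mul, e2, mv_smul, ← e3, smul_smul]
  exact mem_center_of_scalar hs

/-- The map onto the projective group. -/
noncomputable def θ : Fi22.H →* Cfsg.PSU 6 K4 2 :=
  MonoidHom.mk' (fun g => QuotientGroup.mk' (Subgroup.center SU6) (exists_rel g.2).choose) fun a b => by
    rw [← map_mul]
    exact QuotientGroup.eq.2 (rel_unique (exists_rel (a * b).2).choose_spec
      (rel_mul (exists_rel a.2).choose_spec (exists_rel b.2).choose_spec))

theorem θ_eq {g : Fi22.H} {A : SU6} (h : Rel g A) : θ g = QuotientGroup.mk' (Subgroup.center SU6) A :=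
  QuotientGroup.eq.2 (rel_unique (exists_rel g.2).choose_spec h)

/-- The generators inside the stabiliser. -/
noncomputable def hgH (j : ℕ) : Fi22.H := if h : j < 9 then ⟨hg j, hg_mem j h⟩ else 1

theorem coe_hgH {j : ℕ} (hj : j < 9) : (hgH j : Setup.G FS) = hg j := by rw [hgH, dif_pos hj]

theorem hgH_central (h : Fi22.H) : hgH 0 * h = h * hgH 0 := by
  refine Subtype.ext ?_
  rw [Subgroup.coe_mul, Subgroup.coe_mul, coe_hgH (by norm_num), hg_zero]
  exact Fi22.central_H h h.2

theorem θ_hgH_zero : θ (hgH 0) = 1 := by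
  rw [θ_eq (g := hgH 0) (A := gen 0) (by rw [coe_hgH (by norm_num)]; exact rel_gen (by norm_num))]
  have h : matOf (mats.getD 0 []) = 1 := by decide +kernel
  have h0 : gen 0 = 1 := by
    rw [gen, dif_pos (by norm_num)]
    exact Subtype.ext (Subtype.ext h)
  rw [h0, map_one]

/-- The base points inside the stabiliser. -/
def opts : List ℕ := chainPts [] Fi22BOrbit.levels

theorem gen_zero_ne_one : Setup.gen FS 0 ≠ 1 := by
  intro h
  have hmv : ∃ c ∈ List.range 3510, tact Fi22B.P [0] c ≠ c := by decide +kernel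
  obtain ⟨c, hc, hne⟩ := hmv
  refine hne ?_
  have := hom_tact (P := Fi22B.P) Fi22B.tab_ok (Setup.hom FS) (Setup.hom_gen FS) [0] (by decide +kernel)
    ⟨c, List.mem_range.1 hc⟩
  simp only [List.reverse_singleton, wprod_cons, wprod_nil, mul_one, h, map_one] at this
  exact this.symm

theorem card_stab_le : Nat.card ↥((Setup.hom FS).range ⊓ fixPts 3510 opts) ≤ 2 := by
  have := Fi22.order_facts.1
  have h1 := chain_le (P := Fi22B.P) Fi22B.tab_ok (Setup.hom FS) (Setup.hom_gen FS) Fi22BOrbit.levels []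
    Fi22BOrbit.levels_ok
  have h2 : Nat.card ↥((Setup.hom FS).range ⊓ fixPts 3510 []) ≤ Nat.card (Setup.hom FS).range :=
    Nat.card_le_card_of_injective _ (Subgroup.inclusion_injective inf_le_left)
  have h3 : Nat.card (Setup.hom FS).range ≤ 64561751654400 :=
    Fi22.order_facts.2.1 ▸ Nat.card_le_card_of_surjective _ (Setup.hom FS).rangeRestrict_surjective
  have h4 := Fi22BOrbit.levels_size
  rw [Nat.ble_eq] at h4
  unfold opts
  have h6 := h1.trans (h2.trans h3)
  by_contra hd
  have h5 : 32280875827200 * 3 ≤ chainSize Fi22BOrbit.levels *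
      Nat.card ↥((Setup.hom FS).range ⊓ fixPts 3510 (chainPts [] Fi22BOrbit.levels)) :=
    Nat.mul_le_mul h4 (show 3 ≤ _ from Nat.lt_of_not_le hd)
  exact absurd (h5.trans h6) (by norm_num)

theorem eq_of_fix {g : Setup.G FS} (h : Setup.hom FS g ∈ fixPts 3510 opts) : g = 1 ∨ g = Setup.gen FS 0 := by
  have ha : Setup.hom FS (Setup.gen FS 0) ∈ fixPts 3510 opts := by
    intro i hi
    have hfix : (opts.all fun p => Nat.beq (tact Fi22B.P [0] p) p) = true := by decide +kernel
    have := hom_tact (P := Fi22B.P) Fi22B.tab_ok (Setup.hom FS) (Setup.hom_gen FS) [0] (by decide +kernel) i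
    simp only [List.reverse_singleton, wprod_cons, wprod_nil, mul_one] at this
    exact Fin.ext (this.trans (Nat.eq_of_beq_eq_true (List.all_eq_true.1 hfix _ hi)))
  set K := (Setup.hom FS).range ⊓ fixPts 3510 opts
  by_contra hne
  rw [not_or] at hne
  have h3 : 3 ≤ Nat.card K := by
    let f : Fin 3 → K := ![1, ⟨_, ⟨_, rfl⟩, ha⟩, ⟨_, ⟨g, rfl⟩, h⟩]
    have hinj := Fi22.order_facts.2.2.1
    have hf : Function.Injective f := by
      intro i j hij
      have := congrArg Subtype.val hij
      fin_cases i <;> fin_cases j <;> simp [f] at this ⊢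
      all_goals first
        | exact gen_zero_ne_one (hinj (this.trans (map_one _).symm))
        | exact gen_zero_ne_one (hinj (this.symm.trans (map_one _).symm))
        | exact hne.1 (hinj (this.trans (map_one _).symm))
        | exact hne.1 (hinj (this.symm.trans (map_one _).symm))
        | exact hne.2 (hinj this)
        | exact hne.2 (hinj this.symm)
    simpa using Nat.card_le_card_of_injective f hf
  exact absurd (h3.trans card_stab_le) (by norm_num)

theorem hom_fix_zero {g : Setup.G FS} (h : g ∈ Fi22.H) :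
    Setup.hom FS g (0 : Fin 3510) = (0 : Fin 3510) := by
  refine induct (motive := fun g => Setup.hom FS g (0 : Fin 3510) = (0 : Fin 3510)) (fun j hj => ?_)
    (by rw [map_one]; rfl) (fun a b ha hb => ?_) h
  rotate_left
  · rw [map_mul]
    exact (congrArg (Setup.hom FS a) hb).trans ha
  have hz : ∀ j < 9, tact Fi22B.P (swj j).reverse 0 = 0 := by decide +kernel
  exact Fin.ext ((hom_hg hj 0).trans (hz j hj))

theorem sep_ok : (opts.all fun b => Nat.beq b 0 || (inO b && allBelow (fun c =>
    Nat.beq c b || !(inO c) || !(scEq (pointOf c) (pointOf b))) 3510)) = true := by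
  decide +kernel

theorem mem_ker {g : Fi22.H} (h : θ g = 1) : g = 1 ∨ g = hgH 0 := by
  obtain ⟨A, hA⟩ := exists_rel g.2
  rw [θ_eq hA] at h
  obtain ⟨σ, hσ⟩ := scalar_of_mem_center ((QuotientGroup.eq_one_iff A).1 h)
  have hσ0 : σ ≠ 0 := by
    rintro rfl
    have hd := A.1.2
    rw [hσ, zero_smul, Matrix.det_zero] at hd
    exact zero_ne_one hd
  have hfix : Setup.hom FS (g : Setup.G FS) ∈ fixPts 3510 opts := by
    intro i hi
    have hb := List.all_eq_true.1 sep_ok _ hi
    rw [Bool.or_eq_true, Nat.beq_eq, Bool.and_eq_true] at hb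
    rcases hb with hb | ⟨hin, hsep⟩
    · have : i = 0 := Fin.ext hb
      rw [this]
      exact hom_fix_zero g.2
    obtain ⟨h1, s, hs, e⟩ := hA i hin
    have h2 := allBelow_spec hsep (Setup.hom FS (g : Setup.G FS) i).2
    rw [Bool.or_eq_true, Bool.or_eq_true, Nat.beq_eq, Bool.not_eq_true', Bool.not_eq_true', h1] at h2
    rcases h2 with (h2 | h2) | h2
    · exact Fin.ext h2
    · exact Bool.noConfusion h2
    · rw [scEq_of_smul (s := s⁻¹ * σ) (mul_ne_zero (inv_ne_zero hs) hσ0) ?_] at h2
      · exact Bool.noConfusion h2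
      rw [mv, hσ, Matrix.smul_mulVec, Matrix.one_mulVec] at e
      rw [mul_smul, e, smul_smul, inv_mul_cancel₀ hs, one_smul]
  rcases eq_of_fix hfix with h | h
  · exact Or.inl (Subtype.ext h)
  · exact Or.inr (Subtype.ext (by rw [coe_hgH (by norm_num), hg_zero]; exact h))

theorem index_H : Fi22.H.index = 3510 :=
  (Setup.exists_equiv_base FS (H := Fi22.H) rfl (by decide +kernel) Fi22B.rots_ok Fi22B.cert_ok
    Fi22B.fix_ok Fi22B.tree_ok Fi22B.tree_len).1

theorem card_H : Nat.card Fi22.H = 18393661440 := by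
  have := Fi22.order_facts.1
  have h := Subgroup.card_mul_index Fi22.H
  rw [index_H, Fi22.order_facts.2.1] at h
  omega

theorem card_ker : Nat.card θ.ker = 2 := by
  rw [Nat.card_eq_two_iff]
  refine ⟨1, ⟨hgH 0, θ_hgH_zero⟩, fun h => gen_zero_ne_one ?_, Set.eq_univ_of_forall fun k => ?_⟩
  · have := congrArg (fun t : θ.ker => ((t : Fi22.H) : Setup.G FS)) h
    rw [← hg_zero, ← coe_hgH (show (0 : ℕ) < 9 by norm_num)]
    exact this.symm
  · rcases mem_ker k.2 with h | h
    · exact Or.inl (Subtype.ext h)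
    · exact Or.inr (Subtype.ext h)

theorem surjective : Function.Surjective θ := by
  have := Fi22.order_facts.1
  have h := Subgroup.card_mul_index θ.ker
  rw [card_ker, card_H, Subgroup.index_ker] at h
  have : Finite (Cfsg.PSU 6 K4 2) := Nat.finite_of_card_ne_zero (by rw [card_psu]; norm_num)
  refine MonoidHom.range_eq_top.1 (Subgroup.eq_top_of_card_eq _ ?_)
  rw [card_psu]
  omega

theorem center_psu : Subgroup.center (Cfsg.PSU 6 K4 2) = ⊥ := by
  obtain ⟨σ, -, hf, hq⟩ := Cfsg.Agent.UnitaryStd.exists_setup (F := K4) (q := 2) (n := 6)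
    (by rw [K4.card_K4]; norm_num) (by norm_num)
  have := Cfsg.Agent.UnitaryStd.isSimpleGroup_psu hf (by norm_num) (fun h => absurd h (by norm_num))
  refine ((inferInstance : (Subgroup.center (Cfsg.PSU 6 K4 2)).Normal).eq_bot_or_eq_top).resolve_right
    fun h => ?_
  letI : CommGroup (Cfsg.PSU 6 K4 2) := Group.commGroupOfCenterEqTop h
  have hp := IsSimpleGroup.prime_card (α := Cfsg.PSU 6 K4 2)
  rw [card_psu] at hp
  norm_num at hp

theorem center_H : Subgroup.center Fi22.H = θ.ker := by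
  refine le_antisymm (fun h hh => MonoidHom.mem_ker.2 ?_) fun h hh => ?_
  · rw [← Subgroup.mem_bot, ← center_psu, Subgroup.mem_center_iff]
    intro q
    obtain ⟨g, rfl⟩ := surjective q
    rw [← map_mul, ← map_mul, Subgroup.mem_center_iff.1 hh g]
  · rcases mem_ker hh with rfl | rfl
    · exact one_mem _
    · exact Subgroup.mem_center_iff.2 fun g => (hgH_central g).symm

/-- Adjacent generators of the stabiliser. -/
def braidH : List (ℕ × ℕ) := [(1, 2), (2, 3), (2, 6), (3, 4), (4, 5), (6, 7)]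

theorem braidH_rel {p : ℕ × ℕ} (hp : p ∈ braidH) : (hgH p.1 * hgH p.2) ^ 3 = 1 := by
  have hlt : ∀ p ∈ braidH, p.1 < 9 ∧ p.2 < 9 := by decide
  have hw : ∀ p ∈ braidH, wordFixPts Fi22B.P 3510 Fi22.pts (rep 3 (swj p.1 ++ swj p.2)) = true := by
    decide +kernel
  refine Subtype.ext ?_
  have := Fi22.word_one (hw p hp)
  rw [wprod_rep, wprod_append] at this
  rw [Subgroup.coe_pow, Subgroup.coe_mul, coe_hgH (hlt p hp).1, coe_hgH (hlt p hp).2]
  exact this

theorem hgH_invol {j : ℕ} (hj : j < 9) : hgH j * hgH j = 1 :=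
  Subtype.ext (by rw [Subgroup.coe_mul, coe_hgH hj]; exact hg_invol hj)

theorem central_word : hgH 0 = ((evenWord.map hgH).prod) ^ 7 := by
  refine Subtype.ext ?_
  have hw : wordFixPts Fi22B.P 3510 Fi22.pts ([0] ++ (rep 7 (evenWord.flatMap swj)).reverse) = true := by
    decide +kernel
  have := Fi22.word_one hw
  rw [wprod_append, wprod_reverse (Setup.gen_invol FS), mul_inv_eq_one, wprod_rep] at this
  rw [Subgroup.coe_pow, coe_hgH (by norm_num), hg_zero]
  simp only [wprod_cons, wprod_nil, mul_one] at this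
  rw [this]
  congr 1

theorem isNonsplitDoubleCover : Cfsg.IsNonsplitDoubleCover Fi22.H (Cfsg.PSU 6 K4 2) := by
  refine ⟨by rw [center_H, card_ker],
    ⟨(QuotientGroup.quotientMulEquivOfEq center_H).trans
      (QuotientGroup.quotientKerEquivOfSurjective θ surjective)⟩, fun L hL => ?_⟩
  rw [center_H] at hL
  have hidx : L.index = 2 := by rw [← card_ker]; exact hL.index_eq_card
  have := Subgroup.normal_of_index_eq_two hidx
  have hc : Nat.card (Fi22.H ⧸ L) = 2 := hidx
  have := Fact.mk Nat.prime_two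
  have := isCyclic_of_prime_card hc
  have hcomm : ∀ a b : Fi22.H ⧸ L, a * b = b * a := fun a b => IsCyclic.commGroup.mul_comm a b
  set f : ℕ → Fi22.H ⧸ L := fun j => QuotientGroup.mk' L (hgH j) with hf
  have hinv : ∀ j, f j * f j = 1 := fun j => by
    by_cases hj : j < 9
    · rw [hf, ← map_mul, hgH_invol hj, map_one]
    · simp [hf, hgH, hj]
  have hall := all_eq_of_central hinv (r := 1) (fun g => hcomm _ g) braidH [1]
    (fun i hi => by rw [List.mem_singleton.1 hi])
    fun p hp => by rw [hf, ← map_mul, ← map_pow, braidH_rel hp, map_one]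
  have hmem : ∀ i ∈ [2, 3, 4, 6, 7], f i = f 1 := fun i hi => hall i (by
    have : ∀ i ∈ [2, 3, 4, 6, 7], i ∈ braidH.foldl (fun S p => if p.1 ∈ S then p.2 :: S else S) [1] := by
      decide
    exact this i hi)
  have hz : QuotientGroup.mk' L (hgH 0) = 1 := by
    rw [central_word, map_pow, map_list_prod, List.map_map]
    simp only [evenWord, List.map_cons, List.map_nil, Function.comp_apply, List.prod_cons, List.prod_nil,
      mul_one]
    change (f 1 * (f 4 * (f 1 * (f 6 * (f 7 * (f 1 * (f 8 * (f 4 * (f 2 * (f 8 * (f 6 * (f 3 *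
      (f 6 * f 2))))))))))))) ^ 7 = 1
    rw [hmem 4 (by simp), hmem 6 (by simp), hmem 7 (by simp), hmem 2 (by simp), hmem 3 (by simp)]
    have h1 : ∀ z, f 1 * (f 1 * z) = z := fun z => by rw [← mul_assoc, hinv, one_mul]
    simp only [h1, hinv, mul_one, one_pow]
  have hz1 : hgH 0 ∈ L := (QuotientGroup.eq_one_iff _).1 hz
  have hbot : hgH 0 ∈ θ.ker ⊓ L := ⟨θ_hgH_zero, hz1⟩
  rw [hL.disjoint.eq_bot, Subgroup.mem_bot] at hbot
  refine gen_zero_ne_one ?_
  rw [← hg_zero, ← coe_hgH (show (0 : ℕ) < 9 by norm_num), hbot]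
  rfl

end Cfsg.Agent.FischerPresented.U62
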