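import Cfsg.Agent.Lib.Compute.CosetCert

/-! Roots of the eight generators and the singular point of each of the 364 cosets. -/

set_option autoImplicit false
set_option maxRecDepth 100000

namespace Cfsg.Agent.FischerPresented.O73

open Cfsg.Agent.CosetCert

/-- The root of each generator. -/
def roots : List (List ℕ) := [[0, 0, 0, 1, 0, 0, 2], [0, 0, 0, 2, 0, 1, 1], [0, 0, 2, 0, 0, 1, 0], [0, 1, 0, 0, 2, 1, 0], [1, 0, 0, 1, 2, 0, 1], [0, 2, 0, 2, 2, 0, 2], [0, 1, 0, 2, 1, 1, 2], [0, 2, 0, 1, 2, 0, 1]]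

/-- The vector of each coset. -/
def pointTab : WTab :=
  (.node
(.node

(.node
 
 (.node
  (.node (.node (.node (.node (.node (.leaf [1, 1, 0, 1, 1, 0, 1]) (.leaf [1, 1, 1, 2, 2, 2, 2])) (.node (.leaf [0, 1, 1, 2, 2, 1, 0]) (.leaf [1, 1, 0, 1, 1, 0, 1]))) (.node (.node (.leaf [0, 2, 1, 1, 0, 2, 1]) (.leaf [0, 1, 2, 2, 2, 1, 1])) (.node (.leaf [2, 0, 0, 2, 1, 2, 1]) (.leaf [1, 1, 0, 1, 1, 0, 1])))) (.node (.node (.node (.leaf [0, 2, 1, 1, 1, 1, 0]) (.leaf [2, 1, 0, 0, 2, 0, 1])) (.node (.leaf [1, 0, 1, 0, 2, 2, 0]) (.leaf [1, 1, 0, 1, 1, 0, 1]))) (.node (.node (.leaf [0, 2, 1, 2, 0, 1, 1]) (.leaf [0, 1, 1, 0, 2, 1, 0])) (.node (.leaf [2, 1, 2, 1, 1, 1, 2]) (.leaf [1, 1, 0, 1, 1, 0, 1]))))) (.node (.node (.node (.node (.leaf [1, 1, 2, 2, 0, 1, 0])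 (.leaf [1, 2, 1, 2, 2, 0, 2])) (.node (.leaf [1, 1, 2, 2, 0, 2, 2]) (.leaf [1, 1, 0, 1, 1, 0, 1]))) (.node (.node (.leaf [1, 2, 1, 1, 2, 0, 1]) (.leaf [0, 2, 1, 1, 0, 0, 0])) (.node (.leaf [1, 1, 1, 0, 0, 2, 0]) (.leaf [1, 1, 0, 1, 1, 0, 1])))) (.node (.node (.node (.leaf [2, 1, 0, 0, 2, 1, 0]) (.leaf [0, 1, 0, 2, 0, 1, 0])) (.node (.leaf [1, 0, 1, 0, 0, 2, 2]) (.leaf [1, 1, 0, 1, 1, 0, 1]))) (.node (.node (.leaf [0, 1, 1, 0, 1, 2, 2]) (.leaf [1, 1, 0, 1, 1, 0, 1])) (.node (.leaf [1, 2, 1, 2, 0, 0, 1]) (.leaf [1, 1, 0, 1, 1, 0, 1])))))) (.node (.node (.node (.node (.node (.leaf [2, 1, 2, 2, 2, 2, 1]) (.leaf [2, 2, 0, 0, 1, 0, 2])) (.node (.leaf [2, 0, 2, 1, 2, 1, 0]) (.leaf [1, 1, 0, 1, 1, 0, 1]))) (.node (.node (.leaf [2, 2, 2, 1, 2, 0, 1]) (.leaf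 [1, 1, 2, 2, 2, 0, 0])) (.node (.leaf [1, 2, 2, 2, 1, 1, 2]) (.leaf [1, 1, 0, 1, 1, 0, 1])))) (.node (.node (.node (.leaf [1, 1, 0, 2, 1, 2, 2]) (.leaf [1, 1, 0, 2, 0, 0, 1])) (.node (.leaf [1, 1, 1, 0, 0, 2, 1]) (.leaf [1, 1, 0, 1, 1, 0, 1]))) (.node (.node (.leaf [1, 1, 1, 2, 2, 1, 1]) (.leaf [0, 0, 1, 2, 0, 1, 1])) (.node (.leaf [1, 2, 0, 0, 1, 1, 1]) (.leaf [1, 1, 0, 1, 1, 0, 1]))))) (.node (.node (.node (.node (.leaf [1, 2, 2, 1, 2, 0, 1]) (.leaf [2, 1, 2, 0, 0, 1, 1])) (.node (.leaf [1, 1, 2, 2, 1, 1, 1]) (.leaf [1, 1, 0, 1, 1, 0, 1]))) (.node (.node (.leaf [0, 0, 0, 2, 2, 2, 0]) (.leaf [1, 0, 2, 0, 1, 1, 1])) (.node (.leaf [2, 0, 2, 1, 1, 1, 0]) (.leaf [1, 1, 0, 1, 1, 0, 1])))) (.node (.node (.node (.leaf [0, 1, 2, 2, 2, 0, 2]) (.leaf [0, 0,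 0, 0, 1, 0, 2])) (.node (.leaf [0, 0, 0, 0, 0, 1, 1]) (.leaf [1, 1, 0, 1, 1, 0, 1]))) (.node (.node (.leaf [0, 0, 1, 1, 0, 0, 0]) (.leaf [1, 1, 0, 1, 1, 0, 1])) (.node (.leaf [2, 2, 2, 0, 1, 0, 1]) (.leaf [1, 1, 0, 1, 1, 0, 1]))))))) (.node (.node (.node (.node (.node (.node (.leaf [2, 1, 2, 0, 2, 0, 0]) (.leaf [1, 1, 0, 1, 2, 0, 0])) (.node (.leaf [0, 0, 2, 2, 2, 2, 1]) (.leaf [1, 1, 0, 1, 1, 0, 1]))) (.node (.node (.leaf [0, 2, 0, 2, 1, 0, 2]) (.leaf [2, 1, 1, 2, 0, 0, 1])) (.node (.leaf [2, 0, 1, 2, 1, 1, 2]) (.leaf [1, 1, 0, 1, 1, 0, 1])))) (.node (.node (.node (.leaf [0, 1, 1, 0, 0, 0, 0]) (.leaf [1, 1, 0, 0, 2, 2, 2])) (.node (.leaf [1, 1, 1, 2, 0, 1, 2]) (.leaf [1, 1, 0, 1, 1, 0, 1]))) (.node (.node (.leaf [0, 0, 0, 2, 2, 0, 0]) (.leaf [0,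 1, 2, 2, 1, 2, 2])) (.node (.leaf [2, 2, 0, 2, 0, 1, 1]) (.leaf [1, 1, 0, 1, 1, 0, 1]))))) (.node (.node (.node (.node (.leaf [2, 1, 1, 1, 1, 1, 0]) (.leaf [2, 2, 2, 1, 2, 2, 0])) (.node (.leaf [2, 0, 1, 0, 1, 2, 0]) (.leaf [1, 1, 0, 1, 1, 0, 1]))) (.node (.node (.leaf [0, 0, 0, 0, 1, 0, 1]) (.leaf [0, 0, 1, 2, 1, 0, 0])) (.node (.leaf [1, 2, 2, 0, 2, 2, 0]) (.leaf [1, 1, 0, 1, 1, 0, 1])))) (.node (.node (.node (.leaf [0, 0, 2, 1, 1, 2, 2]) (.leaf [0, 0, 0, 0, 1, 2, 2])) (.node (.leaf [0, 2, 0, 2, 2, 1, 1]) (.leaf [1, 1, 0, 1, 1, 0, 1]))) (.node (.node (.leaf [0, 1, 2, 1, 1, 0, 2]) (.leaf [1, 1, 0, 1, 1, 0, 1])) (.node (.leaf [2, 2, 2, 2, 1, 0, 0]) (.leaf [1, 1, 0, 1, 1, 0, 1])))))) (.node (.node (.node (.node (.node (.leaf [2, 2, 2, 1, 0, 1, 0])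 (.leaf [2, 2, 1, 2, 1, 1, 1])) (.node (.leaf [0, 0, 2, 0, 0, 0, 2]) (.leaf [1, 1, 0, 1, 1, 0, 1]))) (.node (.node (.leaf [0, 2, 0, 0, 0, 1, 0]) (.leaf [2, 2, 1, 2, 1, 0, 0])) (.node (.leaf [2, 0, 1, 2, 0, 2, 0]) (.leaf [1, 1, 0, 1, 1, 0, 1])))) (.node (.node (.node (.leaf [1, 0, 0, 2, 0, 2, 1]) (.leaf [2, 0, 0, 1, 2, 1, 2])) (.node (.leaf [2, 2, 2, 1, 2, 1, 2]) (.leaf [1, 1, 0, 1, 1, 0, 1]))) (.node (.node (.leaf [1, 0, 1, 0, 1, 2, 2]) (.leaf [1, 1, 0, 1, 1, 0, 1])) (.node (.leaf [2, 0, 2, 2, 0, 2, 2]) (.leaf [1, 1, 0, 1, 1, 0, 1]))))) (.node (.node (.node (.node (.leaf [1, 0, 2, 1, 0, 0, 2]) (.leaf [0, 2, 0, 2, 2, 0, 1])) (.node (.leaf [1, 2, 2, 1, 1, 1, 1]) (.leaf [1, 1, 0, 1, 1, 0, 1]))) (.node (.node (.leaf [0, 2, 0, 0, 0, 1, 2]) (.leaf [0, 2,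 2, 1, 1, 1, 2])) (.node (.leaf [2, 1, 2, 0, 2, 0, 2]) (.leaf [1, 1, 0, 1, 1, 0, 1])))) (.node (.node (.node (.leaf [0, 0, 0, 0, 1, 2, 0]) (.leaf [0, 1, 0, 2, 0, 2, 0])) (.node (.leaf [2, 1, 0, 0, 2, 2, 1]) (.leaf [1, 1, 0, 1, 1, 0, 1]))) (.node (.node (.leaf [2, 2, 2, 2, 1, 2, 1]) (.leaf [1, 1, 0, 1, 1, 0, 1])) (.node (.leaf [1, 0, 1, 2, 1, 0, 1]) (.leaf [1, 1, 0, 1, 1, 0, 1])))))))) (.node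
  (.node
  (.node (.node (.node (.node (.node (.leaf [2, 2, 0, 0, 1, 0, 0]) (.leaf [2, 0, 2, 0, 2, 1, 0])) (.node (.leaf [0, 0, 2, 1, 0, 0, 0]) (.leaf [1, 1, 0, 1, 1, 0, 1]))) (.node (.node (.leaf [0, 2, 0, 0, 0, 0, 0]) (.leaf [0, 1, 2, 0, 2, 2, 0])) (.node (.leaf [1, 1, 2, 1, 1, 0, 1]) (.leaf [1, 1, 0, 1, 1, 0, 1])))) (.node (.node (.node (.leaf [0, 2, 2, 1, 0, 2, 2]) (.leaf [1, 2, 0, 1, 0, 2, 2])) (.node (.leaf [2, 0, 2, 1, 1, 0, 2]) (.leaf [1, 1, 0, 1, 1, 0, 1]))) (.node (.node (.leaf [0, 2, 0, 0, 0, 0, 2]) (.leaf [0, 2, 2, 2, 2, 1, 0])) (.node (.leaf [2, 1, 0, 2, 2, 1, 0]) (.leaf [1, 1, 0, 1, 1, 0, 1]))))) (.node (.node (.node (.node (.leaf [1, 1, 2, 0, 1, 2, 1]) (.leaf [1, 0, 1, 1, 1, 2, 0])) (.node (.leaf [1, 1, 2, 0, 1, 2, 0]) (.leaf [1, 1,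 0, 1, 1, 0, 1]))) (.node (.node (.leaf [0, 1, 1, 2, 2, 0, 2]) (.leaf [0, 0, 2, 0, 2, 0, 1])) (.node (.leaf [2, 1, 2, 1, 2, 1, 1]) (.leaf [1, 1, 0, 1, 1, 0, 1])))) (.node (.node (.node (.leaf [0, 0, 2, 1, 2, 1, 1]) (.leaf [0, 0, 1, 0, 2, 0, 1])) (.node (.leaf [0, 0, 0, 2, 0, 1, 0]) (.leaf [1, 1, 0, 1, 1, 0, 1]))) (.node (.node (.leaf [0, 0, 1, 0, 0, 0, 2]) (.leaf [1, 1, 0, 1, 1, 0, 1])) (.node (.leaf [2, 1, 0, 1, 0, 2, 2]) (.leaf [1, 1, 0, 1, 1, 0, 1])))))) (.node (.node (.node (.node (.node (.leaf [2, 2, 2, 2, 0, 2, 2]) (.leaf [1, 0, 0, 1, 1, 0, 2])) (.node (.leaf [0, 1, 1, 1, 1, 0, 2]) (.leaf [1, 1, 0, 1, 1, 0, 1]))) (.node (.node (.leaf [0, 1, 1, 1, 2, 0, 1]) (.leaf [2, 0, 1, 2, 2, 0, 1])) (.node (.leaf [1, 1, 2, 0, 1, 2, 2]) (.leaf [1, 1, 0, 1,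 1, 0, 1])))) (.node (.node (.node (.leaf [2, 1, 0, 2, 1, 1, 2]) (.leaf [2, 2, 0, 0, 1, 1, 2])) (.node (.leaf [2, 1, 1, 0, 0, 2, 2]) (.leaf [1, 1, 0, 1, 1, 0, 1]))) (.node (.node (.leaf [2, 1, 2, 2, 0, 1, 0]) (.leaf [1, 2, 0, 0, 1, 0, 0])) (.node (.leaf [1, 1, 1, 0, 1, 1, 0]) (.leaf [1, 1, 0, 1, 1, 0, 1]))))) (.node (.node (.node (.node (.leaf [2, 1, 1, 2, 2, 1, 1]) (.leaf [0, 0, 0, 0, 0, 0, 1])) (.node (.leaf [2, 0, 1, 2, 0, 1, 2]) (.leaf [1, 1, 0, 1, 1, 0, 1]))) (.node (.node (.leaf [1, 1, 1, 1, 1, 1, 0]) (.leaf [2, 1, 1, 1, 0, 2, 0])) (.node (.leaf [1, 2, 2, 2, 2, 1, 1]) (.leaf [1, 1, 0, 1, 1, 0, 1])))) (.node (.node (.node (.leaf [0, 2, 2, 2, 0, 0, 0]) (.leaf [0, 2, 2, 2, 0, 1, 2])) (.node (.leaf [1, 0, 0, 2, 2, 2, 1]) (.leaf [1, 1, 0, 1, 1, 0,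 1]))) (.node (.node (.leaf [2, 0, 0, 2, 0, 2, 1]) (.leaf [1, 1, 0, 1, 1, 0, 1])) (.node (.leaf [1, 1, 0, 0, 2, 1, 2]) (.leaf [1, 1, 0, 1, 1, 0, 1]))))))) (.node (.node (.node (.node (.node (.node (.leaf [1, 0, 1, 2, 2, 1, 2]) (.leaf [2, 0, 0, 1, 2, 0, 2])) (.node (.leaf [0, 2, 1, 1, 2, 0, 2]) (.leaf [1, 1, 0, 1, 1, 0, 1]))) (.node (.node (.leaf [1, 1, 0, 2, 1, 0, 2]) (.leaf [1, 1, 2, 0, 2, 0, 1])) (.node (.leaf [2, 0, 1, 1, 0, 1, 1]) (.leaf [1, 1, 0, 1, 1, 0, 1])))) (.node (.node (.node (.leaf [0, 0, 1, 0, 2, 0, 2]) (.leaf [1, 2, 0, 0, 1, 0, 1])) (.node (.leaf [1, 0, 1, 1, 2, 0, 2]) (.leaf [1, 1, 0, 1, 1, 0, 1]))) (.node (.node (.leaf [1, 1, 0, 0, 2, 1, 0]) (.leaf [0, 1, 1, 0, 1, 2, 1])) (.node (.leaf [2, 2, 0, 2, 0, 2, 1]) (.leaf [1, 1, 0, 1, 1,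 0, 1]))))) (.node (.node (.node (.node (.leaf [2, 2, 1, 1, 2, 0, 1]) (.leaf [2, 2, 2, 2, 2, 0, 2])) (.node (.leaf [2, 1, 1, 2, 1, 1, 0]) (.leaf [1, 1, 0, 1, 1, 0, 1]))) (.node (.node (.leaf [1, 0, 0, 2, 0, 1, 1]) (.leaf [2, 1, 0, 1, 1, 2, 1])) (.node (.leaf [1, 1, 2, 1, 0, 0, 2]) (.leaf [1, 1, 0, 1, 1, 0, 1])))) (.node (.node (.node (.leaf [0, 2, 1, 0, 1, 1, 2]) (.leaf [0, 2, 0, 0, 0, 0, 1])) (.node (.leaf [0, 1, 0, 2, 1, 2, 1]) (.leaf [1, 1, 0, 1, 1, 0, 1]))) (.node (.node (.leaf [0, 1, 1, 0, 1, 2, 0]) (.leaf [1, 1, 0, 1, 1, 0, 1])) (.node (.leaf [1, 1, 0, 1, 2, 1, 0]) (.leaf [1, 1, 0, 1, 1, 0, 1])))))) (.node (.node (.node (.node (.node (.leaf [2, 0, 1, 0, 1, 2, 2]) (.leaf [2, 1, 2, 2, 1, 2, 0])) (.node (.leaf [2, 1, 1, 1, 1, 0, 1]) (.leaf [1, 1,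 0, 1, 1, 0, 1]))) (.node (.node (.leaf [0, 0, 0, 0, 1, 1, 0]) (.leaf [1, 0, 2, 2, 1, 0, 1])) (.node (.leaf [2, 0, 2, 2, 1, 2, 2]) (.leaf [1, 1, 0, 1, 1, 0, 1])))) (.node (.node (.node (.leaf [0, 0, 0, 2, 2, 1, 0]) (.leaf [0, 2, 2, 1, 0, 0, 0])) (.node (.leaf [1, 0, 2, 2, 1, 1, 0]) (.leaf [1, 1, 0, 1, 1, 0, 1]))) (.node (.node (.leaf [0, 1, 2, 2, 1, 1, 0]) (.leaf [1, 1, 0, 1, 1, 0, 1])) (.node (.leaf [1, 2, 1, 0, 2, 1, 0]) (.leaf [1, 1, 0, 1, 1, 0, 1]))))) (.node (.node (.node (.node (.leaf [2, 0, 1, 0, 0, 2, 0]) (.leaf [2, 0, 0, 2, 1, 0, 1])) (.node (.leaf [2, 0, 1, 0, 0, 2, 1]) (.leaf [1, 1, 0, 1, 1, 0, 1]))) (.node (.node (.leaf [0, 0, 1, 2, 1, 1, 1]) (.leaf [2, 0, 1, 1, 2, 1, 1])) (.node (.leaf [1, 0, 1, 1, 0, 2, 0]) (.leaf [1, 1, 0, 1, 1, 0, 1]))))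 (.node (.node (.node (.leaf [0, 2, 0, 0, 0, 2, 2]) (.leaf [0, 0, 0, 1, 2, 2, 0])) (.node (.leaf [2, 1, 0, 0, 2, 1, 1]) (.leaf [1, 1, 0, 1, 1, 0, 1]))) (.node (.node (.leaf [2, 2, 2, 0, 2, 2, 2]) (.leaf [1, 1, 0, 1, 1, 0, 1])) (.node (.leaf [2, 0, 0, 1, 2, 2, 2]) (.leaf [1, 1, 0, 1, 1, 0, 1]))))))))) (.node
 (.node
 
 (.node
  (.node (.node (.node (.node (.node (.leaf [2, 1, 0, 1, 1, 0, 1]) (.leaf [1, 1, 1, 1, 2, 2, 1])) (.node (.leaf [0, 2, 1, 0, 2, 2, 1]) (.leaf [1, 1, 0, 1, 1, 0, 1]))) (.node (.node (.leaf [2, 1, 0, 2, 1, 0, 2]) (.leaf [0, 2, 1, 2, 1, 2, 1])) (.node (.leaf [2, 2, 0, 2, 2, 1, 2]) (.leaf [1, 1, 0, 1, 1, 0, 1])))) (.node (.node (.node (.leaf [0, 1, 1, 1, 0, 1, 2]) (.leaf [1, 2, 0, 2, 1, 0, 0])) (.node (.leaf [2, 1, 2, 2, 2, 1, 2])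 (.leaf [1, 1, 0, 1, 1, 0, 1]))) (.node (.node (.leaf [0, 2, 2, 2, 1, 2, 0]) (.leaf [0, 1, 1, 2, 1, 1, 2])) (.node (.leaf [1, 2, 0, 0, 1, 2, 1]) (.leaf [1, 1, 0, 1, 1, 0, 1]))))) (.node (.node (.node (.node (.leaf [2, 2, 1, 2, 2, 1, 0]) (.leaf [2, 0, 2, 0, 2, 1, 2])) (.node (.leaf [2, 2, 1, 0, 0, 2, 2]) (.leaf [1, 1, 0, 1, 1, 0, 1]))) (.node (.node (.leaf [0, 1, 2, 0, 0, 0, 0]) (.leaf [0, 0, 1, 1, 1, 2, 1])) (.node (.leaf [2, 2, 2, 1, 0, 0, 2]) (.leaf [1, 1, 0, 1, 1, 0, 1])))) (.node (.node (.node (.leaf [1, 0, 1, 0, 0, 2, 0]) (.leaf [0, 2, 0, 0, 0, 2, 1])) (.node (.leaf [0, 0, 0, 0, 0, 2, 1]) (.leaf [1, 1, 0, 1, 1, 0, 1]))) (.node (.node (.leaf [0, 0, 2, 2, 0, 1, 2]) (.leaf [1, 1, 0, 1, 1, 0, 1])) (.node (.leaf [1, 2, 0, 1, 0, 1, 2]) (.leaf [1, 1,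 0, 1, 1, 0, 1])))))) (.node (.node (.node (.node (.node (.leaf [1, 0, 1, 0, 2, 2, 1]) (.leaf [2, 2, 0, 1, 1, 0, 0])) (.node (.leaf [0, 1, 2, 2, 0, 2, 1]) (.leaf [1, 1, 0, 1, 1, 0, 1]))) (.node (.node (.leaf [0, 2, 0, 2, 1, 2, 2]) (.leaf [1, 0, 2, 0, 1, 1, 0])) (.node (.leaf [2, 1, 1, 0, 2, 0, 2]) (.leaf [1, 1, 0, 1, 1, 0, 1])))) (.node (.node (.node (.leaf [0, 2, 0, 2, 1, 1, 2]) (.leaf [2, 2, 0, 2, 0, 0, 1])) (.node (.leaf [1, 2, 2, 1, 0, 1, 0]) (.leaf [1, 1, 0, 1, 1, 0, 1]))) (.node (.node (.leaf [1, 2, 1, 2, 0, 1, 2]) (.leaf [0, 0, 2, 2, 0, 2, 1])) (.node (.leaf [1, 2, 2, 2, 0, 2, 2]) (.leaf [1, 1, 0, 1, 1, 0, 1]))))) (.node (.node (.node (.node (.leaf [1, 2, 2, 2, 1, 2, 1]) (.leaf [1, 2, 1, 1, 0, 1, 1])) (.node (.leaf [2, 0, 1, 1, 1, 0, 2]) (.leaf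 [1, 1, 0, 1, 1, 0, 1]))) (.node (.node (.leaf [0, 0, 1, 1, 1, 0, 0]) (.leaf [2, 0, 1, 2, 2, 2, 0])) (.node (.leaf [1, 1, 1, 1, 0, 0, 2]) (.leaf [1, 1, 0, 1, 1, 0, 1])))) (.node (.node (.node (.leaf [0, 1, 1, 0, 0, 0, 1]) (.leaf [0, 1, 0, 2, 0, 0, 0])) (.node (.leaf [2, 0, 0, 2, 1, 1, 1]) (.leaf [1, 1, 0, 1, 1, 0, 1]))) (.node (.node (.leaf [1, 0, 0, 2, 0, 0, 1]) (.leaf [1, 1, 0, 1, 1, 0, 1])) (.node (.leaf [2, 2, 0, 1, 1, 2, 0]) (.leaf [1, 1, 0, 1, 1, 0, 1]))))))) (.node (.node (.node (.node (.node (.node (.leaf [1, 2, 1, 2, 1, 1, 1]) (.leaf [1, 1, 0, 0, 2, 0, 2])) (.node (.leaf [0, 2, 2, 1, 2, 1, 0]) (.leaf [1, 1, 0, 1, 1, 0, 1]))) (.node (.node (.leaf [0, 0, 0, 0, 1, 0, 0]) (.leaf [2, 2, 1, 1, 1, 2, 1])) (.node (.leaf [1, 0, 2, 2, 2, 1, 0]) (.leaf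 [1, 1, 0, 1, 1, 0, 1])))) (.node (.node (.node (.leaf [0, 0, 2, 1, 1, 0, 0]) (.leaf [2, 2, 0, 1, 1, 1, 0])) (.node (.leaf [2, 2, 2, 2, 0, 1, 0]) (.leaf [1, 1, 0, 1, 1, 0, 1]))) (.node (.node (.leaf [0, 0, 0, 0, 1, 1, 1]) (.leaf [0, 2, 1, 0, 2, 2, 2])) (.node (.leaf [2, 1, 0, 2, 2, 2, 0]) (.leaf [1, 1, 0, 1, 1, 0, 1]))))) (.node (.node (.node (.node (.leaf [1, 0, 2, 2, 2, 2, 2]) (.leaf [1, 1, 1, 0, 1, 1, 2])) (.node (.leaf [1, 0, 2, 1, 2, 0, 2]) (.leaf [1, 1, 0, 1, 1, 0, 1]))) (.node (.node (.leaf [0, 1, 0, 1, 0, 0, 0]) (.leaf [2, 2, 0, 0, 1, 1, 0])) (.node (.leaf [2, 1, 1, 2, 1, 2, 1]) (.leaf [1, 1, 0, 1, 1, 0, 1])))) (.node (.node (.node (.leaf [0, 1, 2, 1, 2, 2, 0]) (.leaf [0, 0, 0, 1, 2, 1, 0])) (.node (.leaf [0, 1, 0, 2, 1, 1, 1]) (.leaf [1, 1,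 0, 1, 1, 0, 1]))) (.node (.node (.leaf [0, 0, 2, 1, 0, 1, 1]) (.leaf [1, 1, 0, 1, 1, 0, 1])) (.node (.leaf [2, 2, 0, 0, 1, 2, 2]) (.leaf [1, 1, 0, 1, 1, 0, 1])))))) (.node (.node (.node (.node (.node (.leaf [1, 0, 2, 1, 2, 1, 0]) (.leaf [1, 2, 1, 0, 2, 1, 1])) (.node (.leaf [1, 2, 0, 2, 2, 2, 2]) (.leaf [1, 1, 0, 1, 1, 0, 1]))) (.node (.node (.leaf [0, 2, 0, 1, 1, 2, 1]) (.leaf [2, 2, 1, 0, 1, 0, 1])) (.node (.leaf [1, 2, 2, 1, 1, 0, 0]) (.leaf [1, 1, 0, 1, 1, 0, 1])))) (.node (.node (.node (.leaf [2, 0, 0, 2, 0, 1, 1]) (.leaf [1, 0, 0, 1, 1, 2, 2])) (.node (.leaf [2, 0, 1, 0, 2, 2, 1]) (.leaf [1, 1, 0, 1, 1, 0, 1]))) (.node (.node (.leaf [0, 2, 1, 2, 2, 1, 2]) (.leaf [1, 1, 0, 1, 1, 0, 1])) (.node (.leaf [2, 0, 2, 1, 0, 2, 1]) (.leaf [1, 1, 0, 1,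 1, 0, 1]))))) (.node (.node (.node (.node (.leaf [1, 2, 2, 0, 1, 0, 0]) (.leaf [0, 1, 0, 2, 1, 0, 1])) (.node (.leaf [2, 1, 1, 1, 2, 0, 0]) (.leaf [1, 1, 0, 1, 1, 0, 1]))) (.node (.node (.leaf [0, 1, 2, 0, 0, 0, 1]) (.leaf [0, 1, 1, 1, 2, 2, 2])) (.node (.leaf [2, 0, 2, 0, 0, 1, 2]) (.leaf [1, 1, 0, 1, 1, 0, 1])))) (.node (.node (.node (.leaf [0, 2, 0, 1, 1, 1, 1]) (.leaf [0, 0, 0, 0, 1, 1, 2])) (.node (.leaf [1, 2, 0, 2, 1, 2, 0]) (.leaf [1, 1, 0, 1, 1, 0, 1]))) (.node (.node (.leaf [0, 0, 2, 0, 2, 0, 2]) (.leaf [1, 1, 0, 1, 1, 0, 1])) (.node (.leaf [1, 0, 0, 1, 1, 1, 2]) (.leaf [1, 1, 0, 1, 1, 0, 1])))))))) (.node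
  (.node
  (.node (.node (.node (.node (.node (.leaf [1, 2, 0, 0, 1, 1, 0]) (.leaf [2, 1, 0, 1, 0, 0, 2])) (.node (.leaf [0, 2, 1, 2, 0, 0, 0]) (.leaf [1, 1, 0, 1, 1, 0, 1]))) (.node (.node (.leaf [0, 2, 0, 1, 1, 0, 1]) (.leaf [1, 2, 2, 0, 0, 1, 0])) (.node (.leaf [2, 2, 1, 1, 2, 1, 0]) (.leaf [1, 1, 0, 1, 1, 0, 1])))) (.node (.node (.node (.leaf [0, 1, 2, 1, 2, 0, 1]) (.leaf [2, 1, 0, 1, 0, 1, 2])) (.node (.leaf [1, 2, 1, 0, 1, 0, 2]) (.leaf [1, 1, 0, 1, 1, 0, 1]))) (.node (.node (.leaf [0, 1, 0, 1, 0, 2, 0]) (.leaf [0, 0, 2, 0, 0, 0, 0])) (.node (.leaf [1, 1, 0, 2, 0, 1, 1]) (.leaf [1, 1, 0, 1, 1, 0, 1]))))) (.node (.node (.node (.node (.leaf [1, 2, 2, 0, 2, 2, 2]) (.leaf [2, 0, 2, 1, 2, 2, 1])) (.node (.leaf [2, 2, 1, 2, 2, 2, 1]) (.leaf [1, 1,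 0, 1, 1, 0, 1]))) (.node (.node (.leaf [2, 0, 0, 2, 0, 0, 1]) (.leaf [0, 1, 2, 0, 0, 0, 2])) (.node (.leaf [2, 2, 1, 0, 0, 2, 0]) (.leaf [1, 1, 0, 1, 1, 0, 1])))) (.node (.node (.node (.leaf [0, 0, 1, 1, 2, 1, 2]) (.leaf [0, 0, 2, 2, 1, 0, 0])) (.node (.leaf [0, 0, 0, 2, 0, 2, 0]) (.leaf [1, 1, 0, 1, 1, 0, 1]))) (.node (.node (.leaf [0, 2, 1, 0, 2, 2, 0]) (.leaf [1, 1, 0, 1, 1, 0, 1])) (.node (.leaf [1, 1, 1, 0, 2, 0, 1]) (.leaf [1, 1, 0, 1, 1, 0, 1])))))) (.node (.node (.node (.node (.node (.leaf [1, 1, 1, 0, 0, 2, 2]) (.leaf [1, 1, 2, 2, 2, 2, 1])) (.node (.leaf [0, 1, 1, 0, 2, 1, 1]) (.leaf [1, 1, 0, 1, 1, 0, 1]))) (.node (.node (.leaf [2, 1, 0, 2, 1, 2, 2]) (.leaf [1, 2, 2, 2, 0, 0, 1])) (.node (.leaf [2, 0, 1, 0, 1, 2, 1]) (.leaf [1, 1, 0, 1,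 1, 0, 1])))) (.node (.node (.node (.leaf [0, 2, 0, 0, 0, 2, 0]) (.leaf [1, 1, 0, 1, 2, 2, 0])) (.node (.leaf [1, 1, 1, 1, 1, 2, 2]) (.leaf [1, 1, 0, 1, 1, 0, 1]))) (.node (.node (.leaf [2, 0, 2, 2, 2, 2, 2]) (.leaf [0, 0, 0, 0, 0, 1, 0])) (.node (.leaf [2, 0, 1, 2, 2, 1, 2]) (.leaf [1, 1, 0, 1, 1, 0, 1]))))) (.node (.node (.node (.node (.leaf [2, 0, 1, 1, 0, 0, 2]) (.leaf [0, 0, 0, 2, 0, 0, 0])) (.node (.leaf [1, 0, 2, 2, 0, 1, 0]) (.leaf [1, 1, 0, 1, 1, 0, 1]))) (.node (.node (.leaf [0, 2, 2, 0, 1, 2, 1]) (.leaf [1, 2, 2, 0, 0, 1, 2])) (.node (.leaf [2, 2, 1, 1, 0, 0, 2]) (.leaf [1, 1, 0, 1, 1, 0, 1])))) (.node (.node (.node (.leaf [0, 1, 1, 2, 0, 2, 2]) (.leaf [0, 0, 1, 2, 2, 2, 2])) (.node (.leaf [1, 0, 0, 2, 2, 1, 1]) (.leaf [1, 1, 0, 1, 1, 0,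 1]))) (.node (.node (.leaf [1, 0, 1, 1, 0, 0, 2]) (.leaf [1, 1, 0, 1, 1, 0, 1])) (.node (.leaf [2, 0, 2, 2, 2, 0, 1]) (.leaf [1, 1, 0, 1, 1, 0, 1]))))))) (.node (.node (.node (.node (.node (.node (.leaf [2, 0, 2, 2, 1, 1, 0]) (.leaf [1, 2, 0, 1, 0, 0, 2])) (.node (.leaf [1, 2, 1, 2, 2, 1, 0]) (.leaf [1, 1, 0, 1, 1, 0, 1]))) (.node (.node (.leaf [1, 1, 0, 2, 1, 1, 2]) (.leaf [2, 2, 1, 2, 1, 2, 2])) (.node (.leaf [1, 0, 2, 0, 0, 1, 1]) (.leaf [1, 1, 0, 1, 1, 0, 1])))) (.node (.node (.node (.leaf [0, 0, 2, 2, 1, 1, 2]) (.leaf [2, 1, 0, 2, 2, 0, 0])) (.node (.leaf [2, 1, 2, 1, 2, 0, 0]) (.leaf [1, 1, 0, 1, 1, 0, 1]))) (.node (.node (.leaf [2, 2, 2, 0, 1, 0, 0]) (.leaf [0, 1, 2, 1, 1, 1, 0])) (.node (.leaf [1, 1, 0, 2, 0, 2, 1]) (.leaf [1, 1, 0, 1, 1,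 0, 1]))))) (.node (.node (.node (.node (.leaf [2, 2, 1, 2, 0, 1, 2]) (.leaf [1, 2, 1, 2, 0, 2, 0])) (.node (.leaf [1, 1, 2, 1, 0, 1, 0]) (.leaf [1, 1, 0, 1, 1, 0, 1]))) (.node (.node (.leaf [2, 0, 2, 1, 0, 0, 2]) (.leaf [1, 1, 0, 1, 1, 1, 1])) (.node (.leaf [1, 2, 1, 1, 1, 0, 0]) (.leaf [1, 1, 0, 1, 1, 0, 1])))) (.node (.node (.node (.leaf [0, 0, 1, 0, 2, 0, 0]) (.leaf [0, 0, 0, 1, 2, 0, 0])) (.node (.leaf [0, 2, 0, 2, 2, 2, 1]) (.leaf [1, 1, 0, 1, 1, 0, 1]))) (.node (.node (.leaf [0, 2, 2, 1, 2, 0, 2]) (.leaf [1, 1, 0, 1, 1, 0, 1])) (.node (.leaf [1, 1, 1, 2, 2, 0, 0]) (.leaf [1, 1, 0, 1, 1, 0, 1])))))) (.node (.node (.node (.node (.node (.leaf [2, 2, 1, 0, 0, 2, 1]) (.leaf [1, 1, 2, 0, 2, 0, 0])) (.node (.leaf [1, 2, 2, 0, 2, 2, 1]) (.leaf [1, 1,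 0, 1, 1, 0, 1]))) (.node (.node (.leaf [0, 0, 2, 0, 2, 0, 0]) (.leaf [0, 1, 2, 1, 0, 1, 1])) (.node (.leaf [1, 0, 1, 0, 2, 2, 2]) (.leaf [1, 1, 0, 1, 1, 0, 1])))) (.node (.node (.node (.leaf [0, 0, 0, 0, 1, 2, 1]) (.leaf [0, 1, 1, 0, 0, 0, 2])) (.node (.leaf [2, 0, 2, 1, 0, 1, 0]) (.leaf [1, 1, 0, 1, 1, 0, 1]))) (.node (.node (.leaf [0, 2, 2, 2, 2, 2, 2]) (.leaf [1, 1, 0, 1, 1, 0, 1])) (.node (.leaf [2, 1, 2, 2, 0, 0, 1]) (.leaf [1, 1, 0, 1, 1, 0, 1]))))) (.node (.node (.node (.node (.leaf [0, 1, 2, 0, 2, 2, 2]) (.leaf [1, 0, 0, 2, 2, 0, 1])) (.node (.leaf [1, 2, 2, 0, 1, 0, 2]) (.leaf [1, 1, 0, 1, 1, 0, 1]))) (.node (.node (.leaf [2, 1, 2, 0, 1, 2, 1]) (.leaf [1, 2, 2, 1, 0, 2, 1])) (.node (.leaf [1, 2, 1, 1, 2, 2, 2]) (.leaf [1, 1, 0, 1, 1, 0, 1]))))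 (.node (.node (.node (.leaf [0, 1, 0, 1, 0, 1, 0]) (.leaf [0, 2, 0, 0, 0, 1, 1])) (.node (.leaf [1, 2, 0, 2, 1, 1, 0]) (.leaf [1, 1, 0, 1, 1, 0, 1]))) (.node (.node (.leaf [1, 2, 1, 0, 0, 2, 1]) (.leaf [1, 1, 0, 1, 1, 0, 1])) (.node (.leaf [2, 1, 2, 0, 0, 1, 0]) (.leaf [1, 1, 0, 1, 1, 0, 1]))))))))))

end Cfsg.Agent.FischerPresented.O73
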