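import Cfsg.Prelude.Def_Classical
import Cfsg.Agent.Lib.FischerPresented.O73Data

/-!
The orthogonal representation: negated reflections in eight roots of the form `x₀² + x₁y₁ + x₂y₂ + x₃y₃`
over the integers mod 3, and their evaluation on coded vectors.
-/

set_option autoImplicit false
set_option maxRecDepth 100000

namespace Cfsg.Agent.FischerPresented.O73

open Cfsg.Agent.CosetCert

/-- The coordinates. -/
abbrev I7 : Type := Unit ⊕ (Fin 3 ⊕ Fin 3)

/-- The form. -/
abbrev Q7 : (I7 → ZMod 3) → ZMod 3 := Cfsg.quadFormOdd 3 (ZMod 3)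

/-- Position of a coordinate in a list. -/
def idx : I7 → ℕ
  | .inl _ => 0
  | .inr (.inl i) => 1 + i
  | .inr (.inr i) => 4 + i

/-- A coded vector. -/
def of7 (l : List ℕ) : I7 → ZMod 3 := fun i => ((l.getD (idx i) 0 : ℕ) : ZMod 3)

/-- Polar form on coded vectors. -/
def polN (x v : List ℕ) : ℕ :=
  2 * x.getD 0 0 * v.getD 0 0 +
    ((x.getD 1 0 * v.getD 4 0 + v.getD 1 0 * x.getD 4 0) +
      (x.getD 2 0 * v.getD 5 0 + v.getD 2 0 * x.getD 5 0) +
      (x.getD 3 0 * v.getD 6 0 + v.getD 3 0 * x.getD 6 0))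

/-- The negated reflection on coded vectors. -/
def actN (v x : List ℕ) : List ℕ :=
  (List.range 7).map fun i => (2 * x.getD i 0 + 2 * polN x v * v.getD i 0) % 3

theorem polar_apply (x v : I7 → ZMod 3) : QuadraticMap.polar Q7 x v =
    2 * x (.inl ()) * v (.inl ()) +
      ((x (.inr (.inl 0)) * v (.inr (.inr 0)) + v (.inr (.inl 0)) * x (.inr (.inr 0))) +
      (x (.inr (.inl 1)) * v (.inr (.inr 1)) + v (.inr (.inl 1)) * x (.inr (.inr 1))) +
      (x (.inr (.inl 2)) * v (.inr (.inr 2)) + v (.inr (.inl 2)) * x (.inr (.inr 2)))) := by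
  simp only [QuadraticMap.polar, Cfsg.quadFormOdd, Fin.sum_univ_three, Pi.add_apply]
  ring

theorem q_smul (c : ZMod 3) (x : I7 → ZMod 3) : Q7 (c • x) = c * c * Q7 x := by
  simp only [Cfsg.quadFormOdd, Fin.sum_univ_three, Pi.smul_apply, smul_eq_mul]
  ring

/-- The negated reflection in `v`, for `Q v = 2`. -/
noncomputable def refl (v : I7 → ZMod 3) : (I7 → ZMod 3) →ₗ[ZMod 3] (I7 → ZMod 3) where
  toFun x := -x + (2 * QuadraticMap.polar Q7 x v) • v
  map_add' x y := by
    rw [polar_apply, polar_apply, polar_apply]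
    funext i
    simp only [Pi.add_apply, Pi.neg_apply, Pi.smul_apply, smul_eq_mul]
    ring
  map_smul' c x := by
    rw [polar_apply, polar_apply]
    funext i
    simp only [Pi.add_apply, Pi.neg_apply, Pi.smul_apply, smul_eq_mul, RingHom.id_apply]
    ring

theorem refl_apply (v x : I7 → ZMod 3) : refl v x = -x + (2 * QuadraticMap.polar Q7 x v) • v := rfl

theorem three_eq_zero : (3 : ZMod 3) = 0 := by decide

theorem polar_self (v : I7 → ZMod 3) : QuadraticMap.polar Q7 v v = 2 * Q7 v := by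
  rw [polar_apply]
  simp only [Cfsg.quadFormOdd, Fin.sum_univ_three]
  ring

theorem refl_refl {v : I7 → ZMod 3} (hv : Q7 v = 2) (x : I7 → ZMod 3) : refl v (refl v x) = x := by
  have e : QuadraticMap.polar Q7 (refl v x) v =
      -QuadraticMap.polar Q7 x v + 2 * QuadraticMap.polar Q7 x v * (2 * Q7 v) := by
    rw [← polar_self, polar_apply, polar_apply, polar_apply, refl_apply, polar_apply]
    simp only [Pi.add_apply, Pi.neg_apply, Pi.smul_apply, smul_eq_mul]
    ring
  rw [refl_apply v (refl v x), e, hv, refl_apply]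
  funext i
  simp only [Pi.add_apply, Pi.neg_apply, Pi.smul_apply, smul_eq_mul]
  linear_combination (4 * QuadraticMap.polar Q7 x v * v i) * three_eq_zero

theorem q_refl {v : I7 → ZMod 3} (hv : Q7 v = 2) (x : I7 → ZMod 3) : Q7 (refl v x) = Q7 x := by
  have e : ∀ k : ZMod 3, Q7 (-x + k • v) = Q7 x + k * k * Q7 v - k * QuadraticMap.polar Q7 x v := by
    intro k
    rw [polar_apply]
    simp only [Cfsg.quadFormOdd, Fin.sum_univ_three, Pi.add_apply, Pi.neg_apply, Pi.smul_apply, smul_eq_mul]
    ring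
  rw [refl_apply, e, hv]
  linear_combination (2 * QuadraticMap.polar Q7 x v * QuadraticMap.polar Q7 x v) * three_eq_zero

theorem refl_of7 (v x : List ℕ) : refl (of7 v) (of7 x) = of7 (actN v x) := by
  have hp : QuadraticMap.polar Q7 (of7 x) (of7 v) = ((polN x v : ℕ) : ZMod 3) := by
    rw [polar_apply]
    simp only [polN, of7, idx, Fin.val_zero, Fin.val_one, Fin.val_two, Nat.cast_add, Nat.cast_mul,
      Nat.cast_ofNat]
  funext i
  have hi : idx i < 7 := by rcases i with _ | i | i <;> simp only [idx] <;> omega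
  rw [refl_apply, hp]
  simp only [Pi.add_apply, Pi.neg_apply, Pi.smul_apply, smul_eq_mul, of7]
  rw [actN, List.getD_eq_getElem?_getD (l := List.map _ _), List.getElem?_map, List.getElem?_range hi]
  simp only [Option.map_some, Option.getD_some, ZMod.natCast_mod, Nat.cast_add, Nat.cast_mul, Nat.cast_ofNat]
  linear_combination (-(((x.getD (idx i) 0 : ℕ) : ZMod 3))) * three_eq_zero

/-- Boolean check that a coded root has value 2. -/
def rootOK (v : List ℕ) : Bool :=
  Nat.beq ((v.getD 0 0 * v.getD 0 0 + (v.getD 1 0 * v.getD 4 0 + v.getD 2 0 * v.getD 5 0 +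
    v.getD 3 0 * v.getD 6 0)) % 3) 2

theorem q_of_rootOK {v : List ℕ} (h : rootOK v = true) : Q7 (of7 v) = 2 := by
  rw [rootOK, Nat.beq_eq] at h
  have := congrArg (fun t : ℕ => ((t : ℕ) : ZMod 3)) h
  simp only [ZMod.natCast_mod, Nat.cast_add, Nat.cast_mul, Nat.cast_ofNat] at this
  simp only [Cfsg.quadFormOdd, Fin.sum_univ_three, of7, idx, Fin.val_zero, Fin.val_one, Fin.val_two, sq]
  exact this

/-- The matrix group of the form. -/
abbrev O7 : Type := Cfsg.isometryGroup (ZMod 3) Q7

theorem toMatrix_mul_self {v : I7 → ZMod 3} (hv : Q7 v = 2) :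
    LinearMap.toMatrix' (refl v) * LinearMap.toMatrix' (refl v) = 1 := by
  rw [← LinearMap.toMatrix'_comp, show refl v ∘ₗ refl v = LinearMap.id from LinearMap.ext (refl_refl hv),
    LinearMap.toMatrix'_id]

/-- The reflection as a matrix unit. -/
noncomputable def reflGL {v : I7 → ZMod 3} (hv : Q7 v = 2) : GL I7 (ZMod 3) :=
  ⟨LinearMap.toMatrix' (refl v), LinearMap.toMatrix' (refl v), toMatrix_mul_self hv, toMatrix_mul_self hv⟩

theorem reflGL_mulVec {v : I7 → ZMod 3} (hv : Q7 v = 2) (x : I7 → ZMod 3) :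
    ((reflGL hv : GL I7 (ZMod 3)) : Matrix I7 I7 (ZMod 3)).mulVec x = refl v x :=
  LinearMap.toMatrix'_mulVec (refl v) x

theorem reflGL_mem {v : I7 → ZMod 3} (hv : Q7 v = 2) :
    reflGL hv ∈ Cfsg.isometryGroup (ZMod 3) Q7 := fun u _ => by
  show Q7 (((reflGL hv : GL I7 (ZMod 3)) : Matrix I7 I7 (ZMod 3)).mulVec u) = Q7 u
  rw [reflGL_mulVec hv u]
  exact q_refl hv u

theorem roots_ok : (roots.all fun v => rootOK v) = true := by decide +kernel

theorem q_root (x : ℕ) (hx : x < 8) : Q7 (of7 (roots.getD x [])) = 2 := by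
  refine q_of_rootOK (List.all_eq_true.1 roots_ok _ ?_)
  have h8 : roots.length = 8 := rfl
  rw [List.getD_eq_getElem _ _ (h8.symm ▸ hx)]
  exact List.getElem_mem _

/-- The generators. -/
noncomputable def gen (x : ℕ) : O7 :=
  if h : x < 8 then ⟨reflGL (q_root x h), reflGL_mem (q_root x h)⟩ else 1

/-- The natural action. -/
noncomputable def mv (g : O7) (u : I7 → ZMod 3) : I7 → ZMod 3 :=
  ((g : GL I7 (ZMod 3)) : Matrix I7 I7 (ZMod 3)).mulVec u

theorem mv_one (u : I7 → ZMod 3) : mv 1 u = u := Matrix.one_mulVec u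

theorem mv_mul (g h : O7) (u : I7 → ZMod 3) : mv (g * h) u = mv g (mv h u) :=
  (Matrix.mulVec_mulVec u _ _).symm

theorem eq_one_of_mv {g : O7} (h : ∀ u, mv g u = u) : g = 1 :=
  Subtype.ext (Units.ext (Matrix.ext_iff_mulVec.2 fun u => (h u).trans (Matrix.one_mulVec u).symm))

theorem gen_invol (x : ℕ) : gen x * gen x = 1 := by
  rw [gen]
  split
  · exact Subtype.ext (Units.ext (toMatrix_mul_self (q_root x ‹_›)))
  · rw [one_mul]

theorem mv_gen {x : ℕ} (hx : x < 8) (l : List ℕ) :
    mv (gen x) (of7 l) = of7 (actN (roots.getD x []) l) := by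
  rw [gen, dif_pos hx]
  exact (reflGL_mulVec (q_root x hx) _).trans (refl_of7 _ _)

/-- A word acting on coded vectors, last letter first. -/
def wactN : List ℕ → List ℕ → List ℕ
  | [], l => l
  | x :: w, l => actN (roots.getD x []) (wactN w l)

theorem mv_wprod : ∀ (w : List ℕ), (w.all fun x => Nat.blt x 8) = true → ∀ l : List ℕ,
    mv (wprod gen w) (of7 l) = of7 (wactN w l) := by
  intro w
  induction w with
  | nil => intro _ l; exact mv_one _
  | cons x w ih =>
    intro hw l
    rw [List.all_cons, Bool.and_eq_true, Nat.blt_eq] at hw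
    rw [show wprod gen (x :: w) = gen x * wprod gen w by simp [wprod], mv_mul, ih hw.2, mv_gen hw.1]
    rfl

/-- The unit vectors. -/
def unit7 (j : ℕ) : List ℕ := (List.range 7).map fun i => if Nat.beq i j then 1 else 0

/-- Coded equality mod 3. -/
def vecEq (a b : List ℕ) : Bool := (List.range 7).all fun i => Nat.beq (a.getD i 0 % 3) (b.getD i 0 % 3)

theorem of7_congr {a b : List ℕ} (h : vecEq a b = true) : of7 a = of7 b := by
  funext i
  have hi : idx i < 7 := by rcases i with _ | i | i <;> simp only [idx] <;> omega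
  have := List.all_eq_true.1 h (idx i) (List.mem_range.2 hi)
  rw [Nat.beq_eq] at this
  show ((a.getD (idx i) 0 : ℕ) : ZMod 3) = ((b.getD (idx i) 0 : ℕ) : ZMod 3)
  exact (ZMod.natCast_eq_natCast_iff' _ _ _).2 this

/-- The word fixes all unit vectors. -/
def wordIdN (w : List ℕ) : Bool :=
  (w.all fun x => Nat.blt x 8) && (List.range 7).all fun j => vecEq (wactN w (unit7 j)) (unit7 j)

theorem single_eq : ∀ j : I7, (Pi.single j 1 : I7 → ZMod 3) = of7 (unit7 (idx j)) := by decide +kernel

theorem wprod_eq_one {w : List ℕ} (h : wordIdN w = true) : wprod gen w = 1 := by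
  simp only [wordIdN, Bool.and_eq_true] at h
  refine Subtype.ext (Units.ext (Matrix.ext_of_mulVec_single fun j => ?_))
  have hi : idx j < 7 := by rcases j with _ | i | i <;> simp only [idx] <;> omega
  show mv (wprod gen w) (Pi.single j 1) = mv 1 (Pi.single j 1)
  rw [mv_one, single_eq, mv_wprod w h.1]
  exact of7_congr (List.all_eq_true.1 h.2 _ (List.mem_range.2 hi))

end Cfsg.Agent.FischerPresented.O73
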