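import Cfsg.Agent.Lib.FischerPresented.Chain
import Cfsg.Agent.Lib.FischerPresented.O73Rep
import Cfsg.Agent.Lib.FischerPresented.Fi22
import Cfsg.Agent.Lib.Compute.CosetData.ChainO73Base
import Cfsg.Agent.Lib.Orthogonal.POmega
import Cfsg.Agent.Lib.Orthogonal.LowDim
import Cfsg.Agent.Lib.Orthogonal.Counts

/-!
The group presented on the sub-diagram b, …, i of Fi22 with its two relators: it is the subgroup of index
14080 of Fi22 and is isomorphic to PΩ₇(3).
-/

set_option autoImplicit false
set_option maxRecDepth 100000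

namespace Cfsg.Agent.FischerPresented.O73

open Cfsg.Agent.CosetCert
open Cfsg.Agent.CosetData

/-- the edges -/
def edges : List (Fin 8 × ℕ × Fin 8) :=
  [(0, 3, 1), (1, 3, 2), (2, 3, 3), (2, 3, 6), (3, 3, 4), (4, 3, 5), (6, 3, 7)]

/-- the extra relators -/
def extra : List (FreeGroup (Fin 8)) :=
  [(FreeGroup.of (2 : Fin 8) * FreeGroup.of (1 : Fin 8) * FreeGroup.of (0 : Fin 8) * FreeGroup.of (2 : Fin 8) *
      FreeGroup.of (3 : Fin 8) * FreeGroup.of (4 : Fin 8) * FreeGroup.of (2 : Fin 8) * FreeGroup.of (6 : Fin 8) *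
      FreeGroup.of (7 : Fin 8)) ^ 10,
    (FreeGroup.of (0 : Fin 8) * FreeGroup.of (1 : Fin 8) * FreeGroup.of (2 : Fin 8) * FreeGroup.of (3 : Fin 8) *
      FreeGroup.of (4 : Fin 8) * FreeGroup.of (5 : Fin 8) * FreeGroup.of (6 : Fin 8)) ^ 9]

/-- generator by number -/
def gi (x : ℕ) : Fin 8 := Fin.ofNat 8 x

/-- the set-up -/
noncomputable def setup : Setup (Fin 8) where
  edges := edges
  extra := extra
  gi := gi
  ix := Fin.val
  P := ChainO73.P
  n := 364
  base := ChainO73.base
  extraW := [rep 10 [2, 1, 0, 2, 3, 4, 2, 6, 7], rep 9 [0, 1, 2, 3, 4, 5, 6]]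
  gi_ix := fun a => by simp [gi]
  ix_lt := fun a => a.2
  ix_gi := fun i (hi : i < 8) => by simp [gi, Nat.mod_eq_of_lt hi]
  pairs := by decide +kernel
  bases := by decide +kernel
  extras := by decide +kernel
  tab := ChainO73.tab_ok
  fix_base := ChainO73.base_ok
  spec := fun f hf => by
    simp only [extra]
    repeat' constructor
    all_goals simp [wprod_cons, wprod_rep, wprod_nil, gi, map_mul, map_pow, mul_assoc]

theorem cardLe : CardLe (⊤ : Subgroup setup.G) 4585351680 := by
  have hinv := setup.gen_invol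
  have hbig := setup.base_one
  have h1 := cardLe_y222 hinv hbig (y := [0, 1, 2, 3, 4, 6, 7]) (e6 := [0, 1, 2, 3, 4, 6])
    (d5 := [0, 1, 2, 3, 6]) (a4 := [0, 1, 2, 3]) (by decide +kernel) (by decide +kernel)
    (by decide +kernel) (by decide +kernel)
  have h2 := cardLe_step (emb := [0, 1, 2, 3, 4, 5, 6, 7]) (base := ChainO73.base) (sw := ChainO73.sw)
    hinv hbig (by decide +kernel) ChainO73.rots_ok (by decide +kernel) (by decide +kernel)
    ChainO73.cert_ok ChainO73.tab_ok h1 (by decide +kernel)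
  refine h2.mono ?_
  rw [← setup.closure_gen]
  exact closure_le_pick (by decide +kernel)

/-- The base points of the table. -/
def pts : List ℕ := chainPts [] ChainO73.levels

theorem order_facts : Finite setup.G ∧ Nat.card setup.G = 4585351680 ∧ Function.Injective setup.hom ∧
    ∀ g : setup.G, setup.hom g ∈ fixPts 364 pts → g = 1 :=
  order_of_chain (P := ChainO73.P) ChainO73.tab_ok setup.hom setup.hom_gen cardLe ChainO73.levels_ok
    ChainO73.levels_size

theorem perfect : commutator setup.G = ⊤ := by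
  have hall : ∀ g : Abelianization setup.G, g = 1 := by
    refine trivial_of_central (f := fun x => Abelianization.of (setup.gen x)) (k := 8) ?_
      (fun x => by rw [← map_mul, setup.gen_invol, map_one]) (fun g => mul_comm _ _)
      [(0, 1), (1, 2), (2, 3), (2, 6), (3, 4), (4, 5), (6, 7)] ?_ (by decide +kernel)
      (w := rep 9 [0, 1, 2, 3, 4, 5, 6]) (by decide +kernel) (by decide +kernel) ?_
    · have := congrArg (Subgroup.map (Abelianization.of (G := setup.G))) setup.closure_gen
      rw [MonoidHom.map_closure, Subgroup.map_top_of_surjective (Abelianization.of (G := setup.G))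
        (QuotientGroup.mk'_surjective _), ← Set.image_comp] at this
      exact this
    · intro p hp
      have hE : ∀ p ∈ ([(0, 1), (1, 2), (2, 3), (2, 6), (3, 4), (4, 5), (6, 7)] : List (ℕ × ℕ)),
          rep 3 [p.1, p.2] ∈ ChainO73.base := by decide +kernel
      have := setup.base_one _ (hE p hp)
      rw [wprod_rep] at this
      rw [← map_mul, ← map_pow, show setup.gen p.1 * setup.gen p.2 = wprod setup.gen [p.1, p.2] by
        simp [wprod], this, map_one]
    · rw [← map_wprod (Abelianization.of (G := setup.G)) setup.gen, setup.base_one _ (show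
        rep 9 [0, 1, 2, 3, 4, 5, 6] ∈ ChainO73.base by decide +kernel), map_one]
  rw [eq_top_iff]
  intro g _
  exact (QuotientGroup.eq_one_iff g).1 (hall (Abelianization.of g))

/-- The vector of a coset. -/
noncomputable def pointOf (c : ℕ) : List ℕ := pointTab.get c

/-- Negation of a coded vector. -/
def neg7 (a : List ℕ) : List ℕ := (List.range 7).map fun i => 2 * a.getD i 0 % 3

/-- Equality up to sign. -/
def pmEq (a b : List ℕ) : Bool := vecEq a b || vecEq a (neg7 b)

theorem of7_neg7 (a : List ℕ) : of7 (neg7 a) = -of7 a := by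
  funext i
  have hi : idx i < 7 := by rcases i with _ | i | i <;> simp only [idx] <;> omega
  show (((neg7 a).getD (idx i) 0 : ℕ) : ZMod 3) = -((a.getD (idx i) 0 : ℕ) : ZMod 3)
  rw [neg7, List.getD_eq_getElem?_getD, List.getElem?_map, List.getElem?_range hi]
  simp only [Option.map_some, Option.getD_some, ZMod.natCast_mod, Nat.cast_mul, Nat.cast_ofNat]
  linear_combination ((a.getD (idx i) 0 : ℕ) : ZMod 3) * three_eq_zero

theorem of7_pmEq {a b : List ℕ} (h : pmEq a b = true) : of7 a = of7 b ∨ of7 a = -of7 b := by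
  rw [pmEq, Bool.or_eq_true] at h
  rcases h with h | h
  · exact Or.inl (of7_congr h)
  · exact Or.inr ((of7_congr h).trans (of7_neg7 b))

theorem pmEq_of_eq {a b : List ℕ} (h : of7 a = of7 b ∨ of7 a = -of7 b) : pmEq a b = true := by
  have key : ∀ c : List ℕ, of7 a = of7 c → vecEq a c = true := by
    intro c hc
    rw [vecEq, List.all_eq_true]
    intro i hi
    rw [List.mem_range] at hi
    rw [Nat.beq_eq]
    have hex : ∀ i < 7, ∃ j : I7, idx j = i := by decide +kernel
    obtain ⟨j, rfl⟩ := hex i hi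
    exact (ZMod.natCast_eq_natCast_iff' _ _ _).1 (congrFun hc j)
  rw [pmEq, Bool.or_eq_true]
  rcases h with h | h
  · exact Or.inl (key b h)
  · exact Or.inr (key _ (h.trans (of7_neg7 b).symm))

theorem equiv_ok : (allBelow (fun c => allBelow (fun x =>
    pmEq (actN (roots.getD x []) (pointOf c)) (pointOf (ChainO73.P.T.get (c * 8 + x)))) 8) 364) = true := by
  decide +kernel

theorem sep_ok : (pts.all fun b => allBelow (fun c =>
    Nat.beq c b || !(pmEq (pointOf c) (pointOf b))) 364) = true := by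
  decide +kernel

theorem rels_ok : (ChainO73.base.all fun w => wordIdN w) = true := by decide +kernel

theorem exists_rep : ∃ ψ : setup.G →* Cfsg.POmega (ZMod 3) Q7, Function.Injective ψ := by
  obtain ⟨ρ, hρ⟩ := setup.exists_hom gen gen_invol fun w hw => wprod_eq_one (List.all_eq_true.1 rels_ok w hw)
  have hmem : ∀ g, ρ g ∈ Cfsg.Omega (ZMod 3) Q7 := by
    intro g
    have h : ρ g ∈ (commutator setup.G).map ρ := ⟨g, by rw [perfect]; trivial, rfl⟩
    rw [commutator_def, Subgroup.map_commutator] at h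
    exact Subgroup.commutator_mono le_top le_top h
  refine ⟨(QuotientGroup.mk' _).comp (ρ.codRestrict _ hmem), ?_⟩
  have hpm : ∀ g : setup.G, ∀ c : Fin 364, ∃ ε : ZMod 3, ε * ε = 1 ∧
      mv (ρ g) (of7 (pointOf c)) = ε • of7 (pointOf (setup.hom g c : Fin 364)) := by
    intro g
    have hg : g ∈ Subgroup.closure (setup.gen '' {x | x < setup.P.k}) := setup.closure_gen ▸ Subgroup.mem_top g
    induction hg using Subgroup.closure_induction with
    | mem y hy =>
      obtain ⟨x, hx, rfl⟩ := hy
      intro c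
      have hx8 : x < 8 := hx
      rw [hρ x hx, mv_gen hx8, setup.hom_gen x hx]
      have h := allBelow_spec (allBelow_spec equiv_ok c.2) hx8
      rw [show ((genPerm setup.tab x c : Fin 364) : ℕ) = ChainO73.P.T.get (c * 8 + x) from
        genPerm_val (P := ChainO73.P) ChainO73.tab_ok hx8 c]
      rcases of7_pmEq h with h | h
      · exact ⟨1, one_mul 1, by rw [h, one_smul]⟩
      · exact ⟨-1, by rw [neg_mul_neg, one_mul], by rw [h, neg_one_smul]⟩
    | one => intro c; exact ⟨1, one_mul 1, by rw [map_one, mv_one, map_one, one_smul]; rfl⟩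
    | mul a b _ _ ha hb =>
      intro c
      obtain ⟨ε, hε, h1⟩ := hb c
      obtain ⟨δ, hδ, h2⟩ := ha (setup.hom b c)
      refine ⟨ε * δ, by rw [mul_mul_mul_comm, hε, hδ, one_mul], ?_⟩
      rw [map_mul, mv_mul, h1, map_mul]
      show mv (ρ a) (ε • _) = (ε * δ) • of7 (pointOf ((setup.hom a (setup.hom b c)) : Fin 364))
      rw [mv, Matrix.mulVec_smul, ← mv, h2, smul_smul]
    | inv a _ ha =>
      intro c
      obtain ⟨ε, hε, h1⟩ := ha ((setup.hom a⁻¹) c)
      have hc : setup.hom a ((setup.hom a⁻¹) c) = c := by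
        rw [map_inv]; exact Equiv.apply_symm_apply _ _
      rw [hc] at h1
      refine ⟨ε, hε, ?_⟩
      have h2 := congrArg (fun u => ε • mv (ρ a⁻¹) u) h1
      simp only [← mv_mul, ← map_mul, inv_mul_cancel, map_one, mv_one] at h2
      rw [h2]
      show _ = ε • mv (ρ a⁻¹) (ε • _)
      rw [mv, mv, Matrix.mulVec_smul, smul_smul, hε, one_smul]
  rw [injective_iff_map_eq_one]
  intro g hg
  have hQ := Cfsg.Agent.Orth.qOdd_nondeg (F := ZMod 3) (by decide) 3
  have hg' : ρ.codRestrict _ hmem g ∈ Subgroup.center ↥(Cfsg.Omega (ZMod 3) Q7) :=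
    (QuotientGroup.eq_one_iff _).1 hg
  have hcoe : (⇑(Cfsg.Agent.Orth.qOdd (ZMod 3) 3) : (I7 → ZMod 3) → ZMod 3) = Q7 :=
    Cfsg.Agent.Orth.coe_qOdd 3
  have hscal : ∃ a : ZMod 3, a * a = 1 ∧
      (((ρ g) : GL I7 (ZMod 3)) : Matrix I7 I7 (ZMod 3)) = a • (1 : Matrix I7 I7 (ZMod 3)) := by
    have key := Cfsg.Agent.Orth.center_omega_iff hQ (show 7 ≤ Fintype.card I7 by simp)
    revert key
    rw [hcoe]
    intro key
    exact (key (ρ.codRestrict _ hmem g)).1 hg'
  obtain ⟨a, ha, hmat⟩ := hscal
  refine order_facts.2.2.2 g fun i hi => ?_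
  obtain ⟨ε, hε, h1⟩ := hpm g i
  rw [mv, hmat, Matrix.smul_mulVec, Matrix.one_mulVec] at h1
  have h := allBelow_spec (List.all_eq_true.1 sep_ok (i : ℕ) hi) (setup.hom g i).2
  rw [Bool.or_eq_true, Nat.beq_eq, Bool.not_eq_true'] at h
  rcases h with h | h
  · exact Fin.ext h
  · refine absurd (pmEq_of_eq ?_) (by rw [h]; simp)
    have hsgn : ∀ a ε : ZMod 3, a * a = 1 → ε * ε = 1 → ε * a = 1 ∨ ε * a = -1 := by decide
    have h2 := congrArg (fun u => ε • u) h1
    simp only [smul_smul, hε, one_smul] at h2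
    rcases hsgn a ε ha hε with h3 | h3 <;> rw [h3] at h2
    · exact Or.inl (by rw [← h2, one_smul])
    · exact Or.inr (by rw [← h2, neg_one_smul])

theorem card_pomega : Nat.card (Cfsg.POmega (ZMod 3) Q7) = 4585351680 := by
  have hQ := Cfsg.Agent.Orth.qOdd_nondeg (F := ZMod 3) (by decide) 3
  have hn : 7 ≤ Fintype.card I7 := by simp
  have h := Cfsg.Agent.Orth.card_pomega hQ hn
  have h1 := Cfsg.Agent.Orth.card_center_one hQ hn (Or.inr (by decide))
  rw [h1, (Cfsg.Agent.Orth.card_spinVal).1 (by decide),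
    Cfsg.Agent.Orth.card_isometryGroup _ rfl, Cfsg.Agent.Orth.card_oGroup_qOdd (by decide),
    Nat.card_zmod] at h
  simp only [Finset.prod_range_succ, Finset.prod_range_zero] at h
  norm_num at h
  have hcoe : (⇑(Cfsg.Agent.Orth.qOdd (ZMod 3) 3) : (I7 → ZMod 3) → ZMod 3) = Q7 :=
    Cfsg.Agent.Orth.coe_qOdd 3
  rw [hcoe] at h
  omega

theorem nonempty_iso : Nonempty (setup.G ≃* Cfsg.POmega (ZMod 3) Q7) := by
  obtain ⟨ψ, hψ⟩ := exists_rep
  have : Finite (Cfsg.POmega (ZMod 3) Q7) := Nat.finite_of_card_ne_zero (by rw [card_pomega]; norm_num)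
  exact ⟨MulEquiv.ofBijective ψ ((Nat.bijective_iff_injective_and_card _).2
    ⟨hψ, by rw [card_pomega, order_facts.2.1]⟩)⟩

theorem exists_embedding {K : Subgroup (Setup.G Fi22B.setup)}
    (hK : K = Subgroup.closure (pick (Setup.gen Fi22B.setup) [1, 2, 3, 4, 5, 6, 7, 8] '' {x | x < 8}))
    (hi : K.index = 14080) : Nonempty (K ≃* Cfsg.POmega (ZMod 3) Q7) := by
  obtain ⟨ψ, hψ⟩ := setup.exists_hom (pick (Setup.gen Fi22B.setup) [1, 2, 3, 4, 5, 6, 7, 8])
    (fun x => Setup.gen_invol Fi22B.setup _)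
    (rels_of_relsIn (Setup.gen_invol Fi22B.setup) (Setup.base_one Fi22B.setup) (by decide +kernel))
  have hr : ψ.range = K := by
    rw [hK, MonoidHom.range_eq_map, ← setup.closure_gen, MonoidHom.map_closure, ← Set.image_comp]
    exact congrArg Subgroup.closure (Set.image_congr fun x hx => hψ x hx)
  have := order_facts.1
  have := Fi22.order_facts.1
  have hcard : Nat.card K = 4585351680 := by
    have h := Subgroup.card_mul_index K
    rw [hi, Fi22.order_facts.2.1] at h
    omega
  subst hr
  have hb : Function.Bijective ψ.rangeRestrict :=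
    (Nat.bijective_iff_surjective_and_card _).2
      ⟨ψ.rangeRestrict_surjective, by rw [hcard, order_facts.2.1]⟩
  obtain ⟨ι⟩ := nonempty_iso
  exact ⟨(MulEquiv.ofBijective ψ.rangeRestrict hb).symm.trans ι⟩

end Cfsg.Agent.FischerPresented.O73
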