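import Cfsg.Agent.Lib.FischerPresented.Fi23
import Cfsg.Agent.Lib.FischerPresented.Out23Data

/-!
The transpositions of the presented Fi23 named by the 31671 cosets.
-/

set_option autoImplicit false
set_option maxRecDepth 100000

namespace Cfsg.Agent.FischerPresented.Out23

open Cfsg.Agent.CosetCert
open Cfsg.Agent.CosetData
open Cfsg.Agent.FischerPresented.Fi23 (z zW)

local notation "FS" => Fi23A.setup

/-- The action on the 31671 cosets. -/
noncomputable def hm : Setup.G FS →* Equiv.Perm (Fin 31671) := Setup.hom FS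

theorem exists_e : ∃ e : Setup.G FS ⧸ Fi23.K ≃ Fin 31671,
    (e ((1 : Setup.G FS) : Setup.G FS ⧸ Fi23.K) : ℕ) = 0 ∧
    ∀ (g : Setup.G FS) (q : Setup.G FS ⧸ Fi23.K), e (g • q) = hm g (e q) :=
  (Setup.exists_equiv_base FS (H := Fi23.K) (sw := Fi23A.sw) Fi23.K_eq (by decide +kernel)
    Fi23A.rots_ok Fi23A.cert_ok Fi23A.fix_ok Fi23A.tree_ok Fi23A.tree_len).2

/-- The cosets as numbers. -/
noncomputable def eqv : Setup.G FS ⧸ Fi23.K ≃ Fin 31671 := exists_e.choose

theorem eqv_one : eqv ((1 : Setup.G FS) : Setup.G FS ⧸ Fi23.K) = 0 := Fin.ext exists_e.choose_spec.1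

theorem eqv_mk (g : Setup.G FS) : eqv ((g : Setup.G FS ⧸ Fi23.K)) = hm g (0 : Fin 31671) := by
  have h := exists_e.choose_spec.2 g ((1 : Setup.G FS) : Setup.G FS ⧸ Fi23.K)
  rw [show g • ((1 : Setup.G FS) : Setup.G FS ⧸ Fi23.K) = (g : Setup.G FS ⧸ Fi23.K) from
    congrArg QuotientGroup.mk (mul_one g)] at h
  exact h.trans (congrArg (hm g) eqv_one)

theorem hom_mul_apply (g h : Setup.G FS) (p : Fin 31671) :
    hm (g * h) p = hm g (hm h p) := by
  rw [map_mul]; rfl

/-- The transposition of a coset. -/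
noncomputable def tr (p : Fin 31671) : Setup.G FS := (eqv.symm p).out * z * (eqv.symm p).out⁻¹

theorem mem_H_iff (g : Setup.G FS) : g ∈ Fi23.K ↔ hm g (0 : Fin 31671) = (0 : Fin 31671) := by
  rw [← eqv_mk]
  constructor
  · intro h
    rw [show ((g : Setup.G FS ⧸ Fi23.K)) = ((1 : Setup.G FS) : Setup.G FS ⧸ Fi23.K) from
      QuotientGroup.eq.2 (by simpa using h)]
    exact eqv_one
  · intro h
    have := QuotientGroup.eq.1 (eqv.injective (h.trans eqv_one.symm))
    simpa using this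

theorem tr_eq {g : Setup.G FS} {p : Fin 31671} (h : hm g (0 : Fin 31671) = p) :
    tr p = g * z * g⁻¹ := by
  subst h
  obtain ⟨k, hk⟩ := QuotientGroup.mk_out_eq_mul Fi23.K g
  rw [tr, ← eqv_mk, Equiv.symm_apply_apply, hk, mul_inv_rev, mul_assoc g,
    ← Fi23.z_comm_K k k.2]
  group

theorem exists_hom_zero (p : Fin 31671) : ∃ g : Setup.G FS, hm g (0 : Fin 31671) = p :=
  ⟨(eqv.symm p).out, by rw [← eqv_mk, QuotientGroup.out_eq', Equiv.apply_symm_apply]⟩

theorem tr_hom (g : Setup.G FS) (p : Fin 31671) : tr (hm g p) = g * tr p * g⁻¹ := by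
  obtain ⟨k, hk⟩ := exists_hom_zero p
  rw [tr_eq hk, tr_eq (g := g * k) (by rw [hom_mul_apply, hk])]
  group

theorem tr_zero : tr 0 = z := by
  rw [tr_eq (g := 1) (by rw [map_one]; rfl)]
  group

theorem tr_injective : Function.Injective tr := by
  intro p q h
  obtain ⟨a, rfl⟩ := exists_hom_zero p
  obtain ⟨b, rfl⟩ := exists_hom_zero q
  rw [tr_eq rfl, tr_eq rfl] at h
  rw [← eqv_mk, ← eqv_mk]
  refine congrArg eqv (QuotientGroup.eq.2 (Fi23.centralizer_z.le (Subgroup.mem_centralizer_iff.2 ?_)))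
  rintro _ rfl
  calc z * (a⁻¹ * b) = a⁻¹ * (a * z * a⁻¹) * b := by group
    _ = a⁻¹ * b * z := by rw [h]; group

theorem tr_mem (p : Fin 31671) : tr p ∈ Fi23.D := Fi23.mem_D.2 ⟨_, rfl⟩

theorem exists_tr {d : Setup.G FS} (hd : d ∈ Fi23.D) : ∃ p, tr p = d := by
  obtain ⟨g, rfl⟩ := Fi23.mem_D.1 hd
  exact ⟨_, tr_eq rfl⟩

theorem fix_iff (g : Setup.G FS) (p : Fin 31671) :
    hm g p = p ↔ Commute g (tr p) := by
  constructor
  · intro h
    have := tr_hom g p
    rw [h] at this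
    exact (mul_inv_eq_iff_eq_mul.1 this.symm)
  · intro h
    refine tr_injective ?_
    rw [tr_hom, h.eq, mul_inv_cancel_right]

theorem hom_word {v : List ℕ} (hv : (v.all fun x => Nat.blt x 10) = true) (p : Fin 31671) :
    (hm (wprod (Setup.gen FS) v) p : ℕ) = tact Fi23A.P v.reverse p := by
  have h : (v.reverse.all fun x => Nat.blt x Fi23A.P.k) = true := by
    rw [List.all_eq_true] at hv ⊢
    exact fun x hx => hv x (List.mem_reverse.1 hx)
  have := hom_tact (P := Fi23A.P) Fi23A.tab_ok hm (Setup.hom_gen FS) _ h p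
  rwa [List.reverse_reverse] at this

theorem hom_gen_val {x : ℕ} (hx : x < 10) (p : Fin 31671) :
    (hm (Setup.gen FS x) p : ℕ) = Fi23A.P.T.get ((p : ℕ) * 10 + x) := by
  rw [show hm (Setup.gen FS x) = genPerm (P := Fi23A.P) Fi23A.tab_ok x from Setup.hom_gen FS x hx]
  exact genPerm_val (P := Fi23A.P) Fi23A.tab_ok hx p

theorem tr_word {v : List ℕ} {p : Fin 31671} (hv : (v.all fun x => Nat.blt x 10) = true)
    (h : tact Fi23A.P v 0 = p) :
    tr p = wprod (Setup.gen FS) (v.reverse ++ zW ++ v) := by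
  have hv' : (v.reverse.all fun x => Nat.blt x 10) = true := by
    rw [List.all_eq_true] at hv ⊢
    exact fun x hx => hv x (List.mem_reverse.1 hx)
  have h1 : hm (wprod (Setup.gen FS) v.reverse) (0 : Fin 31671) = p := by
    refine Fin.ext ((hom_word hv' 0).trans ?_)
    rw [List.reverse_reverse]
    exact h
  rw [tr_eq h1, wprod_append, wprod_append, wprod_reverse (Setup.gen_invol FS), inv_inv]
  rfl

/-- The coset of a generator. -/
def gpt (x : ℕ) : ℕ := gpts.getD x 0

theorem gpts_ok : allBelow (fun x => Nat.blt (gpt x) 31671 &&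
    (Nat.beq (tact Fi23A.P (gWords.getD x []) 0) (gpt x) && ((gWords.getD x []).all fun y => Nat.blt y 10) &&
    wordFixPts Fi23A.P 31671 Fi23.pts
      ([x] ++ ((gWords.getD x []).reverse ++ zW ++ gWords.getD x []).reverse))) 10 = true := by
  decide +kernel

theorem tr_gpt {x : ℕ} (hx : x < 10) : ∃ h : gpt x < 31671, tr ⟨gpt x, h⟩ = Setup.gen FS x := by
  have h := allBelow_spec gpts_ok hx
  simp only [Bool.and_eq_true, Nat.blt_eq, Nat.beq_eq] at h
  obtain ⟨hlt, ⟨hp, hl⟩, hw⟩ := h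
  refine ⟨hlt, ?_⟩
  have h1 := Fi23.word_one hw
  rw [wprod_append, wprod_reverse (Setup.gen_invol FS), mul_inv_eq_one, wprod_cons, wprod_nil, mul_one] at h1
  rw [h1]
  exact tr_word hl hp

end Cfsg.Agent.FischerPresented.Out23
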