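import Cfsg.Agent.Lib.FischerPresented.Out23Tr
import Mathlib.GroupTheory.Sylow

/-!
Automorphisms of the presented Fi23 preserve its transpositions: an involution commuting with an element of
order thirteen fixes one of its three fixed transpositions and is then determined by one further image.
-/

set_option autoImplicit false
set_option maxRecDepth 100000

namespace Cfsg.Agent.FischerPresented.Out23

open Cfsg.Agent.CosetCert
open Cfsg.Agent.CosetData
open Cfsg.Agent.FischerPresented.Fi23 (z zW)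

local notation "FS" => Fi23A.setup

/-- The element of order thirteen. -/
noncomputable def sG : Setup.G FS := wprod (Setup.gen FS) sR.reverse

theorem sR_lt : (sR.all fun x => Nat.blt x 9) = true := by decide +kernel

theorem hom_s (p : Fin 31671) : (hm sG p : ℕ) = tact Fi23A.P sR p := by
  rw [sG, hom_word (by decide +kernel), List.reverse_reverse]

/-- Iterates of the element on cosets. -/
noncomputable def iter (i p : ℕ) : ℕ := Nat.rec p (fun _ r => tact Fi23A.P sR r) i

theorem hom_iter (p : Fin 31671) : ∀ i : ℕ, (hm (sG ^ i) p : ℕ) = iter i p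
  | 0 => by rw [pow_zero, map_one]; rfl
  | i + 1 => by
    rw [pow_succ', hom_mul_apply, hom_s, hom_iter p i]
    rfl

theorem orderOf_sG : orderOf sG = 13 := by
  have hw : wordFixPts Fi23A.P 31671 Fi23.pts (rep 13 sR.reverse) = true := by decide +kernel
  have := Fact.mk (show Nat.Prime 13 by norm_num)
  refine orderOf_eq_prime ?_ fun h => ?_
  · rw [sG, ← wprod_rep]; exact Fi23.word_one hw
  · have h1 := hom_s 2
    rw [h, show hm (1 : Setup.G FS) = 1 from map_one hm, Equiv.Perm.one_apply] at h1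
    exact absurd h1 (by decide +kernel)

theorem sG_mem : sG ∈ Fi23.K := by
  refine list_prod_mem ?_
  intro g hg'
  obtain ⟨x, hx, rfl⟩ := List.mem_map.1 hg'
  have h := List.all_eq_true.1 sR_lt x (List.mem_reverse.1 hx)
  exact Fi23.gen_mem (Nat.blt_eq.mp h)

/-- The word of a transposition with given path. -/
def tw (v : List ℕ) : List ℕ := v.reverse ++ zW.reverse ++ v

theorem tr_act {v : List ℕ} {p : Fin 31671} (hv : (v.all fun x => Nat.blt x 10) = true)
    (h : tact Fi23A.P v 0 = p) (x : Fin 31671) : (hm (tr p) x : ℕ) = tact Fi23A.P (tw v) x := by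
  have hw : ((v.reverse ++ zW ++ v).all fun t => Nat.blt t 10) = true := by
    have hz : (zW.all fun t => Nat.blt t 10) = true := by decide +kernel
    rw [List.all_append, List.all_append, List.all_reverse, hv, hz]
    rfl
  rw [tr_word hv h, hom_word hw]
  simp [tw, List.append_assoc]

/-- A conjugate of a transposition acting on cosets. -/
noncomputable def dAct (v : List ℕ) (j p : ℕ) : ℕ := iter j (tact Fi23A.P (tw v) (iter (13 - j) p))

/-- A word in conjugates acting on cosets. -/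
noncomputable def fAct (v u : List ℕ) (p : ℕ) : ℕ := u.foldl (fun q j => dAct v j q) p

section Comm

variable {c : Setup.G FS} {p r : Fin 31671} {v w : List ℕ}

theorem fAct_map (hc : Commute c sG) (hr : hm c p = r)
    (hv : (v.all fun x => Nat.blt x 10) = true) (hvp : tact Fi23A.P v 0 = p)
    (hw : (w.all fun x => Nat.blt x 10) = true) (hwr : tact Fi23A.P w 0 = r) :
    ∀ (u : List ℕ) (x : Fin 31671),
      ∃ y : Fin 31671, (y : ℕ) = fAct v u x ∧ (hm c y : ℕ) = fAct w u (hm c x : Fin 31671)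
  | [], x => ⟨x, rfl, rfl⟩
  | j :: u, x => by
    have star : ∀ (i : ℕ) (q : Fin 31671), hm c (hm (sG ^ i) q) = hm (sG ^ i) (hm c q) := fun i q => by
      rw [← hom_mul_apply, ← hom_mul_apply, (hc.pow_right i).eq]
    have htr : ∀ q, hm c (hm (tr p) q) = hm (tr r) (hm c q) := fun q => by
      rw [← hom_mul_apply, ← hom_mul_apply, ← hr, tr_hom, inv_mul_cancel_right]
    set x1 := hm (sG ^ j) (hm (tr p) (hm (sG ^ (13 - j)) x)) with hx1
    have e1 : (x1 : ℕ) = dAct v j x := by
      rw [hx1, hom_iter, tr_act hv hvp, hom_iter]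
      rfl
    have e2 : (hm c x1 : ℕ) = dAct w j (hm c x : Fin 31671) := by
      rw [hx1, star, hom_iter, htr, tr_act hw hwr, star, hom_iter]
      rfl
    obtain ⟨y, hy1, hy2⟩ := fAct_map hc hr hv hvp hw hwr u x1
    refine ⟨y, ?_, ?_⟩
    · rw [hy1, e1]; rfl
    · rw [hy2, e2]; rfl

end Comm

/-- The value of a test. -/
noncomputable def ev (e : ℕ × List ℕ) (t : List ℕ × ℕ × ℕ) : Bool :=
  Nat.beq (fAct e.2 t.1 (iter t.2.1 e.1)) (iter t.2.2 e.1)

theorem reps_ok : (reps.all fun e => (e.2.all fun x => Nat.blt x 10) && Nat.blt e.1 31671 &&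
    Nat.beq (tact Fi23A.P e.2 0) e.1) = true := by
  decide +kernel

theorem sep_ok : ((reps.drop 1).all fun e =>
    tests.any fun t => !(ev (reps.getD 0 (0, [])) t == ev e t)) = true := by
  decide +kernel

/-- Bit of the set of cosets commuting with the base. -/
def bit (q : ℕ) : Bool := Nat.beq (Nat.land (Nat.shiftRight bset q) 1) 1

theorem bit_ok : (bit (reps.getD 0 (0, [])).1 && allBelow (fun p => !bit p ||
    allBelow (fun x => bit (Fi23A.P.T.get (p * 10 + x))) 9) 31671) = true := by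
  decide +kernel

/-- Numbers below a bound passing a test. -/
def collect (f : ℕ → Bool) (m : ℕ) : List ℕ := Nat.rec [] (fun q r => bif f q then q :: r else r) m

theorem mem_collect {f : ℕ → Bool} {q : ℕ} : ∀ {m : ℕ}, q < m → f q = true → q ∈ collect f m
  | 0, h, _ => absurd h (Nat.not_lt_zero q)
  | m + 1, h, hf => by
    show q ∈ (bif f m then m :: collect f m else collect f m)
    rcases Nat.lt_succ_iff_lt_or_eq.1 h with h | h
    · cases f m
      · exact mem_collect h hf
      · exact List.mem_cons_of_mem _ (mem_collect h hf)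
    · subst h
      rw [hf]
      exact List.mem_cons_self

theorem collect_ok : (collect bit 31671 == mem.map Prod.fst) = true := by decide +kernel

theorem mem_ok : (mem.all fun e => Nat.blt e.2.1 reps.length && Nat.blt e.2.2 13 &&
    Nat.beq (iter e.2.2 (reps.getD e.2.1 (0, [])).1) e.1) = true := by
  decide +kernel

theorem gen_ok : allBelow (fun y => Nat.ble (genW.getD y ([], 0)).2 13 &&
    Nat.beq (fAct (reps.getD 0 (0, [])).2 (genW.getD y ([], 0)).1
      (iter (genW.getD y ([], 0)).2 (reps.getD 0 (0, [])).1)) (gpt y)) 9 = true := by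
  decide +kernel

theorem commute_z {k : Setup.G FS} (hk : k ∈ Fi23.K) : Commute z k := Fi23.z_comm_K k hk

theorem mem_Z {c : Setup.G FS} (hcK : c ∈ Fi23.K) (h : ∀ k ∈ Fi23.K, Commute c k) : c = 1 ∨ c = z := by
  have hcen : (⟨c, hcK⟩ : Fi23.K) ∈ Subgroup.center Fi23.K :=
    Subgroup.mem_center_iff.2 fun k => Subtype.ext (h k k.2).eq.symm
  rw [Fi23.center_K] at hcen
  obtain ⟨n, hn⟩ := Subgroup.mem_zpowers_iff.1 hcen
  have hn' : z ^ n = c := by
    have := congrArg Subtype.val hn
    rwa [SubgroupClass.coe_zpow] at this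
  rw [← hn']
  rcases Int.emod_two_eq_zero_or_one n with h2 | h2 <;>
    rw [← zpow_mod_orderOf, Fi23.orderOf_z, Nat.cast_ofNat, h2]
  · exact Or.inl (zpow_zero z)
  · exact Or.inr (zpow_one z)

/-- The chosen coset. -/
noncomputable def p₀ : Fin 31671 :=
  ⟨(reps.getD 0 (0, [])).1, by decide +kernel⟩

theorem path₀ : ((reps.getD 0 (0, [])).2.all fun x => Nat.blt x 10) = true ∧
    tact Fi23A.P (reps.getD 0 (0, [])).2 0 = (p₀ : ℕ) := by
  have h := List.all_eq_true.1 reps_ok (reps.getD 0 (0, []))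
    (by rw [List.getD_eq_getElem _ _ (by decide +kernel)]; exact List.getElem_mem _)
  simp only [Bool.and_eq_true, Nat.beq_eq] at h
  exact ⟨h.1.1, h.2⟩

theorem central_of_fix {c : Setup.G FS} (hcK : c ∈ Fi23.K) (hc : Commute c sG) (hp : hm c p₀ = p₀) :
    c = 1 ∨ c = z := by
  refine mem_Z hcK fun k hk => ?_
  suffices Fi23.K ≤ Subgroup.centralizer {c} from
    Subgroup.mem_centralizer_iff.1 (this hk) c rfl
  rw [Fi23.K, Subgroup.closure_le]
  rintro _ ⟨y, hy, rfl⟩
  have hy' : y < 9 := hy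
  refine Subgroup.mem_centralizer_iff.2 fun d hd => ?_
  rw [Set.mem_singleton_iff.1 hd]
  obtain ⟨hl, hg⟩ := tr_gpt (show y < 10 by omega)
  rw [← hg]
  refine ((fix_iff c ⟨gpt y, hl⟩).1 ?_).eq
  have h := allBelow_spec gen_ok hy'
  rw [Bool.and_eq_true, Nat.beq_eq] at h
  have h0 := h.2
  set u := genW.getD y ([], 0)
  obtain ⟨q, hq1, hq2⟩ := fAct_map hc hp path₀.1 path₀.2 path₀.1 path₀.2 u.1 (hm (sG ^ u.2) p₀)
  rw [← hom_mul_apply, (hc.pow_right u.2).eq, hom_mul_apply, hp, ← hq1] at hq2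
  have hqg : q = ⟨gpt y, hl⟩ := Fin.ext (by rw [hq1, hom_iter]; exact h0)
  rw [← hqg]
  exact Fin.ext hq2

theorem bit_orbit {c : Setup.G FS} (hcK : c ∈ Fi23.K) : bit (hm c p₀ : Fin 31671) = true := by
  obtain ⟨h0, hall⟩ := Bool.and_eq_true _ _ ▸ bit_ok
  have hstep : ∀ x < 9, ∀ q : Fin 31671, bit q = true → bit (hm (Setup.gen FS x) q : Fin 31671) = true := by
    intro x hx q hq
    rw [hom_gen_val (show x < 10 by omega)]
    have h := allBelow_spec hall q.2
    rw [hq, Bool.not_true, Bool.false_or] at h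
    exact allBelow_spec h hx
  suffices ∀ q : Fin 31671, bit q = true → bit (hm c q : Fin 31671) = true from this p₀ h0
  induction hcK using Subgroup.closure_induction'' with
  | mem y hy => obtain ⟨x, hx, rfl⟩ := hy; exact hstep x hx
  | inv_mem y hy =>
    obtain ⟨x, hx, rfl⟩ := hy
    rw [inv_eq_of_mul_eq_one_right (Setup.gen_invol FS x)]
    exact hstep x hx
  | one => intro q hq; rw [map_one]; exact hq
  | mul a b _ _ iha ihb => intro q hq; rw [hom_mul_apply]; exact iha _ (ihb q hq)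

theorem eq_of_fix_zero {c : Setup.G FS} (hc : Commute c sG) (h2 : c * c = 1)
    (h0 : hm c (0 : Fin 31671) = (0 : Fin 31671)) : c = 1 ∨ c = z := by
  have hcK : c ∈ Fi23.K := (mem_H_iff c).2 h0
  have hmem := mem_collect (hm c p₀).2 (bit_orbit hcK)
  rw [eq_of_beq collect_ok, List.mem_map] at hmem
  obtain ⟨e, he, hec⟩ := hmem
  have hok := List.all_eq_true.1 mem_ok e he
  simp only [Bool.and_eq_true, Nat.blt_eq, Nat.beq_eq] at hok
  obtain ⟨⟨hj, hk⟩, hit⟩ := hok
  set k := e.2.2
  set R := reps.getD e.2.1 (0, []) with hR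
  have hRm : R ∈ reps := by rw [hR, List.getD_eq_getElem _ _ hj]; exact List.getElem_mem _
  have hRok := List.all_eq_true.1 reps_ok R hRm
  simp only [Bool.and_eq_true, Nat.blt_eq, Nat.beq_eq] at hRok
  obtain ⟨⟨hRl, hR1⟩, hR2⟩ := hRok
  set c' := (sG ^ k)⁻¹ * c
  have hc' : Commute c' sG := ((Commute.refl sG).pow_left k).inv_left.mul_left hc
  have hrk : hm (sG ^ k) ⟨R.1, hR1⟩ = hm c p₀ := Fin.ext (by rw [hom_iter]; exact hit.trans hec)
  have hr : hm c' p₀ = ⟨R.1, hR1⟩ := by
    show hm ((sG ^ k)⁻¹ * c) p₀ = _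
    rw [hom_mul_apply, ← hrk, ← hom_mul_apply, inv_mul_cancel, map_one]
    rfl
  have hR0 : R = reps.getD 0 (0, []) := by
    by_contra hne
    have hd : R ∈ reps.drop 1 := by
      rw [hR] at hne ⊢
      obtain ⟨i, hi⟩ : ∃ i, e.2.1 = i + 1 :=
        Nat.exists_eq_succ_of_ne_zero fun h => hne (by rw [h])
      rw [hi, List.getD_eq_getElem _ _ (hi ▸ hj)]
      refine List.mem_drop_iff_getElem.2 ⟨i, by omega, ?_⟩
      simp [Nat.add_comm]
    obtain ⟨t, -, ht⟩ := List.any_eq_true.1 (List.all_eq_true.1 sep_ok R hd)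
    have hev : ev (reps.getD 0 (0, [])) t = ev R t := by
      obtain ⟨y, hy1, hy2⟩ := fAct_map hc' hr path₀.1 path₀.2 hRl hR2 t.1 (hm (sG ^ t.2.1) p₀)
      have star : ∀ i : ℕ, hm c' (hm (sG ^ i) p₀) = hm (sG ^ i) ⟨R.1, hR1⟩ := fun i => by
        rw [← hom_mul_apply, (hc'.pow_right i).eq, hom_mul_apply, hr]
      rw [star, hom_iter] at hy2
      rw [hom_iter] at hy1
      have hz : (y = hm (sG ^ t.2.2) p₀) ↔ (hm c' y = hm c' (hm (sG ^ t.2.2) p₀)) :=
        (hm c').injective.eq_iff.symm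
      rw [Fin.ext_iff, Fin.ext_iff, star, hom_iter, hom_iter, hy1, hy2] at hz
      rw [Bool.eq_iff_iff, ev, ev, Nat.beq_eq, Nat.beq_eq]
      exact hz
    rw [hev, beq_self_eq_true] at ht
    exact Bool.false_ne_true ht
  have hcz : c' = 1 ∨ c' = z := by
    refine central_of_fix (Fi23.K.mul_mem (Fi23.K.inv_mem (Fi23.K.pow_mem sG_mem k)) hcK) hc' ?_
    rw [hr]
    exact Fin.ext (congrArg Prod.fst hR0)
  have hk0 : k = 0 := by
    have hc'2 : c' * c' = 1 := by
      rcases hcz with h | h <;> rw [h]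
      · rw [mul_one]
      · exact Fi23.z_sq
    have hkk : sG ^ (k + k) = 1 := by
      have hcs : Commute (sG ^ k) c' := ((hc'.pow_right k).symm)
      have he : c = sG ^ k * c' := (mul_inv_cancel_left _ _).symm
      rw [he, mul_assoc, ← mul_assoc c', ← hcs.eq, mul_assoc, hc'2, mul_one, ← pow_add] at h2
      exact h2
    have := orderOf_dvd_of_pow_eq_one hkk
    rw [orderOf_sG] at this
    omega
  have : c' = c := by show (sG ^ k)⁻¹ * c = c; rw [hk0, pow_zero, inv_one, one_mul]
  rwa [this] at hcz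

theorem fix_ok : allBelow (fun p => Nat.beq p 0 || (Nat.beq p 1 || (Nat.beq p 29146 ||
    !(Nat.beq (tact Fi23A.P sR p) p)))) 31671 = true := by
  decide +kernel

theorem swap_ok : ([(1, [9]), (29146, gWords.getD 9 [])].all fun e : ℕ × List ℕ =>
    (e.2.all fun x => Nat.blt x 10) && Nat.beq (tact Fi23A.P e.2 0) e.1 &&
    Nat.beq (tact Fi23A.P sR e.1) e.1 &&
    Nat.beq (tact Fi23A.P (tw e.2) 0) (if e.1 = 1 then 29146 else 1) &&
    Nat.beq (tact Fi23A.P (tw e.2) (if e.1 = 1 then 29146 else 1)) 0) = true := by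
  decide +kernel

theorem mem_D_of_swap {c : Setup.G FS} (hc : Commute c sG) (h2 : c * c = 1) {p r : Fin 31671}
    (hp : hm sG p = p) (h0 : hm (tr p) (0 : Fin 31671) = r) (h1 : hm (tr p) r = (0 : Fin 31671))
    (hr : hm c r = r) : c = 1 ∨ c ∈ Fi23.D := by
  set h := tr p
  have hh : Commute h sG := ((fix_iff sG p).1 hp).symm
  have hhh : h * h = 1 := by
    obtain ⟨g, hg⟩ := Fi23.mem_D.1 (tr_mem p)
    show tr p * tr p = 1
    rw [← hg]
    calc g * z * g⁻¹ * (g * z * g⁻¹) = g * (z * z) * g⁻¹ := by group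
      _ = 1 := by rw [Fi23.z_sq]; group
  have hd : Commute (h * c * h) sG := (hh.mul_left hc).mul_left hh
  rcases eq_of_fix_zero hd
    (by calc h * c * h * (h * c * h) = h * c * (h * h) * c * h := by group
          _ = h * (c * c) * h := by rw [hhh]; group
          _ = 1 := by rw [h2, mul_one, hhh])
    (by rw [hom_mul_apply, hom_mul_apply, h0, hr, h1]) with e | e
  · left
    calc c = (h * h) * c * (h * h) := by rw [hhh, one_mul, mul_one]
      _ = h * (h * c * h) * h := by group
      _ = 1 := by rw [e, mul_one, hhh]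
  · right
    refine Fi23.mem_D.2 ⟨h, ?_⟩
    rw [← e, inv_eq_of_mul_eq_one_right hhh]
    calc h * (h * c * h) * h = (h * h) * c * (h * h) := by group
      _ = c := by rw [hhh, one_mul, mul_one]

theorem mem_D_of_commute {c : Setup.G FS} (hc : Commute c sG) (h2 : c * c = 1) : c = 1 ∨ c ∈ Fi23.D := by
  have hfix : ∀ q : Fin 31671, hm sG q = q → (q : ℕ) = 0 ∨ (q : ℕ) = 1 ∨ (q : ℕ) = 29146 := by
    intro q hq
    have h := allBelow_spec fix_ok q.2
    rw [← hom_s, hq] at h
    simp only [Bool.or_eq_true, Nat.beq_eq] at h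
    rcases h with h | h | h | h
    · exact Or.inl h
    · exact Or.inr (Or.inl h)
    · exact Or.inr (Or.inr h)
    · simp at h
  have hmap : ∀ q : Fin 31671, hm sG q = q → hm sG (hm c q) = hm c q := fun q hq => by
    rw [← hom_mul_apply, ← hc.eq, hom_mul_apply, hq]
  have hinv : ∀ q : Fin 31671, hm c (hm c q) = q := fun q => by
    rw [← hom_mul_apply, h2, map_one]; rfl
  have hz : hm sG (0 : Fin 31671) = (0 : Fin 31671) := (mem_H_iff _).1 sG_mem
  have key : ∀ e ∈ [(1, [9]), (29146, gWords.getD 9 [])], ∃ p r : Fin 31671, (p : ℕ) = e.1 ∧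
      (r : ℕ) = (if e.1 = 1 then 29146 else 1) ∧ hm sG p = p ∧ hm sG r = r ∧
      hm (tr p) (0 : Fin 31671) = r ∧ hm (tr p) r = (0 : Fin 31671) := by
    intro e he
    have h := List.all_eq_true.1 swap_ok e he
    simp only [Bool.and_eq_true, Nat.beq_eq] at h
    obtain ⟨⟨⟨⟨hl, hp⟩, hs⟩, h0⟩, h1⟩ := h
    have hpl : e.1 < 31671 := by
      simp only [List.mem_cons, List.not_mem_nil, or_false] at he
      rcases he with rfl | rfl <;> norm_num
    have hrl : (if e.1 = 1 then 29146 else 1) < 31671 := by split_ifs <;> norm_num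
    refine ⟨⟨e.1, hpl⟩, ⟨_, hrl⟩, rfl, rfl, Fin.ext ((hom_s _).trans hs), Fin.ext ?_,
      Fin.ext ((tr_act hl hp _).trans h0), Fin.ext ((tr_act hl hp _).trans h1)⟩
    rw [hom_s]
    show tact Fi23A.P sR (if e.1 = 1 then 29146 else 1) = (if e.1 = 1 then 29146 else 1)
    simp only [List.mem_cons, List.not_mem_nil, or_false] at he
    rcases he with rfl | rfl <;> decide +kernel
  obtain ⟨a, b, ha, hb, hsa, hsb, a0, a1⟩ := key _ List.mem_cons_self
  obtain ⟨b', a', hb', ha', -, -, b0, b1⟩ := key _ (List.mem_cons_of_mem _ List.mem_cons_self)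
  simp only [if_pos, if_neg (show ¬ (29146 = 1) by norm_num)] at hb ha'
  rcases hfix _ (hmap _ hz) with h | h | h
  · rcases eq_of_fix_zero hc h2 (Fin.ext h) with e | e
    · exact Or.inl e
    · exact Or.inr (Fi23.mem_D.2 ⟨1, by rw [e]; group⟩)
  · have hca : hm c (0 : Fin 31671) = a := Fin.ext (h.trans ha.symm)
    refine mem_D_of_swap hc h2 hsa a0 a1 ?_
    rcases hfix _ (hmap _ hsb) with k | k | k
    · have := congrArg Fin.val (hinv b)
      rw [show hm c b = (0 : Fin 31671) from Fin.ext k, hca, ha, hb] at this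
      norm_num at this
    · have := (hm c).injective (show hm c b = hm c 0 from Fin.ext (k.trans h.symm))
      rw [this] at hb
      simp at hb
    · exact Fin.ext (k.trans hb.symm)
  · have hcb : hm c (0 : Fin 31671) = b' := Fin.ext (h.trans hb'.symm)
    refine mem_D_of_swap hc h2 (p := b') (Fin.ext ?_) b0 b1 ?_
    · rw [hom_s, hb']; decide +kernel
    · have hsa' : hm sG a' = a' := Fin.ext (by rw [hom_s, ha']; decide +kernel)
      rcases hfix _ (hmap _ hsa') with k | k | k
      · have := congrArg Fin.val (hinv a')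
        rw [show hm c a' = (0 : Fin 31671) from Fin.ext k, hcb, hb', ha'] at this
        norm_num at this
      · exact Fin.ext (k.trans ha'.symm)
      · have := (hm c).injective (show hm c a' = hm c 0 from Fin.ext (k.trans h.symm))
        rw [this] at ha'
        simp at ha'

theorem exists_conj_mem {s t : Setup.G FS} (hs : orderOf s = 13) (ht : orderOf t = 13) :
    ∃ g, g * s * g⁻¹ ∈ Subgroup.zpowers t := by
  have := Fi23.order_facts.1
  have := Fact.mk (show Nat.Prime 13 by norm_num)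
  have hf : (Nat.card (Setup.G FS)).factorization 13 = 1 := by
    rw [Fi23.order_facts.2.1, show (4089470473293004800 : ℕ) = 13 * 314574651791769600 by norm_num,
      Nat.factorization_mul (by norm_num) (by norm_num), Finsupp.add_apply,
      Nat.Prime.factorization_self (by norm_num), Nat.factorization_eq_zero_of_not_dvd (by norm_num)]
  let P : Sylow 13 (Setup.G FS) := Sylow.ofCard (Subgroup.zpowers s) (by rw [Nat.card_zpowers, hs, hf, pow_one])
  let Q : Sylow 13 (Setup.G FS) := Sylow.ofCard (Subgroup.zpowers t) (by rw [Nat.card_zpowers, ht, hf, pow_one])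
  obtain ⟨g, hg'⟩ := MulAction.exists_smul_eq (Setup.G FS) P Q
  refine ⟨g, ?_⟩
  have h : (g • P : Sylow 13 (Setup.G FS)).toSubgroup = Subgroup.zpowers t := by rw [hg']; rfl
  rw [← h, Sylow.coe_subgroup_smul]
  exact ⟨s, Subgroup.mem_zpowers s, rfl⟩

theorem aut_z (φ : MulAut (Setup.G FS)) : φ z ∈ Fi23.D := by
  obtain ⟨g, hgm⟩ := exists_conj_mem orderOf_sG (show orderOf (φ sG) = 13 by rw [MulEquiv.orderOf_eq]; exact orderOf_sG)
  obtain ⟨i, hi⟩ := Subgroup.mem_zpowers_iff.1 hgm
  have hzc : Commute (φ z) (g * sG * g⁻¹) := by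
    rw [← hi]
    exact (Commute.zpow_right ((commute_z sG_mem).map φ) i)
  have hc : Commute (g⁻¹ * φ z * g) sG := by
    show g⁻¹ * φ z * g * sG = sG * (g⁻¹ * φ z * g)
    calc g⁻¹ * φ z * g * sG = g⁻¹ * (φ z * (g * sG * g⁻¹)) * g := by group
      _ = g⁻¹ * ((g * sG * g⁻¹) * φ z) * g := by rw [hzc.eq]
      _ = sG * (g⁻¹ * φ z * g) := by group
  rcases mem_D_of_commute hc (by
      calc g⁻¹ * φ z * g * (g⁻¹ * φ z * g) = g⁻¹ * (φ z * φ z) * g := by group
        _ = 1 := by rw [← map_mul, Fi23.z_sq, map_one]; group) with h | h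
  · exfalso
    refine Fi23.z_ne_one (φ.injective ?_)
    rw [map_one]
    calc φ z = g * (g⁻¹ * φ z * g) * g⁻¹ := by group
      _ = 1 := by rw [h]; group
  · obtain ⟨k, hk⟩ := Fi23.mem_D.1 h
    refine Fi23.mem_D.2 ⟨g * k, ?_⟩
    calc g * k * z * (g * k)⁻¹ = g * (k * z * k⁻¹) * g⁻¹ := by group
      _ = φ z := by rw [hk]; group

theorem aut_mem_D (φ : MulAut (Setup.G FS)) {d : Setup.G FS} (hd : d ∈ Fi23.D) : φ d ∈ Fi23.D := by
  obtain ⟨g, rfl⟩ := Fi23.mem_D.1 hd
  obtain ⟨k, hk⟩ := Fi23.mem_D.1 (aut_z φ)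
  refine Fi23.mem_D.2 ⟨φ g * k, ?_⟩
  rw [map_mul, map_mul, map_inv, ← hk]
  group

end Cfsg.Agent.FischerPresented.Out23
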