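import Cfsg.Prelude.Def_KGroupFacts
import Cfsg.Agent.Lib.FischerPresented.Out23Class

/-!
An automorphism of the presented Fi23 permutes the transpositions, and the images of the ten generators are
restricted enough by commuting to bound the automorphism group by the order of the group.
-/

set_option autoImplicit false
set_option maxRecDepth 100000

namespace Cfsg.Agent.FischerPresented.Out23

open Cfsg.Agent.CosetCert
open Cfsg.Agent.CosetData
open Cfsg.Agent.FischerPresented.Fi23 (z)

local notation "FS" => Fi23A.setup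

instance finite_aut : Finite (MulAut (Setup.G FS)) :=
  haveI := Fi23.order_facts.1
  Finite.of_injective (fun φ : MulAut (Setup.G FS) => φ.toEquiv) fun _ _ h => MulEquiv.ext fun a => congrArg (fun e : Setup.G FS ≃ Setup.G FS => e a) h

/-- Number of indices below a bound passing a test. -/
def countBelow (f : ℕ → Bool) (m : ℕ) : ℕ := Nat.rec 0 (fun i r => bif f i then r + 1 else r) m

theorem countBelow_eq (f : ℕ → Bool) (m : ℕ) : countBelow f m = {p : Fin m | f p = true}.ncard := by
  rw [Set.ncard_eq_toFinset_card', Set.toFinset_setOf, Finset.card_filter,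
    Fin.sum_univ_eq_sum_range (fun i => if f i = true then 1 else 0) m]
  induction m with
  | zero => rfl
  | succ m ih =>
    rw [Finset.sum_range_succ, ← ih]
    show (bif f m then countBelow f m + 1 else countBelow f m) = _
    cases f m <;> simp

theorem allBelow_intro {f : ℕ → Bool} : ∀ {m : ℕ}, (∀ i < m, f i = true) → allBelow f m = true
  | 0, _ => rfl
  | m + 1, h => by
    show Bool.rec false (allBelow f m) (f m) = true
    rw [h m (Nat.lt_succ_self m)]
    exact allBelow_intro fun i hi => h i (Nat.lt_succ_of_lt hi)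

/-- The generator at a position. -/
def og (k : ℕ) : ℕ := ordG.getD k 0

theorem og_ok : allBelow (fun k => Nat.blt (og k) 10 &&
    allBelow (fun j => !(Nat.beq (gpt (og k)) (gpt (og j)))) k) 10 = true := by decide +kernel

theorem og_surj : allBelow (fun y => ordG.contains y) 10 = true := by decide +kernel

/-- Whether the table entry fixes a coset. -/
noncomputable def fixG (y p : ℕ) : Bool := Nat.beq (Fi23A.P.T.get (p * 10 + y)) p

/-- The possible images of a generator. -/
noncomputable def keep (k q : ℕ) : Bool :=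
  allBelow (fun j => !(Nat.beq q (gpt (og j))) && (fixG (og j) q == fixG (og j) (gpt (og k)))) k

theorem keep_ok : allBelow (fun k => Nat.ble (countBelow (keep k) 31671) (candN.getD k 0)) 10 = true := by
  decide +kernel

theorem candN_prod : (candN.getD 0 0 * candN.getD 1 0 * candN.getD 2 0 * candN.getD 3 0 * candN.getD 4 0 *
    candN.getD 5 0 * candN.getD 6 0 * candN.getD 7 0 * candN.getD 8 0 * candN.getD 9 0) = 4089470473293004800 := by
  decide +kernel

theorem fixG_iff {y : ℕ} (hy : y < 10) (p : Fin 31671) :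
    fixG y p = true ↔ Commute (Setup.gen FS y) (tr p) := by
  rw [← fix_iff, fixG, Nat.beq_eq, ← hom_gen_val hy]
  exact (Fin.ext_iff).symm

theorem og_lt {k : ℕ} (hk : k < 10) : og k < 10 := by
  have h := allBelow_spec og_ok hk
  rw [Bool.and_eq_true, Nat.blt_eq] at h
  exact h.1

/-- Automorphisms fixing the first generators. -/
def fixer (k : ℕ) : Subgroup (MulAut (Setup.G FS)) where
  carrier := {φ | ∀ j < k, φ (Setup.gen FS (og j)) = Setup.gen FS (og j)}
  one_mem' := fun _ _ => rfl
  mul_mem' := fun {a b} ha hb y hy => by rw [MulAut.mul_apply, hb y hy, ha y hy]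
  inv_mem' := fun {a} ha y hy => by
    refine a.injective ?_
    rw [MulAut.apply_inv_self, ha y hy]

theorem commute_map_iff (φ : MulAut (Setup.G FS)) (a b : Setup.G FS) :
    Commute (φ a) (φ b) ↔ Commute a b :=
  ⟨fun h => φ.injective (by rw [map_mul, map_mul]; exact h.eq), fun h => h.map φ⟩

theorem keep_of_aut {k : ℕ} (hk : k < 10) {φ : MulAut (Setup.G FS)} (hφ : φ ∈ fixer k) {q : Fin 31671}
    (hq : φ (Setup.gen FS (og k)) = tr q) : keep k q = true := by
  obtain ⟨hxl, hxp⟩ := tr_gpt (og_lt hk)
  refine allBelow_intro fun j hj => ?_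
  obtain ⟨hyl, hyp⟩ := tr_gpt (og_lt (hj.trans hk))
  rw [Bool.and_eq_true]
  constructor
  · rw [Bool.not_eq_true', ← Bool.not_eq_true, Nat.beq_eq]
    intro h
    have e : φ (Setup.gen FS (og k)) = φ (Setup.gen FS (og j)) := by
      rw [hq, hφ j hj, ← hyp]
      exact congrArg tr (Fin.ext h)
    have e2 := φ.injective e
    rw [← hxp, ← hyp] at e2
    have hne := allBelow_spec og_ok hk
    rw [Bool.and_eq_true] at hne
    have h2 := allBelow_spec hne.2 hj
    rw [Bool.not_eq_true', ← Bool.not_eq_true, Nat.beq_eq] at h2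
    exact h2 (congrArg Fin.val (tr_injective e2))
  · rw [beq_iff_eq, Bool.eq_iff_iff, fixG_iff (og_lt (hj.trans hk))]
    rw [show fixG (og j) (gpt (og k)) = fixG (og j) ((⟨gpt (og k), hxl⟩ : Fin 31671) : ℕ) from rfl,
      fixG_iff (og_lt (hj.trans hk)), ← hq, hxp]
    conv_lhs => rw [← hφ j hj]
    exact commute_map_iff φ _ _

theorem fixer_le {k : ℕ} (hk : k < 10) :
    Nat.card (fixer k) ≤ candN.getD k 0 * Nat.card (fixer (k + 1)) := by
  have h := Subgroup.index_mul_card (MulAction.stabilizer (fixer k) (Setup.gen FS (og k)))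
  rw [MulAction.index_stabilizer] at h
  rw [← h]
  refine Nat.mul_le_mul ?_ ?_
  · refine le_trans ?_ (Nat.le_of_ble_eq_true (allBelow_spec keep_ok hk))
    rw [countBelow_eq, ← Set.ncard_image_of_injective _ tr_injective]
    refine Set.ncard_le_ncard ?_ (Set.toFinite _)
    rintro _ ⟨⟨φ, hφ⟩, rfl⟩
    obtain ⟨q, hq⟩ := exists_tr (d := φ (Setup.gen FS (og k))) (aut_mem_D φ (d := Setup.gen FS (og k)) (by
      obtain ⟨hl, hp⟩ := tr_gpt (og_lt hk)
      rw [← hp]
      exact tr_mem _))
    exact ⟨q, keep_of_aut hk hφ hq.symm, hq⟩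
  · refine Nat.card_le_card_of_injective
      (fun φ : MulAction.stabilizer (fixer k) (Setup.gen FS (og k)) =>
        (⟨(φ : fixer k).1, fun y hy => ?_⟩ : fixer (k + 1))) ?_
    · rcases Nat.lt_succ_iff_lt_or_eq.1 hy with h | h
      · exact φ.1.2 y h
      · rw [h]; exact φ.2
    · intro a b hab
      exact Subtype.ext (Subtype.ext (congrArg (fun t : fixer (k + 1) => (t : MulAut (Setup.G FS))) hab))

theorem card_aut_le : Nat.card (MulAut (Setup.G FS)) ≤ 4089470473293004800 := by
  have h10 : Nat.card (fixer 10) ≤ 1 := by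
    have : fixer 10 = ⊥ := by
      rw [eq_bot_iff]
      intro φ hφ
      rw [Subgroup.mem_bot]
      refine MulEquiv.ext fun g => ?_
      exact DFunLike.congr_fun (MonoidHom.eq_of_eqOn_dense (Setup.closure_gen FS)
        (f := φ.toMonoidHom) (g := MonoidHom.id _) (by
          rintro _ ⟨y, hy, rfl⟩
          have hc := allBelow_spec og_surj (show y < 10 from hy)
          obtain ⟨j, hj, e⟩ := List.getElem_of_mem (List.contains_iff_mem.1 hc)
          have := hφ j (by simpa [ordG] using hj)
          rwa [og, List.getD_eq_getElem _ _ hj, e] at this)) g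
    rw [this]
    simp
  have h0 : fixer 0 = ⊤ := eq_top_iff.2 fun φ _ y hy => absurd hy (Nat.not_lt_zero y)
  rw [← Subgroup.card_top, ← h0, ← candN_prod]
  have step : ∀ (x : ℕ) (m : ℕ), x < 10 → Nat.card (fixer (x + 1)) ≤ m →
      Nat.card (fixer x) ≤ candN.getD x 0 * m := fun x m hx h =>
    (fixer_le hx).trans (Nat.mul_le_mul_left _ h)
  refine le_trans (step 0 _ (by norm_num) (step 1 _ (by norm_num) (step 2 _ (by norm_num) (step 3 _ (by norm_num)
    (step 4 _ (by norm_num) (step 5 _ (by norm_num) (step 6 _ (by norm_num) (step 7 _ (by norm_num)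
      (step 8 _ (by norm_num) (step 9 _ (by norm_num) h10)))))))))) ?_
  exact le_of_eq (by ring)

theorem card_out : Nat.card (Cfsg.Out (Setup.G FS)) = 1 := by
  have := Fi23.order_facts.1
  have := Fi23.isSimpleGroup
  show Nat.card (MulAut (Setup.G FS) ⧸ Cfsg.Inn (Setup.G FS)) = 1
  rw [← Subgroup.index_eq_card]
  have hinn : Nat.card (Cfsg.Inn (Setup.G FS)) = 4089470473293004800 := by
    have hinj : Function.Injective (MulAut.conj : Setup.G FS →* MulAut (Setup.G FS)) := by
      rw [← MonoidHom.ker_eq_bot_iff]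
      refine ((MonoidHom.normal_ker _).eq_bot_or_eq_top).resolve_right fun h => ?_
      have hz : MulAut.conj z = 1 := MonoidHom.mem_ker.1 (h ▸ Subgroup.mem_top z)
      have hall : ∀ x, z * x * z⁻¹ = x := fun x => DFunLike.congr_fun hz x
      have htop : Subgroup.centralizer ({z} : Set (Setup.G FS)) = ⊤ := by
        refine eq_top_iff.2 fun x _ => Subgroup.mem_centralizer_iff.2 ?_
        rintro _ rfl
        exact mul_inv_eq_iff_eq_mul.1 (hall x)
      rw [Fi23.centralizer_z] at htop
      have := Fi23.exists_frame.1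
      rw [htop, Subgroup.index_top] at this
      norm_num at this
    rw [← Fi23.order_facts.2.1]
    exact (Nat.card_congr (MonoidHom.ofInjective hinj).toEquiv).symm
  have h := Subgroup.card_mul_index (Cfsg.Inn (Setup.G FS))
  rw [hinn] at h
  have hle := card_aut_le
  rw [← h] at hle
  have h0 : (Cfsg.Inn (Setup.G FS)).index ≠ 0 := Subgroup.index_ne_zero_of_finite
  omega

end Cfsg.Agent.FischerPresented.Out23
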