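import Cfsg.Agent.Lib.FischerPresented.Mult23Basic

/-! Certificates: each relator of Fi23 reduced by moves on sequences of transpositions. -/

set_option autoImplicit false
set_option maxRecDepth 100000

namespace Cfsg.Agent.FischerPresented.Mult23

/-- Paths, part 0. -/
def paths0 : List (ℕ × List ℕ) := [(23800, [1, 0]),
  (26625, []),
  (16801, [1, 0, 2, 1]),
  (8602, [1, 0, 2, 1, 3, 2]),
  (16798, [1, 0, 2, 1, 3, 2, 4, 3]),
  (23799, [1, 0, 2, 1, 3, 2, 4, 3, 5, 4]),
  (26624, [1, 0, 2, 1, 3, 2, 4, 3, 5, 4, 6, 5]),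
  (16802, [1, 0, 2, 1, 3, 2, 7, 3]),
  (23802, [1, 0, 2, 1, 3, 2, 7, 3, 8, 7]),
  (29146, [1, 0, 2, 1, 3, 2, 4, 3, 5, 4, 6, 5, 9, 6]),
  (8574, [1, 0, 2, 1, 3, 2, 4]),
  (16803, [1, 0, 2, 1, 3, 2, 7, 3, 8]),
  (8601, [1, 0, 2, 1, 3, 2, 7]),
  (8573, [1, 0, 2, 1, 3, 2, 4, 7]),
  (16799, [1, 0, 2]),
  (8597, [1, 0, 2, 1, 3]),
  (16797, [1, 0, 2, 1, 3, 2, 4, 3, 5]),
  (8594, [1, 0, 2, 1, 3, 7]),
  (8570, [1, 0, 2, 1, 3, 2, 4, 5, 7]),
  (3574, [1, 0, 2, 1, 3, 4, 7]),
  (8572, [1, 0, 2, 1, 3, 2, 4, 5, 7, 8]),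
  (8558, [1, 0, 2, 3, 4, 5]),
  (8592, [1, 0, 2, 3, 7]),
  (1213, [1, 0, 2, 3, 4, 5, 7, 3]),
  (8603, [1, 0, 2, 1, 3, 2, 7, 8]),
  (3570, [1, 0, 2, 3, 4, 7]),
  (3523, [1, 0, 2, 3, 4, 5, 7]),
  (8598, [1, 0, 2, 3, 7, 8]),
  (3575, [1, 0, 2, 1, 3, 4, 7, 8]),
  (3569, [1, 0, 2, 1, 3, 4, 7, 3]),
  (1221, [1, 0, 2, 3, 4, 5, 7, 3, 2, 8, 7]),
  (8595, [1, 0, 2, 3]),
  (3572, [1, 0, 2, 3, 4, 7, 8]),
  (1848, [1, 0, 2, 1, 3, 4, 5, 7, 3, 4, 8, 7]),
  (3526, [1, 0, 2, 3, 4, 5, 7, 8]),
  (1849, [1, 0, 2, 3, 4, 5, 7, 3, 2, 4, 8, 7, 3, 2, 1]),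
  (30734, [1, 2, 3, 4, 5, 6, 7, 3, 2, 1, 4, 3, 5, 8, 7, 3, 2, 1, 4, 3, 2, 5, 4, 3, 7, 3, 2, 4, 8, 7, 3, 9, 6, 5, 4, 3, 2, 1, 0, 7, 3, 8]),
  (30076, [1, 2, 3, 4, 5, 6, 7, 3, 2, 1, 4, 3, 5, 8, 7, 3, 2, 1, 4, 3, 2, 5, 4, 3, 7, 3, 2, 4, 8, 7, 9, 6, 5, 4, 3, 2, 1, 0, 7, 3, 8]),
  (30888, [1, 2, 3, 4, 5, 6, 7, 3, 2, 1, 4, 3, 2, 5, 4, 7, 8, 7, 3, 2, 1, 4, 3, 2, 5, 4, 3, 7, 3, 2, 8, 7, 3, 4, 9, 6, 5, 4, 3, 2, 1, 0, 7, 3]),
  (29731, [1, 2, 3, 4, 5, 6, 7, 3, 2, 1, 4, 3, 2, 5, 4, 8, 7, 3, 2, 1, 4, 3, 2, 5, 4, 7, 3, 2, 1, 0, 8, 7, 9, 6, 5, 4, 3, 2, 1, 0, 7, 3]),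
  (29770, [1, 2, 3, 4, 5, 6, 7, 3, 2, 1, 4, 3, 5, 7, 8, 7, 3, 2, 1, 0, 4, 3, 2, 5, 4, 7, 3, 8, 7, 9, 6, 5, 4, 3, 2, 1, 0, 7, 3, 4]),
  (30858, [1, 2, 3, 4, 5, 6, 7, 3, 2, 1, 4, 3, 2, 5, 8, 7, 3, 2, 1, 4, 3, 2, 5, 4, 3, 7, 3, 4, 8, 7, 3, 2, 1, 9, 6, 5, 4, 3, 2, 1, 0, 7, 3]),
  (23801, [1]),
  (8571, [1, 0, 2, 1, 3, 2, 4, 5]),
  (8563, [1, 0, 2, 1, 3, 4]),
  (3571, [1, 2, 3, 4, 7]),
  (3525, [1, 0, 2, 1, 3, 4, 5, 7]),
  (8560, [1, 0, 2, 1, 3, 4, 5]),
  (8561, [1, 0, 2, 3, 4]),
  (3567, [1, 2, 3, 4, 7, 3, 2, 1]),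
  (3510, [1, 0, 2, 1, 3, 4, 5, 7, 3]),
  (8593, [1, 2, 3, 7]),
  (3509, [1, 0, 2, 1, 3, 4, 5, 7, 3, 4]),
  (1219, [1, 2, 3, 4, 5, 7, 3, 2, 1]),
  (1504, [1, 2, 3, 4, 5, 7, 3, 2, 1, 4, 3, 2, 7, 3, 4])]

/-- Paths from the first generator's transposition. -/
def paths : List (ℕ × List ℕ) := paths0

/-- Seven commuting transpositions with product one. -/
def hept : List ℕ := [8560, 8570, 8594, 1219, 26625, 8602, 1504]

/-- Moves for relator 0. -/
def moves0 : List Move := [.right 0 0, .right 1 1, .cancel 2, .rot 3, .cancel 0, .cancel 0]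

/-- Moves for relator 1. -/
def moves1 : List Move := [.right 0 2, .cancel 1, .cancel 0]

/-- Moves for relator 2. -/
def moves2 : List Move := [.right 0 3, .cancel 1, .cancel 0]

/-- Moves for relator 3. -/
def moves3 : List Move := [.right 0 4, .cancel 1, .cancel 0]

/-- Moves for relator 4. -/
def moves4 : List Move := [.right 0 5, .cancel 1, .cancel 0]

/-- Moves for relator 5. -/
def moves5 : List Move := [.right 0 6, .cancel 1, .cancel 0]

/-- Moves for relator 6. -/
def moves6 : List Move := [.right 0 7, .cancel 1, .cancel 0]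

/-- Moves for relator 7. -/
def moves7 : List Move := [.right 0 8, .cancel 1, .cancel 0]

/-- Moves for relator 8. -/
def moves8 : List Move := [.right 0 9, .cancel 1, .cancel 0]

/-- Moves for relator 9. -/
def moves9 : List Move := [.right 0 2, .right 1 0, .cancel 2, .rot 3, .cancel 0, .cancel 0]

/-- Moves for relator 10. -/
def moves10 : List Move := [.right 0 3, .cancel 1, .cancel 0]

/-- Moves for relator 11. -/
def moves11 : List Move := [.right 0 4, .cancel 1, .cancel 0]

/-- Moves for relator 12. -/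
def moves12 : List Move := [.right 0 5, .cancel 1, .cancel 0]

/-- Moves for relator 13. -/
def moves13 : List Move := [.right 0 6, .cancel 1, .cancel 0]

/-- Moves for relator 14. -/
def moves14 : List Move := [.right 0 7, .cancel 1, .cancel 0]

/-- Moves for relator 15. -/
def moves15 : List Move := [.right 0 8, .cancel 1, .cancel 0]

/-- Moves for relator 16. -/
def moves16 : List Move := [.right 0 9, .cancel 1, .cancel 0]

/-- Moves for relator 17. -/
def moves17 : List Move := [.right 0 3, .right 1 2, .cancel 2, .rot 3, .cancel 0, .cancel 0]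

/-- Moves for relator 18. -/
def moves18 : List Move := [.right 0 4, .cancel 1, .cancel 0]

/-- Moves for relator 19. -/
def moves19 : List Move := [.right 0 5, .cancel 1, .cancel 0]

/-- Moves for relator 20. -/
def moves20 : List Move := [.right 0 6, .cancel 1, .cancel 0]

/-- Moves for relator 21. -/
def moves21 : List Move := [.right 0 7, .cancel 1, .cancel 0]

/-- Moves for relator 22. -/
def moves22 : List Move := [.right 0 8, .cancel 1, .cancel 0]

/-- Moves for relator 23. -/
def moves23 : List Move := [.right 0 9, .cancel 1, .cancel 0]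

/-- Moves for relator 24. -/
def moves24 : List Move := [.right 0 4, .right 1 3, .cancel 2, .rot 3, .cancel 0, .cancel 0]

/-- Moves for relator 25. -/
def moves25 : List Move := [.right 0 5, .cancel 1, .cancel 0]

/-- Moves for relator 26. -/
def moves26 : List Move := [.right 0 6, .cancel 1, .cancel 0]

/-- Moves for relator 27. -/
def moves27 : List Move := [.right 0 7, .right 1 3, .cancel 2, .rot 3, .cancel 0, .cancel 0]

/-- Moves for relator 28. -/
def moves28 : List Move := [.right 0 8, .cancel 1, .cancel 0]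

/-- Moves for relator 29. -/
def moves29 : List Move := [.right 0 9, .cancel 1, .cancel 0]

/-- Moves for relator 30. -/
def moves30 : List Move := [.right 0 5, .right 1 4, .cancel 2, .rot 3, .cancel 0, .cancel 0]

/-- Moves for relator 31. -/
def moves31 : List Move := [.right 0 6, .cancel 1, .cancel 0]

/-- Moves for relator 32. -/
def moves32 : List Move := [.right 0 7, .cancel 1, .cancel 0]

/-- Moves for relator 33. -/
def moves33 : List Move := [.right 0 8, .cancel 1, .cancel 0]

/-- Moves for relator 34. -/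
def moves34 : List Move := [.right 0 9, .cancel 1, .cancel 0]

/-- Moves for relator 35. -/
def moves35 : List Move := [.right 0 6, .right 1 5, .cancel 2, .rot 3, .cancel 0, .cancel 0]

/-- Moves for relator 36. -/
def moves36 : List Move := [.right 0 7, .cancel 1, .cancel 0]

/-- Moves for relator 37. -/
def moves37 : List Move := [.right 0 8, .cancel 1, .cancel 0]

/-- Moves for relator 38. -/
def moves38 : List Move := [.right 0 9, .cancel 1, .cancel 0]

/-- Moves for relator 39. -/
def moves39 : List Move := [.right 0 7, .cancel 1, .cancel 0]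

/-- Moves for relator 40. -/
def moves40 : List Move := [.right 0 8, .cancel 1, .cancel 0]

/-- Moves for relator 41. -/
def moves41 : List Move := [.right 0 9, .right 1 6, .cancel 2, .rot 3, .cancel 0, .cancel 0]

/-- Moves for relator 42. -/
def moves42 : List Move := [.right 0 8, .right 1 7, .cancel 2, .rot 3, .cancel 0, .cancel 0]

/-- Moves for relator 43. -/
def moves43 : List Move := [.right 0 9, .cancel 1, .cancel 0]

/-- Moves for relator 44. -/
def moves44 : List Move := [.right 0 9, .cancel 1, .cancel 0]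

/-- Moves for relator 45, part 0. -/
def moves45_0 : List Move := [.rot 1, .right 0 0, .right 1 3, .right 2 4, .right 3 5, .right 4 3, .right 5 7, .right 6 8, .right 7 3, .right 8 2, .right 9 0, .right 10 3, .right 11 4, .right 12 5, .right 13 3, .right 14 7, .right 15 8, .right 16 3, .right 17 2, .right 18 0, .right 19 3, .right 20 4, .right 21 5, .right 22 3, .right 23 7, .right 24 8, .right 25 3, .right 26 2, .right 27 0, .right 28 3, .right 29 4, .right 30 5, .right 31 3, .right 32 7, .right 33 8, .right 34 3, .right 35 2, .right 36 0, .right 37 3, .right 38 4, .right 39 5, .right 40 3, .right 41 7, .right 42 8, .right 43 3, .cancel 44, .rot 87, .left 1 0, .cancel 0, .rot 42, .right 0 0, .cancel 1, .rot 77, .left 6 8, .left 5 7, .left 4 3, .left 3 5, .left 2 4, .left 1 3, .cancel 0, .right 0 4, .right 1 5, .right 2 3, .right 3 7, .right 4 8, .right 5 4, .cancel 6, .rot 38, .right 0 3, .right 1 4, .right 2 5, .right 3 3, .right 4 7, .right 5 8, .cancel 6, .right 0 4, .right 1 5, .right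 2 3, .right 3 7, .right 4 8, .right 5 4, .cancel 6, .rot 73, .left 11 8, .left 10 7, .left 9 3, .left 8 4, .left 7 8, .left 6 7, .left 5 3, .left 4 5, .left 3 4, .left 2 2, .left 1 3, .cancel 0, .rot 36, .right 0 3, .right 1 2, .right 2 4, .right 3 5, .right 4 3, .right 5 7, .right 6 8, .right 7 4, .right 8 3, .right 9 7, .right 10 8, .cancel 11, .rot 69, .left 12 7, .left 11 3, .left 10 4, .left 9 8, .left 8 7, .left 7 3, .left 6 5, .left 5 4, .left 4 2, .left 3 3, .left 2 7]

/-- Moves for relator 45, part 1. -/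
def moves45_1 : List Move := [.left 1 3, .cancel 0, .rot 34, .right 0 3, .right 1 7, .right 2 3, .right 3 2, .right 4 4, .right 5 5, .right 6 3, .right 7 7, .right 8 8, .right 9 4, .right 10 3, .right 11 7, .cancel 12, .right 0 7, .right 1 3, .right 2 2, .right 3 4, .right 4 5, .right 5 3, .right 6 7, .right 7 8, .right 8 4, .right 9 3, .right 10 7, .right 11 2, .right 12 0, .right 13 3, .right 14 4, .right 15 5, .cancel 16, .rot 65, .left 16 5, .left 15 4, .left 14 3, .left 13 0, .left 12 2, .left 11 7, .left 10 3, .left 9 4, .left 8 8, .left 7 7, .left 6 3, .left 5 5, .left 4 4, .left 3 2, .left 2 3, .left 1 7, .cancel 0, .rot 31, .right 0 7, .right 1 3, .right 2 2, .right 3 4, .right 4 5, .right 5 3, .right 6 7, .right 7 8, .right 8 4, .right 9 3, .right 10 7, .right 11 2, .right 12 0, .right 13 3, .right 14 4, .right 15 5, .cancel 16, .rot 61, .left 16 5, .left 15 4, .left 14 3, .left 13 0, .left 12 2, .left 11 7, .left 10 3, .left 9 4, .left 8 8, .left 7 7, .left 6 3, .left 5 5,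 .left 4 4, .left 3 2, .left 2 3, .left 1 7, .cancel 0, .rot 59, .left 17 8, .left 16 5, .left 15 4, .left 14 3, .left 13 0, .left 12 2, .left 11 7, .left 10 3, .left 9 4, .left 8 8, .left 7 7, .left 6 3, .left 5 5, .left 4 4, .left 3 2, .left 2 3, .left 1 7, .cancel 0, .rot 28, .right 0 7, .right 1 3, .right 2 2, .right 3 4, .right 4 5, .right 5 3, .right 6 7, .right 7 8, .right 8 4, .right 9 3, .right 10 7, .right 11 2, .right 12 0]

/-- Moves for relator 45, part 2. -/
def moves45_2 : List Move := [.right 13 3, .right 14 4, .right 15 5, .right 16 8, .cancel 17, .rot 49, .left 22 5, .left 21 4, .left 20 3, .left 19 0, .left 18 2, .left 17 7, .left 16 3, .left 15 4, .left 14 8, .left 13 7, .left 12 3, .left 11 5, .left 10 4, .left 9 2, .left 8 3, .left 7 7, .left 6 0, .left 5 2, .left 4 3, .left 3 8, .left 2 7, .left 1 3, .cancel 0, .right 0 7, .right 1 8, .right 2 3, .right 3 2, .right 4 0, .right 5 7, .right 6 3, .right 7 2, .right 8 4, .right 9 5, .right 10 3, .right 11 7, .right 12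 8, .right 13 4, .right 14 3, .right 15 7, .right 16 2, .right 17 0, .right 18 3, .right 19 4, .right 20 5, .right 21 2, .cancel 22, .rot 24, .right 0 3, .right 1 7, .right 2 8, .right 3 3, .right 4 2, .right 5 0, .right 6 7, .right 7 3, .right 8 2, .right 9 4, .right 10 5, .right 11 3, .right 12 7, .right 13 8, .right 14 4, .right 15 3, .right 16 7, .right 17 2, .right 18 0, .right 19 3, .right 20 4, .right 21 5, .cancel 22, .right 0 7, .right 1 8, .right 2 3, .right 3 2, .right 4 0, .right 5 7, .right 6 3, .right 7 2, .right 8 4, .right 9 5, .right 10 3, .right 11 7, .right 12 8, .right 13 4, .right 14 3, .right 15 7, .right 16 2, .right 17 0, .right 18 3, .right 19 4, .right 20 5, .right 21 2, .cancel 22, .left 22 3, .left 0 7, .left 22 10, .right 37 3, .right 10 7, .left 27 2, .rot 37, .left 20 5, .left 19 4, .left 18 2, .left 17 3, .left 16 7, .left 15 0, .left 14 2, .left 13 3, .left 12 7, .left 11 11, .left 10 4, .left 9 3, .left 8 2, .left 7 5]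

/-- Moves for relator 45, part 3. -/
def moves45_3 : List Move := [.left 6 4, .left 5 3, .left 4 0, .left 3 2, .left 2 7, .left 1 10, .cancel 0, .right 36 2, .right 40 4, .right 38 3, .left 4 3, .right 18 5, .left 32 10, .rot 38, .left 12 10, .left 11 0, .left 10 2, .left 9 7, .left 8 10, .left 7 8, .left 6 7, .left 5 3, .left 4 5, .left 3 2, .left 2 4, .left 1 12, .cancel 0, .right 22 2, .right 4 7, .right 39 8, .right 19 0, .right 37 13, .rot 19, .right 0 14, .right 1 7, .cancel 2, .rot 16, .right 0 12, .right 1 8, .right 2 10, .cancel 3, .left 30 8, .rot 1, .left 38 2, .left 12 7, .left 15 10, .left 12 2, .left 33 2, .rot 21, .right 0 3, .right 1 14, .right 2 7, .right 3 15, .right 4 5, .right 5 16, .right 6 12, .right 7 4, .right 8 8, .right 9 3, .right 10 7, .right 11 14, .cancel 12, .right 27 10, .left 23 2, .right 5 12, .right 27 8, .left 3 15, .right 23 2, .right 32 10, .right 23 5, .left 12 3, .rot 13, .right 0 5, .right 1 17, .right 2 2, .right 3 8, .right 4 10, .right 5 2,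 .right 6 0, .right 7 12, .right 8 4, .right 9 5, .right 10 2, .cancel 11, .left 10 2, .right 25 5, .left 30 4, .right 24 5, .right 18 2, .left 11 2, .rot 1, .right 34 5, .rot 27, .right 0 18, .right 1 8, .right 2 4, .right 3 3, .right 4 7, .right 5 14, .cancel 6, .right 9 10, .left 3 3, .left 19 10, .left 25 5, .left 21 2, .right 18 13, .rot 18, .right 0 19, .right 1 10, .right 2 14, .right 3 2, .cancel 4, .rot 3, .cancel 0, .left 14 14, .right 9 8, .right 16 2, .rot 9, .right 0 20, .right 1 4]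

/-- Moves for relator 45, part 4. -/
def moves45_4 : List Move := [.right 2 12, .right 3 3, .right 4 21, .cancel 5, .right 9 0, .right 21 11, .right 6 10, .right 26 15, .left 24 5, .rot 26, .left 4 12, .left 3 4, .left 2 20, .left 1 17, .cancel 0, .left 10 14, .left 6 10, .right 21 4, .rot 25, .left 11 22, .left 10 0, .left 9 8, .left 8 10, .left 7 12, .left 6 2, .left 5 21, .left 4 12, .left 3 4, .left 2 20, .left 1 17, .cancel 0, .left 10 22, .left 3 12, .left 8 8, .left 17 14, .right 6 10, .right 21 3, .rot 21, .left 10 12, .left 9 10, .left 8 2, .left 7 12, .left 6 23, .left 5 4, .left 4 20, .left 3 17, .left 2 14, .left 1 24, .cancel 0, .right 19 5, .right 3 4, .right 12 5, .right 19 14, .left 6 12, .left 11 25, .right 13 17, .rot 7, .right 0 10, .cancel 1, .right 1 26, .left 13 24, .rot 10, .right 0 5, .right 1 4, .right 2 27, .cancel 3, .left 14 8, .left 3 17, .rot 11, .right 0 17, .right 1 0, .right 2 28, .cancel 3, .left 6 4, .rot 7, .right 0 19, .cancel 1, .right 11 5, .right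 3 10, .right 2 10, .right 6 17, .rot 2, .right 0 23, .right 1 29, .right 2 26, .cancel 3, .left 10 19, .rot 11, .left 2 29, .left 1 23, .cancel 0, .right 2 0, .left 5 10, .right 2 30, .right 2 0, .rot 1, .right 8 23, .left 1 0, .right 4 10, .left 6 31, .right 3 10, .right 5 32, .left 8 23, .right 7 33, .rot 2, .right 0 10, .right 1 28, .cancel 2, .right 0 28, .right 1 34, .left 5 23, .right 3 35, .left 1 34, .rot 1, .right 6 28, .right 6 30, .right 1 35, .left 3 31, .left 3 29, .right 6 28]

/-- Moves for relator 45, part 5. -/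
def moves45_5 : List Move := [.left 3 31, .ins 2 30734, .right 1 36, .right 5 31, .right 0 36, .right 0 37, .left 1 10, .right 3 34, .left 7 23, .rot 1, .right 8 37, .left 7 23, .rot 8, .left 2 38, .left 1 39, .cancel 0, .right 4 29, .left 1 38, .right 6 40, .rot 6, .left 2 39, .left 1 41, .cancel 0, .rot 1, .right 0 38, .right 1 41, .cancel 2, .right 0 41, .cancel 1, .cancel 0]

/-- Moves for relator 45. -/
def moves45 : List Move := moves45_0 ++ moves45_1 ++ moves45_2 ++ moves45_3 ++ moves45_4 ++ moves45_5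

/-- Moves for relator 46, part 0. -/
def moves46_0 : List Move := [.right 33 7, .right 35 0, .left 33 7, .rot 35, .right 0 42, .right 1 2, .right 2 3, .right 3 4, .right 4 5, .right 5 7, .cancel 6, .right 30 5, .right 53 1, .right 38 7, .rot 24, .right 0 7, .right 1 1, .right 2 0, .right 3 2, .right 4 3, .cancel 5, .right 30 3, .left 14 1, .rot 15, .right 0 2, .right 1 3, .right 2 4, .right 3 5, .right 4 7, .cancel 5, .rot 13, .right 0 15, .right 1 4, .right 2 5, .right 3 7, .right 4 42, .right 5 2, .right 6 3, .right 7 4, .right 8 5, .right 9 7, .right 10 0, .right 11 2, .right 12 3, .right 13 4, .right 14 5, .right 15 7, .cancel 16, .right 3 42, .left 20 5, .right 27 1, .right 24 3, .left 29 0, .rot 24, .right 0 15, .right 1 4, .right 2 1, .right 3 7, .right 4 14, .cancel 5, .left 47 3, .right 26 7, .right 26 1, .rot 37, .right 0 7, .right 1 0, .right 2 2, .right 3 3, .right 4 4, .right 5 5, .right 6 7, .right 7 0, .right 8 2, .right 9 10, .cancel 10, .right 41 0, .right 7 2, .right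 3 4, .rot 50, .left 3 2, .left 2 0, .left 1 7, .cancel 0, .rot 6, .right 0 14, .right 1 10, .right 2 7, .right 3 5, .right 4 1, .right 5 0, .right 6 15, .right 7 4, .cancel 8, .left 44 10, .left 24 5, .left 34 15, .rot 36, .right 0 42, .right 1 7, .right 2 2, .right 3 3, .right 4 7, .right 5 0, .right 6 2, .right 7 43, .cancel 8, .rot 34, .right 0 0, .right 1 2, .right 2 3, .right 3 4, .right 4 5, .right 5 1, .right 6 0, .right 7 7, .right 8 44, .cancel 9, .left 30 7, .right 36 5, .left 26 7]

/-- Moves for relator 46, part 1. -/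
def moves46_1 : List Move := [.right 30 7, .left 29 16, .right 6 7, .right 34 4, .left 23 0, .left 18 14, .right 28 7, .rot 27, .cancel 0, .rot 33, .left 9 16, .left 8 12, .left 7 14, .left 6 4, .left 5 0, .left 4 31, .left 3 1, .left 2 5, .left 1 7, .cancel 0, .right 0 5, .right 29 7, .left 1 7, .left 4 0, .right 13 7, .right 21 3, .left 36 43, .right 18 7, .rot 33, .right 0 0, .right 1 2, .right 2 18, .cancel 3, .rot 25, .left 11 3, .left 10 2, .left 9 42, .left 8 7, .left 7 44, .left 6 0, .left 5 7, .left 4 1, .left 3 5, .left 2 4, .left 1 15, .cancel 0, .left 6 44, .rot 4, .right 0 0, .right 1 19, .cancel 2, .right 25 7, .left 10 7, .left 3 2, .rot 4, .cancel 0, .rot 15, .right 0 5, .right 1 42, .right 2 2, .cancel 3, .left 22 14, .rot 23, .right 0 16, .right 1 0, .cancel 2, .right 5 2, .right 24 0, .rot 1, .left 25 22, .left 14 19, .rot 12, .right 0 0, .right 1 45, .cancel 2, .rot 5, .right 0 1, .right 1 22, .right 2 7, .right 3 0, .right 4 4, .right 5 26, .cancel 6, .rot 4, .right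 0 26, .right 1 0, .cancel 2, .right 12 45, .left 9 15, .left 3 5, .left 10 15, .rot 7, .right 0 0, .right 1 44, .right 2 5, .cancel 3, .left 11 0, .left 11 46, .rot 11, .right 0 46, .cancel 1, .left 2 2, .rot 1, .right 15 46, .rot 1, .left 15 47, .right 2 12, .right 13 46, .left 13 46, .left 14 46, .right 9 18, .right 3 0, .right 12 22, .right 11 22, .left 8 0, .right 6 45, .left 12 48, .left 6 45, .right 8 0, .left 12 49]

/-- Moves for relator 46, part 2. -/
def moves46_2 : List Move := [.left 10 50, .left 1 2, .right 0 17, .left 2 2, .right 5 5, .left 3 2, .rot 1, .right 0 14, .right 1 51, .right 2 2, .cancel 3, .right 10 52, .right 13 17, .right 1 2, .rot 4, .right 0 0, .right 1 18, .right 2 22, .right 3 50, .right 4 51, .cancel 5, .left 8 47, .left 3 50, .left 8 14, .right 11 47, .rot 1, .right 11 0, .right 1 51, .left 0 18, .rot 10, .left 2 53, .left 1 0, .cancel 0, .rot 9, .left 1 2, .cancel 0, .left 3 1, .right 0 53, .left 6 46, .left 1 2, .left 5 54, .left 1 46, .left 0 53, .left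 6 54, .left 3 50, .left 1 53, .right 4 16, .right 3 16, .left 5 50, .right 2 16, .left 1 46, .right 6 54, .rot 7, .left 3 17, .left 2 18, .left 1 47, .cancel 0]

/-- Moves for relator 46. -/
def moves46 : List Move := moves46_0 ++ moves46_1 ++ moves46_2

/-- The moves by relator. -/
def moves : List (List Move) := [moves0, moves1, moves2, moves3, moves4, moves5, moves6, moves7, moves8, moves9, moves10, moves11, moves12, moves13, moves14, moves15, moves16, moves17, moves18, moves19, moves20, moves21, moves22, moves23, moves24, moves25, moves26, moves27, moves28, moves29, moves30, moves31, moves32, moves33, moves34, moves35, moves36, moves37, moves38, moves39, moves40, moves41, moves42, moves43, moves44, moves45, moves46]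

end Cfsg.Agent.FischerPresented.Mult23
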