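import Cfsg.Prelude.Def_KGroupFacts
import Cfsg.Agent.Lib.FischerPresented.Mult23Data

/-!
In a central extension of Fi23 the transpositions lift to a class, and every relator reduces by moves to
the empty sequence or to seven commuting transpositions, so stem extensions are trivial.
-/

set_option autoImplicit false
set_option maxRecDepth 100000

namespace Cfsg.Agent.FischerPresented.Mult23

open Cfsg.Agent.CosetCert
open Cfsg.Agent.CosetData
open Cfsg.Agent.FischerPresented.Out23 (hm tr tr_hom tr_gpt gpt gWords exists_hom_zero hom_mul_apply mem_H_iff tr_eq fix_iff hom_gen_val)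
open Cfsg.Agent.FischerPresented.Fi23 (z)

local notation "FS" => Fi23A.setup

theorem paths_ok : ∀ e ∈ paths, pathOK e = true := by
  have h : (paths.all pathOK) = true := by decide +kernel
  exact List.all_eq_true.1 h

theorem path_zero : pathOK (gpt 0, []) = true := by decide +kernel

theorem moves_ok : ((Fi23A.base.zip moves).all fun e =>
    let r := run paths e.2 (e.1.map gpt)
    (r == []) || (r == hept)) = true := by
  decide +kernel

theorem moves_len : moves.length = Fi23A.base.length := by decide +kernel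

theorem hept_len : hept.length = 7 := rfl

theorem hept_comm : (hept.all fun a => hept.all fun b => Nat.blt a 31671 && Nat.blt b 31671 &&
    (paths.any fun e => Nat.beq e.1 a && Nat.beq (cAct e.2 b) b) || Nat.beq a b) = true := by
  decide +kernel

theorem exists_reduct {Q : Type} [Group Q] {T : Fin 31671 → Q} (hT : IsLift T) {w : List ℕ}
    (hw : w ∈ Fi23A.base) (hc : val T (w.map gpt) ∈ Subgroup.center Q) :
    val T (w.map gpt) = 1 ∨ val T (w.map gpt) = val T hept := by
  obtain ⟨i, hi, rfl⟩ := List.getElem_of_mem hw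
  have hi' : i < moves.length := moves_len ▸ hi
  have hmem : (Fi23A.base[i], moves[i]) ∈ Fi23A.base.zip moves := by
    refine List.mem_iff_getElem.2 ⟨i, by rw [List.length_zip]; omega, ?_⟩
    exact List.getElem_zip
  have h := List.all_eq_true.1 moves_ok _ hmem
  simp only [Bool.or_eq_true, beq_iff_eq] at h
  have hv := val_run hT paths_ok path_zero moves[i] _ hc
  rcases h with h | h
  · exact Or.inl (hv.symm.trans (congrArg (val T) h))
  · exact Or.inr (hv.symm.trans (congrArg (val T) h))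

theorem isLift_tr : IsLift tr where
  sq p := by
    obtain ⟨g, hg⟩ := exists_hom_zero p
    rw [tr_eq hg]
    calc g * z * g⁻¹ * (g * z * g⁻¹) = g * (z * z) * g⁻¹ := by group
      _ = 1 := by rw [Fi23.z_sq]; group
  conj a b := tr_hom _ _

theorem val_gpt {Q : Type} [Group Q] {T : Fin 31671 → Q} {f : ℕ → Q}
    (hf : ∀ x, x < 10 → ext T (gpt x) = f x) :
    ∀ w : List ℕ, (w.all fun x => Nat.blt x 10) = true → val T (w.map gpt) = wprod f w
  | [], _ => rfl
  | x :: w, h => by
    rw [List.all_cons, Bool.and_eq_true, Nat.blt_eq] at h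
    rw [List.map_cons, val_cons, wprod_cons, hf x h.1, val_gpt hf w h.2]

theorem base_lt : (Fi23A.base.all fun w => w.all fun x => Nat.blt x 10) = true := by decide +kernel

theorem ext_tr_gpt (x : ℕ) (hx : x < 10) : ext tr (gpt x) = Setup.gen FS x := by
  obtain ⟨h, e⟩ := tr_gpt hx
  rw [ext, dif_pos h, e]

theorem val_hept : val tr hept = 1 := by
  have hw : rep 9 [0, 1, 2, 3, 4, 5, 7] ∈ Fi23A.base := by decide +kernel
  have hone : val tr ((rep 9 [0, 1, 2, 3, 4, 5, 7]).map gpt) = 1 := by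
    rw [val_gpt ext_tr_gpt _ (List.all_eq_true.1 base_lt _ hw)]
    exact Setup.base_one FS _ hw
  have hlast : run paths (moves.getD 46 []) ((rep 9 [0, 1, 2, 3, 4, 5, 7]).map gpt) = hept := by
    decide +kernel
  rw [← hlast, val_run isLift_tr paths_ok path_zero _ _ (by rw [hone]; exact Subgroup.one_mem _), hone]

section Ext

variable {E : Type} [Group E] {σ : E →* Setup.G FS}

theorem lift_commute (hker : σ.ker ≤ Subgroup.center E) (hs : Function.Surjective σ) {A : E}
    (hA : σ A = z) {e : E} (he : σ e ∈ Fi23.K) : Commute e A := by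
  have hcen : ∀ g : Setup.G FS, g ∈ Fi23.K → ∀ a, σ a = g → a * A * a⁻¹ * A⁻¹ ∈ σ.ker := by
    intro g hg a ha
    rw [MonoidHom.mem_ker, map_mul, map_mul, map_mul, map_inv, map_inv, ha, hA, ← Fi23.z_comm_K g hg]
    group
  have hind : ∀ a b : E, σ a = σ b → a * A * a⁻¹ = b * A * b⁻¹ := by
    intro a b h
    have hk : b⁻¹ * a ∈ σ.ker := by rw [MonoidHom.mem_ker, map_mul, map_inv, h, inv_mul_cancel]
    have hc := Subgroup.mem_center_iff.1 (hker hk) A
    calc a * A * a⁻¹ = b * (b⁻¹ * a * A) * a⁻¹ := by group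
      _ = b * (A * (b⁻¹ * a)) * a⁻¹ := by rw [hc]
      _ = b * A * b⁻¹ := by group
  let r : Fi23.K → E := fun k => Function.surjInv hs (k : Setup.G FS)
  have hr : ∀ k : Fi23.K, σ (r k) = k := fun k => Function.surjInv_eq hs _
  let ψ : Fi23.K →* σ.ker :=
    { toFun := fun k => ⟨r k * A * (r k)⁻¹ * A⁻¹, hcen k k.2 _ (hr k)⟩
      map_one' := Subtype.ext (by
        show r 1 * A * (r 1)⁻¹ * A⁻¹ = 1
        rw [hind (r 1) 1 (by rw [hr, map_one]; rfl)]
        group)
      map_mul' := fun k l => Subtype.ext (by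
        show r (k * l) * A * (r (k * l))⁻¹ * A⁻¹ = (r k * A * (r k)⁻¹ * A⁻¹) * (r l * A * (r l)⁻¹ * A⁻¹)
        rw [hind (r (k * l)) (r k * r l) (by rw [map_mul, hr, hr, hr]; rfl)]
        have hc := Subgroup.mem_center_iff.1 (hker (hcen l l.2 _ (hr l))) (r k)
        have hk := Subgroup.mem_center_iff.1 (hker (hcen k k.2 _ (hr k))) (r l * A * (r l)⁻¹ * A⁻¹)
        rw [← hk]
        calc r k * r l * A * (r k * r l)⁻¹ * A⁻¹
            = r k * (r l * A * (r l)⁻¹ * A⁻¹) * (A * (r k)⁻¹ * A⁻¹) := by group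
          _ = (r l * A * (r l)⁻¹ * A⁻¹) * r k * (A * (r k)⁻¹ * A⁻¹) := by rw [hc]
          _ = r l * A * (r l)⁻¹ * A⁻¹ * (r k * A * (r k)⁻¹ * A⁻¹) := by group) }
  have hall := Fi23.kill_K ψ.rangeRestrict ψ.rangeRestrict_surjective fun q => by
    refine Subtype.ext (Subtype.ext ?_)
    exact (Subgroup.mem_center_iff.1 (hker (ψ.rangeRestrict (Fi23.gK 0)).1.2) q.1.1).symm
  have h1 : ψ ⟨σ e, he⟩ = 1 := congrArg Subtype.val (hall (ψ.rangeRestrict ⟨σ e, he⟩))
  have h2 : r ⟨σ e, he⟩ * A * (r ⟨σ e, he⟩)⁻¹ * A⁻¹ = 1 := congrArg Subtype.val h1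
  rw [hind _ e (hr _), mul_inv_eq_one, mul_inv_eq_iff_eq_mul] at h2
  exact h2

/-- The lift of a transposition. -/
noncomputable def liftT (hs : Function.Surjective σ) (A : E) (p : Fin 31671) : E :=
  Function.surjInv hs (exists_hom_zero p).choose * A * (Function.surjInv hs (exists_hom_zero p).choose)⁻¹

theorem liftT_eq (hker : σ.ker ≤ Subgroup.center E) (hs : Function.Surjective σ) {A : E} (hA : σ A = z)
    {e : E} {p : Fin 31671} (h : hm (σ e) (0 : Fin 31671) = p) : liftT hs A p = e * A * e⁻¹ := by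
  set g := (exists_hom_zero p).choose
  have hg : hm g (0 : Fin 31671) = p := (exists_hom_zero p).choose_spec
  set a := Function.surjInv hs g
  have hK : σ (e⁻¹ * a) ∈ Fi23.K := by
    rw [mem_H_iff, map_mul, map_inv, Function.surjInv_eq hs, hom_mul_apply, hg, ← h, ← hom_mul_apply,
      inv_mul_cancel, map_one]
    rfl
  have hc := (lift_commute hker hs hA hK).eq
  show a * A * a⁻¹ = _
  calc a * A * a⁻¹ = e * (e⁻¹ * a * A) * a⁻¹ := by group
    _ = e * (A * (e⁻¹ * a)) * a⁻¹ := by rw [hc]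
    _ = e * A * e⁻¹ := by group

theorem liftT_conj (hker : σ.ker ≤ Subgroup.center E) (hs : Function.Surjective σ) {A : E} (hA : σ A = z)
    (e : E) (p : Fin 31671) : liftT hs A (hm (σ e) p) = e * liftT hs A p * e⁻¹ := by
  set g := (exists_hom_zero p).choose
  have hg : hm g (0 : Fin 31671) = p := (exists_hom_zero p).choose_spec
  rw [liftT_eq hker hs hA (e := e * Function.surjInv hs g)
    (by rw [map_mul, Function.surjInv_eq hs, hom_mul_apply, hg])]
  show _ = e * (Function.surjInv hs g * A * (Function.surjInv hs g)⁻¹) * e⁻¹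
  group

theorem map_liftT (hker : σ.ker ≤ Subgroup.center E) (hs : Function.Surjective σ) {A : E} (hA : σ A = z)
    (p : Fin 31671) : σ (liftT hs A p) = tr p := by
  obtain ⟨e, he⟩ := hs (exists_hom_zero p).choose
  have h : hm (σ e) (0 : Fin 31671) = p := he ▸ (exists_hom_zero p).choose_spec
  rw [liftT_eq hker hs hA h, map_mul, map_mul, map_inv, hA, tr_eq h]

theorem prod_sq {u : E} (hu : u ∈ Subgroup.center E) : ∀ l : List E, (∀ a ∈ l, a * a = u) →
    (∀ a ∈ l, ∀ b ∈ l, Commute a b) → l.prod * l.prod = u ^ l.length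
  | [], _, _ => by simp
  | a :: l, h2, hc => by
    have hal : Commute a l.prod := Commute.list_prod_right l a fun b hb =>
      hc a List.mem_cons_self b (List.mem_cons_of_mem _ hb)
    rw [List.prod_cons, List.length_cons, pow_succ']
    calc a * l.prod * (a * l.prod) = a * (l.prod * a) * l.prod := by group
      _ = (a * a) * (l.prod * l.prod) := by rw [← hal.eq]; group
      _ = u * u ^ l.length := by
        rw [h2 a List.mem_cons_self, prod_sq hu l (fun b hb => h2 b (List.mem_cons_of_mem _ hb))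
          fun b hb c hc' => hc b (List.mem_cons_of_mem _ hb) c (List.mem_cons_of_mem _ hc')]

theorem exists_lift (hker : σ.ker ≤ Subgroup.center E) (hs : Function.Surjective σ) :
    ∃ T : Fin 31671 → E, IsLift T ∧ (∀ p, σ (T p) = tr p) ∧ val T hept = 1 := by
  obtain ⟨A, hA⟩ := hs z
  set T := liftT hs A
  have hσ : ∀ p, σ (T p) = tr p := map_liftT hker hs hA
  have hconj : ∀ a b, T (hm (tr a) b) = T a * T b * (T a)⁻¹ := fun a b => by
    rw [← hσ a]; exact liftT_conj hker hs hA (T a) b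
  have hu : A * A ∈ σ.ker := by rw [MonoidHom.mem_ker, map_mul, hA]; exact Fi23.z_sq
  have huc := hker hu
  set u := A * A with hu'
  have hsq : ∀ p, T p * T p = u := fun p => by
    show Function.surjInv hs _ * A * _ * (Function.surjInv hs _ * A * _) = u
    set a := Function.surjInv hs (exists_hom_zero p).choose
    calc a * A * a⁻¹ * (a * A * a⁻¹) = a * u * a⁻¹ := by rw [hu']; group
      _ = u := by rw [Subgroup.mem_center_iff.1 huc a, mul_inv_cancel_right]
  have hext : ∀ n ∈ hept, ∃ h : n < 31671, ext T n = T ⟨n, h⟩ := fun n hn => by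
    have h := List.all_eq_true.1 (List.all_eq_true.1 hept_comm n hn) n hn
    have hlt : n < 31671 := by
      have hb : (hept.all fun a => Nat.blt a 31671) = true := by decide +kernel
      exact Nat.blt_eq.mp (List.all_eq_true.1 hb n hn)
    exact ⟨hlt, dif_pos hlt⟩
  have hcomm : ∀ a ∈ hept, ∀ b ∈ hept, Commute (ext T a) (ext T b) := by
    intro a ha b hb
    have h := List.all_eq_true.1 (List.all_eq_true.1 hept_comm a ha) b hb
    simp only [Bool.or_eq_true, Bool.and_eq_true, List.any_eq_true, Nat.beq_eq, Nat.blt_eq] at h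
    obtain ⟨hal, eA⟩ := hext a ha
    obtain ⟨hbl, eB⟩ := hext b hb
    rcases h with ⟨-, ⟨p, v⟩, hpm, rfl, hfix⟩ | h
    · obtain ⟨hp', hc⟩ := cAct_eq (paths_ok _ hpm) hbl
      have h3 := hconj ⟨p, hp'⟩ ⟨b, hbl⟩
      rw [show hm (tr ⟨p, hp'⟩) ⟨b, hbl⟩ = ⟨b, hbl⟩ from Fin.ext (hc.trans hfix)] at h3
      rw [eA, eB]
      exact (mul_inv_eq_iff_eq_mul.1 h3.symm)
    · rw [h]
  set k := val T hept
  have hk : k * k = u ^ 7 := by
    have := prod_sq huc (hept.map (ext T))
      (fun a ha => by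
        obtain ⟨n, hn, rfl⟩ := List.mem_map.1 ha
        obtain ⟨hl, e⟩ := hext n hn
        rw [e]; exact hsq _)
      (fun a ha b hb => by
        obtain ⟨m, hm', rfl⟩ := List.mem_map.1 ha
        obtain ⟨n, hn, rfl⟩ := List.mem_map.1 hb
        exact hcomm m hm' n hn)
    rw [List.length_map, hept_len] at this
    exact this
  have hkker : k ∈ σ.ker := by
    rw [MonoidHom.mem_ker, ← val_hept]
    show σ ((hept.map (ext T)).prod) = (hept.map (ext tr)).prod
    rw [map_list_prod, List.map_map]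
    refine congrArg List.prod (List.map_congr_left fun n hn => ?_)
    obtain ⟨hl, e⟩ := hext n hn
    show σ (ext T n) = _
    rw [e, hσ, ext, dif_pos hl]
  set t := k * (u ^ 3)⁻¹
  have htk : t ∈ σ.ker := σ.ker.mul_mem hkker (σ.ker.inv_mem (σ.ker.pow_mem hu 3))
  have htc : ∀ x, x * t = t * x := Subgroup.mem_center_iff.1 (hker htk)
  have hcu : ∀ x : E, Commute (u ^ 3)⁻¹ x := fun x =>
    (((show Commute u x from ((Subgroup.mem_center_iff.1 huc) x).symm)).pow_left 3).inv_left
  have ht2 : t * t = u := by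
    calc t * t = k * ((u ^ 3)⁻¹ * k) * (u ^ 3)⁻¹ := by
          show k * (u ^ 3)⁻¹ * (k * (u ^ 3)⁻¹) = _
          group
      _ = (k * k) * ((u ^ 3)⁻¹ * (u ^ 3)⁻¹) := by rw [(hcu k).eq]; group
      _ = u := by rw [hk]; group
  have htval : k = t * u ^ 3 := (inv_mul_cancel_right k (u ^ 3)).symm
  clear_value t
  have hti : ∀ x, Commute t⁻¹ x := fun x => (show Commute t x from (htc x).symm).inv_left
  refine ⟨fun p => T p * t⁻¹, ⟨fun p => ?_, fun a b => ?_⟩, fun p => ?_, ?_⟩
  · calc T p * t⁻¹ * (T p * t⁻¹) = T p * (t⁻¹ * T p) * t⁻¹ := by group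
      _ = (T p * T p) * (t * t)⁻¹ := by rw [(hti (T p)).eq]; group
      _ = 1 := by rw [hsq, ht2, mul_inv_cancel]
  · calc T (hm (tr a) b) * t⁻¹ = T a * T b * ((T a)⁻¹ * t⁻¹) := by rw [hconj, mul_assoc]
      _ = T a * T b * (t⁻¹ * (T a)⁻¹) := by rw [(hti _).eq]
      _ = T a * t⁻¹ * (T b * t⁻¹) * (T a * t⁻¹)⁻¹ := by
        rw [mul_inv_rev, inv_inv]
        calc T a * T b * (t⁻¹ * (T a)⁻¹) = T a * (T b * t⁻¹) * (T a)⁻¹ := by group
          _ = T a * (t⁻¹ * (T b * t⁻¹) * t) * (T a)⁻¹ := by rw [(hti (T b * t⁻¹)).eq]; group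
          _ = T a * t⁻¹ * (T b * t⁻¹) * (t * (T a)⁻¹) := by group
  · rw [map_mul, map_inv, hσ, MonoidHom.mem_ker.1 htk, inv_one, mul_one]
  · have key : ∀ l : List ℕ, (∀ n ∈ l, ∃ h : n < 31671, ext T n = T ⟨n, h⟩) →
        val (fun p => T p * t⁻¹) l = val T l * (t⁻¹) ^ l.length := by
      intro l hl
      induction l with
      | nil => simp [val]
      | cons a l ih =>
        obtain ⟨h, e⟩ := hl a List.mem_cons_self
        rw [val_cons, val_cons, ih fun n hn => hl n (List.mem_cons_of_mem _ hn),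
          show ext (fun p => T p * t⁻¹) a = T ⟨a, h⟩ * t⁻¹ from dif_pos h, e, List.length_cons,
          pow_succ' t⁻¹]
        calc T ⟨a, h⟩ * t⁻¹ * (val T l * t⁻¹ ^ l.length)
            = T ⟨a, h⟩ * (t⁻¹ * val T l) * t⁻¹ ^ l.length := by group
          _ = T ⟨a, h⟩ * val T l * (t⁻¹ * t⁻¹ ^ l.length) := by rw [(hti (val T l)).eq]; group
    rw [key hept hext, hept_len]
    calc k * t⁻¹ ^ 7 = k * ((t * t) ^ 3)⁻¹ * t⁻¹ := by
          rw [← sq, ← pow_mul, inv_pow, mul_assoc, ← mul_inv_rev, ← pow_succ']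
      _ = t * t⁻¹ := by rw [ht2, htval, mul_inv_cancel_right]
      _ = 1 := mul_inv_cancel t

theorem ker_eq_bot (hker : σ.ker ≤ Subgroup.center E) (hs : Function.Surjective σ)
    (hcomm : σ.ker ≤ commutator E) : σ.ker = ⊥ := by
  obtain ⟨T, hT, hσ, hH⟩ := exists_lift hker hs
  have hf : ∀ x, x < 10 → ext T (gpt x) = ext T (gpt x) := fun _ _ => rfl
  obtain ⟨ψ, hψ⟩ := Setup.exists_hom FS (fun x => ext T (gpt x)) (fun x => ext_sq hT _) (fun w hw => by
    have hl := List.all_eq_true.1 base_lt w hw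
    rw [← val_gpt hf w hl]
    have hc : val T (w.map gpt) ∈ Subgroup.center E := hker (by
      have e : σ (val T (w.map gpt)) = val tr (w.map gpt) := by
        show σ ((w.map gpt).map (ext T)).prod = ((w.map gpt).map (ext tr)).prod
        rw [map_list_prod, List.map_map]
        refine congrArg List.prod (List.map_congr_left fun n hn => ?_)
        show σ (ext T n) = ext tr n
        unfold ext
        split_ifs
        · exact hσ _
        · exact map_one σ
      rw [MonoidHom.mem_ker, e, val_gpt ext_tr_gpt w hl]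
      exact Setup.base_one FS w hw)
    rcases exists_reduct hT hw hc with h | h
    · exact h
    · exact h.trans hH)
  have hid : σ.comp ψ = MonoidHom.id _ := by
    refine MonoidHom.eq_of_eqOn_dense (Setup.closure_gen FS) ?_
    rintro _ ⟨x, hx, rfl⟩
    obtain ⟨h, e⟩ := tr_gpt (show x < 10 from hx)
    show σ (ψ (Setup.gen FS x)) = _
    rw [hψ x hx, ext, dif_pos h, hσ, e]
    rfl
  have hsec : ∀ g, σ (ψ g) = g := fun g => DFunLike.congr_fun hid g
  have hsub : commutator E ≤ ψ.range := by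
    rw [commutator_def, Subgroup.commutator_le]
    intro a _ b _
    have hz : ∀ x : E, ∃ c ∈ Subgroup.center E, x = ψ (σ x) * c := fun x =>
      ⟨(ψ (σ x))⁻¹ * x, hker (by rw [MonoidHom.mem_ker, map_mul, map_inv, hsec, inv_mul_cancel]),
        (mul_inv_cancel_left _ _).symm⟩
    obtain ⟨c, hc, hca⟩ := hz a
    obtain ⟨d, hd, hdb⟩ := hz b
    refine ⟨σ a * σ b * (σ a)⁻¹ * (σ b)⁻¹, ?_⟩
    rw [commutatorElement_def, map_mul, map_mul, map_mul, map_inv, map_inv]
    conv_rhs => rw [hca, hdb]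
    have hc' := Subgroup.mem_center_iff.1 hc
    have hd' := Subgroup.mem_center_iff.1 hd
    symm
    set a' := ψ (σ a)
    set b' := ψ (σ b)
    calc a' * c * (b' * d) * (a' * c)⁻¹ * (b' * d)⁻¹
        = a' * (c * (b' * d * c⁻¹)) * a'⁻¹ * (d⁻¹ * b'⁻¹) := by group
      _ = a' * b' * (d * a'⁻¹) * d⁻¹ * b'⁻¹ := by rw [← hc' (b' * d * c⁻¹)]; group
      _ = a' * b' * (a'⁻¹ * d) * d⁻¹ * b'⁻¹ := by rw [hd' a'⁻¹]
      _ = a' * b' * a'⁻¹ * b'⁻¹ := by group
  rw [eq_bot_iff]
  intro x hx
  obtain ⟨g, rfl⟩ := hsub (hcomm hx)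
  rw [MonoidHom.mem_ker, hsec] at hx
  rw [Subgroup.mem_bot, hx, map_one]

end Ext

theorem hasMultiplier : Cfsg.HasCyclicSchurMultiplier (Setup.G FS) 1 := by
  refine ⟨⟨Setup.G FS, inferInstance, Fi23.order_facts.1, MonoidHom.id _,
    ⟨Function.surjective_id, ?_, ?_⟩, ?_⟩, fun Γ _ _ σ hσ => ?_⟩
  · rw [MonoidHom.ker_id]; exact bot_le
  · rw [MonoidHom.ker_id]; exact bot_le
  · rw [MonoidHom.ker_id]
    have : Subsingleton (Multiplicative (ZMod 1)) := (inferInstance : Subsingleton (ZMod 1))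
    exact ⟨MulEquiv.ofUnique⟩
  · refine ⟨1, ?_⟩
    have h := ker_eq_bot hσ.2.1 hσ.1 hσ.2.2
    intro x
    exact ⟨1, Subtype.ext ((Subgroup.mem_bot.1 (h ▸ x.2)).symm)⟩

end Cfsg.Agent.FischerPresented.Mult23
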