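import Cfsg.Agent.Lib.FischerPresented.Chain
import Cfsg.Agent.Lib.Compute.CosetLower
import Cfsg.Agent.Lib.Compute.CosetData.ChainM3584
import Cfsg.Agent.Lib.Compute.CosetData.ChainM3584Base

/-!
The group presented on the sub-diagram a, …, h with one relation of type E₇:
it is faithful on its certified table, which gives word identities used inside Fi23.
-/

set_option autoImplicit false
set_option maxRecDepth 100000

namespace Cfsg.Agent.FischerPresented.SubM

open Cfsg.Agent.CosetCert
open Cfsg.Agent.CosetData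

/-- the edges -/
def edges : List (Fin 8 × ℕ × Fin 8) :=
  [(0, 3, 1), (1, 3, 2), (2, 3, 3), (3, 3, 4), (3, 3, 7), (4, 3, 5), (5, 3, 6)]

/-- the extra relator -/
def extra : List (FreeGroup (Fin 8)) :=
  [(FreeGroup.of (0 : Fin 8) * FreeGroup.of (1 : Fin 8) * FreeGroup.of (2 : Fin 8) * FreeGroup.of (3 : Fin 8) * FreeGroup.of (4 : Fin 8) * FreeGroup.of (5 : Fin 8) * FreeGroup.of (7 : Fin 8)) ^ 9]

/-- generator by number -/
def gi (x : ℕ) : Fin 8 := Fin.ofNat 8 x

/-- the set-up -/
noncomputable def setup : Setup (Fin 8) where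
  edges := edges
  extra := extra
  gi := gi
  ix := Fin.val
  P := ChainM3584.P
  n := 3584
  base := ChainM3584.base
  extraW := [rep 9 [0, 1, 2, 3, 4, 5, 7]]
  gi_ix := fun a => by simp [gi]
  ix_lt := fun a => a.2
  ix_gi := fun i (hi : i < 8) => by simp [gi, Nat.mod_eq_of_lt hi]
  pairs := by decide +kernel
  bases := by decide +kernel
  extras := by decide +kernel
  tab := ChainM3584.tab_ok
  fix_base := ChainM3584.base_ok
  spec := fun f hf => by
    simp only [extra]
    repeat' constructor
    all_goals simp [wprod_cons, wprod_rep, wprod_nil, gi, map_mul, map_pow, mul_assoc]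

theorem cardLe : CardLe (⊤ : Subgroup setup.G) 185794560 := by
  have hinv := setup.gen_invol
  have hbig := setup.base_one
  have h1 := cardLe_e6 hinv hbig (e6 := [1, 2, 3, 4, 5, 7]) (d5 := [1, 2, 3, 4, 7])
    (a4 := [1, 2, 3, 4]) (by decide +kernel)
  have h2 := cardLe_step (emb := [0, 1, 2, 3, 4, 5, 6, 7]) (base := ChainM3584.base) (sw := ChainM3584.sw)
    hinv hbig (by decide +kernel) ChainM3584.rots_ok (by decide +kernel) (by decide +kernel)
    ChainM3584.cert_ok ChainM3584.tab_ok h1 (by decide +kernel)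
  refine h2.mono ?_
  rw [← setup.closure_gen]
  exact closure_le_pick (by decide +kernel)

/-- The base points of the table. -/
def pts : List ℕ := chainPts [] ChainM3584.levels

theorem word_one {w : List ℕ} (hw : wordFixPts ChainM3584.P 3584 pts w = true) : wprod setup.gen w = 1 :=
  wprod_eq_one_of_base (P := ChainM3584.P) ChainM3584.tab_ok setup.gen_invol setup.hom_gen
    (order_of_chain (P := ChainM3584.P) ChainM3584.tab_ok setup.hom setup.hom_gen cardLe ChainM3584.levels_ok
      ChainM3584.levels_size).2.2.2 hw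

/-- the E₇ element is an involution -/
theorem centre_sq : wprod setup.gen (rep 18 [1, 2, 3, 4, 5, 6, 7]) = 1 := word_one (by decide +kernel)

/-- the E₇ element commutes with generator 0 -/
theorem centre_comm0 : wprod setup.gen (rep 9 [1, 2, 3, 4, 5, 6, 7] ++ [0] ++ (rep 9 [1, 2, 3, 4, 5, 6, 7]).reverse ++ [0]) = 1 := word_one (by decide +kernel)

/-- the E₇ element commutes with generator 1 -/
theorem centre_comm1 : wprod setup.gen (rep 9 [1, 2, 3, 4, 5, 6, 7] ++ [1] ++ (rep 9 [1, 2, 3, 4, 5, 6, 7]).reverse ++ [1]) = 1 := word_one (by decide +kernel)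

/-- the E₇ element commutes with generator 2 -/
theorem centre_comm2 : wprod setup.gen (rep 9 [1, 2, 3, 4, 5, 6, 7] ++ [2] ++ (rep 9 [1, 2, 3, 4, 5, 6, 7]).reverse ++ [2]) = 1 := word_one (by decide +kernel)

/-- the E₇ element commutes with generator 3 -/
theorem centre_comm3 : wprod setup.gen (rep 9 [1, 2, 3, 4, 5, 6, 7] ++ [3] ++ (rep 9 [1, 2, 3, 4, 5, 6, 7]).reverse ++ [3]) = 1 := word_one (by decide +kernel)

/-- the E₇ element commutes with generator 4 -/
theorem centre_comm4 : wprod setup.gen (rep 9 [1, 2, 3, 4, 5, 6, 7] ++ [4] ++ (rep 9 [1, 2, 3, 4, 5, 6, 7]).reverse ++ [4]) = 1 := word_one (by decide +kernel)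

/-- the E₇ element commutes with generator 5 -/
theorem centre_comm5 : wprod setup.gen (rep 9 [1, 2, 3, 4, 5, 6, 7] ++ [5] ++ (rep 9 [1, 2, 3, 4, 5, 6, 7]).reverse ++ [5]) = 1 := word_one (by decide +kernel)

/-- the E₇ element commutes with generator 6 -/
theorem centre_comm6 : wprod setup.gen (rep 9 [1, 2, 3, 4, 5, 6, 7] ++ [6] ++ (rep 9 [1, 2, 3, 4, 5, 6, 7]).reverse ++ [6]) = 1 := word_one (by decide +kernel)

/-- the E₇ element commutes with generator 7 -/
theorem centre_comm7 : wprod setup.gen (rep 9 [1, 2, 3, 4, 5, 6, 7] ++ [7] ++ (rep 9 [1, 2, 3, 4, 5, 6, 7]).reverse ++ [7]) = 1 := word_one (by decide +kernel)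

end Cfsg.Agent.FischerPresented.SubM
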