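import Cfsg.Agent.Lib.FischerPresented.Fi22
import Cfsg.Agent.Lib.FischerPresented.SubL
import Cfsg.Agent.Lib.FischerPresented.SubM
import Cfsg.Agent.Lib.Compute.CosetData.Fi23ASetup

/-!
In the presented group Fi23 the first nine generators generate a central extension of Fi22 by at most two
elements.
-/

set_option autoImplicit false
set_option maxRecDepth 100000

namespace Cfsg.Agent.FischerPresented.Fi23

open Cfsg.Agent.CosetCert
open Cfsg.Agent.CosetData

local notation "S" => Fi23A.setup

/-- The word of the central involution of the E₇ subgroup on b, …, h. -/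
def zW : List ℕ := rep 9 [1, 2, 3, 4, 5, 6, 7]

/-- The central involution of the E₇ subgroup. -/
noncomputable def z : Setup.G S := wprod (Setup.gen S) zW

/-- The first nine generators. -/
noncomputable def K : Subgroup (Setup.G S) := Subgroup.closure (Setup.gen S '' {x | x < 9})

theorem subM_word {w : List ℕ} (hw : wprod SubM.setup.gen w = 1)
    (hlt : (w.all fun x => Nat.blt x 8) = true) :
    wprod (pick (Setup.gen S) [0, 1, 2, 3, 4, 5, 6, 7]) w = 1 := by
  obtain ⟨ψ, hψ⟩ := SubM.setup.exists_hom (pick (Setup.gen S) [0, 1, 2, 3, 4, 5, 6, 7])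
    (fun x => Setup.gen_invol S _)
    (rels_of_relsIn (Setup.gen_invol S) (Setup.base_one S) (by decide +kernel))
  have := congrArg ψ hw
  rw [map_one, map_wprod, wprod_congr fun x hx => hψ x (show x < 8 by
      simpa [Nat.blt_eq] using List.all_eq_true.1 hlt x hx)]
    at this
  exact this

theorem subL_word {w : List ℕ} (hw : wprod SubL.setup.gen w = 1)
    (hlt : (w.all fun x => Nat.blt x 8) = true) :
    wprod (pick (Setup.gen S) [1, 2, 3, 4, 5, 6, 7, 8]) w = 1 := by
  obtain ⟨ψ, hψ⟩ := SubL.setup.exists_hom (pick (Setup.gen S) [1, 2, 3, 4, 5, 6, 7, 8])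
    (fun x => Setup.gen_invol S _)
    (rels_of_relsIn (Setup.gen_invol S) (Setup.base_one S) (by decide +kernel))
  have := congrArg ψ hw
  rw [map_one, map_wprod, wprod_congr fun x hx => hψ x (show x < 8 by
      simpa [Nat.blt_eq] using List.all_eq_true.1 hlt x hx)]
    at this
  exact this

theorem z_sq : z * z = 1 := by
  have := subM_word SubM.centre_sq (by decide +kernel)
  rw [wprod_pick] at this
  rw [z, ← wprod_append]
  exact this

theorem z_comm_of_word {x : ℕ} (h : wprod (Setup.gen S) (zW ++ [x] ++ zW.reverse ++ [x]) = 1) :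
    z * Setup.gen S x = Setup.gen S x * z := by
  rw [wprod_append, wprod_append, wprod_append, wprod_reverse (Setup.gen_invol S)] at h
  simp only [wprod, List.map_cons, List.map_nil, List.prod_cons, List.prod_nil, mul_one] at h
  change z * Setup.gen S x * z⁻¹ * Setup.gen S x = 1 at h
  rw [← mul_inv_eq_iff_eq_mul]
  exact (eq_inv_of_mul_eq_one_left h).trans (inv_eq_of_mul_eq_one_right (Setup.gen_invol S x))

theorem z_comm : ∀ x < 9, z * Setup.gen S x = Setup.gen S x * z := by
  intro x hx
  refine z_comm_of_word ?_
  interval_cases x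
  · have := subM_word SubM.centre_comm0 (by decide +kernel); rw [wprod_pick] at this; exact this
  · have := subM_word SubM.centre_comm1 (by decide +kernel); rw [wprod_pick] at this; exact this
  · have := subM_word SubM.centre_comm2 (by decide +kernel); rw [wprod_pick] at this; exact this
  · have := subM_word SubM.centre_comm3 (by decide +kernel); rw [wprod_pick] at this; exact this
  · have := subM_word SubM.centre_comm4 (by decide +kernel); rw [wprod_pick] at this; exact this
  · have := subM_word SubM.centre_comm5 (by decide +kernel); rw [wprod_pick] at this; exact this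
  · have := subM_word SubM.centre_comm6 (by decide +kernel); rw [wprod_pick] at this; exact this
  · have := subM_word SubM.centre_comm7 (by decide +kernel); rw [wprod_pick] at this; exact this
  · have := subL_word SubL.centre_comm (by decide +kernel); rw [wprod_pick] at this; exact this

theorem z_comm_K : ∀ k ∈ K, z * k = k * z := by
  intro k hk
  unfold K at hk
  induction hk using Subgroup.closure_induction with
  | mem g hg => obtain ⟨x, hx, rfl⟩ := hg; exact z_comm x hx
  | one => simp
  | mul a b _ _ ha hb => rw [← mul_assoc, ha, mul_assoc, hb, mul_assoc]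
  | inv a _ ha => exact (show Commute z a from ha).inv_right.eq

theorem gen_mem {x : ℕ} (hx : x < 9) : Setup.gen S x ∈ K := Subgroup.subset_closure ⟨x, hx, rfl⟩

theorem z_mem : z ∈ K := by
  have h : (zW.all fun x => Nat.blt x 9) = true := by decide +kernel
  rw [z]
  refine Subgroup.list_prod_mem K ?_
  intro g hg
  obtain ⟨x, hx, rfl⟩ := List.mem_map.1 hg
  exact gen_mem (by simpa [Nat.blt_eq] using List.all_eq_true.1 h x hx)

/-- The generators inside the subgroup. -/
noncomputable def gK (x : ℕ) : K := if h : x < 9 then ⟨Setup.gen S x, gen_mem h⟩ else 1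

theorem gK_coe {x : ℕ} (hx : x < 9) : (gK x : Setup.G S) = Setup.gen S x := by
  rw [gK, dif_pos hx]

theorem gK_invol (x : ℕ) : gK x * gK x = 1 := by
  by_cases hx : x < 9
  · exact Subtype.ext (by rw [Subgroup.coe_mul, gK_coe hx, Setup.gen_invol S]; rfl)
  · rw [gK, dif_neg hx, one_mul]

theorem wprod_gK {w : List ℕ} (hw : (w.all fun x => Nat.blt x 9) = true) :
    ((wprod gK w : K) : Setup.G S) = wprod (Setup.gen S) w := by
  rw [← Subgroup.coe_subtype, map_wprod]
  exact wprod_congr fun x hx => gK_coe (by simpa [Nat.blt_eq] using List.all_eq_true.1 hw x hx)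

theorem closure_gK : Subgroup.closure (gK '' {x | x < 9}) = ⊤ := by
  refine Subgroup.map_injective K.subtype_injective ?_
  rw [MonoidHom.map_closure, ← MonoidHom.range_eq_map, Subgroup.range_subtype, ← Set.image_comp]
  exact congrArg Subgroup.closure (Set.image_congr fun x hx => gK_coe hx)

/-- The central element inside the subgroup. -/
noncomputable def zK : K := ⟨z, z_mem⟩

/-- The central subgroup. -/
noncomputable def Z : Subgroup K := Subgroup.zpowers zK

theorem Z_le_center : Z ≤ Subgroup.center K := by
  rw [Z, Subgroup.zpowers_le, Subgroup.mem_center_iff]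
  exact fun g => Subtype.ext (z_comm_K g g.2).symm

instance : (Z).Normal where
  conj_mem n hn g := by
    rw [Subgroup.mem_center_iff.1 (Z_le_center hn) g, mul_inv_cancel_right]
    exact hn

theorem card_Z_le : Finite Z ∧ Nat.card Z ≤ 2 := by
  have hp : zK ^ 2 = 1 := Subtype.ext (by rw [sq]; exact z_sq)
  have hfin : IsOfFinOrder zK := isOfFinOrder_iff_pow_eq_one.2 ⟨2, by norm_num, hp⟩
  have : Nat.card Z = orderOf zK := Nat.card_zpowers zK
  exact ⟨Nat.finite_of_card_ne_zero (by rw [this]; exact hfin.orderOf_pos.ne'),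
    this ▸ orderOf_le_of_pow_eq_one (by norm_num) hp⟩

theorem exists_hom_Fi22 : ∃ ψ : Setup.G Fi22B.setup →* K ⧸ Z,
    Function.Surjective ψ ∧ ∀ x < 9, ψ (Setup.gen Fi22B.setup x) = QuotientGroup.mk' Z (gK x) := by
  obtain ⟨ψ, hψ⟩ := Setup.exists_hom Fi22B.setup (fun x => QuotientGroup.mk' Z (gK x))
    (fun x => by rw [← map_mul, gK_invol, map_one]) fun w hw => by
      have h : (Fi22B.base.all fun w => (w.all fun x => Nat.blt x 9) &&
          (wordEq w zW || Fi23A.base.any fun u => wordEq w u || wordEq w u.reverse)) = true := by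
        decide +kernel
      have := List.all_eq_true.1 h w hw
      simp only [Bool.and_eq_true, Bool.or_eq_true, List.any_eq_true] at this
      obtain ⟨hlt, hcase⟩ := this
      rw [← map_wprod (QuotientGroup.mk' Z) gK]
      rcases hcase with he | ⟨u, hu, he⟩
      · refine (QuotientGroup.eq_one_iff _).2 ?_
        have : wprod gK w = zK := Subtype.ext (by rw [wprod_gK hlt, eq_of_wordEq he]; rfl)
        rw [this]
        exact Subgroup.mem_zpowers zK
      · have : wprod gK w = 1 := Subtype.ext (by
          rw [wprod_gK hlt]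
          rcases he with he | he <;> rw [eq_of_wordEq he]
          · exact Setup.base_one S u hu
          · rw [wprod_reverse (Setup.gen_invol S), Setup.base_one S u hu, inv_one]; rfl)
        rw [this, map_one]
  refine ⟨ψ, ?_, hψ⟩
  rw [← MonoidHom.range_eq_top, eq_top_iff,
    ← Subgroup.map_top_of_surjective _ (QuotientGroup.mk'_surjective Z), ← closure_gK,
    MonoidHom.map_closure, Subgroup.closure_le]
  rintro _ ⟨_, ⟨x, hx, rfl⟩, rfl⟩
  exact ⟨Setup.gen Fi22B.setup x, hψ x hx⟩

theorem cardLe_K : CardLe K (2 * 64561751654400) := by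
  obtain ⟨ψ, hψ, -⟩ := exists_hom_Fi22
  have := Fi22.order_facts.1
  have hq : Nat.card (K ⧸ Z) ≤ 64561751654400 :=
    Fi22.order_facts.2.1 ▸ Nat.card_le_card_of_surjective ψ hψ
  have : Finite (K ⧸ Z) := Finite.of_surjective ψ hψ
  obtain ⟨hZ, hZ2⟩ := card_Z_le
  have hc := Subgroup.card_eq_card_quotient_mul_card_subgroup Z
  refine ⟨Nat.finite_of_card_ne_zero ?_, ?_⟩
  · rw [hc]; exact Nat.mul_ne_zero Nat.card_pos.ne' Nat.card_pos.ne'
  · rw [hc, mul_comm]; exact Nat.mul_le_mul hZ2 hq

theorem cardLe : CardLe (⊤ : Subgroup (Setup.G S)) 4089470473293004800 := by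
  have hm : CardLe (Subgroup.closure
      (pick (Setup.gen S) [0, 1, 2, 3, 4, 5, 6, 7, 8] '' {x | x < [0, 1, 2, 3, 4, 5, 6, 7, 8].length}))
      (2 * 64561751654400) := by
    refine cardLe_K.mono ?_
    rw [Subgroup.closure_le]
    rintro _ ⟨x, hx, rfl⟩
    refine gen_mem ?_
    have : x < 9 := hx
    interval_cases x <;> simp
  have h := cardLe_step (emb := [0, 1, 2, 3, 4, 5, 6, 7, 8, 9]) (base := Fi23A.base) (sw := Fi23A.sw)
    (Setup.gen_invol S) (Setup.base_one S) (by decide +kernel) Fi23A.rots_ok (by decide +kernel)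
    (by decide +kernel) Fi23A.cert_ok Fi23A.tab_ok hm (by decide +kernel)
  refine h.mono ?_
  rw [← Setup.closure_gen S]
  exact closure_le_pick (by decide +kernel)

end Cfsg.Agent.FischerPresented.Fi23
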