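import Cfsg.Prelude.Def_SporadicB
import Cfsg.Agent.Lib.FischerPresented.Fi23Bound
import Cfsg.Agent.Lib.Compute.CosetData.Fi23ABase

/-!
The presented group Fi23: order, simplicity, and the double cover of Fi22 as centraliser of a transposition.
-/

set_option autoImplicit false
set_option maxRecDepth 100000

namespace Cfsg.Agent.FischerPresented.Fi23

open Cfsg.Agent.CosetCert
open Cfsg.Agent.CosetData

local notation "S" => Fi23A.setup

/-- The base points of the table. -/
def pts : List ℕ := chainPts [] Fi23A.levels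

theorem facts_of {Ls : List BaseLevel} (h1 : chainGood Fi23A.P 31671 [] Ls = true)
    (h2 : Nat.ble 4089470473293004800 (chainSize Ls) = true) :
    Finite (Setup.G S) ∧ Nat.card (Setup.G S) = 4089470473293004800 ∧
    Function.Injective (Setup.hom S) ∧
    ∀ g : Setup.G S, Setup.hom S g ∈ fixPts 31671 (chainPts [] Ls) → g = 1 :=
  order_of_chain (P := Fi23A.P) Fi23A.tab_ok (Setup.hom S) (Setup.hom_gen S) cardLe h1 h2

theorem word_of {Ls : List BaseLevel} (h1 : chainGood Fi23A.P 31671 [] Ls = true)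
    (h2 : Nat.ble 4089470473293004800 (chainSize Ls) = true) {w : List ℕ}
    (hw : wordFixPts Fi23A.P 31671 (chainPts [] Ls) w = true) : wprod (Setup.gen S) w = 1 :=
  wprod_eq_one_of_base (P := Fi23A.P) Fi23A.tab_ok (Setup.gen_invol S) (Setup.hom_gen S)
    (facts_of h1 h2).2.2.2 hw

theorem order_facts_aux {Ls : List BaseLevel} (h1 : chainGood Fi23A.P 31671 [] Ls = true)
    (h2 : Nat.ble 4089470473293004800 (chainSize Ls) = true) :
    Finite (Setup.G S) ∧ Nat.card (Setup.G S) = 4089470473293004800 ∧ Function.Injective (Setup.hom S) :=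
  ⟨(facts_of h1 h2).1, (facts_of h1 h2).2.1, (facts_of h1 h2).2.2.1⟩

theorem order_facts :
    Finite (Setup.G S) ∧ Nat.card (Setup.G S) = 4089470473293004800 ∧ Function.Injective (Setup.hom S) :=
  order_facts_aux Fi23A.levels_ok Fi23A.levels_size

theorem word_one {w : List ℕ} (hw : wordFixPts Fi23A.P 31671 pts w = true) :
    wprod (Setup.gen S) w = 1 :=
  word_of Fi23A.levels_ok Fi23A.levels_size hw

/-- A word conjugating the first generator to the central involution. -/
def uW : List ℕ := [9, 6, 5, 4, 3, 7, 2, 3, 4, 5, 6, 9, 1, 2, 3, 7, 4, 5, 3, 4, 2, 3, 7, 6, 5, 4, 3, 2, 0, 1]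

/-- The conjugating element. -/
noncomputable def U : Setup.G S := wprod (Setup.gen S) uW

theorem z_eq : z = U * Setup.gen S 0 * U⁻¹ := by
  have := word_one (w := zW ++ (uW ++ [0] ++ uW.reverse).reverse) (by decide +kernel)
  rw [wprod_append, wprod_reverse (Setup.gen_invol S), wprod_append, wprod_append,
    wprod_reverse (Setup.gen_invol S), mul_inv_eq_one] at this
  simpa [wprod, z, U] using this

/-- The braid edges of the diagram. -/
def braid : List (ℕ × ℕ) := [(0, 1), (1, 2), (2, 3), (3, 4), (3, 7), (4, 5), (5, 6), (7, 8)]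

theorem braid_rel {p : ℕ × ℕ} (hp : p ∈ braid ++ [(6, 9)]) :
    (Setup.gen S p.1 * Setup.gen S p.2) ^ 3 = 1 := by
  have hE : ∀ p ∈ braid ++ [(6, 9)], rep 3 [p.1, p.2] ∈ Fi23A.base := by decide +kernel
  have := Setup.base_one S _ (hE p hp)
  rw [wprod_rep] at this
  simpa [wprod] using this

theorem central_of_comm {Q : Type*} [Group Q] (f : Setup.G S →* Q) (hf : ∀ g, f z * f g = f g * f z)
    (hsurj : Function.Surjective f) : ∀ q, f (Setup.gen S 0) * q = q * f (Setup.gen S 0) := by
  have hz : f (Setup.gen S 0) = f z := by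
    have h := hf U
    rw [z_eq, map_mul, map_mul, map_inv] at h
    rw [z_eq, map_mul, map_mul, map_inv]
    have h' : f U * f (Setup.gen S 0) = f U * (f U * f (Setup.gen S 0) * (f U)⁻¹) := by
      rw [← h, inv_mul_cancel_right]
    exact mul_left_cancel h'
  intro q
  obtain ⟨g, rfl⟩ := hsurj q
  rw [hz]
  exact hf g

theorem kill {Q : Type*} [Group Q] (f : Setup.G S →* Q) (hsurj : Function.Surjective f)
    (hf : ∀ g, f z * f g = f g * f z) : ∀ q : Q, q = 1 := by
  refine trivial_of_central (f := fun x => f (Setup.gen S x)) (k := 10) ?_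
    (fun x => by rw [← map_mul, Setup.gen_invol S, map_one]) (central_of_comm f hf hsurj)
    (braid ++ [(6, 9)]) (fun p hp => by rw [← map_mul, ← map_pow, braid_rel hp, map_one])
    (by decide +kernel) (w := rep 9 [0, 1, 2, 3, 4, 5, 7]) (by decide +kernel) (by decide +kernel) ?_
  · have := congrArg (Subgroup.map f) (Setup.closure_gen S)
    rw [MonoidHom.map_closure, Subgroup.map_top_of_surjective _ hsurj, ← Set.image_comp] at this
    exact this
  · rw [← map_wprod f (Setup.gen S), Setup.base_one S _ (by decide +kernel), map_one]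

theorem nontrivial : Nontrivial (Setup.G S) := by
  have := order_facts.1
  exact Finite.one_lt_card_iff_nontrivial.1 (by rw [order_facts.2.1]; norm_num)

theorem z_ne_one : z ≠ 1 := fun h => by
  have := nontrivial
  obtain ⟨g, hg⟩ := exists_ne (1 : Setup.G S)
  exact hg (kill (MonoidHom.id _) Function.surjective_id (fun g => by simp [h]) g)

theorem K_eq : K = Subgroup.closure {g | ∃ w ∈ Fi23A.sw, g = wprod (Setup.gen S) w} := by
  refine congrArg Subgroup.closure ?_
  ext g
  simp only [Set.mem_image, Set.mem_ofPred_eq, Fi23A.sw, List.mem_cons, List.not_mem_nil, or_false]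
  constructor
  · rintro ⟨x, hx, rfl⟩
    exact ⟨[x], by interval_cases x <;> simp, by simp [wprod]⟩
  · rintro ⟨w, hw, rfl⟩
    rcases hw with rfl | rfl | rfl | rfl | rfl | rfl | rfl | rfl | rfl
    · exact ⟨0, by norm_num, by simp [wprod]⟩
    · exact ⟨1, by norm_num, by simp [wprod]⟩
    · exact ⟨2, by norm_num, by simp [wprod]⟩
    · exact ⟨3, by norm_num, by simp [wprod]⟩
    · exact ⟨4, by norm_num, by simp [wprod]⟩
    · exact ⟨5, by norm_num, by simp [wprod]⟩
    · exact ⟨6, by norm_num, by simp [wprod]⟩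
    · exact ⟨7, by norm_num, by simp [wprod]⟩
    · exact ⟨8, by norm_num, by simp [wprod]⟩

theorem exists_frame : K.index = 31671 ∧ ∃ (e : Setup.G S ⧸ K ≃ Fin 31671) (q₁ q₂ : Setup.G S ⧸ K),
    (e ((1 : Setup.G S) : Setup.G S ⧸ K) : ℕ) = 0 ∧
    (∀ (g : Setup.G S) (q : Setup.G S ⧸ K), e (g • q) = Setup.hom S g (e q)) ∧
    (e q₁ : ℕ) = 279 ∧ (e q₂ : ℕ) = 1 ∧
    (∀ M : Subgroup (Setup.G S), K ≤ M → M = K ∨ M = ⊤) ∧
    ∀ q : Setup.G S ⧸ K, q = ((1 : Setup.G S) : Setup.G S ⧸ K) ∨
      q ∈ MulAction.orbit K q₁ ∨ q ∈ MulAction.orbit K q₂ := by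
  obtain ⟨hi, e, hq0, he⟩ := Setup.exists_equiv_base S (H := K) (sw := Fi23A.sw) K_eq (by decide +kernel)
    Fi23A.rots_ok Fi23A.cert_ok Fi23A.fix_ok Fi23A.tree_ok Fi23A.tree_len
  obtain ⟨q₁, hc₁, h1, hb₁⟩ := orbit_spec (H := K) (Setup.gen_invol S) K_eq (Setup.hom_gen S) he Fi23A.orb1_ok
  obtain ⟨q₂, hc₂, h2, -⟩ := orbit_spec (H := K) (Setup.gen_invol S) K_eq (Setup.hom_gen S) he Fi23A.orb2_ok
  have hne : q₂ ∉ MulAction.orbit K q₁ := fun hmem => by
    have := (hb₁ q₂).1 hmem
    rw [hc₂] at this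
    exact absurd this (by decide +kernel)
  have hn1 : q₁ ≠ ((1 : Setup.G S) : Setup.G S ⧸ K) := fun h => by
    rw [h, hq0] at hc₁; exact absurd hc₁ (by decide)
  have hn2 : q₂ ≠ ((1 : Setup.G S) : Setup.G S ⧸ K) := fun h => by
    rw [h, hq0] at hc₂; exact absurd hc₂ (by decide)
  exact ⟨hi, e, q₁, q₂, hq0, he, hc₁, hc₂,
    fun M hM => maximal_of_three hi h1 h2 hne hn1 hn2 rfl (by decide) (by decide) (by decide) hM,
    orbit_top_of_three hi h1 h2 hne hn1 hn2 rfl⟩

theorem isSimpleGroup : IsSimpleGroup (Setup.G S) := by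
  have := nontrivial
  obtain ⟨-, e, -, -, -, he, -, -, hmax, -⟩ := exists_frame
  refine isSimple_of_maximal (H := K) hmax
    (fun N hN hle => eq_bot_of_le_stab he order_facts.2.2 hN hle) z_comm_K fun N hN hcomm => ?_
  rw [eq_top_iff]
  intro g _
  refine (QuotientGroup.eq_one_iff g).1 (kill (QuotientGroup.mk' N) (QuotientGroup.mk'_surjective N) ?_ _)
  intro g
  have := (QuotientGroup.eq_one_iff _).2 (hcomm g)
  change QuotientGroup.mk' N (z * g * z⁻¹ * g⁻¹) = 1 at this
  rw [map_mul, map_mul, map_mul, map_inv, map_inv, mul_inv_eq_one, mul_inv_eq_iff_eq_mul] at this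
  exact this

theorem isFi23 : Cfsg.IsFi23 (Setup.G S) := ⟨isSimpleGroup, order_facts.2.1⟩

theorem card_K : Nat.card K = 2 * 64561751654400 := by
  have := order_facts.1
  have h := Subgroup.card_mul_index K
  rw [exists_frame.1, order_facts.2.1] at h
  omega

theorem card_Z : Nat.card Z = 2 := by
  refine le_antisymm card_Z_le.2 ?_
  have := card_Z_le.1
  rw [Nat.succ_le_iff, Finite.one_lt_card_iff_nontrivial]
  refine ⟨⟨1, one_mem _⟩, ⟨zK, Subgroup.mem_zpowers _⟩, fun h => z_ne_one ?_⟩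
  exact (congrArg (fun t : Z => ((t : K) : Setup.G S)) h).symm

theorem nonempty_iso : Nonempty (Setup.G Fi22B.setup ≃* K ⧸ Z) := by
  obtain ⟨ψ, hψ, -⟩ := exists_hom_Fi22
  have := order_facts.1
  have := Fi22.order_facts.1
  have hc := Subgroup.card_eq_card_quotient_mul_card_subgroup Z
  rw [card_K, card_Z] at hc
  exact ⟨MulEquiv.ofBijective ψ ((Nat.bijective_iff_surjective_and_card _).2
    ⟨hψ, by rw [Fi22.order_facts.2.1]; omega⟩)⟩

theorem kill_K {Q : Type*} [Group Q] (f : K →* Q) (hsurj : Function.Surjective f)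
    (hc : ∀ q, f (gK 0) * q = q * f (gK 0)) : ∀ q : Q, q = 1 := by
  have hw : ∀ w : List ℕ, (w.all fun x => Nat.blt x 9) = true → wprod (Setup.gen S) w = 1 →
      wprod (fun x => f (gK x)) w = 1 := fun w hw h => by
    rw [← map_wprod f gK, show wprod gK w = 1 from Subtype.ext (by rw [wprod_gK hw, h]; rfl), map_one]
  refine trivial_of_central (f := fun x => f (gK x)) (k := 9) ?_
    (fun x => by rw [← map_mul, gK_invol, map_one]) hc braid (fun p hp => ?_) (by decide +kernel)
    (w := rep 9 [0, 1, 2, 3, 4, 5, 7]) (by decide +kernel) (by decide +kernel)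
    (hw _ (by decide +kernel) (Setup.base_one S _ (by decide +kernel)))
  · have := congrArg (Subgroup.map f) closure_gK
    rw [MonoidHom.map_closure, Subgroup.map_top_of_surjective _ hsurj, ← Set.image_comp] at this
    exact this
  · have hlt : ((rep 3 [p.1, p.2]).all fun x => Nat.blt x 9) = true := by
      have : ∀ p ∈ braid, ((rep 3 [p.1, p.2]).all fun x => Nat.blt x 9) = true := by decide +kernel
      exact this p hp
    have := hw (rep 3 [p.1, p.2]) hlt (by
      rw [wprod_rep]; simpa [wprod] using braid_rel (List.mem_append_left _ hp))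
    rw [wprod_rep] at this
    simpa [wprod] using this

theorem center_K : Subgroup.center K = Z := by
  refine le_antisymm (fun k hk => ?_) Z_le_center
  obtain ⟨ι⟩ := nonempty_iso
  have := Fi22.isSimpleGroup
  have hnontriv : Nontrivial (K ⧸ Z) := ι.symm.toEquiv.nontrivial
  have : IsSimpleGroup (K ⧸ Z) := MulEquiv.isSimpleGroup ι.symm
  rcases (inferInstance : (Subgroup.center (K ⧸ Z)).Normal).eq_bot_or_eq_top with h | h
  · refine (QuotientGroup.eq_one_iff k).1 ?_
    rw [← Subgroup.mem_bot, ← h, Subgroup.mem_center_iff]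
    intro q
    obtain ⟨g, rfl⟩ := QuotientGroup.mk'_surjective Z q
    exact congrArg (QuotientGroup.mk' Z) (Subgroup.mem_center_iff.1 hk g)
  · obtain ⟨a, ha⟩ := exists_ne (1 : K ⧸ Z)
    refine absurd (kill_K (QuotientGroup.mk' Z) (QuotientGroup.mk'_surjective Z) (fun q => ?_) a) ha
    exact (Subgroup.mem_center_iff.1 (h ▸ Subgroup.mem_top (QuotientGroup.mk' Z (gK 0))) q).symm

theorem isNonsplitDoubleCover : Cfsg.IsNonsplitDoubleCover K (Setup.G Fi22B.setup) := by
  refine ⟨by rw [center_K, card_Z], ?_, fun L hL => ?_⟩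
  · obtain ⟨ι⟩ := nonempty_iso
    exact ⟨(QuotientGroup.quotientMulEquivOfEq center_K).trans ι.symm⟩
  rw [center_K] at hL
  have hidx : L.index = 2 := by rw [← card_Z]; exact hL.index_eq_card
  have := Subgroup.normal_of_index_eq_two hidx
  have hc : Nat.card (K ⧸ L) = 2 := hidx
  have := Fact.mk Nat.prime_two
  have := isCyclic_of_prime_card hc
  have hone := kill_K (QuotientGroup.mk' L) (QuotientGroup.mk'_surjective L)
    (fun q => IsCyclic.commGroup.mul_comm _ _)
  have : Subsingleton (K ⧸ L) := ⟨fun a b => by rw [hone a, hone b]⟩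
  have := Nat.card_of_subsingleton (1 : K ⧸ L)
  omega

theorem centralizer_z : Subgroup.centralizer ({z} : Set (Setup.G S)) = K := by
  obtain ⟨-, -, -, -, -, -, -, -, hmax, -⟩ := exists_frame
  rcases hmax (Subgroup.centralizer {z}) (fun k hk => by
    rw [Subgroup.mem_centralizer_iff]
    rintro _ rfl
    exact z_comm_K k hk) with h | h
  · exact h
  · exfalso
    have := nontrivial
    obtain ⟨g, hg⟩ := exists_ne (1 : Setup.G S)
    refine hg (kill (MonoidHom.id _) Function.surjective_id (fun x => ?_) g)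
    have hx : x ∈ Subgroup.centralizer ({z} : Set (Setup.G S)) := by rw [h]; exact Subgroup.mem_top x
    exact Subgroup.mem_centralizer_iff.1 hx z rfl

theorem orderOf_z : orderOf z = 2 :=
  orderOf_eq_prime (by rw [sq]; exact z_sq) z_ne_one

/-- The class of transpositions. -/
noncomputable def D : Set (Setup.G S) := conjugatesOf z

theorem mem_D {d : Setup.G S} : d ∈ D ↔ ∃ g, g * z * g⁻¹ = d := by
  show IsConj z d ↔ _
  rw [isConj_iff]

theorem card_D : Nat.card D = 31671 := by
  rw [← exists_frame.1, Subgroup.index_eq_card]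
  symm
  let F : Setup.G S ⧸ K → D := fun q => ⟨q.out * z * q.out⁻¹, mem_D.2 ⟨_, rfl⟩⟩
  refine Nat.card_eq_of_bijective F ⟨fun a b h => ?_, fun d => ?_⟩
  · rw [← QuotientGroup.out_eq' a, ← QuotientGroup.out_eq' b, QuotientGroup.eq]
    refine centralizer_z.le (Subgroup.mem_centralizer_iff.2 ?_)
    rintro _ rfl
    have h' : a.out * z * a.out⁻¹ = b.out * z * b.out⁻¹ := congrArg Subtype.val h
    calc z * (a.out⁻¹ * b.out) = a.out⁻¹ * (a.out * z * a.out⁻¹) * b.out := by group
      _ = a.out⁻¹ * b.out * z := by rw [h']; group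
  · obtain ⟨g, hg⟩ := mem_D.1 d.2
    refine ⟨(g : Setup.G S ⧸ K), Subtype.ext ?_⟩
    show ((g : Setup.G S ⧸ K)).out * z * ((g : Setup.G S ⧸ K)).out⁻¹ = (d : Setup.G S)
    obtain ⟨k, hk⟩ := QuotientGroup.mk_out_eq_mul K g
    rw [hk, ← hg]
    rw [mul_inv_rev, mul_assoc g, ← z_comm_K k k.2]
    group

theorem pair_rel (y : Setup.G S) : (z * (y * z * y⁻¹)) ^ 2 = 1 ∨ (z * (y * z * y⁻¹)) ^ 3 = 1 := by
  obtain ⟨-, e, q₁, q₂, hq0, he, hc₁, hc₂, -, hcov⟩ := exists_frame
  have hrep : ∀ (w : List ℕ) (m : ℕ) (q : Setup.G S ⧸ K),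
      (w.all fun x => Nat.blt x 10) = true → (e q : ℕ) = tact Fi23A.P w 0 →
      wordFixPts Fi23A.P 31671 pts (rep m (zW ++ (w.reverse ++ zW ++ w))) = true →
      ((y : Setup.G S ⧸ K) ∈ MulAction.orbit K q) → (z * (y * z * y⁻¹)) ^ m = 1 := by
    intro w m q hlt hq hm hy
    set r := wprod (Setup.gen S) w.reverse with hr
    have hrq : (r : Setup.G S ⧸ K) = q := by
      refine e.injective (Fin.ext ?_)
      have h1 := he r ((1 : Setup.G S) : Setup.G S ⧸ K)
      rw [show r • ((1 : Setup.G S) : Setup.G S ⧸ K) = (r : Setup.G S ⧸ K) from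
        congrArg QuotientGroup.mk (mul_one r)] at h1
      have h3 := hom_tact (P := Fi23A.P) Fi23A.tab_ok (Setup.hom S) (Setup.hom_gen S) w hlt
        (e ((1 : Setup.G S) : Setup.G S ⧸ K))
      rw [hq0] at h3
      rw [h1, hq]
      exact h3
    obtain ⟨⟨h, hh⟩, hhq⟩ := hy
    rw [← hrq] at hhq
    have hk : (h * r)⁻¹ * y ∈ K := QuotientGroup.eq.1 hhq
    set k := (h * r)⁻¹ * y with hkdef
    have hy' : y = h * r * k := by rw [hkdef, mul_inv_cancel_left]
    have e1 : y * z * y⁻¹ = h * (r * z * r⁻¹) * h⁻¹ := by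
      rw [hy']
      calc h * r * k * z * (h * r * k)⁻¹ = h * r * (k * z * k⁻¹) * r⁻¹ * h⁻¹ := by group
        _ = h * (r * z * r⁻¹) * h⁻¹ := by rw [← z_comm_K k hk, mul_inv_cancel_right]; group
    have e2 : z * (h * (r * z * r⁻¹) * h⁻¹) = h * (z * (r * z * r⁻¹)) * h⁻¹ := by
      rw [← mul_assoc, ← mul_assoc, z_comm_K h hh]
      simp only [mul_assoc]
    have h2 := word_one hm
    have hri : wprod (Setup.gen S) w = r⁻¹ := by
      rw [hr, wprod_reverse (Setup.gen_invol S), inv_inv]
    rw [wprod_rep, wprod_append, wprod_append, wprod_append, hri, ← hr] at h2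
    change (z * (r * z * r⁻¹)) ^ m = 1 at h2
    rw [e1, e2, conj_pow, h2, mul_one, mul_inv_cancel]
  rcases hcov (y : Setup.G S ⧸ K) with h | h | h
  · left
    have hy : y ∈ K := by
      have := QuotientGroup.eq.1 h
      simpa using this
    rw [← z_comm_K y hy, mul_inv_cancel_right, z_sq, one_pow]
  · exact Or.inl (hrep [9, 6, 5, 4, 3, 2, 7, 3, 4, 5, 6, 9] 2 q₁ (by decide +kernel)
      (hc₁.trans (by decide +kernel)) (by decide +kernel) h)
  · exact Or.inr (hrep [9] 3 q₂ (by decide +kernel)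
      (hc₂.trans (by decide +kernel)) (by decide +kernel) h)

theorem isClass : Cfsg.IsThreeTranspositionClass D := by
  refine ⟨⟨fun d hd => ?_, fun d hd e he => ?_⟩, ⟨z, mem_conjugatesOf_self, rfl⟩, ?_⟩
  · obtain ⟨g, rfl⟩ := mem_D.1 hd
    exact (orderOf_injective (MulAut.conj g).toMonoidHom (MulAut.conj g).injective z).trans orderOf_z
  · obtain ⟨g, rfl⟩ := mem_D.1 hd
    obtain ⟨k, rfl⟩ := mem_D.1 he
    have e1 : g * z * g⁻¹ * (k * z * k⁻¹) = g * (z * ((g⁻¹ * k) * z * (g⁻¹ * k)⁻¹)) * g⁻¹ := by group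
    rw [e1, conj_pow, conj_pow]
    rcases pair_rel (g⁻¹ * k) with h | h
    · left; rw [h]; group
    · right; rw [h]; group
  · have := isSimpleGroup
    have h : (Subgroup.normalClosure ({z} : Set (Setup.G S))) = ⊤ := by
      refine (Subgroup.normalClosure_normal).eq_bot_or_eq_top.resolve_left fun h => z_ne_one ?_
      exact Subgroup.mem_bot.1 (h ▸ Subgroup.subset_normalClosure rfl)
    rw [Subgroup.normalClosure, Group.conjugatesOfSet] at h
    rw [← h]
    refine congrArg Subgroup.closure ?_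
    simp [D]

end Cfsg.Agent.FischerPresented.Fi23
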