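import Cfsg.Agent.Lib.FischerPresented.Fi23

/-! Transporting double covers along isomorphisms; centralisers of conjugates. -/

set_option autoImplicit false

namespace Cfsg.Agent.FischerPresented

theorem isNonsplitDoubleCover_congr {H H' K : Type*} [Group H] [Group H'] [Group K] (e : H ≃* H')
    (h : Cfsg.IsNonsplitDoubleCover H K) : Cfsg.IsNonsplitDoubleCover H' K := by
  obtain ⟨h1, ⟨ι⟩, h3⟩ := h
  have hmap : (Subgroup.center H).map e.toMonoidHom = Subgroup.center H' := by
    ext x
    simp only [Subgroup.mem_map, Subgroup.mem_center_iff]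
    constructor
    · rintro ⟨y, hy, rfl⟩ g
      obtain ⟨g, rfl⟩ := e.surjective g
      exact (map_mul e g y).symm.trans ((congrArg e (hy g)).trans (map_mul e y g))
    · intro hx
      refine ⟨e.symm x, fun g => e.injective ?_, e.apply_symm_apply x⟩
      rw [map_mul, map_mul, e.apply_symm_apply]
      exact hx (e g)
  refine ⟨?_, ⟨(QuotientGroup.congr _ _ e hmap).symm.trans ι⟩, fun L hL => ?_⟩
  · rw [← hmap, Subgroup.card_map_of_injective e.injective, h1]
  · have hmap' : (Subgroup.center H').map e.symm.toMonoidHom = Subgroup.center H := by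
      rw [← hmap, Subgroup.map_map]
      simp
    refine h3 (L.map e.symm.toMonoidHom) ?_
    have h2 := hL.card_mul_card
    refine Subgroup.isComplement'_of_disjoint_and_mul_eq_univ ?_ ?_
    · rw [← hmap', disjoint_iff, ← Subgroup.map_inf _ _ _ e.symm.injective, hL.disjoint.eq_bot,
        Subgroup.map_bot]
    · rw [← hmap']
      ext x
      simp only [Set.mem_univ, iff_true]
      obtain ⟨⟨⟨a, ha⟩, ⟨b, hb⟩⟩, hab⟩ := hL.2 (e x)
      refine ⟨e.symm a, ⟨a, ha, rfl⟩, e.symm b, ⟨b, hb, rfl⟩, ?_⟩
      change e.symm a * e.symm b = x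
      rw [← map_mul, show a * b = e x from hab, e.symm_apply_apply]

/-- Centralisers of conjugates are isomorphic. -/
theorem nonempty_centralizer_conj {G : Type*} [Group G] (g x : G) :
    Nonempty (Subgroup.centralizer ({x} : Set G) ≃* Subgroup.centralizer ({g * x * g⁻¹} : Set G)) := by
  have h : (Subgroup.centralizer ({x} : Set G)).map (MulAut.conj g).toMonoidHom =
      Subgroup.centralizer ({g * x * g⁻¹} : Set G) := by
    ext y
    constructor
    · rintro ⟨k, hk, rfl⟩
      refine Subgroup.mem_centralizer_iff.2 ?_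
      intro z hz
      rw [Set.mem_singleton_iff.1 hz]
      have := Subgroup.mem_centralizer_iff.1 hk x rfl
      change g * x * g⁻¹ * (g * k * g⁻¹) = g * k * g⁻¹ * (g * x * g⁻¹)
      calc g * x * g⁻¹ * (g * k * g⁻¹) = g * (x * k) * g⁻¹ := by group
        _ = g * k * g⁻¹ * (g * x * g⁻¹) := by rw [this]; group
    · intro hy
      refine ⟨g⁻¹ * y * g, Subgroup.mem_centralizer_iff.2 ?_, ?_⟩
      · intro z hz
        rw [Set.mem_singleton_iff.1 hz]
        have := Subgroup.mem_centralizer_iff.1 hy _ rfl
        calc x * (g⁻¹ * y * g) = g⁻¹ * (g * x * g⁻¹ * y) * g := by group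
          _ = g⁻¹ * y * g * x := by rw [this]; group
      · change g * (g⁻¹ * y * g) * g⁻¹ = y
        group
  exact ⟨((Subgroup.centralizer ({x} : Set G)).equivMapOfInjective _ (MulAut.conj g).injective).trans
    (MulEquiv.subgroupCongr h)⟩

end Cfsg.Agent.FischerPresented
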