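import Cfsg.Agent.Lib.FischerPresented.Fi22TwoTwoGroup

/-!
The centraliser in Aut(Fi22) of a product of two commuting transpositions: pairs and order.
-/

set_option autoImplicit false
set_option maxRecDepth 100000

namespace Cfsg.Agent.FischerPresented.Fi22TwoTwo

open Cfsg.Agent.CosetCert
open Cfsg.Agent.CosetData
open Cfsg.Agent.FischerPresented.Fi22Two (eqW dW e1W dEl dEl_mem dEl_eq dEl_nil pt p0 pt_one conj_eq_iff
  commute_iff_fix IsFactors std std_factors length_unique fix fix_std nb_conj eq_of_eqW)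
open Cfsg.Agent.FischerPresented.Fi22Outer (aut_D okW conj_inj card_aut)

local notation "S" => Fi22B.setup
local notation "G₀" => Setup.G Fi22B.setup
local notation "AA" => MulAut (Setup.G Fi22B.setup)
local notation "wp" => wprod (Setup.gen Fi22B.setup)

/-- The second transposition. -/
noncomputable def e0 : G₀ := dEl e1W

theorem z_mem : Fi22Class.z ∈ Fi22Class.D := mem_conjugatesOf_self

theorem pair_facts : e0 ∈ Fi22Class.D ∧ e0 ≠ Fi22Class.z ∧ Commute Fi22Class.z e0 := by
  obtain ⟨-, hnd, hD, hcm⟩ := std_factors 2 (by norm_num) (by norm_num)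
  refine ⟨dEl_mem _, ?_, hcm _ (by simp [std]) _ (by simp [std, e0])⟩
  intro h
  simp [std, ← h, e0] at hnd

theorem D_sq {d : G₀} (hd : d ∈ Fi22Class.D) : d * d = 1 := Fischer.TSet.sq Fi22Class.isClass.1 hd

theorem z_word : wp [0] = Fi22Class.z := by simp [Fi22Class.z, wprod]

theorem hom_word {u : List ℕ} (hu : okW u = true) (c : Fin Fi22B.setup.n) :
    (Setup.hom S (wp u) c : ℕ) = tact Fi22B.P u.reverse c := by
  have := hom_tact (P := Fi22B.P) Fi22B.tab_ok (Setup.hom S) (Setup.hom_gen S) u.reverse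
    (by
      simp only [List.all_eq_true, List.mem_reverse, Nat.blt_eq]
      exact Fi22Outer.okW_iff.1 hu) c
  rwa [List.reverse_reverse] at this

theorem commute_both {d : G₀} (hd : d ∈ Fi22Class.D) (hc : Commute j0 d) :
    Commute Fi22Class.z d ∧ Commute e0 d := by
  classical
  obtain ⟨k, rfl⟩ := Fi22Class.mem_D.1 hd
  rw [commute_iff_fix] at hc ⊢
  rw [commute_iff_fix]
  set A : Finset (Fin Fi22B.setup.n) := Finset.univ.filter fun c =>
    Setup.hom S Fi22Class.z c = c ∧ Setup.hom S e0 c = c with hA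
  set B : Finset (Fin Fi22B.setup.n) := Finset.univ.filter fun c => Setup.hom S j0 c = c with hB
  have hAB : A ⊆ B := by
    intro c hc
    simp only [hA, Finset.mem_filter, Finset.mem_univ, true_and] at hc
    simp only [hB, Finset.mem_filter, Finset.mem_univ, true_and]
    show Setup.hom S (Fi22Class.z * e0) c = c
    rw [map_mul, Equiv.Perm.mul_apply, hc.2, hc.1]
  have hcB : B.card = 182 := by
    have h := fix_std.2.1
    simp only [std, List.prod_cons, List.prod_nil, mul_one] at h
    refine Eq.trans ?_ h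
    rw [fix]
    exact congrArg Finset.card (Finset.filter_congr fun _ _ => Iff.rfl)
  have hcA : A.card = 182 := by
    rw [← Finset.card_map Fin.valEmbedding, ← Nat.eq_of_beq_eq_true common_card,
      ← List.toFinset_card_of_nodup (l := common) (List.nodup_range.filter _)]
    congr 1
  have hmem : pt k ∈ A := by
    rw [Finset.eq_of_subset_of_card_le hAB (by rw [hcA, hcB])]
    simp only [hB, Finset.mem_filter, Finset.mem_univ, true_and]
    exact hc
  simpa only [hA, Finset.mem_filter, Finset.mem_univ, true_and] using hmem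

theorem pair_unique {d : G₀} (hd : d ∈ Fi22Class.D) (hc : Commute j0 d) (hp : d * j0 ∈ Fi22Class.D) :
    d = Fi22Class.z ∨ d = e0 := by
  obtain ⟨h1, h2⟩ := commute_both hd hc
  obtain ⟨he, hne, hze⟩ := pair_facts
  by_contra hcon
  push Not at hcon
  have hl : IsFactors [d, Fi22Class.z, e0] := by
    refine ⟨?_, ?_, ?_⟩
    · simp [hcon.1, hcon.2, hne.symm]
    · simp [hd, z_mem, he]
    · simp [h1, h1.symm, h2, h2.symm, hze, hze.symm]
  have hl' : IsFactors [d * j0] := ⟨List.nodup_singleton _, by simp [hp], by simp⟩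
  have := length_unique hl hl' (by simp) (by simp) (by simp) (by simp) (by
    simp [j0, e0, mul_assoc])
  simp at this

theorem j0_mul : Fi22Class.z * j0 = e0 := by
  show Fi22Class.z * (Fi22Class.z * e0) = e0
  rw [← mul_assoc, D_sq z_mem, one_mul]

theorem mem_centralizer_iff_fix {f : AA} :
    f ∈ Subgroup.centralizer ({jA} : Set AA) ↔ f j0 = j0 := by
  rw [Subgroup.mem_centralizer_singleton_iff]
  have e : f * jA = MulAut.conj (f j0) * f := by
    ext v
    simp [jA, MulAut.mul_apply, MulAut.conj_apply]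
  rw [e]
  constructor
  · exact fun h => conj_inj (mul_right_cancel (h.trans rfl) : MulAut.conj (f j0) = jA)
  · intro h; rw [h]; rfl

theorem image_z {f : AA} (hf : f ∈ Subgroup.centralizer ({jA} : Set AA)) :
    f Fi22Class.z = Fi22Class.z ∨ f Fi22Class.z = e0 := by
  have hj := mem_centralizer_iff_fix.1 hf
  refine pair_unique (aut_D f z_mem) ?_ ?_
  · have : Commute j0 Fi22Class.z := Commute.mul_left (Commute.refl _) pair_facts.2.2.symm
    have h := this.map f.toMonoidHom
    simpa [hj] using h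
  · have : f Fi22Class.z * j0 = f e0 := by rw [← j0_mul, map_mul, hj]
    rw [this]
    exact aut_D f pair_facts.1

/-- Conjugations fixing `z` reach every neighbour; an element exchanging the pair exists. -/
theorem exists_swap : ∃ f ∈ Subgroup.centralizer ({jA} : Set AA), f Fi22Class.z = e0 := by
  obtain ⟨he, hne, hze⟩ := pair_facts
  obtain ⟨g, hg⟩ := Fi22Class.mem_D.1 he
  set u := g⁻¹ * Fi22Class.z * g with hu
  have hug : g * u * g⁻¹ = Fi22Class.z := by rw [hu]; group
  have huD : u ∈ Fi22Class.D := Fi22Class.mem_D.2 ⟨g⁻¹, by rw [hu, inv_inv]⟩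
  have hune : u ≠ Fi22Class.z := fun h => hne (hg.symm.trans (h ▸ hug))
  have huc : Commute Fi22Class.z u := by
    have h : Commute (MulAut.conj g Fi22Class.z) (MulAut.conj g u) := by
      simp only [MulAut.conj_apply, hg, hug]; exact hze.symm
    exact (MulAut.conj g).injective (by simpa only [map_mul] using h.eq)
  obtain ⟨-, h, hhz, hh⟩ := nb_conj huD hune huc
  have hh' : h * e0 * h⁻¹ = u := hh
  refine ⟨MulAut.conj (g * h), mem_centralizer_iff_fix.2 ?_, ?_⟩
  · show g * h * (Fi22Class.z * e0) * (g * h)⁻¹ = Fi22Class.z * e0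
    calc g * h * (Fi22Class.z * e0) * (g * h)⁻¹
        = (g * (h * Fi22Class.z * h⁻¹) * g⁻¹) * (g * (h * e0 * h⁻¹) * g⁻¹) := by group
      _ = e0 * Fi22Class.z := by rw [hhz.eq, mul_inv_cancel_right, hg, hh', hug]
      _ = Fi22Class.z * e0 := hze.symm.eq
  · show g * h * Fi22Class.z * (g * h)⁻¹ = e0
    calc g * h * Fi22Class.z * (g * h)⁻¹ = g * (h * Fi22Class.z * h⁻¹) * g⁻¹ := by group
      _ = e0 := by rw [hhz.eq, mul_inv_cancel_right, hg]

theorem card_Nb : {u : G₀ | u ∈ Fi22Class.D ∧ u ≠ Fi22Class.z ∧ Commute Fi22Class.z u}.ncard = 693 := by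
  refine le_antisymm ?_ ?_
  · classical
    set N := {u : G₀ | u ∈ Fi22Class.D ∧ u ≠ Fi22Class.z ∧ Commute Fi22Class.z u} with hN
    let φ : G₀ → ℕ := fun u => if h : u ∈ Fi22Class.D then (pt (Fi22Class.mem_D.1 h).choose : ℕ) else 0
    set T := ((List.range 3510).filter (bit (orbitBits Fi22B.P Fi22B.sw 7 Fi22B.orb1))).toFinset with hT
    have hcard : T.card = 693 := by
      rw [hT, List.toFinset_card_of_nodup (List.nodup_range.filter _)]
      exact Nat.eq_of_beq_eq_true orb_count
    rw [← hcard, ← Set.ncard_coe_finset]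
    refine Set.ncard_le_ncard_of_injOn φ ?_ ?_ (Finset.finite_toSet _)
    · rintro u ⟨hu, hne, hc⟩
      simp only [φ, dif_pos hu, hT, Finset.mem_coe, List.mem_toFinset, List.mem_filter, List.mem_range]
      exact ⟨(pt _).2, (nb_conj hu hne hc).1⟩
    · rintro u ⟨hu, -, -⟩ v ⟨hv, -, -⟩ h
      simp only [φ, dif_pos hu, dif_pos hv] at h
      have := (conj_eq_iff _ _).2 (Fin.ext h)
      rwa [(Fi22Class.mem_D.1 hu).choose_spec, (Fi22Class.mem_D.1 hv).choose_spec] at this
  · haveI := finite_G
    obtain ⟨-, e, q₁, q₂, hq0, he, hc₁, -, -, -⟩ := Fi22Class.exists_frame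
    obtain ⟨q, hq, hsz, hb⟩ := orbit_spec (H := Fi22.H) (Setup.gen_invol S) rfl (Setup.hom_gen S) he
      Fi22B.orb1_ok
    rw [← hsz]
    refine Set.ncard_le_ncard_of_injOn (fun x : G₀ ⧸ Fi22.H => x.out * Fi22Class.z * x.out⁻¹) ?_ ?_
      (Set.toFinite _)
    · intro x hx
      obtain ⟨⟨k, hk⟩, rfl⟩ := hx
      obtain ⟨he1, hne, hze⟩ := pair_facts
      have hcomm : Commute k Fi22Class.z := (Fi22Class.z_comm k hk).symm
      have hq' : q = ((wp e1W.reverse : G₀) : G₀ ⧸ Fi22.H) := by
        refine e.injective (Fin.ext ?_)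
        have key : e ((wp e1W.reverse : G₀) : G₀ ⧸ Fi22.H) = pt (wp e1W.reverse) := by
          have := he (wp e1W.reverse) ((1 : G₀) : G₀ ⧸ Fi22.H)
          rw [show wp e1W.reverse • ((1 : G₀) : G₀ ⧸ Fi22.H) = ((wp e1W.reverse : G₀) : G₀ ⧸ Fi22.H) from
            congrArg QuotientGroup.mk (mul_one _)] at this
          rw [this]
          exact congrArg _ (Fin.ext hq0)
        have h1 := Fi22Two.e1_checked
        simp only [Bool.and_eq_true, Nat.beq_eq] at h1
        refine hq.trans ?_
        rw [key, Fi22Two.pt_word h1.1.1.1, h1.1.2]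
      obtain ⟨w, hw⟩ := QuotientGroup.mk_out_eq_mul Fi22.H (k * wp e1W.reverse)
      have hout : ((⟨k, hk⟩ : Fi22.H) • q).out * Fi22Class.z * ((⟨k, hk⟩ : Fi22.H) • q).out⁻¹ =
          k * e0 * k⁻¹ := by
        have e1 : (⟨k, hk⟩ : Fi22.H) • q = ((k * wp e1W.reverse : G₀) : G₀ ⧸ Fi22.H) := by rw [hq']; rfl
        rw [e1, hw, e0, dEl_eq, mul_inv_rev, mul_assoc (k * wp e1W.reverse), ← Fi22Class.z_comm w w.2]
        group
      show _ ∈ {u : G₀ | _}
      refine ⟨?_, ?_, ?_⟩ <;> rw [hout]
      · obtain ⟨g, hg⟩ := Fi22Class.mem_D.1 he1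
        exact Fi22Class.mem_D.2 ⟨k * g, by rw [← hg]; group⟩
      · intro h
        refine hne ((MulAut.conj k).injective ?_)
        show k * e0 * k⁻¹ = k * Fi22Class.z * k⁻¹
        rw [h, hcomm.eq, mul_inv_cancel_right]
      · have := hze.map (MulAut.conj k).toMonoidHom
        simpa [hcomm.eq, mul_inv_cancel_right] using this
    · intro a _ b _ h
      rw [← QuotientGroup.out_eq' a, ← QuotientGroup.out_eq' b, QuotientGroup.eq]
      refine Fi22Class.centralizer_z.le (Subgroup.mem_centralizer_iff.2 ?_)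
      rintro _ rfl
      calc Fi22Class.z * (a.out⁻¹ * b.out) = a.out⁻¹ * (a.out * Fi22Class.z * a.out⁻¹) * b.out := by group
        _ = a.out⁻¹ * b.out * Fi22Class.z := by
          simp only at h
          rw [h]; group

theorem card_C : Nat.card (Subgroup.centralizer ({jA} : Set AA)) = 2 ^ 11 * 51840 := by
  haveI := finite_G
  obtain ⟨he, hne, hze⟩ := pair_facts
  set S1 := MulAction.stabilizer AA Fi22Class.z with hS1
  have horb : MulAction.orbit AA Fi22Class.z = Fi22Class.D := by
    ext u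
    refine ⟨?_, fun hu => ?_⟩
    · rintro ⟨f, rfl⟩; exact aut_D f z_mem
    · obtain ⟨g, rfl⟩ := Fi22Class.mem_D.1 hu; exact ⟨MulAut.conj g, rfl⟩
  have h1 : S1.index = 3510 := by
    rw [hS1, MulAction.index_stabilizer, horb, ← Nat.card_coe_set_eq, Fi22Class.card_D]
  set C1 := MulAction.stabilizer ↥S1 e0 with hC1
  have h2 : C1.index = 693 := by
    rw [hC1, MulAction.index_stabilizer, ← card_Nb]
    refine congrArg Set.ncard (Set.ext fun u => ⟨?_, ?_⟩)
    · rintro ⟨⟨f, hf⟩, rfl⟩
      have hfz : f Fi22Class.z = Fi22Class.z := hf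
      refine ⟨aut_D f he, fun h => hne (f.injective (h.trans hfz.symm)), ?_⟩
      have := hze.map f.toMonoidHom
      simpa [hfz] using this
    · rintro ⟨hu, hune, huc⟩
      obtain ⟨-, h, hhz, hh⟩ := nb_conj hu hune huc
      exact ⟨⟨MulAut.conj h, show h * Fi22Class.z * h⁻¹ = _ by rw [hhz.eq, mul_inv_cancel_right]⟩, hh⟩
  set C := Subgroup.centralizer ({jA} : Set AA) with hC
  set C2 := MulAction.stabilizer ↥C Fi22Class.z with hC2
  have h3 : C2.index = 2 := by
    rw [hC2, MulAction.index_stabilizer]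
    have : MulAction.orbit ↥C Fi22Class.z = {Fi22Class.z, e0} := by
      ext u
      refine ⟨?_, ?_⟩
      · rintro ⟨⟨f, hf⟩, rfl⟩; exact image_z hf
      · rintro (rfl | rfl)
        · exact ⟨1, one_smul _ _⟩
        · obtain ⟨f, hf, hfz⟩ := exists_swap
          exact ⟨⟨f, hf⟩, hfz⟩
    rw [this, Set.ncard_pair hne.symm]
  have hcard : Nat.card C2 = Nat.card C1 := by
    have e1 : C2.map C.subtype = C1.map S1.subtype := by
      ext f
      constructor
      · rintro ⟨⟨g, hg⟩, hz, rfl⟩
        have hgz : g Fi22Class.z = Fi22Class.z := hz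
        refine ⟨⟨g, hgz⟩, ?_, rfl⟩
        show g e0 = e0
        rw [← j0_mul, map_mul, hgz, mem_centralizer_iff_fix.1 hg]
      · rintro ⟨⟨g, hg⟩, he', rfl⟩
        have hgz : g Fi22Class.z = Fi22Class.z := hg
        have hge : g e0 = e0 := he'
        refine ⟨⟨g, mem_centralizer_iff_fix.2 ?_⟩, hgz, rfl⟩
        show g (Fi22Class.z * e0) = Fi22Class.z * e0
        rw [map_mul, hgz, hge]
    rw [← Subgroup.card_map_of_injective (f := C.subtype) (K := C2) C.subtype_injective, e1,
      Subgroup.card_map_of_injective S1.subtype_injective]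
  have a1 := Subgroup.card_mul_index S1
  have a2 := Subgroup.card_mul_index C1
  have a3 := Subgroup.card_mul_index C2
  rw [h1, card_aut] at a1
  rw [h2] at a2
  rw [h3, hcard] at a3
  omega

end Cfsg.Agent.FischerPresented.Fi22TwoTwo
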