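import Cfsg.Agent.Lib.RigidGraph.He.FieldFour
import Cfsg.Agent.Lib.FischerPresented.Fi23
import Cfsg.Agent.Lib.FischerPresented.Cover22Data
import Mathlib.GroupTheory.Abelianization.Defs
import Mathlib.GroupTheory.SpecificGroups.Cyclic
import Mathlib.LinearAlgebra.Matrix.Notation
import Mathlib.Data.Matrix.Basic
import Mathlib.Data.Fintype.Pi
import Mathlib.LinearAlgebra.Matrix.GeneralLinearGroup.Defs

/-!
A stem extension of Fi22 by a cyclic group of order six, inside the product of Fi22, a matrix group of degree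
27 over the field of four elements and the double cover of Fi22 in Fi23.
-/

set_option autoImplicit false
set_option maxRecDepth 100000

namespace Cfsg.Agent.FischerPresented.Cover22

open Cfsg.Agent.CosetCert
open Cfsg.Agent.CosetData
open Cfsg.Agent.RigidGraph.He

local notation "FS" => Fi22B.setup

/-- The matrices of degree 27. -/
abbrev M27 : Type := Matrix (Fin 27) (Fin 27) K4

/-- A digit from two bits. -/
def dig2 (h l : Bool) : ℕ := bif h then (bif l then 3 else 2) else (bif l then 1 else 0)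

/-- The entry of a coded row. -/
def dgt (r : ℕ × ℕ) (j : ℕ) : ℕ := dig2 (Nat.testBit r.1 j) (Nat.testBit r.2 j)

/-- The field element of an entry. -/
def ent (r : ℕ × ℕ) (j : ℕ) : K4 := K4.ofDigit (dgt r j)

/-- Multiple of a coded row. -/
def smulC : ℕ → ℕ × ℕ → ℕ × ℕ
  | 1, b => b
  | 2, b => (Nat.xor b.1 b.2, b.1)
  | 3, b => (b.2, Nat.xor b.1 b.2)
  | _, _ => (0, 0)

/-- Sum of coded rows. -/
def addC (a b : ℕ × ℕ) : ℕ × ℕ := (Nat.xor a.1 b.1, Nat.xor a.2 b.2)

theorem ent_add (a b : ℕ × ℕ) (j : ℕ) : ent (addC a b) j = ent a j + ent b j := by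
  have e : ∀ h l h' l' : Bool, K4.ofDigit (dig2 (xor h h') (xor l l')) =
      K4.ofDigit (dig2 h l) + K4.ofDigit (dig2 h' l') := by decide
  rw [ent, ent, ent, dgt, addC]
  show K4.ofDigit (dig2 (Nat.testBit (a.1 ^^^ b.1) j) (Nat.testBit (a.2 ^^^ b.2) j)) = _
  rw [Nat.testBit_xor, Nat.testBit_xor]
  exact e _ _ _ _

theorem ent_smul (h' l' : Bool) (b : ℕ × ℕ) (j : ℕ) :
    ent (smulC (dig2 h' l') b) j = K4.ofDigit (dig2 h' l') * ent b j := by
  have e : ∀ h l : Bool, K4.ofDigit (dig2 (xor h l) h) = K4.ofDigit 2 * K4.ofDigit (dig2 h l) ∧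
      K4.ofDigit (dig2 l (xor h l)) = K4.ofDigit 3 * K4.ofDigit (dig2 h l) := by decide
  cases h' <;> cases l'
  · show ent (0, 0) j = K4.ofDigit 0 * ent b j
    rw [ent, dgt, Nat.zero_testBit]
    exact (zero_mul _).symm
  · exact (one_mul _).symm
  · show K4.ofDigit (dig2 (Nat.testBit (b.1 ^^^ b.2) j) (Nat.testBit b.1 j)) = _
    rw [Nat.testBit_xor]
    exact (e _ _).1
  · show K4.ofDigit (dig2 (Nat.testBit b.2 j) (Nat.testBit (b.1 ^^^ b.2) j)) = _
    rw [Nat.testBit_xor]
    exact (e _ _).2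

/-- A combination of rows. -/
def comb (a : ℕ × ℕ) : ℕ → List (ℕ × ℕ) → ℕ × ℕ
  | _, [] => (0, 0)
  | k, b :: bs => addC (smulC (dgt a k) b) (comb a (k + 1) bs)

theorem ent_comb (a : ℕ × ℕ) (j : ℕ) : ∀ (k : ℕ) (bs : List (ℕ × ℕ)),
    ent (comb a k bs) j = ∑ i ∈ Finset.range bs.length, ent a (k + i) * ent (bs.getD i (0, 0)) j
  | k, [] => by
    show ent (0, 0) j = _
    rw [ent, dgt, Nat.zero_testBit]
    rfl
  | k, b :: bs => by
    rw [comb, ent_add, ent_comb a j (k + 1) bs, List.length_cons, Finset.sum_range_succ', add_comm]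
    refine congrArg₂ (· + ·) (Finset.sum_congr rfl fun i _ => ?_) ?_
    · rw [List.getD_cons_succ, show k + 1 + i = k + (i + 1) by omega]
    · rw [dgt, ent_smul]
      rfl

/-- Product of coded matrices. -/
def mulC (A B : List (ℕ × ℕ)) : List (ℕ × ℕ) := A.map fun a => comb a 0 B

/-- The matrix of a coded matrix. -/
def matOf (A : List (ℕ × ℕ)) : M27 := Matrix.of fun i j => ent (A.getD i (0, 0)) j

theorem matOf_mul {A B : List (ℕ × ℕ)} (hA : A.length = 27) (hB : B.length = 27) :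
    matOf (mulC A B) = matOf A * matOf B := by
  refine Matrix.ext fun i j => ?_
  have hi : (i : ℕ) < A.length := by rw [hA]; exact i.2
  have e : (mulC A B).getD i (0, 0) = comb (A.getD i (0, 0)) 0 B := by
    rw [mulC, List.getD_eq_getElem _ _ (by rw [List.length_map]; exact hi), List.getElem_map,
      List.getD_eq_getElem _ _ hi]
  rw [matOf, Matrix.of_apply, e, ent_comb, hB, Matrix.mul_apply, Finset.sum_range]
  simp only [Nat.zero_add]
  rfl

/-- The coded identity. -/
def idC : List (ℕ × ℕ) := (List.range 27).map fun i => (0, 2 ^ i)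

/-- The coded scalar. -/
def scC : List (ℕ × ℕ) := (List.range 27).map fun i => (2 ^ i, 2 ^ i)

theorem matOf_idC : matOf idC = 1 := by
  have h : ∀ i j : Fin 27, ent (idC.getD (i : ℕ) (0, 0)) j = if i = j then (1 : K4) else 0 := by decide +kernel
  exact Matrix.ext fun i j => (h i j).trans (Matrix.one_apply).symm

theorem matOf_scC : matOf scC = Matrix.scalar (Fin 27) K4.v := by
  have h : ∀ i j : Fin 27, ent (scC.getD (i : ℕ) (0, 0)) j = if i = j then K4.v else 0 := by decide +kernel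
  refine Matrix.ext fun i j => (h i j).trans ?_
  rw [Matrix.scalar_apply, Matrix.diagonal_apply]

/-- The coded matrix of a generator. -/
def mc (x : ℕ) : List (ℕ × ℕ) := mats.getD x idC

theorem mats_ok : (mats.all fun A => (A.length == 27) && (mulC A A == idC)) = true := by decide +kernel

theorem mc_ok (x : ℕ) : (mc x).length = 27 ∧ matOf (mc x) * matOf (mc x) = 1 := by
  rw [mc, List.getD_eq_getElem?_getD]
  cases h : mats[x]? with
  | none => exact ⟨rfl, by rw [Option.getD_none, matOf_idC, mul_one]⟩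
  | some A =>
    have hA := List.all_eq_true.1 mats_ok A (List.mem_of_getElem? h)
    rw [Bool.and_eq_true, beq_iff_eq, beq_iff_eq] at hA
    exact ⟨hA.1, by rw [Option.getD_some, ← matOf_mul hA.1 hA.1, hA.2, matOf_idC]⟩

/-- The unit of a generator. -/
noncomputable def uM (x : ℕ) : M27ˣ := ⟨matOf (mc x), matOf (mc x), (mc_ok x).2, (mc_ok x).2⟩

/-- The coded product of a word. -/
def prodC : List ℕ → List (ℕ × ℕ)
  | [] => idC
  | x :: w => mulC (mc x) (prodC w)

theorem prodC_spec : ∀ w : List ℕ, (prodC w).length = 27 ∧ ((wprod uM w : M27ˣ) : M27) = matOf (prodC w)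
  | [] => ⟨rfl, matOf_idC.symm⟩
  | x :: w => by
    obtain ⟨h1, h2⟩ := prodC_spec w
    refine ⟨by rw [prodC, mulC, List.length_map, (mc_ok x).1], ?_⟩
    rw [wprod_cons, Units.val_mul, h2, prodC, matOf_mul (mc_ok x).1 h1]
    rfl

/-- The scalar unit. -/
noncomputable def uS : M27ˣ :=
  Units.map (Matrix.scalar (Fin 27)).toMonoidHom (Units.mk0 K4.v (by decide))

theorem uS_val : (uS : M27) = matOf scC := matOf_scC.symm

theorem uS_comm (a : M27ˣ) : a * uS = uS * a := Units.ext <| by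
  rw [Units.val_mul, Units.val_mul]
  exact ((Matrix.scalar_commute K4.v (fun r => Commute.all _ _) (a : M27)).eq).symm

theorem uS_cube : uS ^ 3 = 1 := by
  rw [uS, ← map_pow, show (Units.mk0 K4.v (by decide) : K4ˣ) ^ 3 = 1 from Units.ext (by decide), map_one]

theorem uS_ne : uS ≠ 1 := fun h => by
  have h1 := congrArg (fun u : M27ˣ => (u : M27) 0 0) h
  rw [uS_val] at h1
  revert h1
  show matOf scC 0 0 = (1 : K4) → False
  decide +kernel

/-- The ambient group. -/
abbrev Amb : Type := Setup.G FS × (M27ˣ × Fi23.K)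

/-- The lifted generators. -/
noncomputable def gl (x : ℕ) : Amb := (Setup.gen FS x, (uM x, Fi23.gK x))

theorem gl_invol (x : ℕ) : gl x * gl x = 1 :=
  Prod.ext (Setup.gen_invol FS x) (Prod.ext (Units.ext (mc_ok x).2) (Fi23.gK_invol x))

/-- The element of order six. -/
noncomputable def c : Amb := (1, (uS, Fi23.zK))

theorem zK_sq : Fi23.zK * Fi23.zK = 1 := Subtype.ext Fi23.z_sq

theorem zK_ne : Fi23.zK ≠ 1 := fun h => Fi23.z_ne_one (congrArg Subtype.val h)

theorem c_pow (n : ℕ) : c ^ n = (1, (uS ^ n, Fi23.zK ^ n)) := by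
  simp [c, Prod.pow_def]

theorem orderOf_c : orderOf c = 6 := by
  have h6 : c ^ 6 = 1 := by
    rw [c_pow, show 6 = 3 * 2 by norm_num, pow_mul uS, uS_cube, one_pow, show 3 * 2 = 2 * 3 by norm_num,
      pow_mul Fi23.zK, sq, zK_sq, one_pow]
    rfl
  have h2 : ¬ c ^ 2 = 1 := fun h => uS_ne <| by
    rw [c_pow] at h
    have h' : uS ^ 2 = 1 := congrArg (fun p : Amb => p.2.1) h
    have := uS_cube
    rwa [pow_succ, h', one_mul] at this
  have h3 : ¬ c ^ 3 = 1 := fun h => zK_ne <| by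
    rw [c_pow] at h
    have h' : Fi23.zK ^ 3 = 1 := congrArg (fun p : Amb => p.2.2) h
    rwa [pow_succ, sq, zK_sq, one_mul] at h'
  have hd : orderOf c ∣ 6 := orderOf_dvd_of_pow_eq_one h6
  have hle : orderOf c ≤ 6 := Nat.le_of_dvd (by norm_num) hd
  have n2 : ¬ orderOf c ∣ 2 := fun h => h2 (orderOf_dvd_iff_pow_eq_one.1 h)
  have n3 : ¬ orderOf c ∣ 3 := fun h => h3 (orderOf_dvd_iff_pow_eq_one.1 h)
  interval_cases h : orderOf c
  all_goals first | rfl | omega

theorem c_central (a : Amb) : a * c = c * a :=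
  Prod.ext (show a.1 * 1 = 1 * a.1 by rw [mul_one, one_mul])
    (Prod.ext (uS_comm _) (Subtype.ext (Fi23.z_comm_K _ a.2.2.2).symm))

/-- The central subgroup of order six. -/
noncomputable def C : Subgroup Amb := Subgroup.zpowers c

theorem C_le_center : C ≤ Subgroup.center Amb :=
  Subgroup.zpowers_le.2 (Subgroup.mem_center_iff.2 c_central)

instance C_normal : C.Normal := ⟨fun n hn g => by
  rw [Subgroup.mem_center_iff.1 (C_le_center hn) g, mul_inv_cancel_right]; exact hn⟩

/-- Whether a word gives one in the double cover. -/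
noncomputable def oneK (w : List ℕ) : Bool := wordFixPts Fi23A.P 31671 Fi23.pts w

theorem rels_ok : (Fi22B.base.all fun w => (w.all fun x => Nat.blt x 9) &&
    ((prodC w == idC) || (prodC w == scC)) && (oneK w || oneK (w ++ Fi23.zW.reverse))) = true := by
  decide +kernel

theorem mem_C_of_pair {n m : ℕ} : ((1, (uS ^ n, Fi23.zK ^ m)) : Amb) ∈ C := by
  have e : ((1, (uS ^ n, Fi23.zK ^ m)) : Amb) = c ^ (4 * n + 3 * m) := by
    rw [c_pow]
    refine Prod.ext rfl (Prod.ext ?_ ?_)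
    · show uS ^ n = uS ^ (4 * n + 3 * m)
      rw [pow_add, pow_mul uS 3, uS_cube, one_pow, mul_one, show 4 * n = n + 3 * n by omega, pow_add,
        pow_mul uS 3, uS_cube, one_pow, mul_one]
    · show Fi23.zK ^ m = Fi23.zK ^ (4 * n + 3 * m)
      rw [show 4 * n + 3 * m = m + 2 * (2 * n + m) by omega, pow_add, pow_mul Fi23.zK 2, sq, zK_sq, one_pow,
        mul_one]
  rw [e]
  exact pow_mem (Subgroup.mem_zpowers c) _

theorem wprod_gl (w : List ℕ) :
    wprod gl w = (wprod (Setup.gen FS) w, (wprod uM w, wprod Fi23.gK w)) := by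
  induction w with
  | nil => rfl
  | cons x w ih =>
    rw [wprod_cons, wprod_cons, wprod_cons, wprod_cons, ih]
    rfl

theorem rel_mem {w : List ℕ} (hw : w ∈ Fi22B.base) : wprod gl w ∈ C := by
  have h := List.all_eq_true.1 rels_ok w hw
  simp only [Bool.and_eq_true, Bool.or_eq_true, beq_iff_eq] at h
  obtain ⟨⟨hl, hM⟩, hK⟩ := h
  have eM : ∃ n, wprod uM w = uS ^ n := by
    rcases hM with h | h
    · exact ⟨0, Units.ext (by rw [(prodC_spec w).2, h, matOf_idC, pow_zero, Units.val_one])⟩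
    · exact ⟨1, Units.ext (by rw [(prodC_spec w).2, h, pow_one, uS_val])⟩
  have eK : ∃ m, wprod Fi23.gK w = Fi23.zK ^ m := by
    rcases hK with h | h
    · exact ⟨0, Subtype.ext (by rw [Fi23.wprod_gK hl, Fi23.word_one h, pow_zero]; rfl)⟩
    · refine ⟨1, Subtype.ext ?_⟩
      have h' := Fi23.word_one h
      rw [wprod_append, wprod_reverse (Setup.gen_invol Fi23A.setup), mul_inv_eq_one] at h'
      rw [Fi23.wprod_gK hl, h', pow_one]
      rfl
  obtain ⟨n, hn⟩ := eM
  obtain ⟨m, hm⟩ := eK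
  rw [wprod_gl, Setup.base_one FS w hw, hn, hm]
  exact mem_C_of_pair

/-- The extension. -/
noncomputable def Γ : Subgroup Amb := Subgroup.closure (gl '' {x | x < 9})

theorem wprod_mem {w : List ℕ} (hw : ∀ x ∈ w, x < 9) : wprod gl w ∈ Γ := by
  refine list_prod_mem fun g hg => ?_
  obtain ⟨x, hx, rfl⟩ := List.mem_map.1 hg
  exact Subgroup.subset_closure ⟨x, hw x hx, rfl⟩

theorem c_mem : c ∈ Γ := by
  have h1 : (prodC (rep 10 [3, 2, 1, 3, 4, 5, 3, 7, 8]) == scC) = true := by decide +kernel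
  have h1' : oneK (rep 10 [3, 2, 1, 3, 4, 5, 3, 7, 8]) = true := by decide +kernel
  have h2 : (prodC (rep 9 [1, 2, 3, 4, 5, 6, 7]) == idC) = true := by decide +kernel
  have hb1 : rep 10 [3, 2, 1, 3, 4, 5, 3, 7, 8] ∈ Fi22B.base := by decide +kernel
  have hb2 : rep 9 [1, 2, 3, 4, 5, 6, 7] ∈ Fi22B.base := by decide +kernel
  have hl1 : ((rep 10 [3, 2, 1, 3, 4, 5, 3, 7, 8]).all fun x => Nat.blt x 9) = true := by decide +kernel
  have hl2 : ((rep 9 [1, 2, 3, 4, 5, 6, 7]).all fun x => Nat.blt x 9) = true := by decide +kernel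
  have e1 : wprod gl (rep 10 [3, 2, 1, 3, 4, 5, 3, 7, 8]) = (1, (uS, 1)) := by
    rw [wprod_gl, Setup.base_one FS _ hb1]
    refine Prod.ext rfl (Prod.ext (Units.ext ?_) (Subtype.ext ?_))
    · show ((wprod uM _ : M27ˣ) : M27) = _
      rw [(prodC_spec _).2, beq_iff_eq.1 h1, uS_val]
    · show ((wprod Fi23.gK _ : Fi23.K) : Setup.G Fi23A.setup) = _
      rw [Fi23.wprod_gK hl1, Fi23.word_one h1']
      rfl
  have e2 : wprod gl (rep 9 [1, 2, 3, 4, 5, 6, 7]) = (1, (1, Fi23.zK)) := by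
    rw [wprod_gl, Setup.base_one FS _ hb2]
    refine Prod.ext rfl (Prod.ext (Units.ext ?_) (Subtype.ext ?_))
    · show ((wprod uM _ : M27ˣ) : M27) = _
      rw [(prodC_spec _).2, beq_iff_eq.1 h2, matOf_idC]
      rfl
    · show ((wprod Fi23.gK _ : Fi23.K) : Setup.G Fi23A.setup) = _
      rw [Fi23.wprod_gK hl2]
      rfl
  have e : c = wprod gl (rep 10 [3, 2, 1, 3, 4, 5, 3, 7, 8]) * wprod gl (rep 9 [1, 2, 3, 4, 5, 6, 7]) := by
    rw [e1, e2]
    show ((1, (uS, Fi23.zK)) : Amb) = (1 * 1, (uS * 1, 1 * Fi23.zK))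
    rw [mul_one, mul_one, one_mul]
  rw [e]
  refine Γ.mul_mem (wprod_mem fun x hx => ?_) (wprod_mem fun x hx => ?_)
  · exact Nat.blt_eq.mp (List.all_eq_true.1 hl1 x hx)
  · exact Nat.blt_eq.mp (List.all_eq_true.1 hl2 x hx)

/-- The projection. -/
noncomputable def σ : Γ →* Setup.G FS := (MonoidHom.fst _ _).comp Γ.subtype

/-- A generator in the extension. -/
noncomputable def gΓ {x : ℕ} (hx : x < 9) : Γ := ⟨gl x, Subgroup.subset_closure ⟨x, hx, rfl⟩⟩

theorem closure_gΓ : Subgroup.closure {g : Γ | ∃ (x : ℕ) (hx : x < 9), g = gΓ hx} = ⊤ := by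
  refine Subgroup.map_injective Γ.subtype_injective ?_
  rw [MonoidHom.map_closure, ← MonoidHom.range_eq_map, Subgroup.range_subtype]
  refine congrArg Subgroup.closure (Set.ext fun a => ⟨?_, ?_⟩)
  · rintro ⟨g, ⟨x, hx, rfl⟩, rfl⟩
    exact ⟨x, hx, rfl⟩
  · rintro ⟨x, hx, rfl⟩
    exact ⟨gΓ hx, ⟨x, hx, rfl⟩, rfl⟩

theorem σ_surj : Function.Surjective σ := by
  rw [← MonoidHom.range_eq_top, eq_top_iff, ← Setup.closure_gen FS, Subgroup.closure_le]
  rintro _ ⟨x, hx, rfl⟩
  exact ⟨gΓ hx, rfl⟩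

/-- The element of order six in the extension. -/
noncomputable def cΓ : Γ := ⟨c, c_mem⟩

theorem mem_C_of_ker {x : Γ} (hx : σ x = 1) : (x : Amb) ∈ C := by
  obtain ⟨ψ, hψ⟩ := Setup.exists_hom FS (fun x => QuotientGroup.mk' C (gl x))
    (fun x => by rw [← map_mul, gl_invol, map_one]) fun w hw => by
      rw [← map_wprod (QuotientGroup.mk' C) gl]
      exact (QuotientGroup.eq_one_iff _).2 (rel_mem hw)
  have h : ψ.comp σ = (QuotientGroup.mk' C).comp Γ.subtype := by
    refine MonoidHom.eq_of_eqOn_dense closure_gΓ ?_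
    rintro _ ⟨x, hx, rfl⟩
    exact hψ x hx
  have := DFunLike.congr_fun h x
  rw [MonoidHom.comp_apply, hx, map_one] at this
  exact (QuotientGroup.eq_one_iff _).1 this.symm

theorem ker_eq : σ.ker = Subgroup.zpowers cΓ := by
  refine le_antisymm (fun x hx => ?_) (Subgroup.zpowers_le.2 rfl)
  obtain ⟨n, hn⟩ := Subgroup.mem_zpowers_iff.1 (mem_C_of_ker hx)
  exact Subgroup.mem_zpowers_iff.2 ⟨n, Subtype.ext (by rw [SubgroupClass.coe_zpow]; exact hn)⟩

theorem ker_le_center : σ.ker ≤ Subgroup.center Γ := by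
  rw [ker_eq, Subgroup.zpowers_le, Subgroup.mem_center_iff]
  exact fun g => Subtype.ext (c_central g.1)

theorem sq_mem_commutator (x : Γ) : x * x ∈ commutator Γ := by
  have key : ∀ a : Abelianization Γ, (∃ y, Abelianization.of y = a) → a * a = 1 := by
    rintro _ ⟨y, rfl⟩
    have hy : y ∈ Subgroup.closure {g : Γ | ∃ (x : ℕ) (hx : x < 9), g = gΓ hx} := closure_gΓ ▸ Subgroup.mem_top y
    induction hy using Subgroup.closure_induction with
    | mem a ha =>
      obtain ⟨x, hx, rfl⟩ := ha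
      rw [← map_mul, show gΓ hx * gΓ hx = 1 from Subtype.ext (gl_invol x), map_one]
    | one => rw [map_one, one_mul]
    | mul a b _ _ iha ihb => rw [map_mul, mul_mul_mul_comm, iha, ihb, one_mul]
    | inv a _ iha => rw [map_inv, ← mul_inv, iha, inv_one]
  have h := key _ ⟨x, rfl⟩
  rw [← map_mul] at h
  rw [← Abelianization.ker_of]
  exact h

theorem commutator_K : commutator Fi23.K = ⊤ := by
  rw [← Abelianization.ker_of, eq_top_iff]
  intro k _
  exact Fi23.kill_K Abelianization.of (QuotientGroup.mk'_surjective _) (fun q => mul_comm _ q) _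

theorem c_mem_commutator : cΓ ∈ commutator Γ := by
  let π : Γ →* Fi23.K := ((MonoidHom.snd M27ˣ Fi23.K).comp (MonoidHom.snd _ _)).comp Γ.subtype
  have hπ : Function.Surjective π := by
    rw [← MonoidHom.range_eq_top, eq_top_iff, ← Fi23.closure_gK, Subgroup.closure_le]
    rintro _ ⟨x, hx, rfl⟩
    exact ⟨gΓ hx, rfl⟩
  have hz : Fi23.zK ∈ Subgroup.map π (commutator Γ) := by
    rw [commutator_def, Subgroup.map_commutator, Subgroup.map_top_of_surjective _ hπ, ← commutator_def,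
      commutator_K]
    exact Subgroup.mem_top _
  obtain ⟨y, hy, hyz⟩ := hz
  obtain ⟨ψ, hψs, hψ⟩ := Fi23.exists_hom_Fi22
  obtain ⟨e⟩ := Fi23.nonempty_iso
  have := Fi22.order_facts.1
  have hψb : Function.Bijective ψ :=
    (Nat.bijective_iff_surjective_and_card ψ).2 ⟨hψs, Nat.card_congr e.toEquiv⟩
  have hcomp : ψ.comp σ = (QuotientGroup.mk' Fi23.Z).comp π := by
    refine MonoidHom.eq_of_eqOn_dense closure_gΓ ?_
    rintro _ ⟨x, hx, rfl⟩
    exact hψ x hx
  have hσy : σ y = 1 := by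
    refine hψb.1 ?_
    have := DFunLike.congr_fun hcomp y
    rw [MonoidHom.comp_apply, MonoidHom.comp_apply, hyz] at this
    rw [map_one, this]
    exact (QuotientGroup.eq_one_iff _).2 (Subgroup.mem_zpowers _)
  have hyk : y ∈ σ.ker := hσy
  rw [ker_eq, Subgroup.mem_zpowers_iff] at hyk
  obtain ⟨n, hn⟩ := hyk
  rcases Int.even_or_odd n with ⟨m, hm⟩ | ⟨m, hm⟩
  · exfalso
    refine zK_ne ?_
    have hpc : π cΓ = Fi23.zK := rfl
    rw [← hyz, ← hn, map_zpow, hpc, hm, ← two_mul, zpow_mul,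
      show Fi23.zK ^ (2 : ℤ) = 1 by rw [zpow_two, zK_sq], one_zpow]
  · have e : cΓ = y * ((cΓ * cΓ) ^ m)⁻¹ := by
      rw [← hn, hm, ← sq, ← zpow_natCast cΓ 2, ← zpow_mul, ← zpow_neg, ← zpow_add]
      norm_num
    rw [e]
    exact mul_mem hy (inv_mem (zpow_mem (sq_mem_commutator cΓ) m))

theorem exists_cover : ∃ (E : Type) (_ : Group E) (_ : Finite E) (τ : E →* Setup.G FS),
    Function.Surjective τ ∧ τ.ker ≤ Subgroup.center E ∧ τ.ker ≤ commutator E ∧
      Nonempty (τ.ker ≃* Multiplicative (ZMod 6)) := by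
  have := Fi22.order_facts.1
  have := Fi23.order_facts.1
  refine ⟨Γ, inferInstance, inferInstance, σ, σ_surj, ker_le_center, ?_, ?_⟩
  · rw [ker_eq, Subgroup.zpowers_le]; exact c_mem_commutator
  · have ho : orderOf cΓ = 6 := by rw [← Subgroup.orderOf_coe cΓ]; exact orderOf_c
    have hc : Nat.card σ.ker = Nat.card (Multiplicative (ZMod 6)) := by
      rw [ker_eq, Nat.card_zpowers, ho, show Nat.card (Multiplicative (ZMod 6)) = Nat.card (ZMod 6) from rfl,
        Nat.card_zmod]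
    have : IsCyclic σ.ker := by rw [ker_eq]; infer_instance
    exact ⟨mulEquivOfCyclicCardEq hc⟩

end Cfsg.Agent.FischerPresented.Cover22
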