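import Mathlib.Data.ZMod.Basic
import Mathlib.Algebra.Group.Subgroup.Basic
import Mathlib.Algebra.Group.Prod
import Mathlib.Algebra.Group.TypeTags.Hom

/-!
The homomorphism out of the product of cyclic groups of orders three, two and two given by three commuting
elements of matching orders.
-/

set_option autoImplicit false

namespace Cfsg.Agent.FischerPresented

/-- The map sending the unit vectors to three given elements. -/
noncomputable def tripleHom {A : Type*} [CommGroup A] (h b k : A) (h3 : h ^ 3 = 1) (b2 : b ^ 2 = 1)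
    (k2 : k ^ 2 = 1) : Multiplicative (ZMod 3 × ZMod 2 × ZMod 2) →* A :=
  AddMonoidHom.toMultiplicativeLeft
    (AddMonoidHom.coprod
      (ZMod.lift 3 ⟨zmultiplesHom (Additive A) (Additive.ofMul h), by
        show ((3 : ℕ) : ℤ) • Additive.ofMul h = 0
        rw [natCast_zsmul]; exact h3⟩)
      (AddMonoidHom.coprod
        (ZMod.lift 2 ⟨zmultiplesHom (Additive A) (Additive.ofMul b), by
          show ((2 : ℕ) : ℤ) • Additive.ofMul b = 0
          rw [natCast_zsmul]; exact b2⟩)
        (ZMod.lift 2 ⟨zmultiplesHom (Additive A) (Additive.ofMul k), by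
          show ((2 : ℕ) : ℤ) • Additive.ofMul k = 0
          rw [natCast_zsmul]; exact k2⟩)))

theorem tripleHom_apply {A : Type*} [CommGroup A] (h b k : A) (h3 : h ^ 3 = 1) (b2 : b ^ 2 = 1)
    (k2 : k ^ 2 = 1) (i j l : ℤ) :
    tripleHom h b k h3 b2 k2 (Multiplicative.ofAdd ((i : ZMod 3), (j : ZMod 2), (l : ZMod 2))) =
      h ^ i * (b ^ j * k ^ l) := by
  simp only [tripleHom, AddMonoidHom.toMultiplicativeLeft_apply_apply, toAdd_ofAdd, AddMonoidHom.coprod_apply,
    ZMod.lift_coe, zmultiplesHom_apply, toMul_add, toMul_zsmul, toMul_ofMul]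

theorem tripleHom_surjective {A : Type*} [CommGroup A] {h b k : A} (h3 : h ^ 3 = 1) (b2 : b ^ 2 = 1)
    (k2 : k ^ 2 = 1) (hgen : Subgroup.closure {h, b, k} = ⊤) :
    Function.Surjective (tripleHom h b k h3 b2 k2) := by
  rw [← MonoidHom.range_eq_top, eq_top_iff, ← hgen, Subgroup.closure_le]
  rintro x (rfl | rfl | rfl)
  · exact ⟨_, (tripleHom_apply _ _ _ h3 b2 k2 1 0 0).trans (by simp)⟩
  · exact ⟨_, (tripleHom_apply _ _ _ h3 b2 k2 0 1 0).trans (by simp)⟩
  · exact ⟨_, (tripleHom_apply _ _ _ h3 b2 k2 0 0 1).trans (by simp)⟩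

end Cfsg.Agent.FischerPresented
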