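import Cfsg.Agent.Lib.FischerPresented.U62Group
import Cfsg.Agent.Lib.FischerPresented.Fi23
import Cfsg.Agent.Lib.FischerPresented.TripleHom
import Mathlib.GroupTheory.Abelianization.Defs

/-!
A stem extension of PSU₆(2) by the product of cyclic groups of orders three, two and two, inside the product
of PSU₆(2), SU₆(2) and the double cover of Fi22 in Fi23.
-/

set_option autoImplicit false
set_option maxRecDepth 100000

namespace Cfsg.Agent.FischerPresented.Cover6

open Cfsg.Agent.CosetCert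
open Cfsg.Agent.CosetData
open Cfsg.Agent.RigidGraph.He (K4)
open Cfsg.Agent.FischerPresented.U62 (SU6 gen mv mv_mul mv_one mv_gen mats of6 mulN swj hg hgH θ matOf)

local notation "FS" => Fi22B.setup

/-- The group PSU₆(2). -/
abbrev PU : Type := Cfsg.PSU 6 K4 2

/-- The ambient group. -/
abbrev Amb : Type := PU × (SU6 × Fi23.K)

/-- The component in the double cover. -/
noncomputable def kg (j : ℕ) : Fi23.K := wprod Fi23.gK (swj j)

/-- The projection to the projective group. -/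
noncomputable abbrev pq : SU6 →* PU := QuotientGroup.mk' (Subgroup.center SU6)

/-- The projection to the quotient of the double cover. -/
noncomputable abbrev kq : Fi23.K →* Fi23.K ⧸ Fi23.Z := QuotientGroup.mk' Fi23.Z

/-- The lifted generators, numbered from zero. -/
noncomputable def gl (x : ℕ) : Amb := (pq (gen (x + 1)), (gen (x + 1), kg (x + 1)))

/-- The extension. -/
noncomputable def Γ : Subgroup Amb := Subgroup.closure (gl '' {x | x < 8})

/-- The action of a word on a coded vector. -/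
def actN (w : List ℕ) (v : List ℕ) : List ℕ := w.foldr (fun x u => mulN (mats.getD (x + 1) []) u) v

theorem mv_word : ∀ (w : List ℕ), (∀ x ∈ w, x < 8) → ∀ v,
    mv (wprod (fun x => gen (x + 1)) w) (of6 v) = of6 (actN w v)
  | [], _, v => mv_one _
  | x :: w, h, v => by
    rw [wprod_cons, mv_mul, mv_word w (fun y hy => h y (List.mem_cons_of_mem _ hy)) v,
      mv_gen (show x + 1 < 9 by have := h x List.mem_cons_self; omega)]
    rfl

/-- A coded unit vector. -/
def unitN (k : ℕ) : List ℕ := (List.range 6).map fun i => bif Nat.beq i k then 1 else 0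

/-- Whether a word gives a scalar matrix. -/
def scalarOK (w : List ℕ) (s : ℕ) : Bool :=
  (w.all fun x => Nat.blt x 8) &&
    (List.range 6).all fun k => U62.vecEq (actN w (unitN k)) (U62.smulN s (unitN k))

theorem mat_of_scalarOK {w : List ℕ} {s : ℕ} (hs : s < 4) (h : scalarOK w s = true) :
    ((wprod (fun x => gen (x + 1)) w : SU6).1 : Matrix (Fin 6) (Fin 6) K4) = K4.ofDigit s • 1 := by
  rw [scalarOK, Bool.and_eq_true] at h
  have he : ∀ k i : Fin 6, of6 (unitN k) i = (Pi.single k 1 : Fin 6 → K4) i := by decide +kernel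
  refine Matrix.ext_of_mulVec_single fun k => ?_
  rw [← funext (he k), Matrix.smul_mulVec, Matrix.one_mulVec, ← U62.of6_smulN hs]
  refine (mv_word w (fun x hx => Nat.blt_eq.mp (List.all_eq_true.1 h.1 x hx)) _).trans ?_
  exact U62.vecEq_iff.1 (List.all_eq_true.1 h.2 k (List.mem_range.2 k.2))

/-- Whether a word gives one in the double cover. -/
noncomputable def oneK (w : List ℕ) : Bool := wordFixPts Fi23A.P 31671 Fi23.pts w

/-- The word in the letters of Fi23. -/
def kw (w : List ℕ) : List ℕ := w.flatMap fun x => swj (x + 1)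

theorem kg_word (w : List ℕ) : wprod (fun x => kg (x + 1)) w = wprod Fi23.gK (kw w) := by
  induction w with
  | nil => rfl
  | cons x w ih =>
    rw [wprod_cons, ih]
    show kg (x + 1) * _ = wprod Fi23.gK (swj (x + 1) ++ kw w)
    rw [wprod_append]
    rfl

theorem kw_lt : ∀ w : List ℕ, (w.all fun x => Nat.blt x 8) = true →
    ((kw w).all fun x => Nat.blt x 9) = true := by
  intro w hw
  have h : ∀ x < 8, ((swj (x + 1)).all fun y => Nat.blt y 9) = true := by decide +kernel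
  rw [List.all_eq_true] at hw ⊢
  intro y hy
  obtain ⟨x, hx, hy⟩ := List.mem_flatMap.1 hy
  exact List.all_eq_true.1 (h x (Nat.blt_eq.mp (hw x hx))) y hy

theorem wprod_gl : ∀ w : List ℕ, wprod gl w = (pq (wprod (fun x => gen (x + 1)) w),
    (wprod (fun x => gen (x + 1)) w, wprod Fi23.gK (kw w)))
  | [] => by
    rw [wprod_nil, wprod_nil, map_one]
    rfl
  | x :: w => by
    rw [wprod_cons, wprod_gl w, wprod_cons, map_mul, ← kg_word, ← kg_word, wprod_cons]
    rfl

theorem word_mem {w : List ℕ} (hw : (w.all fun x => Nat.blt x 8) = true) : wprod gl w ∈ Γ := by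
  refine list_prod_mem fun g hg' => ?_
  obtain ⟨x, hx, rfl⟩ := List.mem_map.1 hg'
  exact Subgroup.subset_closure ⟨x, Nat.blt_eq.mp (List.all_eq_true.1 hw x hx), rfl⟩

theorem sq_ok : allBelow (fun x => oneK (kw [x] ++ kw [x]) && oneK (kw [x] ++ [0] ++ kw [x] ++ [0]) &&
    scalarOK [x, x] 1) 8 = true := by
  decide +kernel

theorem scalar_one {w : List ℕ} (h : scalarOK w 1 = true) : wprod (fun x => gen (x + 1)) w = 1 := by
  refine Subtype.ext (Subtype.ext ((mat_of_scalarOK (by norm_num) h).trans ?_))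
  rw [show K4.ofDigit 1 = 1 from rfl, one_smul]
  rfl

theorem gl_eq_one {w : List ℕ} (hs : scalarOK w 1 = true) (hk : oneK (kw w) = true) : wprod gl w = 1 := by
  rw [wprod_gl, scalar_one hs, map_one]
  refine Prod.ext rfl (Prod.ext rfl (Subtype.ext ?_))
  rw [scalarOK, Bool.and_eq_true] at hs
  show ((wprod Fi23.gK (kw w) : Fi23.K) : Setup.G Fi23A.setup) = _
  rw [Fi23.wprod_gK (kw_lt w hs.1), Fi23.word_one hk]
  rfl

theorem gl_sq {x : ℕ} (hx : x < 8) : gl x * gl x = 1 := by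
  have h := allBelow_spec sq_ok hx
  simp only [Bool.and_eq_true] at h
  have := gl_eq_one h.2 (by rw [kw, List.flatMap_cons, List.flatMap_cons, List.flatMap_nil, List.append_nil]
                            simpa [kw] using h.1.1)
  simpa [wprod] using this

theorem zero_comm {x : ℕ} (hx : x < 8) : kg (x + 1) * Fi23.gK 0 = Fi23.gK 0 * kg (x + 1) := by
  have h := allBelow_spec sq_ok hx
  simp only [Bool.and_eq_true] at h
  have hl : ((kw [x]).all fun y => Nat.blt y 9) = true :=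
    kw_lt [x] (by simp [Nat.blt_eq, hx])
  have e : kg (x + 1) = wprod Fi23.gK (kw [x]) := by simp [kg, kw]
  have h1 := Fi23.word_one h.1.2
  have hl' : ((kw [x] ++ [0] ++ kw [x] ++ [0]).all fun y => Nat.blt y 9) = true := by
    simp [List.all_append, hl]
  rw [← Fi23.wprod_gK hl'] at h1
  have h2 : kg (x + 1) * Fi23.gK 0 * kg (x + 1) * Fi23.gK 0 = 1 := by
    rw [e]
    refine Subtype.ext (Eq.trans ?_ h1)
    simp [wprod, mul_assoc]
  have hk : kg (x + 1) * kg (x + 1) = 1 := by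
    rw [e]
    refine Subtype.ext ?_
    rw [← wprod_append, Fi23.wprod_gK (by rw [List.all_append, hl]; rfl), Fi23.word_one h.1.1]
    rfl
  have h3 := eq_inv_of_mul_eq_one_left h2
  rw [inv_eq_of_mul_eq_one_right (Fi23.gK_invol 0)] at h3
  calc kg (x + 1) * Fi23.gK 0 = kg (x + 1) * (kg (x + 1) * Fi23.gK 0 * kg (x + 1)) := by rw [h3]
    _ = Fi23.gK 0 * kg (x + 1) := by rw [← mul_assoc, ← mul_assoc, hk, one_mul]

/-- The element of order three. -/
noncomputable def sS : SU6 := wprod (fun x => gen (x + 1)) (rep 5 [1, 2, 3, 7, 6, 5])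

theorem hword_ok : scalarOK (rep 5 [1, 2, 3, 7, 6, 5]) 3 = true := by decide +kernel

theorem sS_mat : (sS.1 : Matrix (Fin 6) (Fin 6) K4) = K4.ofDigit 3 • 1 :=
  mat_of_scalarOK (by norm_num) hword_ok

theorem sS_central : sS ∈ Subgroup.center SU6 := U62.mem_center_of_scalar sS_mat

theorem pq_sS : pq sS = 1 := (QuotientGroup.eq_one_iff _).2 sS_central

theorem sS_pow_mat : ∀ n : ℕ, ((sS ^ n).1 : Matrix (Fin 6) (Fin 6) K4) = K4.ofDigit 3 ^ n • 1
  | 0 => by simp
  | n + 1 => by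
    rw [pow_succ]
    show ((sS ^ n).1.1 * sS.1.1 : Matrix (Fin 6) (Fin 6) K4) = _
    rw [sS_pow_mat n, sS_mat, Matrix.smul_mul, one_mul, smul_smul, pow_succ]

theorem sS_cube : sS ^ 3 = 1 :=
  Subtype.ext (Subtype.ext ((sS_pow_mat 3).trans (by
    rw [show K4.ofDigit 3 ^ 3 = 1 by decide, one_smul]; rfl)))

theorem sS_pow_ne : ∀ n, n < 3 → n ≠ 0 → sS ^ n ≠ 1 := by
  intro n hn h0 h
  have h1 := congrArg (fun X : SU6 => (X.1 : Matrix (Fin 6) (Fin 6) K4) 0 0) h
  simp only [sS_pow_mat, Matrix.smul_apply, Matrix.one_apply_eq, smul_eq_mul, mul_one] at h1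
  have h2 : ∀ n < 3, n ≠ 0 → K4.ofDigit 3 ^ n ≠ 1 := by decide
  exact h2 n hn h0 (h1.trans (Matrix.one_apply_eq _))

theorem center_SU6 {A : SU6} (h : A ∈ Subgroup.center SU6) : ∃ n < 3, A = sS ^ n := by
  obtain ⟨s, hs⟩ := U62.scalar_of_mem_center h
  have hs0 : s ≠ 0 := by
    rintro rfl
    have hd := A.1.2
    rw [hs, zero_smul, Matrix.det_zero] at hd
    exact zero_ne_one hd
  have h2 : ∀ s : K4, s ≠ 0 → ∃ n < 3, s = K4.ofDigit 3 ^ n := by decide
  obtain ⟨n, hn, rfl⟩ := h2 s hs0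
  exact ⟨n, hn, Subtype.ext (Subtype.ext (hs.trans (sS_pow_mat n).symm))⟩

/-- The kernel element of order three. -/
noncomputable def cS : Amb := (1, (sS, 1))

/-- The central element of Fi23 in the kernel. -/
noncomputable def cZ : Amb := (1, (1, Fi23.zK))

/-- The lifted central transposition in the kernel. -/
noncomputable def cA : Amb := (1, (1, Fi23.gK 0))

/-- The word of the central transposition. -/
def wA : List ℕ :=
  rep 7 [0, 3, 0, 5, 6, 0, 7, 3, 1, 7, 5, 2, 5, 1] ++ rep 10 [1, 2, 3, 7, 6, 5]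

/-- The word of the central element. -/
def wZ : List ℕ :=
  rep 9 [0, 1, 2, 3, 4, 5, 6] ++ rep 9 [4, 3, 2, 7, 6, 1, 0] ++ wA

theorem words_ok : (scalarOK wA 1 && scalarOK wZ 1 &&
    oneK (kw (rep 5 [1, 2, 3, 7, 6, 5])) &&
    oneK (kw wA ++ [0]) && oneK (kw wZ ++ Fi23.zW.reverse)) = true := by
  decide +kernel

theorem cS_eq : wprod gl (rep 5 [1, 2, 3, 7, 6, 5]) = cS := by
  have h := words_ok
  simp only [Bool.and_eq_true] at h
  rw [wprod_gl]
  refine Prod.ext pq_sS (Prod.ext rfl (Subtype.ext ?_))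
  show ((wprod Fi23.gK _ : Fi23.K) : Setup.G Fi23A.setup) = _
  rw [Fi23.wprod_gK (kw_lt _ (by decide)), Fi23.word_one h.1.1.2]
  rfl

theorem cA_eq : wprod gl wA = cA := by
  have h := words_ok
  simp only [Bool.and_eq_true] at h
  rw [wprod_gl, scalar_one h.1.1.1.1, map_one]
  refine Prod.ext rfl (Prod.ext rfl (Subtype.ext ?_))
  show ((wprod Fi23.gK _ : Fi23.K) : Setup.G Fi23A.setup) = _
  have h' := Fi23.word_one h.1.2
  rw [wprod_append, mul_eq_one_iff_eq_inv, wprod_cons, wprod_nil, mul_one] at h'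
  rw [Fi23.wprod_gK (kw_lt _ (by decide)), h', inv_eq_of_mul_eq_one_right (Setup.gen_invol Fi23A.setup 0),
    ← Fi23.gK_coe (show 0 < 9 by norm_num)]
  rfl

theorem cZ_eq : wprod gl wZ = cZ := by
  have h := words_ok
  simp only [Bool.and_eq_true] at h
  rw [wprod_gl, scalar_one h.1.1.1.2, map_one]
  refine Prod.ext rfl (Prod.ext rfl (Subtype.ext ?_))
  show ((wprod Fi23.gK _ : Fi23.K) : Setup.G Fi23A.setup) = _
  have h' := Fi23.word_one h.2
  rw [wprod_append, wprod_reverse (Setup.gen_invol Fi23A.setup), mul_inv_eq_one] at h'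
  rw [Fi23.wprod_gK (kw_lt _ (by decide)), h']
  rfl

theorem cS_mem : cS ∈ Γ := cS_eq ▸ word_mem (by decide)

theorem cA_mem : cA ∈ Γ := cA_eq ▸ word_mem (by decide)

theorem cZ_mem : cZ ∈ Γ := cZ_eq ▸ word_mem (by decide)

theorem c_comm {a : Amb} (ha : a ∈ Γ) : a * cS = cS * a ∧ a * cZ = cZ * a ∧ a * cA = cA * a := by
  have h3 : a.2.2 * Fi23.gK 0 = Fi23.gK 0 * a.2.2 := by
    induction ha using Subgroup.closure_induction with
    | mem g hg' => obtain ⟨x, hx, rfl⟩ := hg'; exact zero_comm hx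
    | one => show (1 : Fi23.K) * _ = _ * 1; rw [one_mul, mul_one]
    | mul p q _ _ hp hq => exact ((show Commute p.2.2 (Fi23.gK 0) from hp).mul_left hq).eq
    | inv p _ hp => exact ((show Commute p.2.2 (Fi23.gK 0) from hp).inv_left).eq
  have h1 : a * cS = cS * a := Prod.ext (by show a.1 * 1 = 1 * a.1; rw [mul_one, one_mul])
    (Prod.ext (Subgroup.mem_center_iff.1 sS_central a.2.1) (by show a.2.2 * 1 = 1 * a.2.2; rw [mul_one, one_mul]))
  have h2 : a * cZ = cZ * a := Prod.ext (by show a.1 * 1 = 1 * a.1; rw [mul_one, one_mul])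
    (Prod.ext (by show a.2.1 * 1 = 1 * a.2.1; rw [mul_one, one_mul])
      (Subtype.ext (Fi23.z_comm_K _ a.2.2.2).symm))
  exact ⟨h1, h2, Prod.ext (by show a.1 * 1 = 1 * a.1; rw [mul_one, one_mul])
    (Prod.ext (by show a.2.1 * 1 = 1 * a.2.1; rw [mul_one, one_mul]) h3)⟩

/-- The projection. -/
noncomputable def σ : Γ →* PU := (MonoidHom.fst _ _).comp Γ.subtype

/-- A generator in the extension. -/
noncomputable def gΓ {x : ℕ} (hx : x < 8) : Γ := ⟨gl x, Subgroup.subset_closure ⟨x, hx, rfl⟩⟩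

theorem closure_gΓ : Subgroup.closure {g : Γ | ∃ (x : ℕ) (hx : x < 8), g = gΓ hx} = ⊤ := by
  refine Subgroup.map_injective Γ.subtype_injective ?_
  rw [MonoidHom.map_closure, ← MonoidHom.range_eq_map, Subgroup.range_subtype]
  refine congrArg Subgroup.closure (Set.ext fun a => ⟨?_, ?_⟩)
  · rintro ⟨g, ⟨x, hx, rfl⟩, rfl⟩
    exact ⟨x, hx, rfl⟩
  · rintro ⟨x, hx, rfl⟩
    exact ⟨gΓ hx, ⟨x, hx, rfl⟩, rfl⟩

theorem θ_hgH {j : ℕ} (hj : j < 9) : θ (hgH j) = pq (gen j) :=
  U62.θ_eq (g := hgH j) (A := gen j) (by rw [U62.coe_hgH hj]; exact U62.rel_gen hj)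

theorem σ_surj : Function.Surjective σ := by
  intro y
  obtain ⟨g, rfl⟩ := U62.surjective y
  suffices h : θ g ∈ σ.range by exact h
  refine (U62.induct (motive := fun a => a ∈ Fi22.H ∧ ∀ ha : a ∈ Fi22.H, θ ⟨a, ha⟩ ∈ σ.range)
    (fun j hj => ⟨U62.hg_mem j hj, fun ha' => ?_⟩)
    ⟨one_mem _, fun _ => by rw [show (⟨1, _⟩ : Fi22.H) = 1 from rfl, map_one]; exact one_mem _⟩
    (fun a b ha hb => ⟨mul_mem ha.1 hb.1, fun h' => ?_⟩) g.2).2 g.2
  · rw [show (⟨hg j, ha'⟩ : Fi22.H) = hgH j from Subtype.ext (U62.coe_hgH hj).symm]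
    rcases Nat.eq_zero_or_pos j with rfl | hj1
    · rw [U62.θ_hgH_zero]; exact one_mem _
    obtain ⟨x, rfl⟩ : ∃ x, j = x + 1 := ⟨j - 1, by omega⟩
    exact ⟨gΓ (show x < 8 by omega), (θ_hgH hj).symm⟩
  · rw [show (⟨a * b, h'⟩ : Fi22.H) = ⟨a, ha.1⟩ * ⟨b, hb.1⟩ from rfl, map_mul]
    exact mul_mem (ha.2 ha.1) (hb.2 hb.1)

theorem ker_cases {a : Amb} (ha : a ∈ Γ) (h1 : a.1 = 1) :
    ∃ n < 3, ∃ i < 2, ∃ j < 2, a = cS ^ n * (cZ ^ i * cA ^ j) := by
  obtain ⟨ψ, -, hψ⟩ := Fi23.exists_hom_Fi22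
  have key : ∀ b ∈ Γ, pq b.2.1 = b.1 ∧ ∃ g : Fi22.H, θ g = b.1 ∧ ψ (g : Setup.G FS) = kq b.2.2 := by
    intro b hb
    induction hb using Subgroup.closure_induction with
    | mem g hg' =>
      obtain ⟨x, hx, rfl⟩ := hg'
      have hx' : x + 1 < 9 := Nat.succ_lt_succ hx
      refine ⟨rfl, hgH (x + 1), θ_hgH hx', ?_⟩
      have hl : ∀ j < 9, ((swj j).all fun y => Nat.blt y 9) = true := by decide +kernel
      rw [U62.coe_hgH hx', hg, map_wprod]
      show _ = kq (kg (x + 1))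
      rw [kg, map_wprod]
      exact wprod_congr fun y hy => hψ y (Nat.blt_eq.mp (List.all_eq_true.1 (hl _ hx') y hy))
    | one => exact ⟨map_one _, 1, map_one _, by rw [Subgroup.coe_one, map_one]; exact (map_one _).symm⟩
    | mul p q _ _ hp hq =>
      obtain ⟨hp1, g, hg1, hg2⟩ := hp
      obtain ⟨hq1, g', hq2, hq3⟩ := hq
      refine ⟨?_, g * g', ?_, ?_⟩
      · show pq (p.2.1 * q.2.1) = p.1 * q.1
        rw [map_mul, hp1, hq1]
      · show θ (g * g') = p.1 * q.1
        rw [map_mul, hg1, hq2]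
      · show ψ ((g : Setup.G FS) * g') = kq (p.2.2 * q.2.2)
        rw [map_mul, map_mul, hg2, hq3]
    | inv p _ hp =>
      obtain ⟨hp1, g, hg1, hg2⟩ := hp
      refine ⟨?_, g⁻¹, ?_, ?_⟩
      · show pq p.2.1⁻¹ = p.1⁻¹
        rw [map_inv, hp1]
      · show θ g⁻¹ = p.1⁻¹
        rw [map_inv, hg1]
      · show ψ (g : Setup.G FS)⁻¹ = kq p.2.2⁻¹
        rw [map_inv, map_inv, hg2]
  obtain ⟨hS, g, hg1, hg2⟩ := key a ha
  rw [h1] at hS hg1
  obtain ⟨n, hn, hn'⟩ := center_SU6 ((QuotientGroup.eq_one_iff _).1 hS)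
  have hj : ∃ j < 2, ψ (g : Setup.G FS) = kq (Fi23.gK 0 ^ j) := by
    rcases U62.mem_ker hg1 with rfl | rfl
    · exact ⟨0, by norm_num, by rw [Subgroup.coe_one, map_one, pow_zero, map_one]⟩
    · exact ⟨1, by norm_num, by
        rw [U62.coe_hgH (show 0 < 9 by norm_num), U62.hg_zero, pow_one]; exact hψ 0 (by norm_num)⟩
  obtain ⟨j, hj2, hjψ⟩ := hj
  rw [hg2] at hjψ
  have hz : (Fi23.gK 0 ^ j)⁻¹ * a.2.2 ∈ Fi23.Z := QuotientGroup.eq.1 hjψ.symm
  obtain ⟨m, hm⟩ := Subgroup.mem_zpowers_iff.1 hz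
  have hi : ∃ i < 2, Fi23.zK ^ m = Fi23.zK ^ i := by
    have h2 : Fi23.zK ^ (2 : ℤ) = 1 := by rw [zpow_two]; exact Subtype.ext Fi23.z_sq
    rcases Int.even_or_odd m with ⟨t, rfl⟩ | ⟨t, rfl⟩
    · exact ⟨0, by norm_num, by rw [← two_mul, zpow_mul, h2, one_zpow, pow_zero]⟩
    · exact ⟨1, by norm_num, by rw [zpow_add_one, zpow_mul, h2, one_zpow, one_mul, pow_one]⟩
  obtain ⟨i, hi2, hi'⟩ := hi
  rw [hi'] at hm
  refine ⟨n, hn, i, hi2, j, hj2, ?_⟩
  have hc0 : Commute Fi23.zK (Fi23.gK 0) :=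
    (Subgroup.mem_center_iff.1 (Fi23.Z_le_center (Subgroup.mem_zpowers Fi23.zK)) (Fi23.gK 0)).symm
  have hc : Commute (Fi23.zK ^ i) (Fi23.gK 0 ^ j) := hc0.pow_pow i j
  refine Prod.ext ?_ (Prod.ext ?_ ?_)
  · simp [cS, cZ, cA, h1]
  · simp [cS, cZ, cA, hn']
  · have : a.2.2 = Fi23.zK ^ i * Fi23.gK 0 ^ j := by rw [hc.eq, hm, mul_inv_cancel_left]
    simp [cS, cZ, cA, this]

theorem zK_ne : Fi23.zK ≠ 1 := fun h => Fi23.z_ne_one (congrArg Subtype.val h)

theorem gK0_not_Z : Fi23.gK 0 ∉ Fi23.Z := by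
  intro h
  obtain ⟨ψ, hψs, hψ⟩ := Fi23.exists_hom_Fi22
  obtain ⟨e⟩ := Fi23.nonempty_iso
  have := Fi22.order_facts.1
  have hb : Function.Bijective ψ :=
    (Nat.bijective_iff_surjective_and_card ψ).2 ⟨hψs, Nat.card_congr e.toEquiv⟩
  refine U62.gen_zero_ne_one (hb.1 ?_)
  rw [hψ 0 (by norm_num), map_one]
  exact (QuotientGroup.eq_one_iff _).2 h

theorem parts_one {n i j : ℕ} (hn : n < 3) (hi : i < 2) (hj : j < 2)
    (h : cS ^ n * (cZ ^ i * cA ^ j) = 1) : n = 0 ∧ i = 0 ∧ j = 0 := by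
  have h1 : sS ^ n = 1 := by simpa [cS, cZ, cA] using congrArg (fun p : Amb => p.2.1) h
  have h2 : Fi23.zK ^ i * Fi23.gK 0 ^ j = 1 := by simpa [cS, cZ, cA] using congrArg (fun p : Amb => p.2.2) h
  have hn0 : n = 0 := by
    by_contra h0
    exact sS_pow_ne n hn h0 h1
  have hj0 : j = 0 := by
    by_contra h0
    obtain rfl : j = 1 := by omega
    rw [pow_one] at h2
    refine gK0_not_Z ?_
    rw [← inv_eq_of_mul_eq_one_right h2]
    exact inv_mem (pow_mem (Subgroup.mem_zpowers _) i)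
  subst hj0
  have hi0 : i = 0 := by
    by_contra h0
    obtain rfl : i = 1 := by omega
    rw [pow_one, pow_zero, mul_one] at h2
    exact zK_ne h2
  exact ⟨hn0, hi0, rfl⟩

theorem even_mem_commutator {w : List ℕ} (hw : (w.all fun x => Nat.blt x 8) = true) {m : ℕ}
    (hlen : w.length = 2 * m) : (⟨wprod gl w, word_mem hw⟩ : Γ) ∈ commutator Γ := by
  let a : ℕ → Abelianization Γ := fun x => if h : x < 8 then Abelianization.of (gΓ h) else 1
  have hsq : ∀ x, a x * a x = 1 := fun x => by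
    by_cases hx : x < 8
    · simp only [a, dif_pos hx]
      rw [← map_mul, show gΓ hx * gΓ hx = 1 from Subtype.ext (gl_sq hx), map_one]
    · simp [a, hx]
  have hb : ([(0, 1), (1, 2), (2, 3), (3, 4), (1, 5), (5, 6), (3, 7)].all fun p : ℕ × ℕ =>
      scalarOK (rep 3 [p.1, p.2]) 1 && oneK (kw (rep 3 [p.1, p.2]))) = true := by decide +kernel
  have heq : ∀ i j : ℕ, i < 8 → j < 8 → scalarOK (rep 3 [i, j]) 1 = true →
      oneK (kw (rep 3 [i, j])) = true → a i = a j := by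
    intro i j hi hj h1 h2
    have h3 := gl_eq_one h1 h2
    rw [wprod_rep, wprod_cons, wprod_cons, wprod_nil, mul_one] at h3
    have h4 : (gΓ hi * gΓ hj) ^ 3 = 1 := Subtype.ext (by rw [Subgroup.coe_pow, Subgroup.coe_mul]; exact h3)
    have h5 := congrArg Abelianization.of h4
    have h6 : ∀ x : Abelianization Γ, x * x = 1 → x ^ 3 = x := fun x hx => by rw [pow_succ, sq, hx, one_mul]
    rw [map_pow, map_mul, map_one, mul_pow] at h5
    have e1 : a i = Abelianization.of (gΓ hi) := dif_pos hi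
    have e2 : a j = Abelianization.of (gΓ hj) := dif_pos hj
    rw [← e1, ← e2, h6 _ (hsq _), h6 _ (hsq _)] at h5
    exact (eq_inv_of_mul_eq_one_left h5).trans (inv_eq_of_mul_eq_one_right (hsq _))
  have hp := fun p hp' => Bool.and_eq_true_iff.1 (List.all_eq_true.1 hb p hp')
  have q01 := heq 0 1 (by norm_num) (by norm_num) (hp (0, 1) (by decide)).1 (hp (0, 1) (by decide)).2
  have q12 := heq 1 2 (by norm_num) (by norm_num) (hp (1, 2) (by decide)).1 (hp (1, 2) (by decide)).2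
  have q23 := heq 2 3 (by norm_num) (by norm_num) (hp (2, 3) (by decide)).1 (hp (2, 3) (by decide)).2
  have q34 := heq 3 4 (by norm_num) (by norm_num) (hp (3, 4) (by decide)).1 (hp (3, 4) (by decide)).2
  have q15 := heq 1 5 (by norm_num) (by norm_num) (hp (1, 5) (by decide)).1 (hp (1, 5) (by decide)).2
  have q56 := heq 5 6 (by norm_num) (by norm_num) (hp (5, 6) (by decide)).1 (hp (5, 6) (by decide)).2
  have q37 := heq 3 7 (by norm_num) (by norm_num) (hp (3, 7) (by decide)).1 (hp (3, 7) (by decide)).2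
  have hall : ∀ x, x < 8 → a x = a 0 := by
    intro x hx
    interval_cases x <;> simp [q01, q12, q23, ← q34, ← q15, ← q56, ← q37]
  have hprod : ∀ (l : List ℕ) (hl : (l.all fun x => Nat.blt x 8) = true),
      Abelianization.of (⟨wprod gl l, word_mem hl⟩ : Γ) = a 0 ^ l.length := by
    intro l
    induction l with
    | nil => intro hl; rw [List.length_nil, pow_zero]; exact map_one _
    | cons x l ih =>
      intro hl
      have hl' := hl
      rw [List.all_cons, Bool.and_eq_true, Nat.blt_eq] at hl'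
      rw [List.length_cons, pow_succ', ← ih hl'.2, ← hall x hl'.1]
      simp only [a, dif_pos hl'.1]
      rw [← map_mul]
      rfl
  rw [← Abelianization.ker_of, MonoidHom.mem_ker, hprod w hw, hlen, pow_mul, sq, hsq, one_pow]

theorem finite_Γ : Finite Γ := by
  have := Fi23.order_facts.1
  have : Finite PU := Nat.finite_of_card_ne_zero (by rw [U62.card_psu]; norm_num)
  infer_instance

open scoped commutatorElement in
theorem exists_cover : ∃ (E : Type) (_ : Group E) (_ : Finite E) (τ : E →* PU),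
    Function.Surjective τ ∧ τ.ker ≤ Subgroup.center E ∧ τ.ker ≤ commutator E ∧
      Nonempty (τ.ker ≃* Multiplicative (ZMod 3 × ZMod 2 × ZMod 2)) := by
  let hS : Γ := ⟨cS, cS_mem⟩
  let hZ : Γ := ⟨cZ, cZ_mem⟩
  let hA : Γ := ⟨cA, cA_mem⟩
  have hcases : ∀ x : Γ, x ∈ σ.ker → ∃ n < 3, ∃ i < 2, ∃ j < 2, x = hS ^ n * (hZ ^ i * hA ^ j) := by
    intro x hx
    obtain ⟨n, hn, i, hi, j, hj, e⟩ := ker_cases x.2 hx
    exact ⟨n, hn, i, hi, j, hj, Subtype.ext (by simpa using e)⟩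
  have hcen : ∀ x ∈ σ.ker, x ∈ Subgroup.center Γ := by
    intro x hx
    obtain ⟨n, -, i, -, j, -, rfl⟩ := hcases x hx
    have h : ∀ y : Γ, hS ∈ Subgroup.center Γ ∧ hZ ∈ Subgroup.center Γ ∧ hA ∈ Subgroup.center Γ :=
      fun _ => ⟨Subgroup.mem_center_iff.2 fun y => Subtype.ext (c_comm y.2).1,
        Subgroup.mem_center_iff.2 fun y => Subtype.ext (c_comm y.2).2.1,
        Subgroup.mem_center_iff.2 fun y => Subtype.ext (c_comm y.2).2.2⟩
    obtain ⟨a, b, c⟩ := h 1
    exact mul_mem (pow_mem a n) (mul_mem (pow_mem b i) (pow_mem c j))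
  have hSk : hS ∈ σ.ker := rfl
  have hZk : hZ ∈ σ.ker := rfl
  have hAk : hA ∈ σ.ker := rfl
  refine ⟨Γ, inferInstance, finite_Γ, σ, σ_surj, hcen, ?_, ?_⟩
  · intro x hx
    obtain ⟨n, -, i, -, j, -, rfl⟩ := hcases x hx
    have e : ∀ {w : List ℕ} {c : Amb} (hc : c ∈ Γ) (hw : (w.all fun x => Nat.blt x 8) = true),
        wprod gl w = c → (⟨wprod gl w, word_mem hw⟩ : Γ) = ⟨c, hc⟩ := fun _ _ h => Subtype.ext h
    have h1 : hS ∈ commutator Γ := by
      have h := even_mem_commutator (w := rep 5 [1, 2, 3, 7, 6, 5]) (m := 15) (by decide) (by decide)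
      rwa [e cS_mem (by decide) cS_eq] at h
    have h2 : hZ ∈ commutator Γ := by
      have h := even_mem_commutator (w := wZ) (m := 142) (by decide) (by decide)
      rwa [e cZ_mem (by decide) cZ_eq] at h
    have h3 : hA ∈ commutator Γ := by
      have h := even_mem_commutator (w := wA) (m := 79) (by decide) (by decide)
      rwa [e cA_mem (by decide) cA_eq] at h
    exact mul_mem (pow_mem h1 n) (mul_mem (pow_mem h2 i) (pow_mem h3 j))
  · let : CommGroup σ.ker :=
      { (inferInstance : Group σ.ker) with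
        mul_comm := fun p q => Subtype.ext (Subgroup.mem_center_iff.1 (hcen q q.2) p) }
    have p3 : (⟨hS, hSk⟩ : σ.ker) ^ 3 = 1 := Subtype.ext (Subtype.ext (by
      show cS ^ 3 = 1
      simp [cS, Prod.pow_def, sS_cube]))
    have pZ : (⟨hZ, hZk⟩ : σ.ker) ^ 2 = 1 := Subtype.ext (Subtype.ext (by
      show cZ ^ 2 = 1
      simp [cZ, Prod.pow_def, show Fi23.zK ^ 2 = 1 by rw [sq]; exact Subtype.ext Fi23.z_sq]))
    have pA : (⟨hA, hAk⟩ : σ.ker) ^ 2 = 1 := Subtype.ext (Subtype.ext (by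
      show cA ^ 2 = 1
      simp [cA, Prod.pow_def, sq, Fi23.gK_invol]))
    set π := tripleHom _ _ _ p3 pZ pA
    refine ⟨(MulEquiv.ofBijective π ⟨?_, ?_⟩).symm⟩
    · rw [injective_iff_map_eq_one]
      intro x hx
      obtain ⟨⟨u, v, w⟩, rfl⟩ : ∃ t, x = Multiplicative.ofAdd t := ⟨Multiplicative.toAdd x, rfl⟩
      have hap := tripleHom_apply _ _ _ p3 pZ pA (u.val : ℤ) (v.val : ℤ) (w.val : ℤ)
      simp only [Int.cast_natCast, ZMod.natCast_zmod_val, zpow_natCast] at hap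
      rw [hap] at hx
      have h1 : cS ^ u.val * (cZ ^ v.val * cA ^ w.val) = 1 :=
        congrArg (fun t : σ.ker => ((t : Γ) : Amb)) hx
      obtain ⟨e1, e2, e3⟩ := parts_one u.val_lt v.val_lt w.val_lt h1
      rw [ZMod.val_eq_zero] at e1 e2 e3
      rw [e1, e2, e3]
      rfl
    · refine tripleHom_surjective p3 pZ pA ?_
      rw [eq_top_iff]
      intro x _
      obtain ⟨n, -, i, -, j, -, e⟩ := hcases x x.2
      rw [show x = (⟨hS, hSk⟩ : σ.ker) ^ n * ((⟨hZ, hZk⟩ : σ.ker) ^ i * (⟨hA, hAk⟩ : σ.ker) ^ j) from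
        Subtype.ext (by simpa using e)]
      refine mul_mem (pow_mem (Subgroup.subset_closure ?_) n)
        (mul_mem (pow_mem (Subgroup.subset_closure ?_) i) (pow_mem (Subgroup.subset_closure ?_) j))
      · exact Set.mem_insert _ _
      · exact Set.mem_insert_of_mem _ (Set.mem_insert _ _)
      · exact Set.mem_insert_of_mem _ (Set.mem_insert_of_mem _ rfl)

end Cfsg.Agent.FischerPresented.Cover6
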