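import Cfsg.Agent.Lib.FischerPresented.O73Group
import Cfsg.Agent.Lib.FischerPresented.Mult7Data
import Cfsg.Agent.Lib.FischerPresented.Cover22

/-!
A stem extension of PΩ₇(3) by a cyclic group of order six, inside the product of PΩ₇(3), spin matrices of
degree 8 over the integers mod 3, and the matrices of degree 27 over the field of four elements.
-/

set_option autoImplicit false
set_option maxRecDepth 100000

namespace Cfsg.Agent.FischerPresented.Cover7

open Cfsg.Agent.CosetCert
open Cfsg.Agent.CosetData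
open Cfsg.Agent.FischerPresented.Cover22 (M27 uM uS uS_val uS_comm uS_cube uS_ne prodC prodC_spec idC scC matOf_idC)

/-- The presented group. -/
abbrev G7 : Type := Setup.G O73.setup

/-- The matrices of degree 8. -/
abbrev M8 : Type := Matrix (Fin 8) (Fin 8) (ZMod 3)

/-- The matrix of coded rows. -/
def matOf8 (R : List (List ℕ)) : M8 := Matrix.of fun i j => (((R.getD i []).getD j 0 : ℕ) : ZMod 3)

/-- Product of coded matrices. -/
def mul8 (A B : List (List ℕ)) : List (List ℕ) :=
  (List.range 8).map fun i => (List.range 8).map fun j =>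
    ((A.getD i []).getD 0 0 * (B.getD 0 []).getD j 0 + (A.getD i []).getD 1 0 * (B.getD 1 []).getD j 0 +
      (A.getD i []).getD 2 0 * (B.getD 2 []).getD j 0 + (A.getD i []).getD 3 0 * (B.getD 3 []).getD j 0 +
      (A.getD i []).getD 4 0 * (B.getD 4 []).getD j 0 + (A.getD i []).getD 5 0 * (B.getD 5 []).getD j 0 +
      (A.getD i []).getD 6 0 * (B.getD 6 []).getD j 0 + (A.getD i []).getD 7 0 * (B.getD 7 []).getD j 0) % 3

theorem matOf8_mul (A B : List (List ℕ)) : matOf8 (mul8 A B) = matOf8 A * matOf8 B := by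
  refine Matrix.ext fun i j => ?_
  rw [Matrix.mul_apply, Fin.sum_univ_eight]
  simp only [matOf8, Matrix.of_apply]
  rw [mul8, List.getD_eq_getElem?_getD (l := List.map _ _), List.getElem?_map, List.getElem?_range i.2,
    Option.map_some, Option.getD_some, List.getD_eq_getElem?_getD (l := List.map _ _), List.getElem?_map,
    List.getElem?_range j.2, Option.map_some, Option.getD_some]
  simp only [ZMod.natCast_mod, Nat.cast_add, Nat.cast_mul]
  rfl

/-- The coded identity. -/
def id8 : List (List ℕ) := (List.range 8).map fun i => (List.range 8).map fun j => bif Nat.beq i j then 1 else 0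

/-- The coded negated identity. -/
def neg8 : List (List ℕ) := (List.range 8).map fun i => (List.range 8).map fun j => bif Nat.beq i j then 2 else 0

theorem matOf8_id : matOf8 id8 = 1 := by decide +kernel

theorem matOf8_neg : matOf8 neg8 = -1 := by decide +kernel

theorem spin_ok : (Mult7.spinMats.all fun A => mul8 A A == neg8) = true := by decide +kernel

theorem spin_sq {x : ℕ} (hx : x < 8) :
    matOf8 (Mult7.spinMats.getD x []) * matOf8 (Mult7.spinMats.getD x []) = -1 := by
  have h8 : Mult7.spinMats.length = 8 := by decide +kernel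
  have h := List.all_eq_true.1 spin_ok _ (List.getElem_mem (h8.symm ▸ hx : x < Mult7.spinMats.length))
  rw [beq_iff_eq] at h
  rw [List.getD_eq_getElem _ _ (h8.symm ▸ hx), ← matOf8_mul, h, matOf8_neg]

/-- The spin unit of a generator. -/
noncomputable def u8 (x : ℕ) : M8ˣ :=
  if hx : x < 8 then ⟨matOf8 (Mult7.spinMats.getD x []), -matOf8 (Mult7.spinMats.getD x []),
    by rw [mul_neg, spin_sq hx, neg_neg], by rw [neg_mul, spin_sq hx, neg_neg]⟩ else 1

/-- The coded product of a word. -/
def prod8 : List ℕ → List (List ℕ)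
  | [] => id8
  | x :: w => mul8 (Mult7.spinMats.getD x []) (prod8 w)

theorem prod8_spec : ∀ w : List ℕ, (∀ x ∈ w, x < 8) → ((wprod u8 w : M8ˣ) : M8) = matOf8 (prod8 w)
  | [], _ => matOf8_id.symm
  | x :: w, h => by
    rw [wprod_cons, Units.val_mul, prod8_spec w fun y hy => h y (List.mem_cons_of_mem _ hy), prod8, matOf8_mul,
      u8, dif_pos (h x List.mem_cons_self)]

/-- The ambient group. -/
abbrev Amb : Type := G7 × (M8ˣ × M27ˣ)

/-- The lifted generators. -/
noncomputable def gl (x : ℕ) : Amb := (Setup.gen O73.setup x, (u8 x, uM (x + 1)))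

/-- The element of order six. -/
noncomputable def c : Amb := (1, (-1, uS))

theorem c_pow (n : ℕ) : c ^ n = (1, ((-1) ^ n, uS ^ n)) := by
  simp [c, Prod.pow_def]

theorem neg_ne : (-1 : M8ˣ) ≠ 1 := fun h => by
  have h1 := congrArg (fun u : M8ˣ => (u : M8) 0 0) h
  simp only [Units.val_neg, Units.val_one, Matrix.neg_apply, Matrix.one_apply_eq] at h1
  revert h1
  decide

theorem neg_sq' : (-1 : M8ˣ) ^ 2 = 1 := by rw [sq, neg_mul_neg, one_mul]

theorem orderOf_c : orderOf c = 6 := by
  have h6 : c ^ 6 = 1 := by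
    rw [c_pow, show 6 = 2 * 3 by norm_num, pow_mul (-1 : M8ˣ), neg_sq', one_pow, show 2 * 3 = 3 * 2 by norm_num,
      pow_mul uS, uS_cube, one_pow]
    rfl
  have h2 : ¬ c ^ 2 = 1 := fun h => uS_ne <| by
    rw [c_pow] at h
    have h' : uS ^ 2 = 1 := congrArg (fun p : Amb => p.2.2) h
    have := uS_cube
    rwa [pow_succ, h', one_mul] at this
  have h3 : ¬ c ^ 3 = 1 := fun h => neg_ne <| by
    rw [c_pow] at h
    have h' : (-1 : M8ˣ) ^ 3 = 1 := congrArg (fun p : Amb => p.2.1) h
    rwa [pow_succ, neg_sq', one_mul] at h'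
  have hd : orderOf c ∣ 6 := orderOf_dvd_of_pow_eq_one h6
  have hle : orderOf c ≤ 6 := Nat.le_of_dvd (by norm_num) hd
  have n2 : ¬ orderOf c ∣ 2 := fun h => h2 (orderOf_dvd_iff_pow_eq_one.1 h)
  have n3 : ¬ orderOf c ∣ 3 := fun h => h3 (orderOf_dvd_iff_pow_eq_one.1 h)
  interval_cases h : orderOf c
  all_goals first | rfl | omega

theorem c_central (a : Amb) : a * c = c * a :=
  Prod.ext (show a.1 * 1 = 1 * a.1 by rw [mul_one, one_mul])
    (Prod.ext (show a.2.1 * -1 = -1 * a.2.1 by rw [mul_neg, neg_mul, mul_one, one_mul]) (uS_comm _))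

/-- The central subgroup of order six. -/
noncomputable def C : Subgroup Amb := Subgroup.zpowers c

instance C_normal : C.Normal := ⟨fun n hn g => by
  rw [Subgroup.mem_center_iff.1 ((Subgroup.zpowers_le.2 (Subgroup.mem_center_iff.2 c_central) :
    C ≤ Subgroup.center Amb) hn) g, mul_inv_cancel_right]; exact hn⟩

theorem mem_C_of_pair {n m : ℕ} : ((1, ((-1) ^ n, uS ^ m)) : Amb) ∈ C := by
  have e : ((1, ((-1) ^ n, uS ^ m)) : Amb) = c ^ (3 * n + 4 * m) := by
    rw [c_pow]
    refine Prod.ext rfl (Prod.ext ?_ ?_)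
    · show (-1 : M8ˣ) ^ n = (-1) ^ (3 * n + 4 * m)
      rw [show 3 * n + 4 * m = n + 2 * (n + 2 * m) by omega, pow_add, pow_mul (-1 : M8ˣ), neg_sq', one_pow,
        mul_one]
    · show uS ^ m = uS ^ (3 * n + 4 * m)
      rw [show 3 * n + 4 * m = m + 3 * (n + m) by omega, pow_add, pow_mul uS, uS_cube, one_pow, mul_one]
  rw [e]
  exact pow_mem (Subgroup.mem_zpowers c) _

theorem wprod_gl : ∀ w : List ℕ,
    wprod gl w = (wprod (Setup.gen O73.setup) w, (wprod u8 w, wprod uM (w.map fun x => x + 1)))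
  | [] => rfl
  | x :: w => by
    rw [wprod_cons, wprod_gl w, List.map_cons, wprod_cons, wprod_cons, wprod_cons]
    rfl

/-- The values of a word in the two matrix groups. -/
def wordVal (w : List ℕ) (n m : ℕ) : Bool :=
  (w.all fun x => Nat.blt x 8) && (prod8 w == (bif Nat.beq n 0 then id8 else neg8)) &&
    (prodC (w.map fun x => x + 1) == (bif Nat.beq m 0 then idC else scC))

theorem wordVal_spec {w : List ℕ} {n m : ℕ} (hn : n < 2) (hm : m < 2) (h : wordVal w n m = true) :
    (wprod gl w).2 = (((-1) ^ n, uS ^ m) : M8ˣ × M27ˣ) := by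
  simp only [wordVal, Bool.and_eq_true, beq_iff_eq] at h
  rw [wprod_gl]
  refine Prod.ext (Units.ext ?_) (Units.ext ?_)
  · show ((wprod u8 w : M8ˣ) : M8) = _
    rw [prod8_spec w fun x hx => Nat.blt_eq.mp (List.all_eq_true.1 h.1.1 x hx), h.1.2]
    interval_cases n
    · rw [pow_zero, Units.val_one]; exact matOf8_id
    · rw [pow_one, Units.val_neg, Units.val_one]; exact matOf8_neg
  · show ((wprod uM _ : M27ˣ) : M27) = _
    rw [(prodC_spec _).2, h.2]
    interval_cases m
    · rw [pow_zero, Units.val_one]; exact matOf_idC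
    · rw [pow_one, uS_val]; rfl

theorem rels_ok : ((ChainO73.base ++ (List.range 8).map fun x => [x, x]).all fun w =>
    (List.range 2).any fun n => (List.range 2).any fun m => wordVal w n m) = true := by
  decide +kernel

theorem rel_mem {w : List ℕ} (hw : w ∈ ChainO73.base ++ (List.range 8).map fun x => [x, x])
    (h1 : wprod (Setup.gen O73.setup) w = 1) : wprod gl w ∈ C := by
  have h := List.all_eq_true.1 rels_ok w hw
  simp only [List.any_eq_true, List.mem_range] at h
  obtain ⟨n, hn, m, hm, h⟩ := h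
  rw [show wprod gl w = ((1, ((-1) ^ n, uS ^ m)) : Amb) from Prod.ext (by rw [wprod_gl]; exact h1)
    (wordVal_spec hn hm h)]
  exact mem_C_of_pair

/-- The extension. -/
noncomputable def Γ : Subgroup Amb := Subgroup.closure (gl '' {x | x < 8})

theorem wprod_mem {w : List ℕ} (hw : ∀ x ∈ w, x < 8) : wprod gl w ∈ Γ := by
  refine list_prod_mem fun g hg => ?_
  obtain ⟨x, hx, rfl⟩ := List.mem_map.1 hg
  exact Subgroup.subset_closure ⟨x, hw x hx, rfl⟩

theorem spider_eq : wprod gl (rep 10 [2, 1, 0, 2, 3, 4, 2, 6, 7]) = c := by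
  have h : wordVal (rep 10 [2, 1, 0, 2, 3, 4, 2, 6, 7]) 1 1 = true := by decide +kernel
  refine Prod.ext ?_ ((wordVal_spec one_lt_two one_lt_two h).trans (by rw [pow_one, pow_one]; rfl))
  rw [wprod_gl]
  exact Setup.base_one O73.setup _ (by decide +kernel)

theorem c_mem : c ∈ Γ := spider_eq ▸ wprod_mem (by decide)

/-- The projection. -/
noncomputable def σ : Γ →* G7 := (MonoidHom.fst _ _).comp Γ.subtype

/-- A generator in the extension. -/
noncomputable def gΓ {x : ℕ} (hx : x < 8) : Γ := ⟨gl x, Subgroup.subset_closure ⟨x, hx, rfl⟩⟩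

theorem closure_gΓ : Subgroup.closure {g : Γ | ∃ (x : ℕ) (hx : x < 8), g = gΓ hx} = ⊤ := by
  refine Subgroup.map_injective Γ.subtype_injective ?_
  rw [MonoidHom.map_closure, ← MonoidHom.range_eq_map, Subgroup.range_subtype]
  refine congrArg Subgroup.closure (Set.ext fun a => ⟨?_, ?_⟩)
  · rintro ⟨g, ⟨x, hx, rfl⟩, rfl⟩
    exact ⟨x, hx, rfl⟩
  · rintro ⟨x, hx, rfl⟩
    exact ⟨gΓ hx, ⟨x, hx, rfl⟩, rfl⟩

theorem σ_surj : Function.Surjective σ := by
  rw [← MonoidHom.range_eq_top, eq_top_iff, ← Setup.closure_gen O73.setup, Subgroup.closure_le]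
  rintro _ ⟨x, hx, rfl⟩
  exact ⟨gΓ (show x < 8 from hx), rfl⟩

/-- The element of order six in the extension. -/
noncomputable def cΓ : Γ := ⟨c, c_mem⟩

theorem mem_C_of_ker {x : Γ} (hx : σ x = 1) : (x : Amb) ∈ C := by
  obtain ⟨ψ, hψ⟩ := Setup.exists_hom O73.setup (fun x => if x < 8 then QuotientGroup.mk' C (gl x) else 1)
    (fun x => by
      by_cases hx : x < 8
      · rw [if_pos hx, ← map_mul]
        have h := rel_mem (w := [x, x]) (List.mem_append_right _ (List.mem_map.2 ⟨x, List.mem_range.2 hx, rfl⟩))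
          (by rw [wprod_cons, wprod_cons, wprod_nil, mul_one]; exact Setup.gen_invol O73.setup x)
        rw [wprod_cons, wprod_cons, wprod_nil, mul_one] at h
        exact (QuotientGroup.eq_one_iff _).2 h
      · rw [if_neg hx, one_mul])
    fun w hw => by
      have hl : ∀ x ∈ w, x < 8 := fun x hx => by
        have h : (ChainO73.base.all fun w => w.all fun x => Nat.blt x 8) = true := by decide +kernel
        exact Nat.blt_eq.mp (List.all_eq_true.1 (List.all_eq_true.1 h w hw) x hx)
      have e : wprod (fun x => if x < 8 then QuotientGroup.mk' C (gl x) else 1) w =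
          QuotientGroup.mk' C (wprod gl w) := by
        rw [map_wprod]
        exact congrArg List.prod (List.map_congr_left fun x hx => if_pos (hl x hx))
      rw [e]
      exact (QuotientGroup.eq_one_iff _).2 (rel_mem (List.mem_append_left _ hw)
        (Setup.base_one O73.setup w hw))
  have h : ψ.comp σ = (QuotientGroup.mk' C).comp Γ.subtype := by
    refine MonoidHom.eq_of_eqOn_dense closure_gΓ ?_
    rintro _ ⟨x, hx, rfl⟩
    exact (hψ x hx).trans (if_pos hx)
  have := DFunLike.congr_fun h x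
  rw [MonoidHom.comp_apply, hx, map_one] at this
  exact (QuotientGroup.eq_one_iff _).1 this.symm

theorem ker_eq : σ.ker = Subgroup.zpowers cΓ := by
  refine le_antisymm (fun x hx => ?_) (Subgroup.zpowers_le.2 rfl)
  obtain ⟨n, hn⟩ := Subgroup.mem_zpowers_iff.1 (mem_C_of_ker hx)
  exact Subgroup.mem_zpowers_iff.2 ⟨n, Subtype.ext (by rw [SubgroupClass.coe_zpow]; exact hn)⟩

theorem ker_le_center : σ.ker ≤ Subgroup.center Γ := by
  rw [ker_eq, Subgroup.zpowers_le, Subgroup.mem_center_iff]
  exact fun g => Subtype.ext (c_central g.1)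

theorem c_mem_commutator : cΓ ∈ commutator Γ := by
  set n : Γ := cΓ ^ 3 with hn
  have hpair : ∀ {w : List ℕ} (hw : ∀ x ∈ w, x < 8), wordVal w 1 0 = true →
      wprod (Setup.gen O73.setup) w = 1 → (⟨wprod gl w, wprod_mem hw⟩ : Γ) = n := by
    intro w hw h h1
    refine Subtype.ext ?_
    rw [hn, Subgroup.coe_pow]
    show wprod gl w = c ^ 3
    rw [c_pow, uS_cube, pow_succ (-1 : M8ˣ), neg_sq', one_mul]
    exact Prod.ext (by rw [wprod_gl]; exact h1)
      ((wordVal_spec one_lt_two two_pos h).trans (by rw [pow_one, pow_zero]))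
  have hsq : ∀ {x : ℕ} (hx : x < 8), gΓ hx * gΓ hx = n := fun {x} hx => by
    have h : ((List.range 8).all fun x => wordVal [x, x] 1 0) = true := by decide +kernel
    rw [← hpair (w := [x, x]) (by intro y hy; simp at hy; omega) (List.all_eq_true.1 h x (List.mem_range.2 hx))
      (by rw [wprod_cons, wprod_cons, wprod_nil, mul_one]; exact Setup.gen_invol O73.setup x)]
    exact Subtype.ext (by simp [gΓ, wprod])
  have h02 : gΓ (show 0 < 8 by norm_num) * gΓ (show 2 < 8 by norm_num) *
      (gΓ (show 0 < 8 by norm_num) * gΓ (show 2 < 8 by norm_num)) = n := by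
    rw [← hpair (w := [0, 2, 0, 2]) (by decide) (by decide +kernel) (Setup.base_one O73.setup _ (by decide +kernel))]
    exact Subtype.ext (by simp [gΓ, wprod, mul_assoc])
  have hnc : Abelianization.of n = 1 := by
    have h := congrArg Abelianization.of h02
    rw [map_mul, map_mul, mul_mul_mul_comm, ← map_mul, ← map_mul, hsq, hsq, ← map_mul] at h
    exact mul_eq_right.1 ((map_mul _ _ _).symm.trans h)
  have key : ∀ a : Abelianization Γ, (∃ y, Abelianization.of y = a) → a * a = 1 := by
    rintro _ ⟨y, rfl⟩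
    have hy : y ∈ Subgroup.closure {g : Γ | ∃ (x : ℕ) (hx : x < 8), g = gΓ hx} := closure_gΓ ▸ Subgroup.mem_top y
    induction hy using Subgroup.closure_induction with
    | mem a ha => obtain ⟨x, hx, rfl⟩ := ha; rw [← map_mul, hsq, hnc]
    | one => rw [map_one, one_mul]
    | mul a b _ _ iha ihb => rw [map_mul, mul_mul_mul_comm, iha, ihb, one_mul]
    | inv a _ iha => rw [map_inv, ← mul_inv, iha, inv_one]
  rw [← Abelianization.ker_of, MonoidHom.mem_ker]
  have h2 := key _ ⟨cΓ, rfl⟩
  have h3 : Abelianization.of cΓ ^ 3 = 1 := by rw [← map_pow]; exact hnc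
  rwa [pow_succ, sq, h2, one_mul] at h3

theorem exists_cover : ∃ (E : Type) (_ : Group E) (_ : Finite E) (τ : E →* G7),
    Function.Surjective τ ∧ τ.ker ≤ Subgroup.center E ∧ τ.ker ≤ commutator E ∧
      Nonempty (τ.ker ≃* Multiplicative (ZMod 6)) := by
  have := O73.order_facts.1
  refine ⟨Γ, inferInstance, inferInstance, σ, σ_surj, ker_le_center, ?_, ?_⟩
  · rw [ker_eq, Subgroup.zpowers_le]; exact c_mem_commutator
  · have ho : orderOf cΓ = 6 := by rw [← Subgroup.orderOf_coe cΓ]; exact orderOf_c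
    have hc : Nat.card σ.ker = Nat.card (Multiplicative (ZMod 6)) := by
      rw [ker_eq, Nat.card_zpowers, ho, show Nat.card (Multiplicative (ZMod 6)) = Nat.card (ZMod 6) from rfl,
        Nat.card_zmod]
    have : IsCyclic σ.ker := by rw [ker_eq]; infer_instance
    exact ⟨mulEquivOfCyclicCardEq hc⟩

end Cfsg.Agent.FischerPresented.Cover7
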