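import Cfsg.Agent.Lib.FischerPresented.U62Group

/-!
The 3510 transpositions of the presented Fi22.
-/

set_option autoImplicit false
set_option maxRecDepth 100000

namespace Cfsg.Agent.FischerPresented.Fi22Class

open Cfsg.Agent.CosetCert
open Cfsg.Agent.CosetData

local notation "FS" => Fi22B.setup

/-- The central transposition of the stabiliser. -/
noncomputable def z : Setup.G FS := Setup.gen FS 0

theorem z_sq : z * z = 1 := Setup.gen_invol FS 0

theorem z_ne_one : z ≠ 1 := U62.gen_zero_ne_one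

theorem z_comm : ∀ h ∈ Fi22.H, z * h = h * z := Fi22.central_H

theorem exists_frame : Fi22.H.index = 3510 ∧
    ∃ (e : Setup.G FS ⧸ Fi22.H ≃ Fin 3510) (q₁ q₂ : Setup.G FS ⧸ Fi22.H),
    (e ((1 : Setup.G FS) : Setup.G FS ⧸ Fi22.H) : ℕ) = 0 ∧
    (∀ (g : Setup.G FS) (q : Setup.G FS ⧸ Fi22.H), e (g • q) = Setup.hom FS g (e q)) ∧
    (e q₁ : ℕ) = 7 ∧ (e q₂ : ℕ) = 1 ∧
    (∀ M : Subgroup (Setup.G FS), Fi22.H ≤ M → M = Fi22.H ∨ M = ⊤) ∧
    ∀ q : Setup.G FS ⧸ Fi22.H, q = ((1 : Setup.G FS) : Setup.G FS ⧸ Fi22.H) ∨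
      q ∈ MulAction.orbit Fi22.H q₁ ∨ q ∈ MulAction.orbit Fi22.H q₂ := by
  obtain ⟨hi, e, hq0, he⟩ := Setup.exists_equiv_base FS (H := Fi22.H) (sw := Fi22B.sw) rfl (by decide +kernel)
    Fi22B.rots_ok Fi22B.cert_ok Fi22B.fix_ok Fi22B.tree_ok Fi22B.tree_len
  obtain ⟨q₁, hc₁, h1, hb₁⟩ := orbit_spec (H := Fi22.H) (Setup.gen_invol FS) rfl (Setup.hom_gen FS) he Fi22B.orb1_ok
  obtain ⟨q₂, hc₂, h2, -⟩ := orbit_spec (H := Fi22.H) (Setup.gen_invol FS) rfl (Setup.hom_gen FS) he Fi22B.orb2_ok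
  have hne : q₂ ∉ MulAction.orbit Fi22.H q₁ := fun hmem => by
    have := (hb₁ q₂).1 hmem
    rw [hc₂] at this
    exact absurd this (by decide +kernel)
  have hn1 : q₁ ≠ ((1 : Setup.G FS) : Setup.G FS ⧸ Fi22.H) := fun h => by
    rw [h, hq0] at hc₁; exact absurd hc₁ (by decide)
  have hn2 : q₂ ≠ ((1 : Setup.G FS) : Setup.G FS ⧸ Fi22.H) := fun h => by
    rw [h, hq0] at hc₂; exact absurd hc₂ (by decide)
  exact ⟨hi, e, q₁, q₂, hq0, he, hc₁, hc₂,
    fun M hM => maximal_of_three hi h1 h2 hne hn1 hn2 rfl (by decide) (by decide) (by decide) hM,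
    orbit_top_of_three hi h1 h2 hne hn1 hn2 rfl⟩

theorem centralizer_z : Subgroup.centralizer ({z} : Set (Setup.G FS)) = Fi22.H := by
  obtain ⟨-, -, -, -, -, -, -, -, hmax, -⟩ := exists_frame
  rcases hmax (Subgroup.centralizer {z}) (fun k hk => by
    rw [Subgroup.mem_centralizer_iff]
    rintro _ rfl
    exact z_comm k hk) with h | h
  · exact h
  · exfalso
    have := Fi22.isSimpleGroup
    have hz : z ∈ Subgroup.center (Setup.G FS) := Subgroup.mem_center_iff.2 fun x =>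
      (Subgroup.mem_centralizer_iff.1
        (show x ∈ Subgroup.centralizer ({z} : Set (Setup.G FS)) by rw [h]; exact Subgroup.mem_top x) z rfl).symm
    rcases ((inferInstance : (Subgroup.center (Setup.G FS)).Normal)).eq_bot_or_eq_top with hb | ht
    · exact z_ne_one (Subgroup.mem_bot.1 (hb ▸ hz))
    · letI : CommGroup (Setup.G FS) := Group.commGroupOfCenterEqTop ht
      have := Fi22.order_facts.1
      have hp := IsSimpleGroup.prime_card (α := Setup.G FS)
      rw [Fi22.order_facts.2.1] at hp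
      norm_num at hp

theorem orderOf_z : orderOf z = 2 :=
  orderOf_eq_prime (by rw [sq]; exact z_sq) z_ne_one

/-- The class of transpositions. -/
noncomputable def D : Set (Setup.G FS) := conjugatesOf z

theorem mem_D {d : Setup.G FS} : d ∈ D ↔ ∃ g, g * z * g⁻¹ = d := by
  show IsConj z d ↔ _
  rw [isConj_iff]

theorem card_D : Nat.card D = 3510 := by
  rw [← exists_frame.1, Subgroup.index_eq_card]
  symm
  let F : Setup.G FS ⧸ Fi22.H → D := fun q => ⟨q.out * z * q.out⁻¹, mem_D.2 ⟨_, rfl⟩⟩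
  refine Nat.card_eq_of_bijective F ⟨fun a b h => ?_, fun d => ?_⟩
  · rw [← QuotientGroup.out_eq' a, ← QuotientGroup.out_eq' b, QuotientGroup.eq]
    refine centralizer_z.le (Subgroup.mem_centralizer_iff.2 ?_)
    rintro _ rfl
    have h' : a.out * z * a.out⁻¹ = b.out * z * b.out⁻¹ := congrArg Subtype.val h
    calc z * (a.out⁻¹ * b.out) = a.out⁻¹ * (a.out * z * a.out⁻¹) * b.out := by group
      _ = a.out⁻¹ * b.out * z := by rw [h']; group
  · obtain ⟨g, hg⟩ := mem_D.1 d.2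
    refine ⟨(g : Setup.G FS ⧸ Fi22.H), Subtype.ext ?_⟩
    show ((g : Setup.G FS ⧸ Fi22.H)).out * z * ((g : Setup.G FS ⧸ Fi22.H)).out⁻¹ = (d : Setup.G FS)
    obtain ⟨k, hk⟩ := QuotientGroup.mk_out_eq_mul Fi22.H g
    rw [hk, ← hg]
    rw [mul_inv_rev, mul_assoc g, ← z_comm k k.2]
    group

theorem pair_rel (y : Setup.G FS) : (z * (y * z * y⁻¹)) ^ 2 = 1 ∨ (z * (y * z * y⁻¹)) ^ 3 = 1 := by
  obtain ⟨-, e, q₁, q₂, hq0, he, hc₁, hc₂, -, hcov⟩ := exists_frame
  have hrep : ∀ (w : List ℕ) (m : ℕ) (q : Setup.G FS ⧸ Fi22.H),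
      (w.all fun x => Nat.blt x 9) = true → (e q : ℕ) = tact Fi22B.P w 0 →
      wordFixPts Fi22B.P 3510 Fi22.pts (rep m ([0] ++ (w.reverse ++ [0] ++ w))) = true →
      ((y : Setup.G FS ⧸ Fi22.H) ∈ MulAction.orbit Fi22.H q) → (z * (y * z * y⁻¹)) ^ m = 1 := by
    intro w m q hlt hq hm hy
    set r := wprod (Setup.gen FS) w.reverse with hr
    have hrq : (r : Setup.G FS ⧸ Fi22.H) = q := by
      refine e.injective (Fin.ext ?_)
      have h1 := he r ((1 : Setup.G FS) : Setup.G FS ⧸ Fi22.H)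
      rw [show r • ((1 : Setup.G FS) : Setup.G FS ⧸ Fi22.H) = (r : Setup.G FS ⧸ Fi22.H) from
        congrArg QuotientGroup.mk (mul_one r)] at h1
      have h3 := hom_tact (P := Fi22B.P) Fi22B.tab_ok (Setup.hom FS) (Setup.hom_gen FS) w hlt
        (e ((1 : Setup.G FS) : Setup.G FS ⧸ Fi22.H))
      rw [hq0] at h3
      rw [h1, hq]
      exact h3
    obtain ⟨⟨h, hh⟩, hhq⟩ := hy
    rw [← hrq] at hhq
    have hk : (h * r)⁻¹ * y ∈ Fi22.H := QuotientGroup.eq.1 hhq
    set k := (h * r)⁻¹ * y with hkdef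
    have hy' : y = h * r * k := by rw [hkdef, mul_inv_cancel_left]
    have e1 : y * z * y⁻¹ = h * (r * z * r⁻¹) * h⁻¹ := by
      rw [hy']
      calc h * r * k * z * (h * r * k)⁻¹ = h * r * (k * z * k⁻¹) * r⁻¹ * h⁻¹ := by group
        _ = h * (r * z * r⁻¹) * h⁻¹ := by rw [← z_comm k hk, mul_inv_cancel_right]; group
    have e2 : z * (h * (r * z * r⁻¹) * h⁻¹) = h * (z * (r * z * r⁻¹)) * h⁻¹ := by
      rw [← mul_assoc, ← mul_assoc, z_comm h hh]
      simp only [mul_assoc]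
    have h2 := Fi22.word_one hm
    have hri : wprod (Setup.gen FS) w = r⁻¹ := by
      rw [hr, wprod_reverse (Setup.gen_invol FS), inv_inv]
    rw [wprod_rep, wprod_append, wprod_append, wprod_append, hri, ← hr] at h2
    simp only [wprod_cons, wprod_nil, mul_one] at h2
    change (z * (r * z * r⁻¹)) ^ m = 1 at h2
    rw [e1, e2, conj_pow, h2, mul_one, mul_inv_cancel]
  rcases hcov (y : Setup.G FS ⧸ Fi22.H) with h | h | h
  · left
    have hy : y ∈ Fi22.H := by
      have := QuotientGroup.eq.1 h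
      simpa using this
    rw [← z_comm y hy, mul_inv_cancel_right, z_sq, one_pow]
  · exact Or.inl (hrep [1, 0, 2, 1] 2 q₁ (by decide +kernel)
      (hc₁.trans (by decide +kernel)) (by decide +kernel) h)
  · exact Or.inr (hrep [1] 3 q₂ (by decide +kernel)
      (hc₂.trans (by decide +kernel)) (by decide +kernel) h)

theorem isClass : Cfsg.IsThreeTranspositionClass D := by
  refine ⟨⟨fun d hd => ?_, fun d hd e he => ?_⟩, ⟨z, mem_conjugatesOf_self, rfl⟩, ?_⟩
  · obtain ⟨g, rfl⟩ := mem_D.1 hd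
    exact (orderOf_injective (MulAut.conj g).toMonoidHom (MulAut.conj g).injective z).trans orderOf_z
  · obtain ⟨g, rfl⟩ := mem_D.1 hd
    obtain ⟨k, rfl⟩ := mem_D.1 he
    have e1 : g * z * g⁻¹ * (k * z * k⁻¹) = g * (z * ((g⁻¹ * k) * z * (g⁻¹ * k)⁻¹)) * g⁻¹ := by group
    rw [e1, conj_pow, conj_pow]
    rcases pair_rel (g⁻¹ * k) with h | h
    · left; rw [h]; group
    · right; rw [h]; group
  · have := Fi22.isSimpleGroup
    have h : (Subgroup.normalClosure ({z} : Set (Setup.G FS))) = ⊤ := by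
      refine (Subgroup.normalClosure_normal).eq_bot_or_eq_top.resolve_left fun h => z_ne_one ?_
      exact Subgroup.mem_bot.1 (h ▸ Subgroup.subset_normalClosure rfl)
    rw [Subgroup.normalClosure, Group.conjugatesOfSet] at h
    rw [← h]
    refine congrArg Subgroup.closure ?_
    simp [D]

theorem centralizer_cover {d : Setup.G FS} (hd : d ∈ D) :
    Cfsg.IsNonsplitDoubleCover (Subgroup.centralizer ({d} : Set (Setup.G FS)))
      (Cfsg.PSU 6 Cfsg.Agent.RigidGraph.He.K4 2) := by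
  obtain ⟨g, rfl⟩ := mem_D.1 hd
  obtain ⟨ι⟩ := CoverCongr.nonempty_centralizer_conj g z
  exact CoverCongr.isNonsplitDoubleCover_congr ((MulEquiv.subgroupCongr centralizer_z.symm).trans ι)
    U62.isNonsplitDoubleCover

end Cfsg.Agent.FischerPresented.Fi22Class
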