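import Cfsg.Agent.Lib.FischerPresented.Fi22TwoTwoOdd

/-!
The centraliser in Fi22 of a product of two commuting transpositions is (2 x 2^(1+8)).W(E6).
-/

set_option autoImplicit false
set_option maxRecDepth 100000

namespace Cfsg.Agent.FischerPresented.Fi22Pair

open scoped commutatorElement
open Cfsg.Agent.CosetCert
open Cfsg.Agent.CosetData
open Cfsg.Agent.AutPSU.FourTwo (cox)
open Cfsg.Agent.FischerPresented.Fi22TwoTwo
open Cfsg.Agent.FischerPresented.Fi22Two (eqW dW e1W eq_of_eqW nb_conj)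
open Cfsg.Agent.FischerPresented.Fi22Outer (sigma conj_inj mirW sigma_word okW sigma_gen sigma_sigma)

local notation "S" => Fi22B.setup
local notation "G₀" => Setup.G Fi22B.setup
local notation "AA" => MulAut (Setup.G Fi22B.setup)
local notation "wp" => wprod (Setup.gen Fi22B.setup)
local notation "Wg" => CoxeterMatrix.E₆.Group
local notation "zA" => MulAut.conj Fi22Class.z

theorem f_checked : (fP.all fun p => cond p.1 (eqW (p.2 ++ mirW [0] ++ p.2.reverse) (dW e1W))
    (eqW (p.2 ++ [0]) ([0] ++ p.2))) = true := by decide +kernel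

theorem z_sq : Fi22Class.z * Fi22Class.z = 1 := Fi22Class.z_sq

theorem z_e0 : Fi22Class.z * e0 = j0 := rfl

theorem e0_j0 : e0 * j0 = Fi22Class.z := by
  show e0 * (Fi22Class.z * e0) = Fi22Class.z
  rw [← mul_assoc, ← pair_facts.2.2.eq, mul_assoc, D_sq pair_facts.1, mul_one]

theorem fix_j0 {x : AA} (hx : x ∈ QA) : x j0 = j0 := mem_centralizer_iff_fix.1 (QA_le_centralizer hx)

theorem image_e0 {x : AA} (hx : x ∈ CA) : x e0 = x Fi22Class.z * j0 := by
  rw [← j0_mul, map_mul, mem_centralizer_iff_fix.1 hx]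

/-- Inner elements of the extraspecial group fix the pair, the others exchange it. -/
def Dich (x : AA) : Prop :=
  ∃ g : G₀, (x = MulAut.conj g ∧ x Fi22Class.z = Fi22Class.z) ∨
    (x = MulAut.conj g * sigma ∧ x Fi22Class.z = e0)

theorem dich_gen {p : P} (hp : p ∈ gP) : Dich (ev p) := by
  rcases List.mem_append.1 hp with h | h
  · obtain ⟨w, hw, rfl⟩ := List.mem_map.1 h
    refine ⟨wp w, Or.inl ⟨ev_word w, ?_⟩⟩
    have hc := List.all_eq_true.1 eW_fix_z w hw
    rw [Bool.and_eq_true] at hc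
    have e := eq_of_eqW hc.1
    rw [wprod_append, wprod_append, z_word] at e
    rw [ev_word, MulAut.conj_apply, e, mul_inv_cancel_right]
  · have hc := List.all_eq_true.1 f_checked p h
    refine ⟨wp p.2, ?_⟩
    cases hb : p.1
    · rw [hb, cond_false] at hc
      have e := eq_of_eqW hc
      rw [wprod_append, wprod_append, z_word] at e
      refine Or.inl ⟨by simp [ev, hb], ?_⟩
      rw [show ev p = MulAut.conj (wp p.2) by simp [ev, hb], MulAut.conj_apply, e, mul_inv_cancel_right]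
    · rw [hb, cond_true] at hc
      have he := eq_of_eqW hc
      rw [wprod_append, wprod_append, wprod_reverse (Setup.gen_invol S), ← sigma_word (w := [0]) rfl,
        z_word] at he
      refine Or.inr ⟨by simp [ev, hb], ?_⟩
      rw [show ev p = MulAut.conj (wp p.2) * sigma by simp [ev, hb]]
      exact he

theorem dich {x : AA} (hx : x ∈ QA) : Dich x := by
  have key : ∀ a ∈ Subgroup.closure (Set.range fun k : Fin gP.length => ev gP[k]), a ∈ QA ∧ Dich a := by
    intro a ha
    induction ha using Subgroup.closure_induction with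
    | mem a h => obtain ⟨k, rfl⟩ := h; exact ⟨gP_mem (List.getElem_mem _), dich_gen (List.getElem_mem _)⟩
    | one => exact ⟨one_mem _, 1, Or.inl ⟨(map_one _).symm, rfl⟩⟩
    | mul a b _ _ iha ihb =>
      obtain ⟨haQ, g, ha⟩ := iha
      obtain ⟨hbQ, h, hb⟩ := ihb
      refine ⟨mul_mem haQ hbQ, ?_⟩
      have hae := image_e0 (QA_le_centralizer haQ)
      rcases ha with ⟨ea, za⟩ | ⟨ea, za⟩ <;> rcases hb with ⟨eb, zb⟩ | ⟨eb, zb⟩
      · exact ⟨g * h, Or.inl ⟨by rw [map_mul, ea, eb], by rw [MulAut.mul_apply, zb, za]⟩⟩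
      · exact ⟨g * h, Or.inr ⟨by rw [map_mul, ea, eb, mul_assoc], by
          rw [MulAut.mul_apply, zb, hae, za, z_e0.symm, ← mul_assoc, z_sq, one_mul]⟩⟩
      · refine ⟨g * sigma h, Or.inr ⟨?_, by rw [MulAut.mul_apply, zb, za]⟩⟩
        rw [map_mul, ea, eb, mul_assoc, sigma_conj, mul_assoc]
      · refine ⟨g * sigma h, Or.inl ⟨?_, by rw [MulAut.mul_apply, zb, hae, za, e0_j0]⟩⟩
        rw [map_mul, ea, eb, mul_assoc, ← mul_assoc sigma, sigma_conj, mul_assoc, sigma_mul_sigma, mul_one]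
    | inv a _ iha =>
      obtain ⟨haQ, g, ha⟩ := iha
      refine ⟨inv_mem haQ, ?_⟩
      have hae := image_e0 (QA_le_centralizer haQ)
      rcases ha with ⟨ea, za⟩ | ⟨ea, za⟩
      · refine ⟨g⁻¹, Or.inl ⟨by rw [ea, map_inv], a.injective ?_⟩⟩
        rw [MulAut.apply_inv_self, za]
      · refine ⟨sigma g⁻¹, Or.inr ⟨?_, a.injective ?_⟩⟩
        · rw [ea, mul_inv_rev, ← map_inv, ← sigma_conj, inv_eq_of_mul_eq_one_right sigma_mul_sigma]
        · rw [MulAut.apply_inv_self, hae, za, e0_j0]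
  exact (key x (QA_le_closure hx)).2

theorem sigma_not_conj (g : G₀) : sigma ≠ MulAut.conj g := fun h =>
  Out22.not_inner (σ := sigma) (fun _ hx => sigma_gen hx) (h ▸ ⟨g, rfl⟩)

/-- The inner part of the extraspecial group. -/
noncomputable def E0 : Subgroup G₀ := QA.comap MulAut.conj

theorem E0_fix {g : G₀} (hg : g ∈ E0) : MulAut.conj g Fi22Class.z = Fi22Class.z := by
  obtain ⟨h, ⟨-, hz⟩ | ⟨he, -⟩⟩ := dich (show MulAut.conj g ∈ QA from hg)
  · exact hz
  · refine absurd ?_ (sigma_not_conj (h⁻¹ * g))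
    rw [map_mul, map_inv, he, inv_mul_cancel_left]

/-- The stabiliser of the pair in the extraspecial group. -/
noncomputable def EA : Subgroup AA := E0.map MulAut.conj

theorem mem_EA {x : AA} : x ∈ EA ↔ x ∈ QA ∧ x Fi22Class.z = Fi22Class.z := by
  constructor
  · rintro ⟨g, hg, rfl⟩; exact ⟨hg, E0_fix hg⟩
  · rintro ⟨hx, hz⟩
    obtain ⟨h, ⟨he, -⟩ | ⟨-, he⟩⟩ := dich hx
    · exact ⟨h, show MulAut.conj h ∈ QA from he ▸ hx, he.symm⟩
    · exact absurd (he.symm.trans hz) pair_facts.2.1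

theorem EA_le : EA ≤ QA := fun _ hx => (mem_EA.1 hx).1

theorem conj_commute_iff (a b : G₀) : Commute (MulAut.conj a) (MulAut.conj b) ↔ Commute a b := by
  constructor
  · intro h
    exact conj_inj (by rw [map_mul, map_mul]; exact h.eq)
  · exact fun h => h.map _

theorem E0_comm {g : G₀} (hg : g ∈ E0) : Commute g Fi22Class.z ∧ Commute g e0 := by
  have hz := E0_fix hg
  rw [MulAut.conj_apply, mul_inv_eq_iff_eq_mul] at hz
  have hj := fix_j0 (show MulAut.conj g ∈ QA from hg)
  rw [MulAut.conj_apply, mul_inv_eq_iff_eq_mul] at hj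
  refine ⟨hz, ?_⟩
  rw [← j0_mul]
  exact Commute.mul_right (show Commute g Fi22Class.z from hz) hj

theorem exists_f : ∃ f ∈ QA, f Fi22Class.z = e0 ∧ f * zA * f⁻¹ = MulAut.conj e0 ∧
    ∀ x ∈ QA, x ∈ EA ∨ x * f ∈ EA := by
  obtain ⟨f, hf, he⟩ := exists_swap_QA
  have hfz : f Fi22Class.z = e0 := by
    refine conj_inj ?_
    rw [← he]
    ext v
    simp [MulAut.mul_apply, MulAut.conj_apply]
  refine ⟨f, hf, hfz, he, fun x hx => ?_⟩
  obtain ⟨h, ⟨-, hz⟩ | ⟨-, hz⟩⟩ := dich hx
  · exact Or.inl (mem_EA.2 ⟨hx, hz⟩)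
  · refine Or.inr (mem_EA.2 ⟨mul_mem hx hf, ?_⟩)
    rw [MulAut.mul_apply, hfz, image_e0 (QA_le_centralizer hx), hz, e0_j0]

theorem card_E0 : Nat.card E0 = 2 ^ 10 := by
  obtain ⟨f, hf, hfz, -, hdec⟩ := exists_f
  have hi : (EA.subgroupOf QA).index = 2 := by
    refine Subgroup.index_eq_two_iff.2 ⟨⟨f, hf⟩, fun b => ?_⟩
    simp only [Subgroup.mem_subgroupOf, Subgroup.coe_mul]
    by_cases hb : (b : AA) ∈ EA
    · refine Or.inr ⟨hb, fun h => pair_facts.2.1 ?_⟩
      have h2 := (mem_EA.1 h).2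
      rw [MulAut.mul_apply, hfz, image_e0 (QA_le_centralizer b.2), (mem_EA.1 hb).2, j0_mul] at h2
      exact h2
    · exact Or.inl ⟨(hdec b b.2).resolve_left hb, hb⟩
  have h := Subgroup.card_mul_index (EA.subgroupOf QA)
  rw [hi, Nat.card_congr (Subgroup.subgroupOfEquivOfLe EA_le).toEquiv, card_QA, EA,
    Subgroup.card_map_of_injective (fun _ _ h => conj_inj h)] at h
  omega

/-- The centraliser of the product. -/
noncomputable def C0 : Subgroup G₀ := Subgroup.centralizer ({j0} : Set G₀)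

theorem mem_C0 {g : G₀} : g ∈ C0 ↔ MulAut.conj g ∈ CA := by
  rw [mem_centralizer_iff_fix, MulAut.conj_apply, mul_inv_eq_iff_eq_mul, C0,
    Subgroup.mem_centralizer_singleton_iff]

theorem decompose {x : AA} (hx : x ∈ CA) : ∃ g ∈ C0, (MulAut.conj g)⁻¹ * x ∈ QA := by
  have hb : Function.Surjective psi := by
    haveI : Finite Wg := Nat.finite_of_card_ne_zero (by rw [AutPSU.FourTwo.card_W]; norm_num)
    refine ((Nat.bijective_iff_injective_and_card psi).2 ⟨psi_injective, ?_⟩).2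
    have h2 := Subgroup.card_eq_card_quotient_mul_card_subgroup (QA.subgroupOf NA)
    rw [Nat.card_congr (Subgroup.subgroupOfEquivOfLe QA_le_NA).toEquiv, card_QA,
      Nat.card_congr (MulEquiv.subgroupCongr NA_eq).toEquiv, card_C] at h2
    rw [AutPSU.FourTwo.card_W]
    omega
  set R : Subgroup NA := (MulAut.conj : G₀ →* AA).range.subgroupOf NA with hR
  have hall : ∀ w, psi w ∈ R.map (QuotientGroup.mk' (QA.subgroupOf NA)) := by
    intro w
    induction w using cox.simple_induction_left with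
    | one => rw [map_one]; exact one_mem _
    | mul_simple_left w i ih =>
      rw [map_mul]
      refine mul_mem ?_ ih
      rw [psi, CoxeterSystem.lift_apply_simple]
      refine ⟨⟨rA i, rA_mem_CA i.2, normal_QA_gen i.2⟩, ⟨wp (rW.getD i []), ?_⟩, rfl⟩
      show MulAut.conj (wp (rW.getD i [])) = rA i
      have hlen : (i : ℕ) < rW.length := i.2
      rw [rA, show rP.getD i (false, []) = (false, rW.getD i []) by
        rw [List.getD_eq_getElem _ _ (show (i : ℕ) < rP.length from hlen), List.getD_eq_getElem _ _ hlen]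
        exact List.getElem_map _, ev_word]
  obtain ⟨w, hw⟩ := hb (QuotientGroup.mk ⟨x, NA_eq ▸ hx⟩)
  obtain ⟨r, ⟨g, hg⟩, hr⟩ := hw ▸ hall w
  have hq : r⁻¹ * ⟨x, NA_eq ▸ hx⟩ ∈ QA.subgroupOf NA := QuotientGroup.eq.1 hr
  refine ⟨g, mem_C0.2 ?_, ?_⟩
  · rw [hg]; exact NA_eq ▸ r.2
  · rw [hg]; exact hq

theorem exists_quot : ∃ q : C0 →* Wg, Function.Surjective q ∧ ∀ c : C0, q c = 1 ↔ (c : G₀) ∈ E0 := by
  obtain ⟨Ψ, -⟩ := exists_quotient_equiv
  obtain ⟨ι, hι⟩ : ∃ ι : C0 →* CA, ∀ c : C0, (ι c : AA) = MulAut.conj (c : G₀) :=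
    ⟨(MulAut.conj.comp C0.subtype).codRestrict CA fun c => mem_C0.1 c.2, fun _ => rfl⟩
  refine ⟨Ψ.symm.toMonoidHom.comp ((QuotientGroup.mk' (QA.subgroupOf CA)).comp ι),
    Ψ.symm.surjective.comp ?_, fun c => ?_⟩
  · intro y
    induction y using QuotientGroup.induction_on with | _ x => ?_
    obtain ⟨g, hg, hq⟩ := decompose x.2
    refine ⟨⟨g, hg⟩, (QuotientGroup.eq.2 ?_)⟩
    show ((ι ⟨g, hg⟩ : AA))⁻¹ * x ∈ QA
    rw [hι]; exact hq
  · show Ψ.symm (QuotientGroup.mk (ι c)) = 1 ↔ _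
    rw [map_eq_one_iff _ Ψ.symm.injective, QuotientGroup.eq_one_iff, Subgroup.mem_subgroupOf, hι]
    rfl

theorem E0_le : E0 ≤ C0 := fun _ hg => mem_C0.2 (QA_le_centralizer hg)

instance normal_E0 : (E0.subgroupOf C0).Normal := by
  obtain ⟨q, -, hq⟩ := exists_quot
  have : E0.subgroupOf C0 = q.ker := by
    ext c; rw [MonoidHom.mem_ker, hq]; rfl
  rw [this]; infer_instance

theorem nonempty_quot : Nonempty (C0 ⧸ E0.subgroupOf C0 ≃* Wg) := by
  obtain ⟨q, hs, hq⟩ := exists_quot
  have h : E0.subgroupOf C0 = q.ker := by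
    ext c; rw [MonoidHom.mem_ker, hq]; rfl
  exact ⟨(QuotientGroup.quotientMulEquivOfEq h).trans (QuotientGroup.quotientKerEquivOfSurjective q hs)⟩

theorem nilpotent_le {N : Subgroup C0} [N.Normal] [Group.IsNilpotent N] : N ≤ E0.subgroupOf C0 := by
  obtain ⟨q, hs, hq⟩ := exists_quot
  obtain ⟨F, hFF, hFt, hF⟩ := exists_F4
  haveI : (N.map q).Normal := Subgroup.Normal.map ‹_› q hs
  have h : N.map q = ⊥ := by
    by_contra hne
    exact (AutPSU.FourTwo.normal_dichotomy hF (N.map q) hne).2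
      (Group.nilpotent_of_surjective (q.subgroupMap N) (MonoidHom.subgroupMap_surjective q N))
  exact fun c hc => (hq c).1 (by rw [← Subgroup.mem_bot, ← h]; exact ⟨c, hc, rfl⟩)

theorem mem_QA_iff_zA {g : G₀} : g ∈ E0 ↔ MulAut.conj g ∈ EA :=
  ⟨fun h => ⟨g, h, rfl⟩, fun h => EA_le h⟩

theorem z_mem_E0 : Fi22Class.z ∈ E0 ∧ e0 ∈ E0 := z_mem_QA

theorem zA_commutator {f : AA} (he : f * zA * f⁻¹ = MulAut.conj e0) : ⁅zA, f⁆ = jA := by
  have hinv : (f * zA * f⁻¹)⁻¹ = f * zA * f⁻¹ := by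
    rw [he, ← map_inv, inv_eq_of_mul_eq_one_right (D_sq pair_facts.1)]
  calc ⁅zA, f⁆ = zA * (f * zA * f⁻¹)⁻¹ := by rw [commutatorElement_def]; group
    _ = jA := by rw [hinv, he, ← map_mul]; rfl

theorem jA_ne : jA ≠ 1 := fun h => by have := orderOf_jA; rw [h, orderOf_one] at this; omega

theorem jA_sq : jA * jA = 1 := by
  have := pow_orderOf_eq_one jA
  rwa [orderOf_jA, pow_two] at this

theorem zpowers_jA {x : AA} (h : x ∈ Subgroup.zpowers jA) : x = 1 ∨ x = jA := by
  obtain ⟨k, rfl⟩ := Subgroup.mem_zpowers_iff.1 h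
  rcases Int.even_or_odd' k with ⟨m, rfl | rfl⟩
  · exact Or.inl (by rw [zpow_mul, zpow_two, jA_sq, one_zpow])
  · exact Or.inr (by rw [zpow_add, zpow_mul, zpow_two, jA_sq, one_zpow, one_mul, zpow_one])

theorem zA_comm {a : AA} (ha : a ∈ EA) : Commute zA a := by
  obtain ⟨g, hg, rfl⟩ := ha
  exact (conj_commute_iff _ _).2 (E0_comm hg).1.symm

/-- Either an element of the stabiliser or its product with the involution commutes with the exchange. -/
theorem split_f {f : AA} (hf : f ∈ QA) (he : f * zA * f⁻¹ = MulAut.conj e0) {a : AA} (ha : a ∈ EA) :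
    Commute a f ∨ Commute (a * zA) f := by
  rcases zpowers_jA (pair_mod a (EA_le ha) f hf).1 with h | h
  · exact Or.inl (commutatorElement_eq_one_iff_commute.1 h)
  · refine Or.inr (commutatorElement_eq_one_iff_commute.1 ?_)
    have hj : Commute a jA := Subgroup.mem_centralizer_singleton_iff.1 (QA_le_centralizer (EA_le ha))
    have e : ⁅a * zA, f⁆ = a * ⁅zA, f⁆ * a⁻¹ * ⁅a, f⁆ := by simp only [commutatorElement_def]; group
    rw [e, zA_commutator he, hj.eq, mul_inv_cancel_right, h, jA_sq]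

/-- An element of the stabiliser central in it and commuting with the exchange is the product or trivial. -/
theorem central_f {f : AA} (hdec : ∀ x ∈ QA, x ∈ EA ∨ x * f ∈ EA) {a : AA} (ha : a ∈ EA)
    (hc : ∀ b ∈ EA, Commute a b) (hcf : Commute a f) : a = 1 ∨ a = jA := by
  refine zpowers_jA (centre_QA (EA_le ha) fun y hy => ?_)
  rcases hdec y hy with h | h
  · exact (hc y h).eq
  · have := (hc _ h).mul_right hcf.inv_right
    rwa [mul_inv_cancel_right] at this

theorem center_E0 {y : G₀} (hy : y ∈ E0) (hc : ∀ g ∈ E0, Commute y g) :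
    y ∈ Subgroup.closure ({Fi22Class.z, e0} : Set G₀) := by
  obtain ⟨f, hf, -, he, hdec⟩ := exists_f
  have hc' : ∀ b ∈ EA, Commute (MulAut.conj y) b := by
    rintro _ ⟨g, hg, rfl⟩
    exact (hc g hg).map _
  have hz : Fi22Class.z ∈ Subgroup.closure ({Fi22Class.z, e0} : Set G₀) := Subgroup.subset_closure (Or.inl rfl)
  have hj : j0 ∈ Subgroup.closure ({Fi22Class.z, e0} : Set G₀) :=
    mul_mem hz (Subgroup.subset_closure (Or.inr rfl))
  have key : ∀ a : G₀, MulAut.conj a ∈ EA → (∀ b ∈ EA, Commute (MulAut.conj a) b) →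
      Commute (MulAut.conj a) f → a ∈ Subgroup.closure ({Fi22Class.z, e0} : Set G₀) := by
    intro a h1 h2 h3
    rcases central_f hdec h1 h2 h3 with h | h
    · rw [conj_inj (h.trans (map_one _).symm)]; exact one_mem _
    · rw [conj_inj h]; exact hj
  rcases split_f hf he (mem_QA_iff_zA.1 hy) with h | h
  · exact key y (mem_QA_iff_zA.1 hy) hc' h
  · have := mul_mem (key (y * Fi22Class.z) (mem_QA_iff_zA.1 (mul_mem hy z_mem_E0.1)) ?_ ?_) hz
    · rwa [mul_assoc, z_sq, mul_one] at this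
    · intro b hb
      rw [map_mul]
      exact (hc' b hb).mul_left (zA_comm hb)
    · rw [map_mul]; exact h

theorem pair_mod_E0 {x y : G₀} (hx : x ∈ E0) (hy : y ∈ E0) :
    x * y * x⁻¹ * y⁻¹ ∈ Subgroup.closure ({Fi22Class.z, e0} : Set G₀) ∧
      x ^ 2 ∈ Subgroup.closure ({Fi22Class.z, e0} : Set G₀) := by
  have hj : j0 ∈ Subgroup.closure ({Fi22Class.z, e0} : Set G₀) :=
    mul_mem (Subgroup.subset_closure (Or.inl rfl)) (Subgroup.subset_closure (Or.inr rfl))
  have hle : ∀ a : G₀, MulAut.conj a ∈ Subgroup.zpowers jA →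
      a ∈ Subgroup.closure ({Fi22Class.z, e0} : Set G₀) := by
    intro a ha
    rcases zpowers_jA ha with h | h
    · rw [conj_inj (h.trans (map_one _).symm)]; exact one_mem _
    · rw [conj_inj h]; exact hj
  obtain ⟨h1, h2⟩ := pair_mod _ (show MulAut.conj x ∈ QA from hx) _ (show MulAut.conj y ∈ QA from hy)
  refine ⟨hle _ ?_, hle _ ?_⟩
  · rw [map_mul, map_mul, map_mul, map_inv, map_inv, ← commutatorElement_def]; exact h1
  · rw [pow_two, map_mul]; exact h2

theorem exists_witness : ∃ q ∈ EA, ⁅tA, q⁆ ∉ Subgroup.zpowers jA := by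
  have h := wit_checked
  simp only [Bool.and_eq_true, Nat.blt_eq, Bool.not_eq_true'] at h
  obtain ⟨h1, h2, h0, h32, he⟩ := h
  have e := ev_eq he
  rw [ev_mul (getD_ok gP_ok _), ev_mul (pmul_ok (getD_ok gP_ok _) ?_), ev_mul ?_, ev_cP] at e
  rotate_left
  · rw [tP, Fi22Outer.okW_iff]
    intro x hx
    obtain ⟨l, hl, hxl⟩ := List.mem_flatten.1 hx
    obtain ⟨y, hy, rfl⟩ := List.mem_map.1 hl
    have hw := w0_checked
    simp only [Bool.and_eq_true, List.all_eq_true, Nat.blt_eq] at hw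
    have hok := words_ok
    simp only [Bool.and_eq_true, List.all_eq_true] at hok
    rw [List.getD_eq_getElem _ _ (show y < rW.length from hw.1 y hy)] at hxl
    exact Fi22Outer.okW_iff.1 (hok.2.1 _ (List.getElem_mem _)) x hxl
  · rw [tP, Fi22Outer.okW_iff]
    intro x hx
    obtain ⟨l, hl, hxl⟩ := List.mem_flatten.1 hx
    obtain ⟨y, hy, rfl⟩ := List.mem_map.1 hl
    have hw := w0_checked
    simp only [Bool.and_eq_true, List.all_eq_true, Nat.blt_eq] at hw
    have hok := words_ok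
    simp only [Bool.and_eq_true, List.all_eq_true] at hok
    rw [List.getD_eq_getElem _ _ (show y < rW.length from hw.1 y hy)] at hxl
    exact Fi22Outer.okW_iff.1 (hok.2.1 _ (List.getElem_mem _)) x hxl
  set q := ev (gP.getD witC.1 (false, [])) with hq
  have hqm : q ∈ QA := gP_mem (by
    rw [List.getD_eq_getElem _ _ (show witC.1 < gP.length from h1)]; exact List.getElem_mem _)
  have hqz : q Fi22Class.z = Fi22Class.z := by
    obtain ⟨g, ⟨-, h'⟩ | ⟨h', -⟩⟩ := dich hqm
    · exact h'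
    · refine absurd ?_ (sigma_not_conj (g⁻¹ * wp (gP.getD witC.1 (false, [])).2))
      have hp : (gP.getD witC.1 (false, [])).1 = false := rfl
      rw [hq, ev, hp, cond_false, mul_one] at h'
      rw [map_mul, map_inv, h', inv_mul_cancel_left]
  refine ⟨q, mem_EA.2 ⟨hqm, hqz⟩, fun hmem => ?_⟩
  have hc : ⁅tA, q⁆ = sys.va (witC.2 / 32) * sys.sv (witC.2 % 32) := by
    rw [commutatorElement_def, tA, e]; group
  obtain ⟨n, hn⟩ := hmem
  have hn' := zpow_mod_orderOf jA n
  rw [orderOf_jA] at hn'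
  obtain ⟨a, ha, ea⟩ : ∃ a < 2, ⁅tA, q⁆ = sys.va a := by
    rcases Int.emod_two_eq_zero_or_one n with e2 | e2
    · refine ⟨0, by norm_num, ?_⟩
      rw [← hn, TwoCert.Sys.va_zero]
      show jA ^ n = 1
      rw [← hn', Nat.cast_ofNat, e2, zpow_zero]
    · refine ⟨1, by norm_num, ?_⟩
      rw [← hn, va_one]
      show jA ^ n = jA
      rw [← hn', Nat.cast_ofNat, e2, zpow_one]
  obtain ⟨ea', ei⟩ := sys.coords_unique (a := witC.2 / 32) (b := a) (i := witC.2 % 32) (j := 0)
    (show _ < 2 ^ 6 by omega) (show a < 2 ^ 6 by omega) (Nat.mod_lt _ (show 0 < 32 by norm_num)) sys.pos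
    (by rw [← hc, ea, TwoCert.Sys.sv_zero, mul_one])
  have h0' := Nat.ne_of_beq_eq_false h0
  have h32' := Nat.ne_of_beq_eq_false h32
  omega

theorem fstar_C0 : Cfsg.generalizedFittingSubgroup C0 = E0.subgroupOf C0 := by
  haveI := finite_G
  have hp : IsPGroup 2 E0 := IsPGroup.of_card card_E0
  have hQn : Group.IsNilpotent (E0.subgroupOf C0) := by
    haveI := hp.isNilpotent (p := 2)
    exact Group.nilpotent_of_mulEquiv (Subgroup.subgroupOfEquivOfLe E0_le).symm
  have hfit : Cfsg.fittingSubgroup C0 = E0.subgroupOf C0 := by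
    refine le_antisymm ?_ (Components.le_fittingSubgroup normal_E0 hQn)
    haveI : (Cfsg.fittingSubgroup C0).Normal := Components.fittingSubgroup_normal
    haveI : Group.IsNilpotent (Cfsg.fittingSubgroup C0) := Components.fittingSubgroup_nilpotent
    exact nilpotent_le
  have hlay : Cfsg.layer C0 ≤ E0.subgroupOf C0 := by
    intro x hx
    have h := Components.layer_le_centralizer_fitting hx
    rw [hfit] at h
    set M : Subgroup CA := (Subgroup.centralizer (EA : Set AA)).subgroupOf CA with hM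
    haveI : M.Normal := by
      refine ⟨fun m hm g => Subgroup.mem_centralizer_iff.2 fun a ha => ?_⟩
      obtain ⟨haQ, haz⟩ := mem_EA.1 ha
      have hq : (g : AA)⁻¹ * a * g ∈ EA := by
        refine mem_EA.2 ⟨?_, ?_⟩
        · have := (Subgroup.mem_normalizer_iff.1 (inv_mem (CA_le_normalizer g.2)) a).1 haQ
          simpa using this
        · have hae : a e0 = e0 := by rw [image_e0 (QA_le_centralizer haQ), haz, j0_mul]
          rw [MulAut.mul_apply, MulAut.mul_apply]
          rcases image_z g.2 with e | e <;> rw [e]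
          · rw [haz]; nth_rewrite 1 [← e]; exact MulAut.inv_apply_self _ _ _
          · rw [hae]; nth_rewrite 1 [← e]; exact MulAut.inv_apply_self _ _ _
      have hc : (g : AA)⁻¹ * a * g * (m : AA) = (m : AA) * ((g : AA)⁻¹ * a * g) :=
        Subgroup.mem_centralizer_iff.1 hm _ hq
      show a * ((g : AA) * (m : AA) * (g : AA)⁻¹) = (g : AA) * (m : AA) * (g : AA)⁻¹ * a
      calc a * ((g : AA) * m * (g : AA)⁻¹) = g * ((g : AA)⁻¹ * a * g * m) * (g : AA)⁻¹ := by group
        _ = g * (m * ((g : AA)⁻¹ * a * g)) * (g : AA)⁻¹ := by rw [hc]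
        _ = _ := by group
    have hxM : (⟨MulAut.conj (x : G₀), mem_C0.1 x.2⟩ : CA) ∈ M := by
      refine Subgroup.mem_centralizer_iff.2 ?_
      rintro _ ⟨a, ha, rfl⟩
      have := congrArg Subtype.val (Subgroup.mem_centralizer_iff.1 h ⟨a, E0_le ha⟩ ha)
      show MulAut.conj a * MulAut.conj (x : G₀) = MulAut.conj (x : G₀) * MulAut.conj a
      rw [← map_mul, ← map_mul]
      exact congrArg _ this
    by_contra hxE
    obtain ⟨⟨hm, ht⟩, -⟩ := normal_reaches M fun hle => hxE (hle hxM)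
    rw [← SetLike.mem_coe, Subgroup.normal_mul] at ht
    obtain ⟨m, hmM, q, hq, he⟩ := ht
    obtain ⟨a, ha, hnot⟩ := exists_witness
    refine hnot ?_
    have he' : tA = (m : AA) * (q : AA) := (congrArg Subtype.val he).symm
    have h1 : (q : AA) * a * (q : AA)⁻¹ ∈ EA := by
      refine mem_EA.2 ⟨mul_mem (mul_mem hq (EA_le ha)) (inv_mem hq), ?_⟩
      obtain ⟨haQ, haz⟩ := mem_EA.1 ha
      have hae : a e0 = e0 := by rw [image_e0 (QA_le_centralizer haQ), haz, j0_mul]
      rw [MulAut.mul_apply, MulAut.mul_apply]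
      rcases image_z (inv_mem (QA_le_centralizer (show (q : AA) ∈ QA from hq))) with e | e <;> rw [e]
      · rw [haz]; nth_rewrite 1 [← e]; exact MulAut.apply_inv_self _ _ _
      · rw [hae]; nth_rewrite 1 [← e]; exact MulAut.apply_inv_self _ _ _
    have e2 : ⁅tA, a⁆ = ⁅(q : AA), a⁆ := by
      have h2 : ((q : AA) * a * (q : AA)⁻¹) * (m : AA) = (m : AA) * ((q : AA) * a * (q : AA)⁻¹) :=
        Subgroup.mem_centralizer_iff.1 hmM _ h1
      rw [commutatorElement_def, commutatorElement_def, he', mul_inv_rev]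
      calc (m : AA) * q * a * ((q : AA)⁻¹ * (m : AA)⁻¹) * a⁻¹
          = (m : AA) * ((q : AA) * a * (q : AA)⁻¹) * (m : AA)⁻¹ * a⁻¹ := by group
        _ = _ := by rw [← h2, mul_inv_cancel_right]
    rw [e2]
    exact (pair_mod _ hq _ (EA_le ha)).1
  rw [Cfsg.generalizedFittingSubgroup, hfit, sup_eq_right.2 hlay]

/-- The complement to the involution in the inner part. -/
noncomputable def E1 (f : AA) : Subgroup G₀ := E0 ⊓ (Subgroup.centralizer ({f} : Set AA)).comap MulAut.conj

theorem exists_split : ∃ (E : Subgroup G₀), Cfsg.IsExtraspecial 2 E ∧ Nat.card E = 2 ^ 9 ∧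
    Nonempty (E0 ≃* Multiplicative (ZMod 2) × E) := by
  haveI := finite_G
  obtain ⟨f, hf, -, he, hdec⟩ := exists_f
  have hmem : ∀ x, x ∈ E1 f ↔ x ∈ E0 ∧ Commute (MulAut.conj x) f := fun x => by
    rw [E1, Subgroup.mem_inf, Subgroup.mem_comap, Subgroup.mem_centralizer_singleton_iff]
    rfl
  have hzn : Fi22Class.z ∉ E1 f := fun h => jA_ne (by
    rw [← zA_commutator he, commutatorElement_eq_one_iff_commute]
    exact ((hmem _).1 h).2)
  have hsplit : ∀ x ∈ E0, x ∈ E1 f ∨ x * Fi22Class.z ∈ E1 f := by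
    intro x hx
    rcases split_f hf he (mem_QA_iff_zA.1 hx) with h | h
    · exact Or.inl ((hmem _).2 ⟨hx, h⟩)
    · exact Or.inr ((hmem _).2 ⟨mul_mem hx z_mem_E0.1, by rw [map_mul]; exact h⟩)
  obtain ⟨t, ht0, ht1⟩ : ∃ t : Multiplicative (ZMod 2) →* G₀, t (Multiplicative.ofAdd 0) = 1 ∧
      t (Multiplicative.ofAdd 1) = Fi22Class.z := by
    refine ⟨{ toFun := fun b => if Multiplicative.toAdd b = 0 then 1 else Fi22Class.z
              map_one' := by simp
              map_mul' := fun a b => ?_ }, by simp, by simp⟩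
    have h2 : ∀ c : ZMod 2, c = 0 ∨ c = 1 := by decide
    rcases h2 (Multiplicative.toAdd a) with h | h <;> rcases h2 (Multiplicative.toAdd b) with h' | h' <;>
      simp [h, h', z_sq, show (1 : ZMod 2) + 1 = 0 from rfl]
  have hb2 : ∀ b : Multiplicative (ZMod 2), b = Multiplicative.ofAdd 0 ∨ b = Multiplicative.ofAdd 1 := by decide
  have htE : ∀ b, t b ∈ E0 := fun b => by
    rcases hb2 b with rfl | rfl
    · rw [ht0]; exact one_mem _
    · rw [ht1]; exact z_mem_E0.1
  obtain ⟨φ, hφ⟩ : ∃ φ : Multiplicative (ZMod 2) × E1 f →* E0,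
      ∀ p, (φ p : G₀) = t p.1 * (p.2 : G₀) := by
    refine ⟨{ toFun := fun p => ⟨t p.1 * (p.2 : G₀), mul_mem (htE _) ((hmem _).1 p.2.2).1⟩
              map_one' := Subtype.ext (by simp)
              map_mul' := fun a b => Subtype.ext ?_ }, fun p => rfl⟩
    have hc : Commute (a.2 : G₀) (t b.1) := by
      rcases hb2 b.1 with h | h <;> rw [h]
      · rw [ht0]; exact Commute.one_right _
      · rw [ht1]; exact (E0_comm ((hmem _).1 a.2.2).1).1
    simp only [Prod.fst_mul, Prod.snd_mul, map_mul, Subgroup.coe_mul]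
    rw [mul_assoc, ← mul_assoc (t b.1), ← hc.eq]
    simp only [mul_assoc]
  have hbij : Function.Bijective φ := by
    constructor
    · rw [← MonoidHom.ker_eq_bot_iff, eq_bot_iff]
      rintro ⟨b, x⟩ h
      have h' := congrArg Subtype.val (MonoidHom.mem_ker.1 h)
      rw [hφ] at h'
      rcases hb2 b with rfl | rfl
      · rw [ht0, OneMemClass.coe_one, one_mul] at h'
        rw [Subgroup.mem_bot, show x = 1 from Subtype.ext h']
        rfl
      · rw [ht1, OneMemClass.coe_one] at h'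
        refine absurd ?_ hzn
        rw [eq_inv_of_mul_eq_one_left h']
        exact inv_mem x.2
    · rintro ⟨x, hx⟩
      rcases hsplit x hx with h | h
      · exact ⟨(Multiplicative.ofAdd 0, ⟨x, h⟩), Subtype.ext (by rw [hφ, ht0, one_mul])⟩
      · refine ⟨(Multiplicative.ofAdd 1, ⟨_, h⟩), Subtype.ext ?_⟩
        rw [hφ, ht1]
        show Fi22Class.z * (x * Fi22Class.z) = x
        rw [(E0_comm hx).1.eq, ← mul_assoc, z_sq, one_mul]
  have hcard : Nat.card (E1 f) = 2 ^ 9 := by
    have h := Nat.card_congr (MulEquiv.ofBijective φ hbij).toEquiv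
    rw [Nat.card_prod, card_E0, show Nat.card (Multiplicative (ZMod 2)) = 2 by simp] at h
    omega
  have hjE : j0 ∈ E1 f := by
    refine (hmem _).2 ⟨mul_mem z_mem_E0.1 z_mem_E0.2, ?_⟩
    exact (Subgroup.mem_centralizer_singleton_iff.1 (QA_le_centralizer hf)).symm
  have hzp : ∀ x : E1 f, x ∈ Subgroup.zpowers (⟨j0, hjE⟩ : E1 f) ↔
      MulAut.conj (x : G₀) ∈ Subgroup.zpowers jA := by
    intro x
    simp only [Subgroup.mem_zpowers_iff, Subtype.ext_iff, SubgroupClass.coe_zpow, jA, ← map_zpow]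
    exact exists_congr fun n => ⟨fun h => by rw [h], fun h => conj_inj h⟩
  have hcentral : ∀ x : E1 f, (∀ y : E1 f, x * y = y * x) → MulAut.conj (x : G₀) ∈ Subgroup.zpowers jA := by
    intro x hx
    have hc : ∀ b ∈ EA, Commute (MulAut.conj (x : G₀)) b := by
      rintro _ ⟨g, hg, rfl⟩
      refine (?_ : Commute (x : G₀) g).map _
      rcases hsplit g hg with h | h
      · exact congrArg Subtype.val (hx ⟨g, h⟩)
      · have h1 : Commute (x : G₀) (g * Fi22Class.z) := congrArg Subtype.val (hx ⟨_, h⟩)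
        have := h1.mul_right (E0_comm ((hmem _).1 x.2).1).1
        rwa [mul_assoc, z_sq, mul_one] at this
    rcases central_f hdec (mem_QA_iff_zA.1 ((hmem _).1 x.2).1) hc ((hmem _).1 x.2).2 with h | h <;> rw [h]
    · exact one_mem _
    · exact Subgroup.mem_zpowers _
  refine ⟨E1 f, ?_, hcard, ⟨(MulEquiv.ofBijective φ hbij).symm⟩⟩
  refine LargeExtra.isExtraspecial_of (IsPGroup.of_card hcard) (z := ⟨j0, hjE⟩) ?_ ?_ ?_ ?_ ?_
  · rw [Subgroup.orderOf_mk, ← orderOf_jA, jA, orderOf_injective _ (fun _ _ h => conj_inj h)]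
  · intro x
    rw [hzp]
    refine ⟨hcentral x, fun h y => Subtype.ext (conj_inj ?_)⟩
    rw [Subgroup.coe_mul, Subgroup.coe_mul, map_mul, map_mul]
    obtain ⟨n, hn⟩ := h
    rw [← hn]
    exact ((show Commute (MulAut.conj (y : G₀)) jA from Subgroup.mem_centralizer_singleton_iff.1
      (QA_le_centralizer (show MulAut.conj (y : G₀) ∈ QA from ((hmem _).1 y.2).1))).zpow_right n).symm.eq
  · intro x y
    rw [hzp]
    have h := (pair_mod _ (show MulAut.conj (x : G₀) ∈ QA from ((hmem _).1 x.2).1) _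
      (show MulAut.conj (y : G₀) ∈ QA from ((hmem _).1 y.2).1)).1
    rwa [commutatorElement_def, ← map_inv, ← map_inv, ← map_mul, ← map_mul, ← map_mul] at h
  · intro x
    rw [hzp, SubgroupClass.coe_pow, pow_two, map_mul]
    exact (pair_mod _ (show MulAut.conj (x : G₀) ∈ QA from ((hmem _).1 x.2).1) _
      (show MulAut.conj (x : G₀) ∈ QA from ((hmem _).1 x.2).1)).2
  · by_contra hno
    push Not at hno
    have hsub : (Set.univ : Set (E1 f)) ⊆ {1, ⟨j0, hjE⟩} := by
      intro x _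
      rcases zpowers_jA (hcentral x (hno x)) with h | h
      · exact Or.inl (Subtype.ext (conj_inj (h.trans (map_one _).symm)))
      · exact Or.inr (Subtype.ext (conj_inj h))
    have h2 := (Set.ncard_le_ncard hsub (Set.toFinite _)).trans (Set.ncard_insert_le _ _)
    rw [Set.ncard_univ, hcard, Set.ncard_singleton] at h2
    omega

end Cfsg.Agent.FischerPresented.Fi22Pair
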