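import Cfsg.Agent.Lib.AutPSU.FourTwo.Main
import Cfsg.Agent.Lib.Components.FStar
import Cfsg.Agent.Lib.FischerPresented.Fi22TwoTwoCard

/-!
The centraliser in Aut(Fi22) of a product of two commuting transpositions is 2^(1+10).Aut(U4(2)).
-/

set_option autoImplicit false
set_option maxRecDepth 100000

namespace Cfsg.Agent.FischerPresented.Fi22TwoTwo

open scoped commutatorElement
open Cfsg.Agent.CosetCert
open Cfsg.Agent.CosetData
open Cfsg.Agent.AutPSU.FourTwo (cox)
open Cfsg.Agent.FischerPresented.Fi22Two (eqW moved dW e1W dEl dEl_mem dEl_eq eq_of_eqW ne_one_of_moved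
  conj_eq_iff commute_iff_fix pt pt_word)
open Cfsg.Agent.FischerPresented.Fi22Outer (aut_D okW conj_inj mirW sigma_word)

local notation "S" => Fi22B.setup
local notation "G₀" => Setup.G Fi22B.setup
local notation "AA" => MulAut (Setup.G Fi22B.setup)
local notation "wp" => wprod (Setup.gen Fi22B.setup)
local notation "Wg" => CoxeterMatrix.E₆.Group

/-- The centraliser. -/
noncomputable abbrev CA : Subgroup AA := Subgroup.centralizer ({jA} : Set AA)

/-- A reflection. -/
noncomputable def rA (x : ℕ) : AA := ev (rP.getD x (false, []))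

theorem rA_mem_CA {x : ℕ} (hx : x < 6) : rA x ∈ CA := by
  refine Subgroup.mem_centralizer_singleton_iff.2 ?_
  have hlen : x < rW.length := hx
  have h := eq_of_eqW (List.all_eq_true.1 r_fix _ (List.getElem_mem hlen))
  have hj : jA = MulAut.conj (wp (eW.getD 0 [])) := by
    rw [eq_of_eqW j_checked, wprod_append, z_word]; rfl
  rw [hj, rA, show rP.getD x (false, []) = (false, rW[x]) by
    rw [List.getD_eq_getElem _ _ (show x < rP.length from hx)]; exact List.getElem_map _,
    ev_word, ← map_mul, ← map_mul, ← wprod_append, ← wprod_append, h]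

theorem normal_QA_gen {x : ℕ} (hx : x < 6) : rA x ∈ Subgroup.normalizer (QA : Set AA) := by
  have hle : QA.map (MulAut.conj (rA x)).toMonoidHom ≤ QA := by
    refine (Subgroup.map_mono QA_le_closure).trans ?_
    rw [MonoidHom.map_closure, Subgroup.closure_le]
    rintro _ ⟨_, ⟨k, rfl⟩, rfl⟩
    have h := List.all_eq_true.1 (List.all_eq_true.1 norm_checked x (List.mem_range.2 hx)) k
      (List.mem_range.2 k.2)
    simp only [Bool.and_eq_true, Nat.blt_eq] at h
    have e := ev_eq h.2
    rw [ev_mul (getD_ok gP_ok _), ev_mul (getD_ok rP_ok _), List.getD_eq_getElem _ _ k.2] at e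
    show rA x * ev gP[k] * (rA x)⁻¹ ∈ QA
    rw [rA]
    erw [e]
    rw [mul_inv_cancel_right]
    exact cP_mem h.1
  have heq : QA.map (MulAut.conj (rA x)).toMonoidHom = QA :=
    Subgroup.eq_of_le_of_card_ge hle (le_of_eq
      (Subgroup.card_map_of_injective (MulAut.conj (rA x)).injective).symm)
  refine Subgroup.mem_normalizer_iff.2 fun y => ⟨fun hy => heq.le ⟨y, hy, rfl⟩, fun hy => ?_⟩
  obtain ⟨y', hy', e⟩ := heq.ge hy
  obtain rfl : y' = y := (MulAut.conj (rA x)).injective e
  exact hy'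

/-- The part of the centraliser normalising the extraspecial group. -/
noncomputable abbrev NA : Subgroup AA := CA ⊓ Subgroup.normalizer (QA : Set AA)

theorem QA_le_NA : QA ≤ NA := le_inf QA_le_centralizer Subgroup.le_normalizer

instance normal_NA : (QA.subgroupOf NA).Normal :=
  Subgroup.normal_subgroupOf_iff_le_normalizer QA_le_NA |>.2 inf_le_right

/-- The images of the reflections. -/
noncomputable def rQ (i : Fin 6) : NA ⧸ QA.subgroupOf NA :=
  QuotientGroup.mk ⟨rA i, rA_mem_CA i.2, normal_QA_gen i.2⟩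

theorem liftable : CoxeterMatrix.E₆.IsLiftable rQ := by
  intro i j
  have h := rel_checked i j
  simp only [Bool.and_eq_true, Nat.blt_eq] at h
  have e := ev_eq h.2
  rw [(ppow_spec (pmul_ok (getD_ok rP_ok _) (getD_ok rP_ok _)) _).2, ev_mul (getD_ok rP_ok _)] at e
  rw [rQ, rQ, ← QuotientGroup.mk_mul, ← QuotientGroup.mk_pow, QuotientGroup.eq_one_iff,
    Subgroup.mem_subgroupOf]
  show (rA i * rA j) ^ CoxeterMatrix.E₆.M i j ∈ QA
  rw [rA, rA, e]
  exact cP_mem h.1

/-- The map from the Coxeter group. -/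
noncomputable def psi : Wg →* NA ⧸ QA.subgroupOf NA := cox.lift ⟨rQ, liftable⟩

/-- The word of the transvection. -/
def w0F : List (Fin 6) := w0.map fun x => (Fin.ofNat 6 x)

theorem w0F_even : w0F.length % 2 = 0 := by
  have h := w0_checked
  simp only [Bool.and_eq_true, Nat.beq_eq] at h
  rw [w0F, List.length_map]
  exact h.2

/-- The transvection element. -/
noncomputable def tA : AA := ev tP

theorem tA_eq : tA = (w0F.map fun i : Fin 6 => rA (i : ℕ)).prod := by
  have h := w0_checked
  simp only [Bool.and_eq_true, List.all_eq_true, Nat.blt_eq] at h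
  have key : ∀ l : List ℕ, (∀ x ∈ l, x < 6) →
      ev (false, (l.map fun x => rW.getD x []).flatten) = (l.map rA).prod := by
    intro l
    induction l with
    | nil => intro _; exact ev_one
    | cons x l ih =>
      intro hl
      have hx := hl x (List.mem_cons_self ..)
      rw [List.map_cons, List.flatten_cons, List.map_cons, List.prod_cons,
        ← ih fun y hy => hl y (List.mem_cons_of_mem _ hy), ev_word, wprod_append, map_mul, ev_word, rA,
        List.getD_eq_getElem _ _ (show x < rP.length from hx),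
        List.getD_eq_getElem _ _ (show x < rW.length from hx)]
      congr 1
      rw [show rP[x] = (false, rW[x]'hx) from List.getElem_map _, ev_word]
      rfl
  rw [tA, tP, key w0 h.1, w0F, List.map_map]
  refine congrArg List.prod (List.map_congr_left fun x hx => ?_)
  show rA x = rA (x % 6)
  rw [Nat.mod_eq_of_lt (h.1 x hx)]

theorem psi_w0 : ∃ hm : tA ∈ NA, psi (cox.wordProd w0F) = QuotientGroup.mk ⟨tA, hm⟩ := by
  have key : ∀ l : List (Fin 6), ∃ hm : (l.map fun i : Fin 6 => rA (i : ℕ)).prod ∈ NA,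
      psi (cox.wordProd l) = QuotientGroup.mk ⟨_, hm⟩ := by
    intro l
    induction l with
    | nil => exact ⟨one_mem _, by rw [CoxeterSystem.wordProd_nil, map_one]; rfl⟩
    | cons i l ih =>
      obtain ⟨hm, e⟩ := ih
      have hi : rA (i : ℕ) ∈ NA := ⟨rA_mem_CA i.2, normal_QA_gen i.2⟩
      refine ⟨by rw [List.map_cons, List.prod_cons]; exact mul_mem hi hm, ?_⟩
      rw [CoxeterSystem.wordProd_cons, map_mul, e, psi, CoxeterSystem.lift_apply_simple, rQ,
        ← QuotientGroup.mk_mul]
      rfl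
  obtain ⟨hm, e⟩ := key w0F
  exact ⟨tA_eq ▸ hm, e.trans (congrArg QuotientGroup.mk (Subtype.ext tA_eq.symm))⟩

/-- The transvection does not centralise the extraspecial group modulo its centre. -/
theorem witness : ∃ q ∈ QA, ⁅tA, q⁆ ∉ Subgroup.zpowers jA := by
  have h := wit_checked
  simp only [Bool.and_eq_true, Nat.blt_eq, Bool.not_eq_true'] at h
  obtain ⟨h1, h2, h0, h32, he⟩ := h
  have e := ev_eq he
  rw [ev_mul (getD_ok gP_ok _), ev_mul (pmul_ok (getD_ok gP_ok _) ?_), ev_mul ?_, ev_cP] at e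
  rotate_left
  · rw [tP, Fi22Outer.okW_iff]
    intro x hx
    obtain ⟨l, hl, hxl⟩ := List.mem_flatten.1 hx
    obtain ⟨y, hy, rfl⟩ := List.mem_map.1 hl
    have hw := w0_checked
    simp only [Bool.and_eq_true, List.all_eq_true, Nat.blt_eq] at hw
    have hok := words_ok
    simp only [Bool.and_eq_true, List.all_eq_true] at hok
    rw [List.getD_eq_getElem _ _ (show y < rW.length from hw.1 y hy)] at hxl
    exact Fi22Outer.okW_iff.1 (hok.2.1 _ (List.getElem_mem _)) x hxl
  · rw [tP, Fi22Outer.okW_iff]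
    intro x hx
    obtain ⟨l, hl, hxl⟩ := List.mem_flatten.1 hx
    obtain ⟨y, hy, rfl⟩ := List.mem_map.1 hl
    have hw := w0_checked
    simp only [Bool.and_eq_true, List.all_eq_true, Nat.blt_eq] at hw
    have hok := words_ok
    simp only [Bool.and_eq_true, List.all_eq_true] at hok
    rw [List.getD_eq_getElem _ _ (show y < rW.length from hw.1 y hy)] at hxl
    exact Fi22Outer.okW_iff.1 (hok.2.1 _ (List.getElem_mem _)) x hxl
  set q := ev (gP.getD witC.1 (false, [])) with hq
  have hqm : q ∈ QA := gP_mem (by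
    rw [List.getD_eq_getElem _ _ (show witC.1 < gP.length from h1)]; exact List.getElem_mem _)
  refine ⟨q, hqm, fun hmem => ?_⟩
  have hc : ⁅tA, q⁆ = sys.va (witC.2 / 32) * sys.sv (witC.2 % 32) := by
    rw [commutatorElement_def, tA, e]; group
  obtain ⟨n, hn⟩ := hmem
  have hn' := zpow_mod_orderOf jA n
  rw [orderOf_jA] at hn'
  obtain ⟨a, ha, ea⟩ : ∃ a < 2, ⁅tA, q⁆ = sys.va a := by
    rcases Int.emod_two_eq_zero_or_one n with e2 | e2
    · refine ⟨0, by norm_num, ?_⟩
      rw [← hn, TwoCert.Sys.va_zero]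
      show jA ^ n = 1
      rw [← hn', Nat.cast_ofNat, e2, zpow_zero]
    · refine ⟨1, by norm_num, ?_⟩
      rw [← hn, va_one]
      show jA ^ n = jA
      rw [← hn', Nat.cast_ofNat, e2, zpow_one]
  obtain ⟨ea', ei⟩ := sys.coords_unique (a := witC.2 / 32) (b := a) (i := witC.2 % 32) (j := 0)
    (show _ < 2 ^ 6 by omega) (show a < 2 ^ 6 by omega) (Nat.mod_lt _ (show 0 < 32 by norm_num)) sys.pos
    (by rw [← hc, ea, TwoCert.Sys.sv_zero, mul_one])
  have h0' := Nat.ne_of_beq_eq_false h0
  have h32' := Nat.ne_of_beq_eq_false h32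
  omega

theorem tA_not_mem : tA ∉ QA := by
  intro ht
  obtain ⟨q, hq, h⟩ := witness
  exact h (pair_mod _ ht _ hq).1

theorem exists_F4 : ∃ (F : Type) (_ : Field F) (_ : Fintype F), Fintype.card F = 4 := by
  haveI : Fact (Nat.Prime 2) := ⟨Nat.prime_two⟩
  haveI : Fintype (GaloisField 2 2) := Fintype.ofFinite _
  exact ⟨GaloisField 2 2, inferInstance, inferInstance, by
    rw [← Nat.card_eq_fintype_card, GaloisField.card 2 2 (by norm_num)]; norm_num⟩

theorem psi_injective : Function.Injective psi := by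
  rw [← MonoidHom.ker_eq_bot_iff]
  by_contra hne
  obtain ⟨F, hFF, hFt, hF⟩ := exists_F4
  have hw := (AutPSU.FourTwo.normal_dichotomy hF psi.ker hne).1 w0F w0F_even
  obtain ⟨hm, e⟩ := psi_w0
  rw [MonoidHom.mem_ker, e, QuotientGroup.eq_one_iff, Subgroup.mem_subgroupOf] at hw
  exact tA_not_mem hw

theorem NA_eq : NA = CA := by
  haveI : Finite (NA ⧸ QA.subgroupOf NA) := inferInstance
  refine Subgroup.eq_of_le_of_card_ge inf_le_left ?_
  rw [card_C]
  have h1 := Nat.card_le_card_of_injective psi psi_injective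
  rw [AutPSU.FourTwo.card_W] at h1
  have h2 := Subgroup.card_eq_card_quotient_mul_card_subgroup (QA.subgroupOf NA)
  rw [Nat.card_congr (Subgroup.subgroupOfEquivOfLe QA_le_NA).toEquiv, card_QA] at h2
  rw [h2, mul_comm]
  exact Nat.mul_le_mul_right _ h1

theorem CA_le_normalizer : CA ≤ Subgroup.normalizer (QA : Set AA) := NA_eq ▸ inf_le_right

instance normal_CA : (QA.subgroupOf CA).Normal :=
  Subgroup.normal_subgroupOf_iff_le_normalizer QA_le_centralizer |>.2 CA_le_normalizer

theorem exists_quotient_equiv : ∃ Ψ : Wg ≃* CA ⧸ QA.subgroupOf CA,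
    ∃ hm : tA ∈ CA, Ψ (cox.wordProd w0F) = QuotientGroup.mk ⟨tA, hm⟩ := by
  have hb : Function.Bijective psi := by
    refine ⟨psi_injective, ?_⟩
    haveI : Finite Wg := Nat.finite_of_card_ne_zero (by rw [AutPSU.FourTwo.card_W]; norm_num)
    refine ((Nat.bijective_iff_injective_and_card psi).2 ⟨psi_injective, ?_⟩).2
    have h2 := Subgroup.card_eq_card_quotient_mul_card_subgroup (QA.subgroupOf NA)
    rw [Nat.card_congr (Subgroup.subgroupOfEquivOfLe QA_le_NA).toEquiv, card_QA,
      Nat.card_congr (MulEquiv.subgroupCongr NA_eq).toEquiv, card_C] at h2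
    rw [AutPSU.FourTwo.card_W]
    omega
  let c : NA ⧸ QA.subgroupOf NA ≃* CA ⧸ QA.subgroupOf CA :=
    QuotientGroup.congr _ _ (MulEquiv.subgroupCongr NA_eq) (by
      ext x
      constructor
      · rintro ⟨y, hy, rfl⟩; exact hy
      · intro hx
        exact ⟨(MulEquiv.subgroupCongr NA_eq).symm x, hx, MulEquiv.apply_symm_apply _ _⟩)
  obtain ⟨hm, e⟩ := psi_w0
  refine ⟨(MulEquiv.ofBijective psi hb).trans c, NA_eq ▸ hm, ?_⟩
  rw [MulEquiv.trans_apply, MulEquiv.ofBijective_apply, e]
  rfl

/-- A normal subgroup of the centraliser outside the extraspecial group reaches the transvection. -/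
theorem normal_reaches (N : Subgroup CA) [hN : N.Normal] (hne : ¬ N ≤ QA.subgroupOf CA) :
    (∃ hm : tA ∈ CA, (⟨tA, hm⟩ : CA) ∈ N ⊔ QA.subgroupOf CA) ∧ ¬ Group.IsNilpotent N := by
  obtain ⟨Ψ, hm, e⟩ := exists_quotient_equiv
  obtain ⟨F, hFF, hFt, hF⟩ := exists_F4
  set f : CA →* Wg := Ψ.symm.toMonoidHom.comp (QuotientGroup.mk' (QA.subgroupOf CA)) with hf
  have hfs : Function.Surjective f := Ψ.symm.surjective.comp (QuotientGroup.mk'_surjective _)
  haveI : (N.map f).Normal := hN.map f hfs
  have hne' : N.map f ≠ ⊥ := fun h => hne fun x hx => by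
    have : f x ∈ N.map f := ⟨x, hx, rfl⟩
    rw [h, Subgroup.mem_bot] at this
    exact (QuotientGroup.eq_one_iff x).1 (Ψ.symm.injective (this.trans (map_one _).symm))
  obtain ⟨hall, hnil⟩ := AutPSU.FourTwo.normal_dichotomy hF (N.map f) hne'
  refine ⟨⟨hm, ?_⟩, fun h => hnil ?_⟩
  · obtain ⟨x, hx, hxe⟩ := hall w0F w0F_even
    have h1 : (QuotientGroup.mk x : CA ⧸ QA.subgroupOf CA) = QuotientGroup.mk ⟨tA, hm⟩ := by
      rw [← e, ← hxe]
      exact (Ψ.apply_symm_apply _).symm
    have h2 := QuotientGroup.eq.1 h1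
    have := mul_mem (show x ∈ N ⊔ QA.subgroupOf CA from Subgroup.mem_sup_left hx)
      (show x⁻¹ * _ ∈ N ⊔ QA.subgroupOf CA from Subgroup.mem_sup_right h2)
    rwa [mul_inv_cancel_left] at this
  · haveI := h
    exact Group.nilpotent_of_surjective (f.subgroupMap N) (MonoidHom.subgroupMap_surjective f N)

theorem centralizer_QA : Subgroup.centralizer (QA : Set AA) = (Subgroup.center QA).map QA.subtype := by
  rw [Components.center_map_subtype]
  refine le_antisymm (le_inf ?_ le_rfl) inf_le_right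
  have hj : jA ∈ QA := va_one ▸ va_mem (by norm_num)
  have hC : Subgroup.centralizer (QA : Set AA) ≤ CA := fun x hx =>
    Subgroup.mem_centralizer_singleton_iff.2 ((Subgroup.mem_centralizer_iff.1 hx jA hj).symm)
  set M : Subgroup CA := (Subgroup.centralizer (QA : Set AA)).subgroupOf CA with hM
  haveI : M.Normal := by
    refine ⟨fun m hm g => Subgroup.mem_centralizer_iff.2 fun q hq => ?_⟩
    have hg := CA_le_normalizer g.2
    have hq' : (g : AA)⁻¹ * q * g ∈ QA := by
      have := (Subgroup.mem_normalizer_iff.1 (inv_mem hg) q).1 hq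
      simpa using this
    have hc : (g : AA)⁻¹ * q * g * (m : AA) = (m : AA) * ((g : AA)⁻¹ * q * g) :=
      Subgroup.mem_centralizer_iff.1 hm _ hq'
    show q * ((g : AA) * (m : AA) * (g : AA)⁻¹) = (g : AA) * (m : AA) * (g : AA)⁻¹ * q
    calc q * ((g : AA) * m * (g : AA)⁻¹) = g * ((g : AA)⁻¹ * q * g * m) * (g : AA)⁻¹ := by group
      _ = g * (m * ((g : AA)⁻¹ * q * g)) * (g : AA)⁻¹ := by rw [hc]
      _ = _ := by group
  intro x hx
  by_contra hxQ
  obtain ⟨⟨hm, ht⟩, -⟩ := normal_reaches M (fun hle => hxQ (hle (x := ⟨x, hC hx⟩) hx))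
  rw [← SetLike.mem_coe, Subgroup.normal_mul] at ht
  obtain ⟨m, hmM, q, hq, he⟩ := ht
  obtain ⟨q₀, hq₀, hnot⟩ := witness
  refine hnot ?_
  have he' : tA = (m : AA) * (q : AA) := (congrArg Subtype.val he).symm
  have hmc : ∀ h ∈ QA, h * (m : AA) = (m : AA) * h := fun h hh => Subgroup.mem_centralizer_iff.1 hmM h hh
  have e2 : ⁅tA, q₀⁆ = ⁅(q : AA), q₀⁆ := by
    have h1 : (q : AA) * q₀ * (q : AA)⁻¹ ∈ QA := mul_mem (mul_mem hq hq₀) (inv_mem hq)
    rw [commutatorElement_def, commutatorElement_def, he', mul_inv_rev]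
    calc (m : AA) * q * q₀ * ((q : AA)⁻¹ * (m : AA)⁻¹) * q₀⁻¹
        = (m : AA) * ((q : AA) * q₀ * (q : AA)⁻¹) * (m : AA)⁻¹ * q₀⁻¹ := by group
      _ = _ := by rw [← hmc _ h1, mul_inv_cancel_right]
  rw [e2]
  exact (pair_mod _ hq _ hq₀).1

theorem fitting_CA :
    (Cfsg.generalizedFittingSubgroup CA).map CA.subtype = QA := by
  have hQn : Group.IsNilpotent (QA.subgroupOf CA) := by
    haveI := (IsPGroup.of_card card_QA).isNilpotent (p := 2)
    exact Group.nilpotent_of_mulEquiv (Subgroup.subgroupOfEquivOfLe QA_le_centralizer).symm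
  have hfit : Cfsg.fittingSubgroup CA = QA.subgroupOf CA := by
    refine le_antisymm ?_ (Components.le_fittingSubgroup normal_CA hQn)
    by_contra hne
    haveI : (Cfsg.fittingSubgroup CA).Normal := Components.fittingSubgroup_normal
    exact (normal_reaches _ hne).2 Components.fittingSubgroup_nilpotent
  have hlay : Cfsg.layer CA ≤ QA.subgroupOf CA := by
    intro x hx
    have h := Components.layer_le_centralizer_fitting hx
    rw [hfit] at h
    have hc : (x : AA) ∈ Subgroup.centralizer (QA : Set AA) := Subgroup.mem_centralizer_iff.2 fun q hq =>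
      congrArg Subtype.val (Subgroup.mem_centralizer_iff.1 h ⟨q, QA_le_centralizer hq⟩ hq)
    rw [centralizer_QA] at hc
    obtain ⟨y, -, hy⟩ := hc
    show (x : AA) ∈ QA
    rw [← hy]; exact y.2
  have e : Cfsg.generalizedFittingSubgroup CA = QA.subgroupOf CA := by
    rw [Cfsg.generalizedFittingSubgroup, hfit, sup_eq_right.2 hlay]
  rw [e, Subgroup.map_subgroupOf_eq_of_le QA_le_centralizer]

end Cfsg.Agent.FischerPresented.Fi22TwoTwo
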