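/-! Data of the centraliser of a product of two commuting transpositions in Aut(Fi22). -/

set_option autoImplicit false
set_option maxRecDepth 100000

namespace Cfsg.Agent.FischerPresented.Fi22TwoTwo

/-- Words of the normal 2^6 inside the extraspecial group. -/
def eW : List (List Nat) :=
  [
    [1, 2, 0, 1, 0, 1, 0, 2, 1, 0],
    [0],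
    [6, 4],
    [5, 6, 4, 5],
    [3, 2, 4, 3, 7, 3, 4, 2, 3, 5, 6, 4, 5, 3, 2, 4, 3, 7, 3, 4, 2, 3],
    [8, 3, 2, 4, 3, 7, 3, 4, 2, 3, 5, 6, 4, 5, 3, 2, 4, 3, 7, 3, 4, 2, 3, 8]]

/-- Lifts, as a parity of the symmetry and a word. -/
def fP : List (Bool × List Nat) :=
  [
    (false, [7, 1, 0, 2, 1, 3, 4, 5, 6, 2, 3, 4, 5, 1, 2, 3, 4, 5, 6, 0, 1, 2, 3, 4, 5, 7, 5, 6, 4, 5, 3, 2, 1, 0, 4, 3, 2, 1, 5, 4, 3, 2, 1, 0, 6, 5, 4, 3, 2, 1]),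
    (false, [8, 7, 1, 0, 2, 1, 3, 4, 5, 6, 2, 3, 4, 5, 1, 2, 3, 4, 5, 6, 0, 1, 2, 3, 4, 5, 7, 8, 5, 6, 4, 5, 3, 2, 1, 0, 4, 3, 2, 1, 5, 4, 3, 2, 1, 0, 6, 5, 4, 3, 2, 1]),
    (false, [3, 2, 4, 3, 7, 3, 4, 2, 3, 8, 7, 1, 0, 2, 1, 3, 4, 5, 6, 2, 3, 4, 5, 1, 2, 3, 4, 5, 6, 0, 1, 2, 3, 4, 5, 7, 8, 3, 4, 2, 3, 7, 3, 2, 4, 3, 5, 6, 4, 5, 3, 2, 1, 0, 4, 3, 2, 1, 5, 4, 3, 2, 1, 0, 6, 5, 4, 3, 2, 1]),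
    (false, [5, 3, 2, 4, 3, 7, 3, 4, 2, 3, 8, 7, 1, 0, 2, 1, 3, 4, 5, 6, 2, 3, 4, 5, 1, 2, 3, 4, 5, 6, 0, 1, 2, 3, 4, 5, 7, 8, 3, 4, 2, 3, 7, 3, 2, 4, 3, 1, 5, 6, 4, 5, 3, 2, 1, 0, 4, 3, 2, 1, 5, 4, 3, 2, 1, 0, 6, 5, 4, 3, 2, 1]),
    (true, [1, 0, 2, 1, 3, 4, 5, 6, 2, 3, 4, 5, 1, 2, 3, 4, 5, 6, 0, 1, 2, 3, 4, 5])]

/-- Six elements inducing the simple reflections of type E6. -/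
def rW : List (List Nat) :=
  [
    [1, 2, 0, 1],
    [3, 2, 4, 3, 7, 3, 4, 2, 3, 1, 2, 0, 1, 3, 2, 4, 3, 7, 3, 4, 2, 3],
    [3, 2, 4, 3, 7, 3, 4, 2, 3, 8, 5, 3, 2, 4, 3, 7, 3, 4, 2, 3, 1, 2, 0, 1, 3, 2, 4, 3, 7, 3, 4, 2, 3, 8, 5, 3, 2, 4, 3, 7, 3, 4, 2, 3],
    [8, 3, 2, 4, 3, 7, 3, 4, 2, 3, 1, 2, 0, 1, 3, 2, 4, 3, 7, 3, 4, 2, 3, 5, 7, 4, 3, 2, 1, 0, 7, 4, 3, 2, 1, 0, 7, 4, 3, 2, 1, 0, 7, 4, 3, 2, 1, 0, 7, 4, 3, 2, 1, 0, 8, 6, 5],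
    [5, 3, 2, 4, 3, 7, 3, 4, 2, 3, 1, 2, 0, 1, 3, 2, 4, 3, 7, 3, 4, 2, 3, 5],
    [8, 3, 2, 4, 3, 7, 3, 4, 2, 3, 1, 2, 0, 1, 3, 2, 4, 3, 7, 3, 4, 2, 3, 8]]

/-- Matrices of the lifts. -/
def GM : List (List Nat) :=
  [
    [1, 2, 4, 8, 16, 33],
    [1, 2, 4, 8, 17, 32],
    [1, 2, 4, 9, 16, 32],
    [1, 2, 5, 8, 16, 32],
    [1, 3, 4, 8, 16, 32]]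

/-- Matrices of the products. -/
def MT : List (List Nat) :=
  [
    [1, 2, 4, 8, 16, 32],
    [1, 2, 4, 8, 16, 33],
    [1, 2, 4, 8, 17, 32],
    [1, 2, 4, 8, 17, 33],
    [1, 2, 4, 9, 16, 32],
    [1, 2, 4, 9, 16, 33],
    [1, 2, 4, 9, 17, 32],
    [1, 2, 4, 9, 17, 33],
    [1, 2, 5, 8, 16, 32],
    [1, 2, 5, 8, 16, 33],
    [1, 2, 5, 8, 17, 32],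
    [1, 2, 5, 8, 17, 33],
    [1, 2, 5, 9, 16, 32],
    [1, 2, 5, 9, 16, 33],
    [1, 2, 5, 9, 17, 32],
    [1, 2, 5, 9, 17, 33],
    [1, 3, 4, 8, 16, 32],
    [1, 3, 4, 8, 16, 33],
    [1, 3, 4, 8, 17, 32],
    [1, 3, 4, 8, 17, 33],
    [1, 3, 4, 9, 16, 32],
    [1, 3, 4, 9, 16, 33],
    [1, 3, 4, 9, 17, 32],
    [1, 3, 4, 9, 17, 33],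
    [1, 3, 5, 8, 16, 32],
    [1, 3, 5, 8, 16, 33],
    [1, 3, 5, 8, 17, 32],
    [1, 3, 5, 8, 17, 33],
    [1, 3, 5, 9, 16, 32],
    [1, 3, 5, 9, 16, 33],
    [1, 3, 5, 9, 17, 32],
    [1, 3, 5, 9, 17, 33]]

/-- Right multiplication by the lifts, coded `a * 32 + i`. -/
def CL : List (List Nat) :=
  [
    [1, 2, 4, 8, 16],
    [0, 3, 5, 9, 17],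
    [3, 0, 6, 10, 18],
    [2, 1, 7, 11, 19],
    [5, 6, 0, 12, 20],
    [4, 7, 1, 13, 21],
    [7, 4, 2, 14, 22],
    [6, 5, 3, 15, 23],
    [9, 10, 12, 0, 24],
    [8, 11, 13, 1, 25],
    [11, 8, 14, 2, 26],
    [10, 9, 15, 3, 27],
    [13, 14, 8, 4, 28],
    [12, 15, 9, 5, 29],
    [15, 12, 10, 6, 30],
    [14, 13, 11, 7, 31],
    [17, 18, 20, 24, 0],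
    [16, 19, 21, 25, 1],
    [19, 16, 22, 26, 2],
    [18, 17, 23, 27, 3],
    [21, 22, 16, 28, 4],
    [20, 23, 17, 29, 5],
    [23, 20, 18, 30, 6],
    [22, 21, 19, 31, 7],
    [25, 26, 28, 16, 8],
    [24, 27, 29, 17, 9],
    [27, 24, 30, 18, 10],
    [26, 25, 31, 19, 11],
    [29, 30, 24, 20, 12],
    [28, 31, 25, 21, 13],
    [31, 28, 26, 22, 14],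
    [30, 29, 27, 23, 15]]

/-- Conjugates of the eleven generators by the reflections. -/
def NR : List (List Nat) :=
  [
    [32, 96, 128, 256, 513, 1026, 1, 2, 132, 264, 16],
    [32, 96, 128, 257, 512, 1028, 1, 130, 4, 520, 16],
    [32, 96, 132, 264, 512, 1024, 513, 1026, 4, 8, 16],
    [32, 96, 130, 258, 621, 1026, 385, 2, 1188, 1288, 18],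
    [32, 96, 129, 256, 512, 1032, 1, 258, 516, 8, 16],
    [32, 96, 128, 258, 516, 1024, 129, 2, 4, 1032, 16]]

/-- The Coxeter relators. -/
def REL : List (List Nat) :=
  [
    [0, 0, 0, 2, 0, 0],
    [0, 0, 0, 0, 0, 0],
    [0, 0, 0, 0, 0, 0],
    [2, 0, 0, 2, 0, 0],
    [0, 0, 0, 0, 0, 0],
    [0, 0, 0, 0, 0, 0]]

/-- A word of the reflections giving a transvection. -/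
def w0 : List Nat := [1, 2, 3, 1, 2, 3, 4, 3, 1, 2, 3, 4]

/-- A generator and its commutator with the transvection. -/
def witC : Nat × Nat := (2, 512)

/-- For each transposition in question: its point, a witness and a path. -/
def oddW : List (Nat × Nat × List Nat) :=
  [
    (8, 2, [1, 0, 2, 1, 3]),
    (11, 2, [1, 0, 2, 1, 3, 4]),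
    (16, 2, [1, 0, 2, 1, 3, 7]),
    (17, 2, [1, 0, 2, 1, 3, 4, 7]),
    (18, 2, [1, 0, 2, 1, 3, 2]),
    (19, 2, [1, 0, 2, 1, 3, 2, 4]),
    (20, 2, [1, 0, 2, 1, 3, 2, 7]),
    (21, 2, [1, 0, 2, 1, 3, 2, 4, 7]),
    (26, 2, [1, 0, 2, 1, 3, 4, 5]),
    (27, 2, [1, 0, 2, 1, 3, 4, 5, 7]),
    (28, 2, [1, 0, 2, 1, 3, 2, 4, 5]),
    (29, 2, [1, 0, 2, 1, 3, 2, 4, 5, 7]),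
    (34, 2, [1, 0, 2, 1, 3, 7, 8]),
    (35, 2, [1, 0, 2, 1, 3, 4, 7, 8]),
    (38, 2, [1, 0, 2, 1, 3, 4, 5, 7, 8]),
    (39, 2, [1, 0, 2, 1, 3, 2, 7, 8]),
    (40, 2, [1, 0, 2, 1, 3, 2, 4, 7, 8]),
    (41, 2, [1, 0, 2, 1, 3, 2, 4, 5, 7, 8]),
    (62, 2, [1, 0, 2, 1, 3, 4, 5, 6]),
    (63, 2, [1, 0, 2, 1, 3, 4, 5, 6, 7]),
    (69, 2, [1, 0, 2, 1, 3, 4, 5, 6, 7, 8]),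
    (73, 2, [1, 0, 2, 1, 3, 2, 4, 5, 6]),
    (74, 2, [1, 0, 2, 1, 3, 2, 4, 5, 6, 7]),
    (75, 2, [1, 0, 2, 1, 3, 2, 4, 5, 6, 7, 8]),
    (154, 2, [1, 2, 3, 4, 5, 7, 3, 2, 1, 4, 3]),
    (157, 2, [1, 2, 3, 4, 5, 6, 7, 3, 2, 1, 4, 3]),
    (160, 2, [1, 2, 3, 4, 5, 7, 3, 2, 1, 4, 3, 8]),
    (163, 2, [1, 2, 3, 4, 5, 6, 7, 3, 2, 1, 4, 3, 8]),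
    (180, 2, [1, 2, 3, 4, 5, 6, 7, 3, 2, 1, 4, 3, 5]),
    (181, 2, [1, 2, 3, 4, 5, 6, 7, 3, 2, 1, 4, 3, 5, 8]),
    (190, 2, [1, 2, 3, 4, 7, 3, 2, 1, 8, 7, 3]),
    (193, 2, [1, 2, 3, 4, 5, 7, 3, 2, 1, 8, 7, 3]),
    (196, 2, [1, 2, 3, 4, 5, 6, 7, 3, 2, 1, 8, 7, 3]),
    (201, 2, [1, 0, 2, 1, 3, 4, 5, 7, 3, 4, 8, 7, 3]),
    (202, 2, [1, 0, 2, 1, 3, 4, 5, 6, 7, 3, 4, 8, 7, 3]),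
    (205, 2, [1, 0, 2, 1, 3, 4, 5, 6, 7, 3, 4, 5, 8, 7, 3]),
    (208, 2, [1, 2, 3, 4, 5, 7, 3, 2, 1, 4, 8, 7, 3]),
    (211, 2, [1, 2, 3, 4, 5, 6, 7, 3, 2, 1, 4, 8, 7, 3]),
    (214, 2, [1, 2, 3, 4, 5, 6, 7, 3, 2, 1, 4, 5, 8, 7, 3]),
    (218, 2, [1, 2, 3, 4, 5, 7, 3, 2, 1, 4, 3, 7]),
    (221, 2, [1, 2, 3, 4, 5, 6, 7, 3, 2, 1, 4, 3, 7]),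
    (224, 2, [1, 2, 3, 4, 5, 6, 7, 3, 2, 1, 4, 3, 5, 7]),
    (225, 2, [1, 2, 3, 4, 5, 7, 3, 2, 1, 4, 3, 2]),
    (226, 2, [1, 2, 3, 4, 5, 6, 7, 3, 2, 1, 4, 3, 2]),
    (227, 2, [1, 2, 3, 4, 5, 7, 3, 2, 1, 4, 3, 2, 7]),
    (228, 2, [1, 2, 3, 4, 5, 6, 7, 3, 2, 1, 4, 3, 2, 7]),
    (229, 2, [1, 2, 3, 4, 5, 7, 3, 2, 1, 4, 3, 2, 8]),
    (230, 2, [1, 2, 3, 4, 5, 6, 7, 3, 2, 1, 4, 3, 2, 8]),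
    (231, 2, [1, 2, 3, 4, 5, 6, 7, 3, 2, 1, 4, 3, 2, 5]),
    (232, 2, [1, 2, 3, 4, 5, 6, 7, 3, 2, 1, 4, 3, 2, 5, 7]),
    (233, 2, [1, 2, 3, 4, 5, 6, 7, 3, 2, 1, 4, 3, 2, 5, 8]),
    (236, 2, [1, 2, 3, 4, 5, 7, 3, 2, 1, 4, 3, 8, 7]),
    (239, 2, [1, 2, 3, 4, 5, 7, 3, 2, 1, 4, 3, 8, 7, 3]),
    (242, 2, [1, 2, 3, 4, 5, 6, 7, 3, 2, 1, 4, 3, 8, 7]),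
    (245, 2, [1, 2, 3, 4, 5, 6, 7, 3, 2, 1, 4, 3, 8, 7, 3]),
    (246, 2, [1, 2, 3, 4, 5, 7, 3, 2, 1, 4, 3, 2, 8, 7]),
    (247, 2, [1, 2, 3, 4, 5, 6, 7, 3, 2, 1, 4, 3, 2, 8, 7]),
    (250, 2, [1, 2, 3, 4, 5, 6, 7, 3, 2, 1, 4, 3, 5, 8, 7]),
    (253, 2, [1, 2, 3, 4, 5, 6, 7, 3, 2, 1, 4, 3, 5, 8, 7, 3]),
    (254, 2, [1, 2, 3, 4, 5, 6, 7, 3, 2, 1, 4, 3, 2, 5, 8, 7]),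
    (257, 2, [1, 2, 3, 4, 5, 6, 7, 3, 2, 1, 4, 3, 5, 4]),
    (260, 2, [1, 2, 3, 4, 5, 6, 7, 3, 2, 1, 4, 3, 5, 4, 7]),
    (263, 2, [1, 2, 3, 4, 5, 6, 7, 3, 2, 1, 4, 3, 5, 4, 8]),
    (264, 2, [1, 2, 3, 4, 5, 6, 7, 3, 2, 1, 4, 3, 2, 5, 4]),
    (265, 2, [1, 2, 3, 4, 5, 6, 7, 3, 2, 1, 4, 3, 2, 5, 4, 7]),
    (266, 2, [1, 2, 3, 4, 5, 6, 7, 3, 2, 1, 4, 3, 2, 5, 4, 8]),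
    (269, 2, [1, 2, 3, 4, 5, 6, 7, 3, 2, 1, 4, 3, 5, 4, 8, 7]),
    (270, 2, [1, 2, 3, 4, 5, 6, 7, 3, 2, 1, 4, 3, 2, 5, 4, 8, 7]),
    (273, 2, [1, 2, 3, 4, 7, 3, 2, 1, 8, 7, 3, 4]),
    (274, 2, [1, 2, 3, 4, 7, 3, 2, 1, 8, 7, 3, 2]),
    (275, 2, [1, 2, 3, 4, 7, 3, 2, 1, 8, 7, 3, 2, 4]),
    (276, 2, [1, 2, 3, 4, 5, 7, 3, 2, 1, 8, 7, 3, 2]),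
    (277, 2, [1, 2, 3, 4, 5, 6, 7, 3, 2, 1, 8, 7, 3, 2]),
    (280, 2, [1, 2, 3, 4, 5, 7, 3, 2, 1, 8, 7, 3, 4]),
    (283, 2, [1, 2, 3, 4, 5, 7, 3, 2, 1, 4, 8, 7, 3, 4]),
    (286, 2, [1, 2, 3, 4, 5, 6, 7, 3, 2, 1, 8, 7, 3, 4]),
    (289, 2, [1, 2, 3, 4, 5, 6, 7, 3, 2, 1, 4, 8, 7, 3, 4]),
    (290, 2, [1, 2, 3, 4, 5, 7, 3, 2, 1, 8, 7, 3, 2, 4]),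
    (291, 2, [1, 2, 3, 4, 5, 6, 7, 3, 2, 1, 8, 7, 3, 2, 4]),
    (294, 2, [1, 2, 3, 4, 5, 7, 3, 2, 1, 4, 3, 8, 7, 3, 4]),
    (297, 2, [1, 2, 3, 4, 5, 6, 7, 3, 2, 1, 4, 3, 8, 7, 3, 4]),
    (324, 2, [1, 0, 2, 1, 3, 4, 5, 7, 3, 4, 8, 7, 3, 2]),
    (325, 2, [1, 0, 2, 1, 3, 4, 5, 6, 7, 3, 4, 8, 7, 3, 2]),
    (326, 2, [1, 0, 2, 1, 3, 4, 5, 6, 7, 3, 4, 5, 8, 7, 3, 2]),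
    (331, 2, [1, 0, 2, 1, 3, 4, 5, 6, 7, 3, 4, 5, 8, 7, 3, 4]),
    (332, 2, [1, 0, 2, 1, 3, 4, 5, 6, 7, 3, 4, 5, 8, 7, 3, 2, 4]),
    (333, 2, [1, 2, 3, 4, 5, 7, 3, 2, 1, 4, 8, 7, 3, 2]),
    (334, 2, [1, 2, 3, 4, 5, 7, 3, 2, 1, 4, 8, 7, 3, 2, 4]),
    (335, 2, [1, 2, 3, 4, 5, 6, 7, 3, 2, 1, 4, 8, 7, 3, 2]),
    (336, 2, [1, 2, 3, 4, 5, 6, 7, 3, 2, 1, 4, 8, 7, 3, 2, 4]),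
    (337, 2, [1, 2, 3, 4, 5, 7, 3, 2, 1, 4, 3, 8, 7, 3, 2]),
    (338, 2, [1, 2, 3, 4, 5, 7, 3, 2, 1, 4, 3, 8, 7, 3, 2, 4]),
    (339, 2, [1, 2, 3, 4, 5, 6, 7, 3, 2, 1, 4, 3, 8, 7, 3, 2]),
    (340, 2, [1, 2, 3, 4, 5, 6, 7, 3, 2, 1, 4, 3, 8, 7, 3, 2, 4]),
    (341, 2, [1, 2, 3, 4, 5, 6, 7, 3, 2, 1, 4, 5, 8, 7, 3, 2]),
    (342, 2, [1, 2, 3, 4, 5, 6, 7, 3, 2, 1, 4, 3, 5, 8, 7, 3, 2]),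
    (345, 2, [1, 2, 3, 4, 5, 6, 7, 3, 2, 1, 4, 5, 8, 7, 3, 4]),
    (350, 2, [1, 2, 3, 4, 5, 6, 7, 3, 2, 1, 4, 3, 5, 8, 7, 3, 4]),
    (353, 2, [1, 2, 3, 4, 5, 6, 7, 3, 2, 1, 4, 5, 8, 7, 3, 2, 4]),
    (354, 2, [1, 2, 3, 4, 5, 6, 7, 3, 2, 1, 4, 3, 5, 8, 7, 3, 2, 4]),
    (357, 2, [1, 2, 3, 4, 5, 7, 3, 2, 1, 4, 3, 7, 8]),
    (360, 2, [1, 2, 3, 4, 5, 6, 7, 3, 2, 1, 4, 3, 7, 8]),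
    (363, 2, [1, 2, 3, 4, 5, 7, 3, 2, 1, 4, 3, 7, 8, 7]),
    (366, 2, [1, 2, 3, 4, 5, 6, 7, 3, 2, 1, 4, 3, 7, 8, 7]),
    (367, 2, [1, 2, 3, 4, 5, 7, 3, 2, 1, 4, 3, 2, 7, 8]),
    (368, 2, [1, 2, 3, 4, 5, 6, 7, 3, 2, 1, 4, 3, 2, 7, 8]),
    (369, 2, [1, 2, 3, 4, 5, 7, 3, 2, 1, 4, 3, 2, 7, 8, 7]),
    (370, 2, [1, 2, 3, 4, 5, 6, 7, 3, 2, 1, 4, 3, 2, 7, 8, 7]),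
    (373, 2, [1, 2, 3, 4, 5, 6, 7, 3, 2, 1, 4, 3, 5, 7, 8]),
    (376, 2, [1, 2, 3, 4, 5, 6, 7, 3, 2, 1, 4, 3, 5, 7, 8, 7]),
    (377, 2, [1, 2, 3, 4, 5, 6, 7, 3, 2, 1, 4, 3, 2, 5, 7, 8]),
    (378, 2, [1, 2, 3, 4, 5, 6, 7, 3, 2, 1, 4, 3, 2, 5, 7, 8, 7]),
    (381, 2, [1, 2, 3, 4, 5, 7, 3, 2, 1, 4, 3, 7, 8, 7, 3]),
    (384, 2, [1, 2, 3, 4, 5, 6, 7, 3, 2, 1, 4, 3, 7, 8, 7, 3]),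
    (387, 2, [1, 2, 3, 4, 5, 6, 7, 3, 2, 1, 4, 3, 5, 7, 8, 7, 3]),
    (390, 2, [1, 2, 3, 4, 5, 6, 7, 3, 2, 1, 4, 3, 5, 4, 7, 8]),
    (393, 2, [1, 2, 3, 4, 5, 6, 7, 3, 2, 1, 4, 3, 5, 4, 7, 8, 7]),
    (394, 2, [1, 2, 3, 4, 5, 6, 7, 3, 2, 1, 4, 3, 2, 5, 4, 7, 8]),
    (395, 2, [1, 2, 3, 4, 5, 6, 7, 3, 2, 1, 4, 3, 2, 5, 4, 7, 8, 7]),
    (404, 2, [1, 2, 3, 4, 5, 7, 3, 2, 1, 4, 3, 7, 8, 7, 3, 4]),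
    (407, 2, [1, 2, 3, 4, 5, 6, 7, 3, 2, 1, 4, 3, 7, 8, 7, 3, 4]),
    (412, 2, [1, 2, 3, 4, 5, 7, 3, 2, 1, 4, 3, 7, 8, 7, 3, 2]),
    (413, 2, [1, 2, 3, 4, 5, 6, 7, 3, 2, 1, 4, 3, 7, 8, 7, 3, 2]),
    (414, 2, [1, 2, 3, 4, 5, 6, 7, 3, 2, 1, 4, 3, 5, 7, 8, 7, 3, 2]),
    (415, 2, [1, 2, 3, 4, 5, 7, 3, 2, 1, 4, 3, 7, 8, 7, 3, 2, 4]),
    (416, 2, [1, 2, 3, 4, 5, 6, 7, 3, 2, 1, 4, 3, 7, 8, 7, 3, 2, 4]),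
    (419, 2, [1, 2, 3, 4, 5, 6, 7, 3, 2, 1, 4, 3, 5, 7, 8, 7, 3, 4]),
    (422, 2, [1, 2, 3, 4, 5, 6, 7, 3, 2, 1, 4, 3, 5, 7, 8, 7, 3, 2, 4]),
    (429, 2, [1, 2, 3, 4, 5, 7, 3, 2, 1, 4, 3, 2, 8, 7, 3]),
    (430, 2, [1, 2, 3, 4, 5, 7, 3, 2, 1, 4, 3, 2, 8, 7, 3, 2]),
    (431, 2, [1, 2, 3, 4, 5, 6, 7, 3, 2, 1, 4, 3, 2, 8, 7, 3]),
    (432, 2, [1, 2, 3, 4, 5, 6, 7, 3, 2, 1, 4, 3, 2, 8, 7, 3, 2]),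
    (433, 2, [1, 2, 3, 4, 5, 7, 3, 2, 1, 4, 3, 2, 7, 8, 7, 3]),
    (434, 2, [1, 2, 3, 4, 5, 7, 3, 2, 1, 4, 3, 2, 7, 8, 7, 3, 2]),
    (435, 2, [1, 2, 3, 4, 5, 6, 7, 3, 2, 1, 4, 3, 2, 7, 8, 7, 3]),
    (436, 2, [1, 2, 3, 4, 5, 6, 7, 3, 2, 1, 4, 3, 2, 7, 8, 7, 3, 2]),
    (437, 2, [1, 2, 3, 4, 5, 6, 7, 3, 2, 1, 4, 3, 2, 5, 8, 7, 3]),
    (438, 2, [1, 2, 3, 4, 5, 6, 7, 3, 2, 1, 4, 3, 2, 5, 8, 7, 3, 2]),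
    (439, 2, [1, 2, 3, 4, 5, 6, 7, 3, 2, 1, 4, 3, 2, 5, 7, 8, 7, 3]),
    (440, 2, [1, 2, 3, 4, 5, 6, 7, 3, 2, 1, 4, 3, 2, 5, 7, 8, 7, 3, 2]),
    (451, 2, [1, 2, 3, 4, 5, 6, 7, 3, 2, 1, 4, 3, 5, 4, 8, 7, 3]),
    (454, 2, [1, 2, 3, 4, 5, 6, 7, 3, 2, 1, 4, 3, 5, 4, 8, 7, 3, 4]),
    (457, 2, [1, 2, 3, 4, 5, 6, 7, 3, 2, 1, 4, 3, 5, 4, 7, 8, 7, 3]),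
    (460, 2, [1, 2, 3, 4, 5, 6, 7, 3, 2, 1, 4, 3, 5, 4, 7, 8, 7, 3, 4]),
    (461, 2, [1, 2, 3, 4, 5, 6, 7, 3, 2, 1, 4, 3, 2, 5, 4, 8, 7, 3]),
    (462, 2, [1, 2, 3, 4, 5, 6, 7, 3, 2, 1, 4, 3, 2, 5, 4, 7, 8, 7, 3]),
    (465, 2, [1, 2, 3, 4, 7, 3, 2, 1, 8, 7, 3, 4, 5]),
    (468, 2, [1, 2, 3, 4, 5, 7, 3, 2, 1, 8, 7, 3, 4, 5]),
    (469, 2, [1, 2, 3, 4, 7, 3, 2, 1, 8, 7, 3, 2, 4, 5]),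
    (470, 2, [1, 2, 3, 4, 5, 7, 3, 2, 1, 8, 7, 3, 2, 4, 5]),
    (473, 2, [1, 2, 3, 4, 5, 7, 3, 2, 1, 4, 8, 7, 3, 4, 5]),
    (478, 2, [1, 2, 3, 4, 5, 7, 3, 2, 1, 4, 3, 8, 7, 3, 4, 5]),
    (481, 2, [1, 2, 3, 4, 5, 7, 3, 2, 1, 4, 8, 7, 3, 2, 4, 5]),
    (482, 2, [1, 2, 3, 4, 5, 7, 3, 2, 1, 4, 3, 8, 7, 3, 2, 4, 5]),
    (486, 2, [1, 2, 3, 4, 5, 7, 3, 2, 1, 4, 3, 7, 8, 7, 3, 4, 5]),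
    (489, 2, [1, 2, 3, 4, 5, 7, 3, 2, 1, 4, 3, 7, 8, 7, 3, 2, 4, 5]),
    (550, 2, [1, 2, 3, 4, 5, 7, 3, 2, 1, 4, 3, 8, 7, 3, 4, 5, 6]),
    (551, 2, [1, 2, 3, 4, 5, 7, 3, 2, 1, 4, 3, 7, 8, 7, 3, 4, 5, 6]),
    (552, 2, [1, 2, 3, 4, 5, 7, 3, 2, 1, 4, 8, 7, 3, 4, 5, 6]),
    (553, 2, [1, 2, 3, 4, 5, 7, 3, 2, 1, 8, 7, 3, 4, 5, 6]),
    (568, 2, [1, 2, 3, 4, 7, 3, 2, 1, 8, 7, 3, 4, 5, 6]),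
    (569, 2, [1, 2, 3, 4, 5, 7, 3, 2, 1, 4, 3, 8, 7, 3, 2, 4, 5, 6]),
    (570, 2, [1, 2, 3, 4, 5, 7, 3, 2, 1, 4, 3, 7, 8, 7, 3, 2, 4, 5, 6]),
    (571, 2, [1, 2, 3, 4, 5, 7, 3, 2, 1, 4, 8, 7, 3, 2, 4, 5, 6]),
    (572, 2, [1, 2, 3, 4, 5, 7, 3, 2, 1, 8, 7, 3, 2, 4, 5, 6]),
    (573, 2, [1, 2, 3, 4, 7, 3, 2, 1, 8, 7, 3, 2, 4, 5, 6]),
    (584, 2, [1, 2, 3, 4, 5, 6, 7, 3, 2, 1, 8, 7, 3, 4, 5]),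
    (587, 2, [1, 2, 3, 4, 5, 6, 7, 3, 2, 1, 4, 8, 7, 3, 4, 5]),
    (590, 2, [1, 2, 3, 4, 5, 6, 7, 3, 2, 1, 8, 7, 3, 4, 5, 6]),
    (593, 2, [1, 2, 3, 4, 5, 6, 7, 3, 2, 1, 4, 8, 7, 3, 4, 5, 6]),
    (594, 2, [1, 2, 3, 4, 5, 6, 7, 3, 2, 1, 8, 7, 3, 2, 4, 5]),
    (595, 2, [1, 2, 3, 4, 5, 6, 7, 3, 2, 1, 8, 7, 3, 2, 4, 5, 6]),
    (602, 2, [1, 2, 3, 4, 5, 6, 7, 3, 2, 1, 4, 5, 8, 7, 3, 4, 5]),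
    (607, 2, [1, 2, 3, 4, 5, 6, 7, 3, 2, 1, 4, 3, 8, 7, 3, 4, 5]),
    (610, 2, [1, 2, 3, 4, 5, 6, 7, 3, 2, 1, 4, 3, 8, 7, 3, 4, 5, 6]),
    (617, 2, [1, 2, 3, 4, 5, 6, 7, 3, 2, 1, 4, 3, 5, 8, 7, 3, 4, 5]),
    (620, 2, [1, 2, 3, 4, 5, 6, 7, 3, 2, 1, 4, 8, 7, 3, 2, 4, 5]),
    (621, 2, [1, 2, 3, 4, 5, 6, 7, 3, 2, 1, 4, 8, 7, 3, 2, 4, 5, 6]),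
    (622, 2, [1, 2, 3, 4, 5, 6, 7, 3, 2, 1, 4, 5, 8, 7, 3, 2, 4, 5]),
    (623, 2, [1, 2, 3, 4, 5, 6, 7, 3, 2, 1, 4, 3, 8, 7, 3, 2, 4, 5]),
    (624, 2, [1, 2, 3, 4, 5, 6, 7, 3, 2, 1, 4, 3, 8, 7, 3, 2, 4, 5, 6]),
    (625, 2, [1, 2, 3, 4, 5, 6, 7, 3, 2, 1, 4, 3, 5, 8, 7, 3, 2, 4, 5]),
    (642, 2, [1, 2, 3, 4, 5, 6, 7, 3, 2, 1, 4, 3, 7, 8, 7, 3, 4, 5]),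
    (643, 2, [1, 2, 3, 4, 5, 6, 7, 3, 2, 1, 4, 3, 7, 8, 7, 3, 4, 5, 6]),
    (650, 2, [1, 2, 3, 4, 5, 6, 7, 3, 2, 1, 4, 3, 5, 7, 8, 7, 3, 4, 5]),
    (654, 2, [1, 2, 3, 4, 5, 6, 7, 3, 2, 1, 4, 3, 7, 8, 7, 3, 2, 4, 5]),
    (655, 2, [1, 2, 3, 4, 5, 6, 7, 3, 2, 1, 4, 3, 7, 8, 7, 3, 2, 4, 5, 6]),
    (656, 2, [1, 2, 3, 4, 5, 6, 7, 3, 2, 1, 4, 3, 5, 7, 8, 7, 3, 2, 4, 5]),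
    (664, 2, [1, 2, 3, 4, 5, 6, 7, 3, 2, 1, 4, 5, 8, 7, 3, 4, 5, 6]),
    (669, 2, [1, 2, 3, 4, 5, 6, 7, 3, 2, 1, 4, 3, 5, 8, 7, 3, 4, 5, 6]),
    (672, 2, [1, 2, 3, 4, 5, 6, 7, 3, 2, 1, 4, 5, 8, 7, 3, 2, 4, 5, 6]),
    (673, 2, [1, 2, 3, 4, 5, 6, 7, 3, 2, 1, 4, 3, 5, 8, 7, 3, 2, 4, 5, 6]),
    (678, 2, [1, 2, 3, 4, 5, 6, 7, 3, 2, 1, 4, 3, 5, 7, 8, 7, 3, 4, 5, 6]),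
    (682, 2, [1, 2, 3, 4, 5, 6, 7, 3, 2, 1, 4, 3, 5, 7, 8, 7, 3, 2, 4, 5, 6]),
    (688, 2, [1, 2, 3, 4, 5, 6, 7, 3, 2, 1, 4, 3, 5, 4, 8, 7, 3, 4, 5]),
    (691, 2, [1, 2, 3, 4, 5, 6, 7, 3, 2, 1, 4, 3, 5, 4, 7, 8, 7, 3, 4, 5]),
    (694, 2, [1, 2, 3, 4, 5, 6, 7, 3, 2, 1, 4, 3, 5, 4, 8, 7, 3, 4, 5, 6]),
    (697, 2, [1, 2, 3, 4, 5, 6, 7, 3, 2, 1, 4, 3, 5, 4, 7, 8, 7, 3, 4, 5, 6]),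
    (698, 2, [1, 2, 3, 4, 5, 7, 3, 2, 1, 8, 7, 3, 2, 4, 3]),
    (699, 2, [1, 2, 3, 4, 5, 7, 3, 2, 1, 4, 8, 7, 3, 2, 4, 3]),
    (700, 2, [1, 2, 3, 4, 5, 7, 3, 2, 1, 8, 7, 3, 2, 4, 3, 5]),
    (701, 2, [1, 2, 3, 4, 5, 7, 3, 2, 1, 4, 8, 7, 3, 2, 4, 3, 5]),
    (702, 2, [1, 2, 3, 4, 5, 6, 7, 3, 2, 1, 8, 7, 3, 2, 4, 3]),
    (703, 2, [1, 2, 3, 4, 5, 6, 7, 3, 2, 1, 4, 8, 7, 3, 2, 4, 3]),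
    (704, 2, [1, 2, 3, 4, 5, 7, 3, 2, 1, 8, 7, 3, 2, 4, 3, 5, 6]),
    (705, 2, [1, 2, 3, 4, 5, 7, 3, 2, 1, 4, 8, 7, 3, 2, 4, 3, 5, 6]),
    (706, 2, [1, 2, 3, 4, 5, 6, 7, 3, 2, 1, 8, 7, 3, 2, 4, 3, 5]),
    (707, 2, [1, 2, 3, 4, 5, 6, 7, 3, 2, 1, 4, 8, 7, 3, 2, 4, 3, 5]),
    (708, 2, [1, 2, 3, 4, 5, 6, 7, 3, 2, 1, 8, 7, 3, 2, 4, 3, 5, 6]),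
    (709, 2, [1, 2, 3, 4, 5, 6, 7, 3, 2, 1, 4, 8, 7, 3, 2, 4, 3, 5, 6]),
    (994, 2, [1, 2, 3, 4, 5, 6, 7, 3, 2, 1, 4, 3, 5, 8, 7, 3, 2, 4, 3]),
    (996, 2, [1, 2, 3, 4, 5, 6, 7, 3, 2, 1, 4, 3, 5, 8, 7, 3, 2, 4, 3, 5]),
    (998, 2, [1, 2, 3, 4, 5, 6, 7, 3, 2, 1, 4, 3, 5, 7, 8, 7, 3, 2, 4, 3]),
    (1000, 2, [1, 2, 3, 4, 5, 6, 7, 3, 2, 1, 4, 3, 5, 7, 8, 7, 3, 2, 4, 3, 5]),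
    (1006, 2, [1, 2, 3, 4, 5, 6, 7, 3, 2, 1, 4, 3, 5, 8, 7, 3, 2, 4, 3, 5, 6]),
    (1008, 2, [1, 2, 3, 4, 5, 6, 7, 3, 2, 1, 4, 3, 5, 7, 8, 7, 3, 2, 4, 3, 5, 6]),
    (1015, 2, [1, 2, 3, 4, 5, 7, 3, 2, 1, 4, 3, 2, 7, 3, 8, 7, 3]),
    (1019, 2, [1, 2, 3, 4, 5, 6, 7, 3, 2, 1, 4, 3, 2, 7, 3, 8, 7, 3]),
    (1021, 2, [1, 2, 3, 4, 5, 7, 3, 2, 1, 4, 3, 2, 7, 3, 8, 7, 3, 2]),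
    (1022, 2, [1, 2, 3, 4, 5, 6, 7, 3, 2, 1, 4, 3, 2, 7, 3, 8, 7, 3, 2]),
    (1023, 2, [1, 2, 3, 4, 5, 7, 3, 2, 1, 4, 3, 2, 7, 8, 7, 3, 4]),
    (1024, 2, [1, 2, 3, 4, 5, 6, 7, 3, 2, 1, 4, 3, 2, 7, 8, 7, 3, 4]),
    (1025, 2, [1, 2, 3, 4, 5, 7, 3, 2, 1, 4, 3, 2, 7, 8, 7, 3, 2, 4]),
    (1026, 2, [1, 2, 3, 4, 5, 6, 7, 3, 2, 1, 4, 3, 2, 7, 8, 7, 3, 2, 4]),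
    (1031, 2, [1, 2, 3, 4, 5, 7, 3, 2, 1, 8, 7, 3, 2, 4, 3, 7]),
    (1032, 2, [1, 2, 3, 4, 5, 7, 3, 2, 1, 4, 8, 7, 3, 2, 4, 3, 7]),
    (1064, 2, [1, 2, 3, 4, 5, 6, 7, 3, 2, 1, 4, 3, 2, 7, 8, 7, 3, 2, 4, 5]),
    (1066, 2, [1, 2, 3, 4, 5, 6, 7, 3, 2, 1, 4, 3, 2, 7, 8, 7, 3, 4, 5]),
    (1069, 2, [1, 2, 3, 4, 5, 6, 7, 3, 2, 1, 4, 3, 2, 5, 7, 3, 8, 7, 3]),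
    (1070, 2, [1, 2, 3, 4, 5, 6, 7, 3, 2, 1, 4, 3, 2, 5, 7, 3, 8, 7, 3, 2]),
    (1073, 2, [1, 2, 3, 4, 5, 7, 3, 2, 1, 4, 3, 2, 8, 7, 3, 4]),
    (1074, 2, [1, 2, 3, 4, 5, 6, 7, 3, 2, 1, 4, 3, 2, 8, 7, 3, 4]),
    (1075, 2, [1, 2, 3, 4, 5, 7, 3, 2, 1, 4, 3, 2, 8, 7, 3, 2, 4]),
    (1076, 2, [1, 2, 3, 4, 5, 6, 7, 3, 2, 1, 4, 3, 2, 8, 7, 3, 2, 4]),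
    (1098, 2, [1, 2, 3, 4, 5, 7, 3, 2, 1, 4, 3, 2, 8, 7, 3, 2, 4, 5]),
    (1102, 2, [1, 2, 3, 4, 5, 7, 3, 2, 1, 4, 3, 2, 8, 7, 3, 4, 5]),
    (1103, 2, [1, 2, 3, 4, 5, 6, 7, 3, 2, 1, 8, 7, 3, 2, 4, 3, 7]),
    (1104, 2, [1, 2, 3, 4, 5, 6, 7, 3, 2, 1, 4, 8, 7, 3, 2, 4, 3, 7]),
    (1126, 2, [1, 2, 3, 4, 5, 6, 7, 3, 2, 1, 4, 8, 7, 3, 2, 4, 3, 5, 7]),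
    (1128, 2, [1, 2, 3, 4, 5, 6, 7, 3, 2, 1, 8, 7, 3, 2, 4, 3, 5, 7]),
    (1129, 2, [1, 2, 3, 4, 5, 6, 7, 3, 2, 1, 4, 8, 7, 3, 2, 4, 3, 7, 8]),
    (1132, 2, [1, 2, 3, 4, 5, 6, 7, 3, 2, 1, 8, 7, 3, 2, 4, 3, 7, 8]),
    (1133, 2, [1, 2, 3, 4, 5, 6, 7, 3, 2, 1, 4, 3, 2, 8, 7, 3, 4, 5]),
    (1134, 2, [1, 2, 3, 4, 5, 6, 7, 3, 2, 1, 4, 3, 2, 8, 7, 3, 2, 4, 5]),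
    (1149, 2, [1, 2, 3, 4, 5, 6, 7, 3, 2, 1, 4, 3, 2, 8, 7, 3, 2, 4, 5, 6]),
    (1152, 2, [1, 2, 3, 4, 5, 6, 7, 3, 2, 1, 4, 3, 2, 8, 7, 3, 4, 5, 6]),
    (1153, 2, [1, 2, 3, 4, 5, 6, 7, 3, 2, 1, 4, 3, 2, 5, 8, 7, 3, 4]),
    (1154, 2, [1, 2, 3, 4, 5, 6, 7, 3, 2, 1, 4, 3, 2, 5, 8, 7, 3, 2, 4]),
    (1155, 2, [1, 2, 3, 4, 5, 6, 7, 3, 2, 1, 4, 3, 2, 5, 4, 8, 7, 3, 4]),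
    (1156, 2, [1, 2, 3, 4, 5, 6, 7, 3, 2, 1, 4, 3, 2, 5, 8, 7, 3, 4, 5]),
    (1157, 2, [1, 2, 3, 4, 5, 6, 7, 3, 2, 1, 4, 3, 2, 5, 8, 7, 3, 2, 4, 5]),
    (1158, 2, [1, 2, 3, 4, 5, 6, 7, 3, 2, 1, 4, 3, 2, 5, 7, 8, 7, 3, 4]),
    (1159, 2, [1, 2, 3, 4, 5, 6, 7, 3, 2, 1, 4, 3, 2, 5, 7, 8, 7, 3, 2, 4]),
    (1160, 2, [1, 2, 3, 4, 5, 6, 7, 3, 2, 1, 4, 3, 2, 5, 4, 7, 8, 7, 3, 4]),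
    (1161, 2, [1, 2, 3, 4, 5, 6, 7, 3, 2, 1, 4, 3, 2, 5, 7, 8, 7, 3, 4, 5]),
    (1162, 2, [1, 2, 3, 4, 5, 6, 7, 3, 2, 1, 4, 3, 2, 5, 7, 8, 7, 3, 2, 4, 5]),
    (1167, 2, [1, 2, 3, 4, 5, 6, 7, 3, 2, 1, 4, 3, 2, 5, 8, 7, 3, 2, 4, 3]),
    (1168, 2, [1, 2, 3, 4, 5, 6, 7, 3, 2, 1, 4, 3, 2, 5, 7, 8, 7, 3, 2, 4, 3]),
    (1171, 2, [1, 2, 3, 4, 5, 6, 7, 3, 2, 1, 4, 3, 2, 5, 8, 7, 3, 4, 5, 6]),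
    (1172, 2, [1, 2, 3, 4, 5, 6, 7, 3, 2, 1, 4, 3, 2, 5, 8, 7, 3, 2, 4, 5, 6]),
    (1173, 2, [1, 2, 3, 4, 5, 6, 7, 3, 2, 1, 8, 7, 3, 2, 4, 3, 5, 4, 7]),
    (1174, 2, [1, 2, 3, 4, 5, 6, 7, 3, 2, 1, 4, 8, 7, 3, 2, 4, 3, 5, 4, 7]),
    (1177, 2, [1, 2, 3, 4, 5, 6, 7, 3, 2, 1, 4, 3, 2, 5, 4, 8, 7, 3, 4, 5]),
    (1178, 2, [1, 2, 3, 4, 5, 6, 7, 3, 2, 1, 4, 3, 2, 5, 4, 7, 8, 7, 3, 4, 5]),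
    (1179, 2, [1, 2, 3, 4, 5, 6, 7, 3, 2, 1, 4, 3, 2, 5, 7, 3, 8, 7, 3, 4]),
    (1180, 2, [1, 2, 3, 4, 5, 6, 7, 3, 2, 1, 4, 3, 2, 5, 7, 3, 8, 7, 3, 2, 4]),
    (1181, 2, [1, 2, 3, 4, 5, 6, 7, 3, 2, 1, 8, 7, 3, 2, 4, 3, 5, 4, 6]),
    (1182, 2, [1, 2, 3, 4, 5, 6, 7, 3, 2, 1, 4, 8, 7, 3, 2, 4, 3, 5, 4, 6]),
    (1185, 2, [1, 2, 3, 4, 5, 6, 7, 3, 2, 1, 8, 7, 3, 2, 4, 3, 5, 4]),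
    (1186, 2, [1, 2, 3, 4, 5, 6, 7, 3, 2, 1, 4, 8, 7, 3, 2, 4, 3, 5, 4]),
    (1199, 2, [1, 2, 3, 4, 5, 6, 7, 3, 2, 1, 4, 3, 2, 5, 8, 7, 3, 2, 4, 3, 5]),
    (1200, 2, [1, 2, 3, 4, 5, 6, 7, 3, 2, 1, 4, 3, 2, 5, 7, 8, 7, 3, 2, 4, 3, 5]),
    (1205, 2, [1, 2, 3, 4, 5, 6, 7, 3, 2, 1, 4, 3, 2, 5, 4, 8, 7, 3, 4, 5, 6]),
    (1206, 2, [1, 2, 3, 4, 5, 6, 7, 3, 2, 1, 8, 7, 3, 2, 4, 3, 5, 4, 7, 3]),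
    (1213, 2, [1, 2, 3, 4, 5, 6, 7, 3, 2, 1, 4, 3, 2, 5, 8, 7, 3, 2, 4, 3, 5, 6]),
    (1214, 2, [1, 2, 3, 4, 5, 6, 7, 3, 2, 1, 4, 8, 7, 3, 2, 4, 3, 5, 4, 7, 3]),
    (1238, 2, [1, 2, 3, 4, 5, 6, 7, 3, 2, 1, 4, 3, 5, 4, 7, 3, 8, 7, 3]),
    (1239, 2, [1, 2, 3, 4, 5, 6, 7, 3, 2, 1, 4, 3, 5, 4, 7, 3, 8, 7, 3, 4]),
    (1248, 2, [1, 2, 3, 4, 5, 6, 7, 3, 2, 1, 4, 3, 5, 4, 7, 3, 8, 7, 3, 4, 5]),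
    (1263, 2, [1, 2, 3, 4, 5, 6, 7, 3, 2, 1, 4, 3, 5, 4, 7, 3, 8, 7, 3, 4, 5, 6]),
    (1364, 2, [1, 2, 3, 4, 5, 6, 7, 3, 2, 1, 4, 3, 2, 5, 4, 3, 8, 7, 3]),
    (1365, 2, [1, 2, 3, 4, 5, 6, 7, 3, 2, 1, 4, 3, 2, 5, 4, 3, 8, 7, 3, 4]),
    (1366, 2, [1, 2, 3, 4, 5, 6, 7, 3, 2, 1, 4, 3, 2, 5, 4, 3, 8, 7, 3, 4, 5]),
    (1367, 2, [1, 2, 3, 4, 5, 6, 7, 3, 2, 1, 4, 3, 2, 5, 4, 3, 8, 7, 3, 4, 5, 6]),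
    (1368, 2, [1, 2, 3, 4, 5, 6, 7, 3, 2, 1, 4, 3, 5, 4, 8, 7, 3, 2]),
    (1370, 2, [1, 2, 3, 4, 5, 6, 7, 3, 2, 1, 4, 3, 2, 5, 4, 8, 7, 3, 2]),
    (1371, 2, [1, 2, 3, 4, 5, 6, 7, 3, 2, 1, 4, 3, 5, 4, 8, 7, 3, 2, 4]),
    (1373, 2, [1, 2, 3, 4, 5, 6, 7, 3, 2, 1, 4, 3, 5, 4, 7, 8, 7, 3, 2]),
    (1375, 2, [1, 2, 3, 4, 5, 6, 7, 3, 2, 1, 4, 3, 2, 5, 4, 7, 8, 7, 3, 2]),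
    (1376, 2, [1, 2, 3, 4, 5, 6, 7, 3, 2, 1, 4, 3, 5, 4, 7, 8, 7, 3, 2, 4]),
    (1382, 2, [1, 2, 3, 4, 5, 6, 7, 3, 2, 1, 4, 3, 2, 5, 4, 8, 7, 3, 2, 4]),
    (1383, 2, [1, 2, 3, 4, 5, 6, 7, 3, 2, 1, 4, 3, 2, 5, 4, 7, 8, 7, 3, 2, 4]),
    (1384, 2, [1, 2, 3, 4, 5, 6, 7, 3, 2, 1, 4, 3, 2, 5, 4, 3, 8, 7, 3, 2]),
    (1385, 2, [1, 2, 3, 4, 5, 6, 7, 3, 2, 1, 4, 3, 2, 5, 4, 3, 8, 7, 3, 2, 4]),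
    (1388, 2, [1, 2, 3, 4, 5, 6, 7, 3, 2, 1, 4, 3, 5, 4, 8, 7, 3, 2, 4, 3]),
    (1389, 2, [1, 2, 3, 4, 5, 6, 7, 3, 2, 1, 4, 3, 5, 4, 7, 8, 7, 3, 2, 4, 3]),
    (1390, 2, [1, 2, 3, 4, 5, 6, 7, 3, 2, 1, 4, 3, 2, 5, 4, 8, 7, 3, 2, 4, 3]),
    (1391, 2, [1, 2, 3, 4, 5, 6, 7, 3, 2, 1, 4, 3, 2, 5, 4, 7, 8, 7, 3, 2, 4, 3]),
    (1392, 2, [1, 2, 3, 4, 5, 6, 7, 3, 2, 1, 4, 3, 5, 4, 8, 7, 3, 2, 4, 5]),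
    (1394, 2, [1, 2, 3, 4, 5, 6, 7, 3, 2, 1, 4, 3, 5, 4, 7, 8, 7, 3, 2, 4, 5]),
    (1398, 2, [1, 2, 3, 4, 5, 6, 7, 3, 2, 1, 4, 3, 5, 4, 8, 7, 3, 2, 4, 3, 5]),
    (1399, 2, [1, 2, 3, 4, 5, 6, 7, 3, 2, 1, 4, 3, 5, 4, 7, 8, 7, 3, 2, 4, 3, 5]),
    (1400, 2, [1, 2, 3, 4, 5, 6, 7, 3, 2, 1, 4, 3, 5, 4, 7, 3, 8, 7, 3, 2]),
    (1402, 2, [1, 2, 3, 4, 5, 6, 7, 3, 2, 1, 4, 3, 5, 4, 7, 3, 8, 7, 3, 2, 4]),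
    (1404, 2, [1, 2, 3, 4, 5, 6, 7, 3, 2, 1, 4, 3, 5, 4, 7, 3, 8, 7, 3, 2, 4, 5]),
    (1409, 2, [1, 2, 3, 4, 5, 6, 7, 3, 2, 1, 4, 3, 2, 5, 4, 8, 7, 3, 2, 4, 5]),
    (1410, 2, [1, 2, 3, 4, 5, 6, 7, 3, 2, 1, 4, 3, 2, 5, 4, 7, 8, 7, 3, 2, 4, 5]),
    (1411, 2, [1, 2, 3, 4, 5, 6, 7, 3, 2, 1, 4, 3, 2, 5, 4, 3, 8, 7, 3, 2, 4, 5]),
    (1412, 2, [1, 2, 3, 4, 5, 6, 7, 3, 2, 1, 4, 3, 2, 5, 4, 8, 7, 3, 2, 4, 3, 5]),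
    (1413, 2, [1, 2, 3, 4, 5, 6, 7, 3, 2, 1, 4, 3, 2, 5, 4, 7, 8, 7, 3, 2, 4, 3, 5]),
    (1426, 2, [1, 2, 3, 4, 5, 6, 7, 3, 2, 1, 4, 3, 5, 4, 8, 7, 3, 2, 4, 5, 6]),
    (1428, 2, [1, 2, 3, 4, 5, 6, 7, 3, 2, 1, 4, 3, 5, 4, 7, 8, 7, 3, 2, 4, 5, 6]),
    (1432, 2, [1, 2, 3, 4, 5, 6, 7, 3, 2, 1, 4, 3, 5, 4, 8, 7, 3, 2, 4, 3, 5, 6]),
    (1433, 2, [1, 2, 3, 4, 5, 6, 7, 3, 2, 1, 4, 3, 5, 4, 7, 8, 7, 3, 2, 4, 3, 5, 6]),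
    (1434, 2, [1, 2, 3, 4, 5, 6, 7, 3, 2, 1, 4, 3, 5, 4, 7, 3, 8, 7, 3, 2, 4, 5, 6]),
    (1445, 2, [1, 2, 3, 4, 5, 6, 7, 3, 2, 1, 4, 3, 2, 5, 4, 8, 7, 3, 2, 4, 5, 6]),
    (1446, 2, [1, 2, 3, 4, 5, 6, 7, 3, 2, 1, 8, 7, 3, 2, 4, 3, 5, 4, 7, 3, 2]),
    (1447, 2, [1, 2, 3, 4, 5, 6, 7, 3, 2, 1, 4, 3, 2, 5, 4, 3, 8, 7, 3, 2, 4, 5, 6]),
    (1448, 2, [1, 2, 3, 4, 5, 6, 7, 3, 2, 1, 4, 3, 2, 5, 4, 8, 7, 3, 2, 4, 3, 5, 6]),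
    (1449, 2, [1, 2, 3, 4, 5, 6, 7, 3, 2, 1, 4, 8, 7, 3, 2, 4, 3, 5, 4, 7, 3, 2]),
    (1496, 2, [1, 2, 3, 4, 5, 6, 7, 3, 2, 1, 4, 3, 5, 8, 7, 3, 2, 4, 3, 5, 4]),
    (1500, 2, [1, 2, 3, 4, 5, 6, 7, 3, 2, 1, 4, 3, 2, 5, 8, 7, 3, 2, 4, 3, 5, 4]),
    (1504, 2, [1, 2, 3, 4, 5, 6, 7, 3, 2, 1, 4, 3, 5, 8, 7, 3, 2, 4, 3, 5, 4, 6]),
    (1512, 2, [1, 2, 3, 4, 5, 6, 7, 3, 2, 1, 4, 3, 5, 7, 8, 7, 3, 2, 4, 3, 5, 4]),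
    (1514, 2, [1, 2, 3, 4, 5, 6, 7, 3, 2, 1, 4, 3, 2, 5, 7, 8, 7, 3, 2, 4, 3, 5, 4]),
    (1520, 2, [1, 2, 3, 4, 5, 6, 7, 3, 2, 1, 4, 3, 2, 5, 8, 7, 3, 2, 4, 3, 5, 4, 6]),
    (1522, 2, [1, 2, 3, 4, 5, 6, 7, 3, 2, 1, 4, 3, 8, 7, 3, 2, 4, 3, 5, 4, 7, 3]),
    (1532, 2, [1, 2, 3, 4, 5, 6, 7, 3, 2, 1, 4, 3, 5, 7, 8, 7, 3, 2, 4, 3, 5, 4, 6]),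
    (1554, 2, [1, 2, 3, 4, 5, 6, 7, 3, 2, 1, 4, 3, 5, 4, 8, 7, 3, 2, 4, 3, 5, 4]),
    (1555, 2, [1, 2, 3, 4, 5, 6, 7, 3, 2, 1, 4, 3, 2, 5, 4, 8, 7, 3, 2, 4, 3, 5, 4]),
    (1556, 2, [1, 2, 3, 4, 5, 6, 7, 3, 2, 1, 4, 3, 5, 4, 8, 7, 3, 2, 4, 3, 5, 4, 6]),
    (1557, 2, [1, 2, 3, 4, 5, 6, 7, 3, 2, 1, 4, 3, 5, 4, 7, 8, 7, 3, 2, 4, 3, 5, 4]),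
    (1558, 2, [1, 2, 3, 4, 5, 6, 7, 3, 2, 1, 4, 3, 2, 5, 4, 7, 8, 7, 3, 2, 4, 3, 5, 4]),
    (1559, 2, [1, 2, 3, 4, 5, 6, 7, 3, 2, 1, 4, 3, 5, 4, 7, 8, 7, 3, 2, 4, 3, 5, 4, 6]),
    (1560, 2, [1, 2, 3, 4, 5, 6, 7, 3, 2, 1, 4, 3, 2, 5, 4, 8, 7, 3, 2, 4, 3, 5, 4, 6]),
    (1561, 2, [1, 2, 3, 4, 5, 6, 7, 3, 2, 1, 4, 3, 8, 7, 3, 2, 4, 3, 5, 4, 7, 3, 2]),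
    (1562, 2, [1, 2, 3, 4, 5, 6, 7, 3, 2, 1, 4, 3, 2, 8, 7, 3, 2, 4, 3, 5, 4, 7, 3]),
    (1564, 2, [1, 2, 3, 4, 5, 6, 7, 3, 2, 1, 4, 3, 2, 5, 8, 7, 3, 2, 4, 3, 5, 4, 6, 5]),
    (1566, 2, [1, 2, 3, 4, 5, 6, 7, 3, 2, 1, 4, 3, 5, 8, 7, 3, 2, 4, 3, 5, 4, 6, 5]),
    (1568, 2, [1, 2, 3, 4, 5, 6, 7, 3, 2, 1, 4, 3, 2, 8, 7, 3, 2, 4, 3, 5, 4, 6, 7, 3]),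
    (1582, 2, [1, 2, 3, 4, 5, 6, 7, 3, 2, 1, 4, 3, 2, 8, 7, 3, 2, 4, 3, 5, 4, 7, 3, 2]),
    (1583, 2, [1, 2, 3, 4, 5, 6, 7, 3, 2, 1, 4, 3, 2, 5, 4, 8, 7, 3, 2, 4, 3, 5, 4, 6, 5]),
    (1584, 2, [1, 2, 3, 4, 5, 6, 7, 3, 2, 1, 4, 3, 5, 4, 8, 7, 3, 2, 4, 3, 5, 4, 6, 5]),
    (1585, 2, [1, 2, 3, 4, 5, 6, 7, 3, 2, 1, 4, 3, 2, 8, 7, 3, 2, 4, 3, 5, 4, 6, 7, 3, 2]),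
    (1784, 2, [1, 2, 3, 4, 5, 6, 7, 3, 2, 1, 4, 3, 5, 8, 7, 3, 2, 4, 3, 7]),
    (1788, 2, [1, 2, 3, 4, 5, 6, 7, 3, 2, 1, 4, 3, 5, 8, 7, 3, 2, 4, 3, 5, 7]),
    (1798, 2, [1, 2, 3, 4, 5, 6, 7, 3, 2, 1, 4, 3, 5, 4, 8, 7, 3, 2, 4, 3, 7]),
    (1799, 2, [1, 2, 3, 4, 5, 6, 7, 3, 2, 1, 4, 3, 5, 4, 8, 7, 3, 2, 4, 3, 5, 7]),
    (1800, 2, [1, 2, 3, 4, 5, 6, 7, 3, 2, 1, 4, 3, 2, 5, 8, 7, 3, 2, 4, 3, 7]),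
    (1803, 2, [1, 2, 3, 4, 5, 6, 7, 3, 2, 1, 4, 3, 2, 5, 4, 8, 7, 3, 2, 4, 3, 7]),
    (1817, 2, [1, 2, 3, 4, 5, 6, 7, 3, 2, 1, 4, 3, 5, 8, 7, 3, 2, 4, 3, 5, 6, 7]),
    (1823, 2, [1, 2, 3, 4, 5, 6, 7, 3, 2, 1, 4, 3, 5, 4, 8, 7, 3, 2, 4, 3, 5, 6, 7]),
    (1831, 2, [1, 2, 3, 4, 5, 6, 7, 3, 2, 1, 4, 3, 5, 8, 7, 3, 2, 4, 3, 5, 4, 7]),
    (1834, 2, [1, 2, 3, 4, 5, 6, 7, 3, 2, 1, 4, 3, 5, 4, 8, 7, 3, 2, 4, 3, 5, 4, 7]),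
    (1837, 2, [1, 2, 3, 4, 5, 6, 7, 3, 2, 1, 4, 3, 5, 8, 7, 3, 2, 4, 3, 5, 4, 6, 7]),
    (1840, 2, [1, 2, 3, 4, 5, 6, 7, 3, 2, 1, 4, 3, 5, 4, 8, 7, 3, 2, 4, 3, 5, 4, 6, 7]),
    (1860, 2, [1, 2, 3, 4, 5, 6, 7, 3, 2, 1, 4, 3, 5, 4, 7, 8, 7, 3, 2, 4, 3, 7]),
    (1861, 2, [1, 2, 3, 4, 5, 6, 7, 3, 2, 1, 4, 3, 5, 4, 7, 8, 7, 3, 2, 4, 3, 5, 7]),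
    (1862, 2, [1, 2, 3, 4, 5, 6, 7, 3, 2, 1, 4, 3, 5, 4, 7, 8, 7, 3, 2, 4, 3, 5, 6, 7]),
    (1878, 2, [1, 2, 3, 4, 5, 6, 7, 3, 2, 1, 4, 3, 2, 5, 8, 7, 3, 2, 4, 3, 5, 7]),
    (1881, 2, [1, 2, 3, 4, 5, 6, 7, 3, 2, 1, 4, 3, 2, 5, 4, 8, 7, 3, 2, 4, 3, 5, 7]),
    (1884, 2, [1, 2, 3, 4, 5, 6, 7, 3, 2, 1, 4, 3, 2, 5, 8, 7, 3, 2, 4, 3, 5, 4, 7]),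
    (1887, 2, [1, 2, 3, 4, 5, 6, 7, 3, 2, 1, 4, 3, 2, 5, 4, 8, 7, 3, 2, 4, 3, 5, 4, 7]),
    (1905, 2, [1, 2, 3, 4, 5, 6, 7, 3, 2, 1, 4, 5, 8, 7, 3, 2, 4, 3, 5, 4, 7, 3]),
    (1908, 2, [1, 2, 3, 4, 5, 6, 7, 3, 2, 1, 4, 3, 2, 5, 7, 8, 7, 3, 2, 4, 3, 5, 7]),
    (1911, 2, [1, 2, 3, 4, 5, 6, 7, 3, 2, 1, 4, 3, 5, 8, 7, 3, 2, 4, 3, 5, 4, 7, 3]),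
    (1914, 2, [1, 2, 3, 4, 5, 6, 7, 3, 2, 1, 4, 3, 2, 5, 7, 8, 7, 3, 2, 4, 3, 5, 4, 7]),
    (1917, 2, [1, 2, 3, 4, 5, 6, 7, 3, 2, 1, 4, 3, 2, 5, 8, 7, 3, 2, 4, 3, 5, 4, 7, 3]),
    (1926, 2, [1, 2, 3, 4, 5, 6, 7, 3, 2, 1, 4, 3, 2, 5, 7, 8, 7, 3, 2, 4, 3, 7]),
    (1929, 2, [1, 2, 3, 4, 5, 6, 7, 3, 2, 1, 4, 3, 5, 7, 8, 7, 3, 2, 4, 3, 7]),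
    (1931, 2, [1, 2, 3, 4, 5, 6, 7, 3, 2, 1, 4, 3, 2, 5, 4, 7, 8, 7, 3, 2, 4, 3, 7]),
    (1932, 2, [1, 2, 3, 4, 5, 6, 7, 3, 2, 1, 4, 3, 5, 7, 8, 7, 3, 2, 4, 3, 5, 7]),
    (1934, 2, [1, 2, 3, 4, 5, 6, 7, 3, 2, 1, 4, 3, 5, 7, 8, 7, 3, 2, 4, 3, 5, 6, 7]),
    (1978, 2, [1, 2, 3, 4, 5, 6, 7, 3, 2, 1, 4, 3, 5, 7, 8, 7, 3, 2, 4, 3, 5, 4, 7, 3]),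
    (1979, 2, [1, 2, 3, 4, 5, 6, 7, 3, 2, 1, 4, 3, 5, 7, 8, 7, 3, 2, 4, 3, 5, 4, 7]),
    (1989, 2, [1, 2, 3, 4, 5, 6, 7, 3, 2, 1, 4, 3, 2, 5, 4, 8, 7, 3, 2, 4, 3, 5, 6, 7]),
    (1991, 2, [1, 2, 3, 4, 5, 6, 7, 3, 2, 1, 4, 3, 5, 4, 8, 7, 3, 2, 4, 3, 5, 4, 6, 5, 7]),
    (1994, 2, [1, 2, 3, 4, 5, 6, 7, 3, 2, 1, 4, 3, 5, 4, 7, 8, 7, 3, 2, 4, 3, 5, 4, 7]),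
    (2001, 2, [1, 2, 3, 4, 5, 6, 7, 3, 2, 1, 4, 3, 2, 5, 4, 7, 8, 7, 3, 2, 4, 3, 5, 7]),
    (2002, 2, [1, 2, 3, 4, 5, 6, 7, 3, 2, 1, 4, 3, 2, 5, 4, 7, 8, 7, 3, 2, 4, 3, 5, 4, 7]),
    (2004, 2, [1, 2, 3, 4, 5, 6, 7, 3, 2, 1, 4, 3, 5, 4, 7, 8, 7, 3, 2, 4, 3, 5, 4, 6, 7]),
    (2012, 2, [1, 2, 3, 4, 5, 6, 7, 3, 2, 1, 4, 3, 5, 7, 8, 7, 3, 2, 4, 3, 5, 4, 6, 7]),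
    (2040, 2, [1, 2, 3, 4, 5, 6, 7, 3, 2, 1, 4, 3, 2, 5, 4, 8, 7, 3, 2, 4, 3, 5, 4, 6, 7]),
    (2045, 2, [1, 2, 3, 4, 5, 6, 7, 3, 2, 1, 4, 3, 2, 5, 8, 7, 3, 2, 4, 3, 5, 6, 7]),
    (2046, 2, [1, 2, 3, 4, 5, 6, 7, 3, 2, 1, 4, 3, 2, 5, 8, 7, 3, 2, 4, 3, 5, 4, 6, 7]),
    (2047, 2, [1, 2, 3, 4, 5, 6, 7, 3, 2, 1, 4, 3, 2, 5, 8, 7, 3, 2, 4, 3, 5, 4, 6, 7, 3]),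
    (2048, 2, [1, 2, 3, 4, 5, 6, 7, 3, 2, 1, 4, 3, 2, 5, 8, 7, 3, 2, 4, 3, 5, 4, 6, 5, 7]),
    (2055, 2, [1, 2, 3, 4, 5, 6, 7, 3, 2, 1, 4, 3, 2, 5, 4, 8, 7, 3, 2, 4, 3, 5, 4, 6, 5, 7]),
    (2058, 2, [1, 2, 3, 4, 5, 6, 7, 3, 2, 1, 4, 5, 8, 7, 3, 2, 4, 3, 5, 4, 7, 3, 2]),
    (2060, 2, [1, 2, 3, 4, 5, 6, 7, 3, 2, 1, 4, 3, 5, 8, 7, 3, 2, 4, 3, 5, 4, 7, 3, 2]),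
    (2073, 2, [1, 2, 3, 4, 5, 6, 7, 3, 2, 1, 4, 3, 2, 5, 8, 7, 3, 2, 4, 3, 5, 4, 7, 3, 2]),
    (2074, 2, [1, 2, 3, 4, 5, 6, 7, 3, 2, 1, 4, 3, 2, 5, 8, 7, 3, 2, 4, 3, 5, 4, 6, 7, 3, 2]),
    (2126, 2, [1, 2, 3, 4, 5, 6, 7, 3, 2, 1, 4, 3, 5, 8, 7, 3, 2, 4, 3, 7, 8]),
    (2130, 2, [1, 2, 3, 4, 5, 6, 7, 3, 2, 1, 4, 3, 5, 8, 7, 3, 2, 4, 3, 5, 7, 8]),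
    (2140, 2, [1, 2, 3, 4, 5, 6, 7, 3, 2, 1, 4, 3, 5, 4, 8, 7, 3, 2, 4, 3, 7, 8]),
    (2141, 2, [1, 2, 3, 4, 5, 6, 7, 3, 2, 1, 4, 3, 5, 4, 8, 7, 3, 2, 4, 3, 5, 7, 8]),
    (2142, 2, [1, 2, 3, 4, 5, 6, 7, 3, 2, 1, 4, 3, 2, 5, 8, 7, 3, 2, 4, 3, 7, 8]),
    (2145, 2, [1, 2, 3, 4, 5, 6, 7, 3, 2, 1, 4, 3, 2, 5, 4, 8, 7, 3, 2, 4, 3, 7, 8]),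
    (2146, 2, [1, 2, 3, 4, 5, 6, 7, 3, 2, 1, 4, 3, 5, 7, 8, 7, 3, 2, 4, 3, 7, 8]),
    (2148, 2, [1, 2, 3, 4, 5, 6, 7, 3, 2, 1, 4, 3, 5, 7, 8, 7, 3, 2, 4, 3, 5, 7, 8]),
    (2152, 2, [1, 2, 3, 4, 5, 6, 7, 3, 2, 1, 4, 3, 5, 4, 7, 8, 7, 3, 2, 4, 3, 7, 8]),
    (2153, 2, [1, 2, 3, 4, 5, 6, 7, 3, 2, 1, 4, 3, 5, 4, 7, 8, 7, 3, 2, 4, 3, 5, 7, 8]),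
    (2162, 2, [1, 2, 3, 4, 5, 6, 7, 3, 2, 1, 4, 3, 2, 5, 7, 8, 7, 3, 2, 4, 3, 7, 8]),
    (2165, 2, [1, 2, 3, 4, 5, 6, 7, 3, 2, 1, 4, 3, 2, 5, 4, 7, 8, 7, 3, 2, 4, 3, 7, 8]),
    (2216, 2, [1, 2, 3, 4, 5, 6, 7, 3, 2, 1, 4, 3, 5, 8, 7, 3, 2, 4, 3, 5, 6, 7, 8]),
    (2222, 2, [1, 2, 3, 4, 5, 6, 7, 3, 2, 1, 4, 3, 5, 4, 8, 7, 3, 2, 4, 3, 5, 6, 7, 8]),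
    (2223, 2, [1, 2, 3, 4, 5, 6, 7, 3, 2, 1, 4, 3, 5, 7, 8, 7, 3, 2, 4, 3, 5, 6, 7, 8]),
    (2226, 2, [1, 2, 3, 4, 5, 6, 7, 3, 2, 1, 4, 3, 5, 4, 7, 8, 7, 3, 2, 4, 3, 5, 6, 7, 8]),
    (2251, 2, [1, 2, 3, 4, 5, 6, 7, 3, 2, 1, 4, 3, 2, 5, 7, 8, 7, 3, 2, 4, 3, 5, 7, 8]),
    (2256, 2, [1, 2, 3, 4, 5, 6, 7, 3, 2, 1, 4, 3, 2, 5, 8, 7, 3, 2, 4, 3, 5, 7, 8]),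
    (2259, 2, [1, 2, 3, 4, 5, 6, 7, 3, 2, 1, 4, 3, 2, 5, 4, 8, 7, 3, 2, 4, 3, 5, 7, 8]),
    (2260, 2, [1, 2, 3, 4, 5, 6, 7, 3, 2, 1, 4, 3, 2, 5, 4, 7, 8, 7, 3, 2, 4, 3, 5, 7, 8]),
    (2277, 2, [1, 2, 3, 4, 5, 6, 7, 3, 2, 1, 4, 5, 8, 7, 3, 2, 4, 3, 5, 4, 7, 3, 8]),
    (2283, 2, [1, 2, 3, 4, 5, 6, 7, 3, 2, 1, 4, 3, 2, 5, 8, 7, 3, 2, 4, 3, 5, 6, 7, 8]),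
    (2286, 2, [1, 2, 3, 4, 5, 6, 7, 3, 2, 1, 4, 3, 2, 5, 4, 8, 7, 3, 2, 4, 3, 5, 6, 7, 8]),
    (2287, 2, [1, 2, 3, 4, 5, 6, 7, 3, 2, 1, 4, 5, 8, 7, 3, 2, 4, 3, 5, 4, 7, 3, 2, 8]),
    (2304, 2, [1, 2, 3, 4, 5, 6, 7, 3, 2, 1, 4, 3, 5, 8, 7, 3, 2, 4, 3, 5, 4, 7, 8]),
    (2307, 2, [1, 2, 3, 4, 5, 6, 7, 3, 2, 1, 4, 3, 5, 4, 8, 7, 3, 2, 4, 3, 5, 4, 7, 8]),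
    (2308, 2, [1, 2, 3, 4, 5, 6, 7, 3, 2, 1, 4, 3, 5, 7, 8, 7, 3, 2, 4, 3, 5, 4, 7, 8]),
    (2311, 2, [1, 2, 3, 4, 5, 6, 7, 3, 2, 1, 4, 3, 5, 4, 7, 8, 7, 3, 2, 4, 3, 5, 4, 7, 8]),
    (2328, 2, [1, 2, 3, 4, 5, 6, 7, 3, 2, 1, 4, 3, 5, 8, 7, 3, 2, 4, 3, 5, 4, 6, 7, 8]),
    (2331, 2, [1, 2, 3, 4, 5, 6, 7, 3, 2, 1, 4, 3, 5, 4, 8, 7, 3, 2, 4, 3, 5, 4, 6, 7, 8]),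
    (2332, 2, [1, 2, 3, 4, 5, 6, 7, 3, 2, 1, 4, 3, 5, 7, 8, 7, 3, 2, 4, 3, 5, 4, 6, 7, 8]),
    (2335, 2, [1, 2, 3, 4, 5, 6, 7, 3, 2, 1, 4, 3, 5, 4, 7, 8, 7, 3, 2, 4, 3, 5, 4, 6, 7, 8]),
    (2352, 2, [1, 2, 3, 4, 5, 6, 7, 3, 2, 1, 4, 3, 2, 5, 7, 8, 7, 3, 2, 4, 3, 5, 4, 7, 8]),
    (2355, 2, [1, 2, 3, 4, 5, 6, 7, 3, 2, 1, 4, 3, 2, 5, 8, 7, 3, 2, 4, 3, 5, 4, 7, 8]),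
    (2358, 2, [1, 2, 3, 4, 5, 6, 7, 3, 2, 1, 4, 3, 2, 5, 4, 8, 7, 3, 2, 4, 3, 5, 4, 7, 8]),
    (2359, 2, [1, 2, 3, 4, 5, 6, 7, 3, 2, 1, 4, 3, 2, 5, 4, 7, 8, 7, 3, 2, 4, 3, 5, 4, 7, 8]),
    (2376, 2, [1, 2, 3, 4, 5, 6, 7, 3, 2, 1, 4, 3, 5, 8, 7, 3, 2, 4, 3, 5, 4, 7, 3, 8]),
    (2379, 2, [1, 2, 3, 4, 5, 6, 7, 3, 2, 1, 4, 3, 2, 5, 8, 7, 3, 2, 4, 3, 5, 4, 6, 7, 8]),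
    (2382, 2, [1, 2, 3, 4, 5, 6, 7, 3, 2, 1, 4, 3, 2, 5, 4, 8, 7, 3, 2, 4, 3, 5, 4, 6, 7, 8]),
    (2383, 2, [1, 2, 3, 4, 5, 6, 7, 3, 2, 1, 4, 3, 5, 8, 7, 3, 2, 4, 3, 5, 4, 7, 3, 2, 8]),
    (2400, 2, [1, 2, 3, 4, 5, 6, 7, 3, 2, 1, 4, 3, 5, 7, 8, 7, 3, 2, 4, 3, 5, 4, 7, 3, 8]),
    (2403, 2, [1, 2, 3, 4, 5, 6, 7, 3, 2, 1, 4, 3, 2, 5, 8, 7, 3, 2, 4, 3, 5, 4, 6, 5, 7, 8]),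
    (2404, 2, [1, 2, 3, 4, 5, 6, 7, 3, 2, 1, 4, 3, 2, 5, 8, 7, 3, 2, 4, 3, 5, 4, 6, 7, 3, 8]),
    (2409, 2, [1, 2, 3, 4, 5, 6, 7, 3, 2, 1, 4, 3, 2, 5, 8, 7, 3, 2, 4, 3, 5, 4, 7, 3, 8]),
    (2412, 2, [1, 2, 3, 4, 5, 6, 7, 3, 2, 1, 4, 3, 5, 4, 8, 7, 3, 2, 4, 3, 5, 4, 6, 5, 7, 8]),
    (2413, 2, [1, 2, 3, 4, 5, 6, 7, 3, 2, 1, 4, 3, 2, 5, 8, 7, 3, 2, 4, 3, 5, 4, 6, 7, 3, 2, 8]),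
    (2414, 2, [1, 2, 3, 4, 5, 6, 7, 3, 2, 1, 4, 3, 2, 5, 4, 8, 7, 3, 2, 4, 3, 5, 4, 6, 5, 7, 8]),
    (2415, 2, [1, 2, 3, 4, 5, 6, 7, 3, 2, 1, 4, 3, 2, 5, 8, 7, 3, 2, 4, 3, 5, 4, 7, 3, 2, 8]),
    (2517, 2, [1, 2, 3, 4, 5, 6, 7, 3, 2, 1, 4, 3, 5, 4, 7, 3, 8, 7, 3, 2, 4, 3, 5, 4, 6, 7, 3, 8]),
    (2518, 2, [1, 2, 3, 4, 5, 6, 7, 3, 2, 1, 4, 3, 5, 4, 7, 3, 8, 7, 3, 2, 4, 3, 5, 4, 6, 7, 3]),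
    (2519, 2, [1, 2, 3, 4, 5, 6, 7, 3, 2, 1, 4, 3, 2, 5, 7, 3, 8, 7, 3, 2, 1, 0, 4, 3, 2, 1, 7, 3]),
    (2520, 2, [1, 2, 3, 4, 5, 6, 7, 3, 2, 1, 4, 3, 5, 4, 7, 8, 7, 3, 2, 4, 3, 5, 4, 6, 7, 3]),
    (2521, 2, [1, 2, 3, 4, 5, 6, 7, 3, 2, 1, 4, 3, 2, 5, 7, 3, 8, 7, 3, 2, 1, 0, 4, 3, 2, 1, 7, 3, 8]),
    (2522, 2, [1, 2, 3, 4, 5, 6, 7, 3, 2, 1, 4, 3, 5, 4, 7, 8, 7, 3, 2, 4, 3, 5, 4, 6, 7, 3, 8]),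
    (2525, 2, [1, 2, 3, 4, 5, 6, 7, 3, 2, 1, 4, 3, 2, 5, 4, 8, 7, 3, 2, 4, 3, 5, 4, 6, 7, 3, 2]),
    (2528, 2, [1, 2, 3, 4, 5, 6, 7, 3, 2, 1, 4, 3, 2, 5, 4, 8, 7, 3, 2, 4, 3, 5, 4, 6, 7, 3, 2, 8]),
    (2561, 2, [1, 2, 3, 4, 5, 6, 7, 3, 2, 1, 4, 3, 5, 4, 7, 3, 8, 7, 3, 2, 4, 3, 5, 4, 7, 3, 8]),
    (2562, 2, [1, 2, 3, 4, 5, 6, 7, 3, 2, 1, 4, 3, 5, 4, 7, 3, 8, 7, 3, 2, 4, 3, 5, 4, 7, 3]),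
    (2563, 2, [1, 2, 3, 4, 5, 6, 7, 3, 2, 1, 4, 3, 5, 4, 7, 8, 7, 3, 2, 4, 3, 5, 4, 7, 3]),
    (2564, 2, [1, 2, 3, 4, 5, 6, 7, 3, 2, 1, 4, 3, 5, 4, 7, 8, 7, 3, 2, 4, 3, 5, 4, 7, 3, 8]),
    (2585, 2, [1, 2, 3, 4, 5, 6, 7, 3, 2, 1, 4, 3, 2, 5, 4, 8, 7, 3, 2, 4, 3, 5, 4, 6, 5, 7, 3]),
    (2586, 2, [1, 2, 3, 4, 5, 6, 7, 3, 2, 1, 4, 3, 2, 5, 4, 8, 7, 3, 2, 4, 3, 5, 4, 6, 5, 7, 3, 8]),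
    (2587, 2, [1, 2, 3, 4, 5, 6, 7, 3, 2, 1, 4, 3, 2, 5, 4, 8, 7, 3, 2, 4, 3, 5, 4, 6, 7, 3]),
    (2588, 2, [1, 2, 3, 4, 5, 6, 7, 3, 2, 1, 4, 3, 2, 5, 4, 8, 7, 3, 2, 4, 3, 5, 4, 6, 7, 3, 8]),
    (2589, 2, [1, 2, 3, 4, 5, 6, 7, 3, 2, 1, 4, 3, 5, 4, 7, 8, 7, 3, 2, 4, 3, 5, 4, 7, 3, 2]),
    (2590, 2, [1, 2, 3, 4, 5, 6, 7, 3, 2, 1, 4, 3, 5, 4, 7, 8, 7, 3, 2, 4, 3, 5, 4, 7, 3, 2, 8]),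
    (2593, 2, [1, 2, 3, 4, 5, 6, 7, 3, 2, 1, 4, 3, 2, 5, 4, 8, 7, 3, 2, 4, 3, 5, 4, 7, 3, 2]),
    (2594, 2, [1, 2, 3, 4, 5, 6, 7, 3, 2, 1, 4, 3, 2, 5, 4, 8, 7, 3, 2, 4, 3, 5, 4, 7, 3]),
    (2597, 2, [1, 2, 3, 4, 5, 6, 7, 3, 2, 1, 4, 3, 2, 5, 4, 8, 7, 3, 2, 4, 3, 5, 4, 7, 3, 2, 8]),
    (2598, 2, [1, 2, 3, 4, 5, 6, 7, 3, 2, 1, 4, 3, 2, 5, 4, 8, 7, 3, 2, 4, 3, 5, 4, 7, 3, 8]),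
    (2611, 2, [1, 2, 3, 4, 5, 6, 7, 3, 2, 1, 4, 3, 2, 5, 4, 7, 8, 7, 3, 2, 4, 3, 5, 4, 7, 3]),
    (2612, 2, [1, 2, 3, 4, 5, 6, 7, 3, 2, 1, 4, 3, 2, 5, 4, 7, 8, 7, 3, 2, 4, 3, 5, 4, 7, 3, 8]),
    (2613, 2, [1, 2, 3, 4, 5, 6, 7, 3, 2, 1, 4, 3, 5, 4, 8, 7, 3, 2, 4, 3, 5, 4, 6, 7, 3]),
    (2615, 2, [1, 2, 3, 4, 5, 6, 7, 3, 2, 1, 4, 3, 5, 4, 8, 7, 3, 2, 4, 3, 5, 4, 6, 7, 3, 8]),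
    (2617, 2, [1, 2, 3, 4, 5, 6, 7, 3, 2, 1, 4, 3, 5, 4, 8, 7, 3, 2, 4, 3, 5, 4, 7, 3, 2]),
    (2618, 2, [1, 2, 3, 4, 5, 6, 7, 3, 2, 1, 4, 3, 5, 4, 8, 7, 3, 2, 4, 3, 5, 4, 7, 3]),
    (2621, 2, [1, 2, 3, 4, 5, 6, 7, 3, 2, 1, 4, 3, 5, 4, 8, 7, 3, 2, 4, 3, 5, 4, 7, 3, 2, 8]),
    (2622, 2, [1, 2, 3, 4, 5, 6, 7, 3, 2, 1, 4, 3, 5, 4, 8, 7, 3, 2, 4, 3, 5, 4, 7, 3, 8]),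
    (2623, 2, [1, 2, 3, 4, 5, 6, 7, 3, 2, 1, 4, 3, 2, 5, 4, 3, 8, 7, 3, 2, 1, 0, 4, 3, 2, 1, 7, 3, 2]),
    (2624, 2, [1, 2, 3, 4, 5, 6, 7, 3, 2, 1, 4, 3, 2, 5, 4, 3, 8, 7, 3, 2, 4, 3, 5, 4, 6, 7, 3, 2]),
    (2625, 2, [1, 2, 3, 4, 5, 6, 7, 3, 2, 1, 4, 3, 2, 5, 4, 3, 8, 7, 3, 2, 1, 0, 4, 3, 2, 1, 7, 3, 2, 8]),
    (2626, 2, [1, 2, 3, 4, 5, 6, 7, 3, 2, 1, 4, 3, 2, 5, 4, 3, 8, 7, 3, 2, 4, 3, 5, 4, 6, 7, 3, 2, 8]),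
    (2627, 2, [1, 2, 3, 4, 5, 6, 7, 3, 2, 1, 4, 3, 2, 5, 4, 3, 8, 7, 3, 2, 4, 3, 5, 4, 7, 3, 2]),
    (2628, 2, [1, 2, 3, 4, 5, 6, 7, 3, 2, 1, 4, 3, 2, 5, 4, 3, 8, 7, 3, 2, 4, 3, 5, 4, 7, 3, 2, 8]),
    (2661, 2, [1, 2, 3, 4, 5, 6, 7, 3, 2, 1, 4, 3, 2, 5, 4, 3, 8, 7, 3, 2, 4, 3, 5, 4, 7, 3]),
    (2662, 2, [1, 2, 3, 4, 5, 6, 7, 3, 2, 1, 4, 3, 2, 5, 4, 3, 8, 7, 3, 2, 4, 3, 5, 4, 7, 3, 8]),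
    (2663, 2, [1, 2, 3, 4, 5, 6, 7, 3, 2, 1, 4, 3, 2, 5, 4, 3, 8, 7, 3, 2, 4, 3, 5, 4, 6, 7, 3]),
    (2665, 2, [1, 2, 3, 4, 5, 6, 7, 3, 2, 1, 4, 3, 2, 5, 4, 3, 8, 7, 3, 2, 4, 3, 5, 4, 6, 7, 3, 8]),
    (2715, 2, [1, 2, 3, 4, 5, 6, 7, 3, 2, 1, 4, 3, 2, 5, 4, 8, 7, 3, 2, 4, 3, 5, 4, 6, 5, 7, 3, 4]),
    (2717, 2, [1, 2, 3, 4, 5, 6, 7, 3, 2, 1, 4, 3, 2, 5, 4, 8, 7, 3, 2, 4, 3, 5, 4, 6, 5, 7, 3, 4, 8]),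
    (2719, 2, [1, 2, 3, 4, 5, 6, 7, 3, 2, 1, 4, 3, 5, 4, 7, 3, 8, 7, 3, 2, 4, 3, 5, 4, 7, 3, 2]),
    (2721, 2, [1, 2, 3, 4, 5, 6, 7, 3, 2, 1, 4, 3, 5, 4, 7, 3, 8, 7, 3, 2, 4, 3, 5, 4, 7, 3, 2, 8]),
    (2743, 2, [1, 2, 3, 4, 5, 6, 7, 3, 2, 1, 4, 3, 2, 5, 4, 3, 8, 7, 3, 2, 1, 0, 4, 3, 2, 1, 7, 3]),
    (2745, 2, [1, 2, 3, 4, 5, 6, 7, 3, 2, 1, 4, 3, 2, 5, 4, 3, 8, 7, 3, 2, 1, 0, 4, 3, 2, 1, 7, 3, 8]),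
    (2749, 2, [1, 2, 3, 4, 5, 6, 7, 3, 2, 1, 4, 3, 2, 5, 4, 3, 8, 7, 3, 2, 1, 0, 4, 3, 2, 1, 7, 3, 4]),
    (2751, 2, [1, 2, 3, 4, 5, 6, 7, 3, 2, 1, 4, 3, 2, 5, 4, 3, 8, 7, 3, 2, 1, 0, 4, 3, 2, 1, 7, 3, 4, 8]),
    (3180, 2, [1, 2, 3, 4, 5, 6, 7, 3, 2, 1, 4, 3, 2, 5, 4, 3, 8, 7, 3, 2, 1, 0, 4, 3, 2, 1, 7, 3, 4, 8, 7]),
    (3181, 2, [1, 2, 3, 4, 5, 6, 7, 3, 2, 1, 4, 3, 2, 5, 4, 3, 8, 7, 3, 2, 4, 3, 5, 4, 7, 3, 8, 7]),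
    (3182, 2, [1, 2, 3, 4, 5, 6, 7, 3, 2, 1, 4, 3, 5, 4, 7, 3, 8, 7, 3, 2, 4, 3, 5, 4, 7, 3, 8, 7]),
    (3183, 2, [1, 2, 3, 4, 5, 6, 7, 3, 2, 1, 4, 3, 2, 5, 4, 3, 8, 7, 3, 2, 1, 0, 4, 3, 2, 1, 7, 3, 8, 7]),
    (3184, 2, [1, 2, 3, 4, 5, 6, 7, 3, 2, 1, 4, 3, 2, 5, 4, 3, 8, 7, 3, 2, 4, 3, 5, 4, 6, 7, 3, 8, 7]),
    (3185, 2, [1, 2, 3, 4, 5, 6, 7, 3, 2, 1, 4, 3, 2, 5, 4, 8, 7, 3, 2, 4, 3, 5, 4, 6, 5, 7, 3, 4, 8, 7]),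
    (3186, 2, [1, 2, 3, 4, 5, 6, 7, 3, 2, 1, 4, 3, 5, 4, 7, 3, 8, 7, 3, 2, 4, 3, 5, 4, 6, 7, 3, 8, 7]),
    (3187, 2, [1, 2, 3, 4, 5, 6, 7, 3, 2, 1, 4, 3, 5, 4, 7, 3, 8, 7, 3, 2, 4, 3, 5, 4, 7, 3, 2, 8, 7]),
    (3188, 2, [1, 2, 3, 4, 5, 6, 7, 3, 2, 1, 4, 3, 2, 5, 7, 3, 8, 7, 3, 2, 1, 0, 4, 3, 2, 1, 7, 3, 8, 7]),
    (3189, 2, [1, 2, 3, 4, 5, 6, 7, 3, 2, 1, 4, 3, 2, 5, 4, 3, 8, 7, 3, 2, 1, 0, 4, 3, 2, 1, 7, 3, 2, 8, 7]),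
    (3190, 2, [1, 2, 3, 4, 5, 6, 7, 3, 2, 1, 4, 3, 2, 5, 4, 3, 8, 7, 3, 2, 4, 3, 5, 4, 6, 7, 3, 2, 8, 7]),
    (3191, 2, [1, 2, 3, 4, 5, 6, 7, 3, 2, 1, 4, 3, 2, 5, 4, 3, 8, 7, 3, 2, 4, 3, 5, 4, 7, 3, 2, 8, 7]),
    (3192, 2, [1, 2, 3, 4, 5, 6, 7, 3, 2, 1, 4, 3, 2, 5, 4, 8, 7, 3, 2, 4, 3, 5, 4, 6, 7, 3, 8, 7]),
    (3193, 2, [1, 2, 3, 4, 5, 6, 7, 3, 2, 1, 4, 3, 2, 5, 4, 8, 7, 3, 2, 4, 3, 5, 4, 6, 5, 7, 3, 8, 7]),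
    (3194, 2, [1, 2, 3, 4, 5, 6, 7, 3, 2, 1, 4, 3, 5, 4, 7, 8, 7, 3, 2, 4, 3, 5, 4, 6, 7, 3, 8, 7]),
    (3195, 2, [1, 2, 3, 4, 5, 6, 7, 3, 2, 1, 4, 3, 2, 5, 4, 8, 7, 3, 2, 4, 3, 5, 4, 6, 7, 3, 2, 8, 7]),
    (3196, 2, [1, 2, 3, 4, 5, 6, 7, 3, 2, 1, 4, 3, 5, 4, 7, 8, 7, 3, 2, 4, 3, 5, 4, 7, 3, 2, 8, 7]),
    (3197, 2, [1, 2, 3, 4, 5, 6, 7, 3, 2, 1, 4, 3, 2, 5, 4, 8, 7, 3, 2, 4, 3, 5, 4, 7, 3, 2, 8, 7]),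
    (3198, 2, [1, 2, 3, 4, 5, 6, 7, 3, 2, 1, 4, 3, 2, 5, 4, 8, 7, 3, 2, 4, 3, 5, 4, 7, 3, 8, 7]),
    (3199, 2, [1, 2, 3, 4, 5, 6, 7, 3, 2, 1, 4, 3, 5, 4, 7, 8, 7, 3, 2, 4, 3, 5, 4, 7, 3, 8, 7]),
    (3200, 2, [1, 2, 3, 4, 5, 6, 7, 3, 2, 1, 4, 3, 5, 4, 8, 7, 3, 2, 4, 3, 5, 4, 7, 3, 2, 8, 7]),
    (3201, 2, [1, 2, 3, 4, 5, 6, 7, 3, 2, 1, 4, 3, 5, 4, 8, 7, 3, 2, 4, 3, 5, 4, 7, 3, 8, 7]),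
    (3202, 2, [1, 2, 3, 4, 5, 6, 7, 3, 2, 1, 4, 3, 2, 5, 4, 7, 8, 7, 3, 2, 4, 3, 5, 4, 7, 3, 8, 7]),
    (3203, 2, [1, 2, 3, 4, 5, 6, 7, 3, 2, 1, 4, 3, 5, 4, 8, 7, 3, 2, 4, 3, 5, 4, 6, 7, 3, 8, 7])]

end Cfsg.Agent.FischerPresented.Fi22TwoTwo
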