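import Cfsg.Agent.Lib.FischerPresented.Fi22OuterCheck
import Cfsg.Agent.Lib.FischerPresented.Fi22TwoTwoData
import Mathlib.GroupTheory.Coxeter.Matrix

/-! Kernel checks for the centraliser of a product of two transpositions in Aut(Fi22). -/

set_option autoImplicit false
set_option maxRecDepth 100000

namespace Cfsg.Agent.FischerPresented.Fi22TwoTwo

open Cfsg.Agent.CosetCert
open Cfsg.Agent.CosetData
open Cfsg.Agent.FischerPresented.Fi22Two (eqW moved dW dProd e1W)
open Cfsg.Agent.FischerPresented.Fi22Outer (mirW okW)

/-- An element as a parity of the symmetry and a word. -/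
abbrev P := Bool × List ℕ

/-- The product. -/
def pmul : P → P → P := fun p q => (xor p.1 q.1, p.2 ++ cond p.1 (mirW q.2) q.2)

/-- A power. -/
def ppow (p : P) : ℕ → P
  | 0 => (false, [])
  | n + 1 => pmul (ppow p n) p

/-- Selection by bits. -/
def pw : List P → ℕ → P
  | [], _ => (false, [])
  | e :: es, a => pmul (cond (Nat.beq (a % 2) 1) e (false, [])) (pw es (a / 2))

/-- Equal elements. -/
noncomputable def peq (p q : P) : Bool := (p.1 == q.1) && eqW p.2 q.2

/-- The basis. -/
def eP : List P := eW.map fun w => (false, w)

/-- The eleven generators. -/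
def gP : List P := eP ++ fP

/-- The element with given coordinates. -/
def cP (c : ℕ) : P := pmul (pw eP (c / 32)) (pw fP (c % 32))

/-- The reflections. -/
def rP : List P := rW.map fun w => (false, w)

theorem words_ok : (eW.all okW && (rW.all okW && fP.all fun p => okW p.2)) = true := by decide +kernel

theorem basis_pair : (eW.all fun u => eW.all fun v => eqW (u ++ v) (v ++ u)) = true := by decide +kernel

theorem basis_square : (eW.all fun u => eqW (u ++ u) []) = true := by decide +kernel

theorem conj_checked : ((List.range 5).all fun m => (List.range 6).all fun k =>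
    peq (pmul (fP.getD m (false, [])) (eP.getD k (false, [])))
      (pmul (pw eP ((GM.getD m []).getD k 0)) (fP.getD m (false, [])))) = true := by decide +kernel

theorem table_checked : ((List.range 32).all fun i =>
    MT.getD i [] == (List.range 6).map fun k => TwoCert.act GM i (2 ^ k)) = true := by decide +kernel

theorem table_nodup : MT.Nodup := by decide +kernel

theorem gm_lt : ∀ M ∈ GM, ∀ v ∈ M, v < 2 ^ 6 := by decide +kernel

theorem gm_len : ∀ m < 5, (GM.getD m []).length = 6 := by decide +kernel

theorem inj_checked : ((List.range 64).all fun a => Nat.beq a 0 ||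
    (!(pw eP a).1 && moved (pw eP a).2)) = true := by decide +kernel

theorem step_checked : ((List.range 32).all fun i => (List.range 5).all fun m =>
    (fun c => Nat.blt c 2048 && peq (pmul (pw fP i) (fP.getD m (false, []))) (cP c))
      ((CL.getD i []).getD m 0)) = true := by decide +kernel

theorem pair_checked : (gP.all fun g => gP.all fun h =>
    peq (pmul g h) (pmul h g) || peq (pmul g h) (pmul (pw eP 1) (pmul h g))) = true := by decide +kernel

theorem square_checked : (gP.all fun g =>
    peq (pmul g g) (false, []) || peq (pmul g g) (pw eP 1)) = true := by decide +kernel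

theorem centre_checked : ((List.range 64).all fun a => Nat.ble a 1 ||
    (List.range 5).any fun m => !Nat.beq (TwoCert.app (GM.getD m []) a) a) = true := by decide +kernel

theorem central_checked : ((List.range 5).all fun m => Nat.beq (TwoCert.app (GM.getD m []) 1) 1) = true := by
  decide +kernel

theorem j_checked : eqW (eW.getD 0 []) ([0] ++ dW e1W) = true := by decide +kernel

theorem norm_checked : ((List.range 6).all fun x => (List.range 11).all fun g =>
    (fun c => Nat.blt c 2048 &&
      peq (pmul (rP.getD x (false, [])) (gP.getD g (false, [])))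
        (pmul (cP c) (rP.getD x (false, []))))
      ((NR.getD x []).getD g 0)) = true := by decide +kernel

theorem rel_checked : ∀ i j : Fin 6, ((fun c => Nat.blt c 2048 &&
    peq (ppow (pmul (rP.getD i (false, [])) (rP.getD j (false, []))) (CoxeterMatrix.E₆.M i j)) (cP c))
      ((REL.getD i []).getD j 0)) = true := by decide +kernel

theorem r_fix : (rW.all fun w => eqW (w ++ eW.getD 0 []) (eW.getD 0 [] ++ w)) = true := by decide +kernel

theorem w0_checked : ((w0.all fun x => Nat.blt x 6) && Nat.beq (w0.length % 2) 0) = true := by decide +kernel

/-- The transvection. -/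
def tP : P := (false, (w0.map fun x => rW.getD x []).flatten)

theorem wit_checked : (Nat.blt witC.1 11 && (Nat.blt witC.2 2048 &&
    (!Nat.beq witC.2 0 && (!Nat.beq witC.2 32 &&
      peq (pmul tP (gP.getD witC.1 (false, [])))
        (pmul (cP witC.2) (pmul (gP.getD witC.1 (false, [])) tP)))))) = true := by decide +kernel

/-- The number of common fixed points. -/
noncomputable def common : List ℕ :=
  (List.range 3510).filter fun p => Nat.beq (tact Fi22B.P [0] p) p &&
    Nat.beq (tact Fi22B.P (dW e1W).reverse p) p

theorem common_card : Nat.beq common.length 182 = true := by decide +kernel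

theorem odd_paths : (oddW.all fun e => Nat.blt e.2.1 6 && (okW e.2.2 &&
    Nat.beq (tact Fi22B.P e.2.2 0) e.1)) = true := by decide +kernel

/-- The conjugate of `e * d` by the witness, and the failure to commute. -/
noncomputable def oddOK (e : ℕ × ℕ × List ℕ) : Bool :=
  (fun q x => (fun y => moved (x ++ y ++ (y ++ x).reverse)) (q ++ x ++ q.reverse))
    (eW.getD e.2.1 []) (dW e1W ++ dW e.2.2)

theorem odd_part0 : ((oddW.take 256).all oddOK) = true := by decide +kernel

theorem odd_part1 : ((oddW.drop 256).all oddOK) = true := by decide +kernel

theorem odd_cover : ((List.range 3510).all fun p =>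
    (!Nat.beq (tact Fi22B.P [0] p) p || Nat.beq (tact Fi22B.P (dW e1W).reverse p) p) ||
      oddW.any fun e => Nat.beq e.1 p) = true := by decide +kernel

theorem eW_fix_z : (eW.all fun q => eqW (q ++ [0]) ([0] ++ q) && eqW (q ++ dW e1W) (dW e1W ++ q)) = true := by
  decide +kernel

theorem orb_count : Nat.beq ((List.range 3510).filter
    (bit (orbitBits Fi22B.P Fi22B.sw 7 Fi22B.orb1))).length 693 = true := by decide +kernel

theorem swap_checked : ((fP.getD 4 (false, [])).1 &&
    eqW ((fP.getD 4 (false, [])).2 ++ mirW [0] ++ (fP.getD 4 (false, [])).2.reverse) (dW e1W)) = true := by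
  decide +kernel

end Cfsg.Agent.FischerPresented.Fi22TwoTwo
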