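import Cfsg.Prelude.Def_MonsterType
import Cfsg.Agent.Lib.LargeExtra.Basic
import Cfsg.Agent.Lib.FischerPresented.Fi22Outer
import Cfsg.Agent.Lib.FischerPresented.Fi22TwoTwoCheck

/-!
The extraspecial 2^(1+10) in the centraliser of a product of two commuting transpositions in Aut(Fi22).
-/

set_option autoImplicit false
set_option maxRecDepth 100000

namespace Cfsg.Agent.FischerPresented.Fi22TwoTwo

open scoped commutatorElement
open Cfsg.Agent.CosetCert
open Cfsg.Agent.CosetData
open Cfsg.Agent.FischerPresented.Fi22Two (eqW moved dW dProd e1W eq_of_eqW ne_one_of_moved dEl)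
open Cfsg.Agent.FischerPresented.Fi22Outer (mirW okW sigma sigma_word sigma_sigma conj_inj okW_iff)

local notation "S" => Fi22B.setup
local notation "G₀" => Setup.G Fi22B.setup
local notation "AA" => MulAut (Setup.G Fi22B.setup)
local notation "wp" => wprod (Setup.gen Fi22B.setup)

theorem finite_G : Finite G₀ := Fi22.order_facts.1

instance finite_A : Finite AA :=
  have := finite_G
  inferInstance

/-- The automorphism of a coded element. -/
noncomputable def ev (p : P) : AA := MulAut.conj (wp p.2) * cond p.1 sigma 1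

theorem sigma_conj (y : G₀) : sigma * MulAut.conj y = MulAut.conj (sigma y) * sigma := by
  ext v
  simp [MulAut.mul_apply, MulAut.conj_apply]

theorem sigma_mul_sigma : sigma * sigma = (1 : AA) := MulEquiv.ext sigma_sigma

theorem ev_one : ev (false, []) = 1 := by simp [ev, wprod]

theorem ev_word (u : List ℕ) : ev (false, u) = MulAut.conj (wp u) := by simp [ev]

theorem ev_mul {p q : P} (hq : okW q.2 = true) : ev (pmul p q) = ev p * ev q := by
  obtain ⟨b, u⟩ := p
  obtain ⟨c, v⟩ := q
  change okW v = true at hq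
  cases b
  · simp [ev, pmul, wprod_append, map_mul, mul_assoc]
  · cases c
    · simp only [ev, pmul, Bool.xor_false, cond_true, cond_false, mul_one, wprod_append, map_mul]
      rw [mul_assoc (MulAut.conj (wp u)) sigma, sigma_conj, sigma_word hq, mul_assoc]
    · simp only [ev, pmul, Bool.xor_true, Bool.not_true, cond_true, cond_false, mul_one, wprod_append,
        map_mul]
      rw [mul_assoc (MulAut.conj (wp u)) sigma, ← mul_assoc sigma, sigma_conj, sigma_word hq,
        mul_assoc _ sigma sigma, sigma_mul_sigma, mul_one]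

theorem ev_eq {p q : P} (h : peq p q = true) : ev p = ev q := by
  simp only [peq, Bool.and_eq_true, beq_iff_eq] at h
  rw [ev, ev, h.1, eq_of_eqW h.2]

theorem mirW_ok {u : List ℕ} (hu : okW u = true) : okW (mirW u) = true := by
  rw [okW_iff] at hu ⊢
  intro x hx
  obtain ⟨y, hy, rfl⟩ := List.mem_map.1 hx
  have := List.all_eq_true.1 Fi22Outer.mir_lt y (List.mem_range.2 (hu y hy))
  simp only [Bool.and_eq_true, Nat.blt_eq] at this
  exact this.1

theorem pmul_ok {p q : P} (hp : okW p.2 = true) (hq : okW q.2 = true) : okW (pmul p q).2 = true := by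
  have h2 : okW (cond p.1 (mirW q.2) q.2) = true := by cases p.1 <;> simp [hq, mirW_ok hq]
  rw [okW_iff] at hp h2 ⊢
  intro x hx
  simp only [pmul, List.mem_append] at hx
  rcases hx with hx | hx
  · exact hp x hx
  · exact h2 x hx

theorem ppow_spec {p : P} (hp : okW p.2 = true) : ∀ n, okW (ppow p n).2 = true ∧ ev (ppow p n) = ev p ^ n := by
  intro n
  induction n with
  | zero => exact ⟨rfl, by rw [ppow, ev_one, pow_zero]⟩
  | succ n ih => exact ⟨pmul_ok ih.1 hp, by rw [ppow, ev_mul hp, ih.2, pow_succ]⟩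

theorem pw_spec : ∀ {l : List P}, (∀ e ∈ l, okW e.2 = true) → ∀ a,
    okW (pw l a).2 = true ∧ ev (pw l a) = TwoCert.val (l.map ev) a := by
  intro l
  induction l with
  | nil => intro _ a; exact ⟨rfl, ev_one⟩
  | cons e l ih =>
    intro h a
    obtain ⟨h1, h2⟩ := ih (fun x hx => h x (List.mem_cons_of_mem _ hx)) (a / 2)
    have he := h e (List.mem_cons_self ..)
    by_cases ha : a % 2 = 1
    · refine ⟨by simp only [pw, ha, Nat.beq_refl, cond_true]; exact pmul_ok he h1, ?_⟩
      simp only [pw, List.map_cons, TwoCert.val, ha, Nat.beq_refl, cond_true, if_true]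
      rw [ev_mul h1, h2]
    · have hb : Nat.beq (a % 2) 1 = false := by
        cases hh : Nat.beq (a % 2) 1
        · rfl
        · exact absurd (Nat.eq_of_beq_eq_true hh) ha
      refine ⟨by simp only [pw, hb, cond_false]; exact pmul_ok rfl h1, ?_⟩
      simp only [pw, List.map_cons, TwoCert.val, hb, cond_false, if_neg ha]
      rw [ev_mul h1, h2, ev_one]

theorem eP_ok : ∀ e ∈ eP, okW e.2 = true := by
  intro e he
  have h := words_ok
  simp only [Bool.and_eq_true, List.all_eq_true] at h
  obtain ⟨w, hw, rfl⟩ := List.mem_map.1 he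
  exact h.1 w hw

theorem fP_ok : ∀ e ∈ fP, okW e.2 = true := by
  intro e he
  have h := words_ok
  simp only [Bool.and_eq_true, List.all_eq_true] at h
  exact h.2.2 e he

theorem rP_ok : ∀ e ∈ rP, okW e.2 = true := by
  intro e he
  have h := words_ok
  simp only [Bool.and_eq_true, List.all_eq_true] at h
  obtain ⟨w, hw, rfl⟩ := List.mem_map.1 he
  exact h.2.1 w hw

theorem gP_ok : ∀ e ∈ gP, okW e.2 = true := by
  intro e he
  rcases List.mem_append.1 he with h | h
  exacts [eP_ok e h, fP_ok e h]

theorem getD_ok {l : List P} (h : ∀ e ∈ l, okW e.2 = true) (k : ℕ) : okW (l.getD k (false, [])).2 = true := by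
  by_cases hk : k < l.length
  · rw [List.getD_eq_getElem _ _ hk]; exact h _ (List.getElem_mem hk)
  · rw [List.getD_eq_default _ _ (by omega)]; rfl

/-- The basis. -/
noncomputable def es : List AA := eP.map ev

/-- The lifts. -/
noncomputable def gs : List AA := fP.map ev

theorem es_getElem {k : ℕ} (h : k < es.length) : es[k] = ev (eP.getD k (false, [])) := by
  have h' : k < eP.length := by simpa [es] using h
  rw [List.getD_eq_getElem _ _ h']
  exact List.getElem_map _

theorem conj_forall :
    List.Forall₂ (fun g M => (es.map fun e => g * e * g⁻¹) = M.map (TwoCert.val es)) gs GM := by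
  have hl : gs.length = 5 := rfl
  have hb : es.length = 6 := rfl
  have hg : GM.length = 5 := rfl
  refine List.forall₂_iff_get.2 ⟨by rw [hl, hg], fun m h1 h2 => ?_⟩
  have hm : m < 5 := hl ▸ h1
  have hlm := gm_len m hm
  rw [List.getD_eq_getElem _ _ h2] at hlm
  refine List.ext_getElem (by simp [hb, hlm]) fun k k1 k2 => ?_
  have hk : k < 6 := by simpa [hlm] using k2
  have h := ev_eq (List.all_eq_true.1 (List.all_eq_true.1 conj_checked m (List.mem_range.2 hm)) k
    (List.mem_range.2 hk))
  rw [ev_mul (getD_ok eP_ok k), ev_mul (getD_ok fP_ok m)] at h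
  rw [(pw_spec eP_ok _).2, List.getD_eq_getElem _ _ h2,
    List.getD_eq_getElem _ _ (show k < GM[m].length by omega)] at h
  rw [List.getElem_map, List.getElem_map, es_getElem]
  have hgs : gs[m]'h1 = ev (fP.getD m (false, [])) := by
    rw [List.getD_eq_getElem _ _ (show m < fP.length from hm)]
    exact List.getElem_map _
  show gs[m]'h1 * _ * (gs[m]'h1)⁻¹ = _
  rw [hgs, h, mul_inv_cancel_right]
  rfl

/-- The system. -/
noncomputable def sys : TwoCert.Sys AA where
  n := 6
  N := 32
  es := es
  gs := gs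
  GM := GM
  MT := MT
  basis_sq := by
    intro e he
    obtain ⟨q, hq, rfl⟩ := List.mem_map.1 he
    obtain ⟨w, hw, rfl⟩ := List.mem_map.1 hq
    have := eq_of_eqW (List.all_eq_true.1 basis_square w hw)
    rw [ev_word, ← map_mul, ← wprod_append, this, wprod_nil, map_one]
  basis_comm := by
    intro e he e' he'
    obtain ⟨q, hq, rfl⟩ := List.mem_map.1 he
    obtain ⟨u, hu, rfl⟩ := List.mem_map.1 hq
    obtain ⟨q', hq', rfl⟩ := List.mem_map.1 he'
    obtain ⟨v, hv, rfl⟩ := List.mem_map.1 hq'
    have := eq_of_eqW (List.all_eq_true.1 (List.all_eq_true.1 basis_pair u hu) v hv)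
    rw [ev_word, ev_word, Commute, SemiconjBy, ← map_mul, ← map_mul, ← wprod_append, ← wprod_append, this]
  conj_forall := conj_forall
  gm_lt := gm_lt
  table_eq := fun i hi => by simpa using List.all_eq_true.1 table_checked i (List.mem_range.2 hi)
  table_nodup := table_nodup
  table_length := rfl
  va_ne_one := by
    intro a ha h0
    have hh := List.all_eq_true.1 inj_checked a (List.mem_range.2 ha)
    simp only [Bool.or_eq_true, Nat.beq_eq, Bool.and_eq_true, Bool.not_eq_true'] at hh
    rcases hh with hh | ⟨hf, hm⟩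
    · exact absurd hh h0
    · rw [es, ← (pw_spec eP_ok a).2, ev, hf, cond_false, mul_one]
      intro h
      exact ne_one_of_moved hm (conj_inj (h.trans (map_one _).symm))
  step := by
    intro i hi g hg
    obtain ⟨p, hp, rfl⟩ := List.mem_map.1 hg
    obtain ⟨m, hm, rfl⟩ := List.getElem_of_mem hp
    have h := List.all_eq_true.1 (List.all_eq_true.1 step_checked i (List.mem_range.2 hi)) m
      (List.mem_range.2 hm)
    simp only [Bool.and_eq_true, Nat.blt_eq] at h
    refine ⟨(CL.getD i []).getD m 0 / 32, show _ / 32 < 2 ^ 6 by omega,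
      (CL.getD i []).getD m 0 % 32, Nat.mod_lt _ (by norm_num), ?_⟩
    have he := ev_eq h.2
    rw [ev_mul (getD_ok fP_ok m), cP, ev_mul (pw_spec fP_ok _).1, (pw_spec eP_ok _).2,
      (pw_spec fP_ok _).2, (pw_spec fP_ok _).2, List.getD_eq_getElem _ _ hm] at he
    exact he
  pos := by norm_num

/-- The extraspecial group. -/
noncomputable def QA : Subgroup AA := TwoCert.Sys.top sys

theorem va_mem {a : ℕ} (ha : a < 64) : sys.va a ∈ QA :=
  TwoCert.Sys.bottom_le sys ⟨a, ha, rfl⟩

theorem sv_mem {i : ℕ} (hi : i < 32) : sys.sv i ∈ QA :=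
  ⟨0, Nat.two_pow_pos _, i, hi, by rw [TwoCert.Sys.va_zero, one_mul]⟩

theorem ev_cP (c : ℕ) : ev (cP c) = sys.va (c / 32) * sys.sv (c % 32) := by
  rw [cP, ev_mul (pw_spec fP_ok _).1, (pw_spec eP_ok _).2, (pw_spec fP_ok _).2]; rfl

theorem cP_mem {c : ℕ} (hc : c < 2048) : ev (cP c) ∈ QA := by
  rw [ev_cP]
  exact mul_mem (va_mem (by omega)) (sv_mem (Nat.mod_lt _ (by norm_num)))

theorem card_QA : Nat.card QA = 2 ^ 11 := (TwoCert.Sys.card_top sys).trans (by norm_num [sys])

theorem va_pow {k : ℕ} (hk : k < 6) : sys.va (2 ^ k) = ev (eP.getD k (false, [])) := by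
  have hk' : k < es.length := hk
  exact (TwoCert.val_pow es k hk').trans (es_getElem hk')

theorem sv_pow {m : ℕ} (hm : m < 5) : sys.sv (2 ^ m) = ev (fP.getD m (false, [])) := by
  show TwoCert.val gs (2 ^ m) = _
  rw [TwoCert.val_pow gs m hm, List.getD_eq_getElem _ _ (show m < fP.length from hm)]
  exact List.getElem_map _

theorem gP_mem {g : P} (hg : g ∈ gP) : ev g ∈ QA := by
  rcases List.mem_append.1 hg with h | h
  · obtain ⟨k, hk, rfl⟩ := List.getElem_of_mem h
    have hk6 : k < 6 := hk
    rw [← List.getD_eq_getElem _ (false, []) hk, ← va_pow hk6]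
    exact va_mem (Nat.pow_lt_pow_right (by norm_num) hk6)
  · obtain ⟨m, hm, rfl⟩ := List.getElem_of_mem h
    have hm5 : m < 5 := hm
    rw [← List.getD_eq_getElem _ (false, []) hm, ← sv_pow hm5]
    exact sv_mem (Nat.pow_lt_pow_right (by norm_num) hm5)

theorem QA_le_closure : QA ≤ Subgroup.closure (Set.range fun k : Fin gP.length => ev gP[k]) := by
  have hmem : ∀ g ∈ gP, ev g ∈ Subgroup.closure (Set.range fun k : Fin gP.length => ev gP[k]) := by
    intro g hg
    obtain ⟨k, hk, rfl⟩ := List.getElem_of_mem hg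
    exact Subgroup.subset_closure ⟨⟨k, hk⟩, rfl⟩
  have key : ∀ (l : List P), (∀ g ∈ l, g ∈ gP) → ∀ a,
      TwoCert.val (l.map ev) a ∈ Subgroup.closure (Set.range fun k : Fin gP.length => ev gP[k]) := by
    intro l
    induction l with
    | nil => intro _ a; exact one_mem _
    | cons e l ih =>
      intro h a
      simp only [List.map_cons, TwoCert.val]
      refine mul_mem ?_ (ih (fun x hx => h x (List.mem_cons_of_mem _ hx)) _)
      split
      · exact hmem e (h e (List.mem_cons_self ..))
      · exact one_mem _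
  rintro _ ⟨a, -, i, -, rfl⟩
  exact mul_mem (key eP (fun g hg => List.mem_append_left _ hg) a)
    (key fP (fun g hg => List.mem_append_right _ hg) i)

/-- The central involution. -/
noncomputable def j0 : G₀ := Fi22Class.z * dEl e1W

/-- Its inner automorphism. -/
noncomputable def jA : AA := MulAut.conj j0

theorem va_one : sys.va 1 = jA := by
  rw [show (1 : ℕ) = 2 ^ 0 from rfl, va_pow (by norm_num)]
  have e : eP.getD 0 (false, []) = (false, eW.getD 0 []) := rfl
  rw [e, ev_word, eq_of_eqW j_checked, wprod_append]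
  rfl

theorem va_one_ne : sys.va 1 ≠ 1 := sys.va_ne_one 1 (show 1 < 2 ^ 6 by norm_num) one_ne_zero

theorem orderOf_jA : orderOf jA = 2 := by
  rw [← va_one]
  refine orderOf_eq_prime ?_ va_one_ne
  rw [pow_two, ← TwoCert.Sys.va_xor, Nat.xor_self, TwoCert.Sys.va_zero]

theorem gP_comm_j {g : P} (hg : g ∈ gP) : Commute (ev g) jA := by
  rw [← va_one]
  rcases List.mem_append.1 hg with h | h
  · obtain ⟨k, hk, rfl⟩ := List.getElem_of_mem h
    rw [← List.getD_eq_getElem _ (false, []) hk, ← va_pow (show k < 6 from hk)]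
    exact sys.va_comm _ _
  · obtain ⟨m, hm, rfl⟩ := List.getElem_of_mem h
    have hm5 : m < 5 := hm
    rw [← List.getD_eq_getElem _ (false, []) hm, ← sv_pow hm5]
    show sys.sv (2 ^ m) * sys.va 1 = sys.va 1 * sys.sv (2 ^ m)
    rw [TwoCert.Sys.sv_mul_va]
    congr 2
    have hc := List.all_eq_true.1 central_checked m (List.mem_range.2 hm5)
    rw [Nat.beq_eq] at hc
    interval_cases m <;> exact hc

theorem QA_le_centralizer : QA ≤ Subgroup.centralizer ({jA} : Set AA) := by
  refine QA_le_closure.trans ((Subgroup.closure_le _).2 ?_)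
  rintro _ ⟨k, rfl⟩
  exact Subgroup.mem_centralizer_singleton_iff.2 (gP_comm_j (List.getElem_mem _)).eq

theorem pair_mod (x : AA) (hx : x ∈ QA) (y : AA) (hy : y ∈ QA) :
    ⁅x, y⁆ ∈ Subgroup.zpowers jA ∧ x * x ∈ Subgroup.zpowers jA := by
  set Z := Subgroup.zpowers jA with hZ
  have hcen : ∀ a ∈ QA, ∀ z ∈ Z, a * z = z * a := by
    intro a ha z hz
    obtain ⟨n, rfl⟩ := hz
    have : Commute a jA := Subgroup.mem_centralizer_singleton_iff.1 (QA_le_centralizer ha)
    exact (this.zpow_right n).eq
  have hj1 : jA ∈ Z := Subgroup.mem_zpowers _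
  have base : ∀ g ∈ gP, (ev g * ev g ∈ Z) ∧ ∀ h ∈ gP, ⁅ev g, ev h⁆ ∈ Z := by
    intro g hg
    have hone : ev (pw eP 1) = jA := ((pw_spec eP_ok 1).2).trans va_one
    refine ⟨?_, fun h hh => ?_⟩
    · have := List.all_eq_true.1 square_checked g hg
      rw [Bool.or_eq_true] at this
      rw [← ev_mul (gP_ok g hg)]
      rcases this with e | e
      · rw [ev_eq e, ev_one]; exact one_mem _
      · rw [ev_eq e, hone]; exact hj1
    · have := List.all_eq_true.1 (List.all_eq_true.1 pair_checked g hg) h hh
      rw [Bool.or_eq_true] at this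
      rcases this with e | e
      · have := ev_eq e
        rw [ev_mul (gP_ok h hh), ev_mul (gP_ok g hg)] at this
        rw [commutatorElement_eq_one_iff_mul_comm.2 this]; exact one_mem _
      · have := ev_eq e
        rw [ev_mul (gP_ok h hh), ev_mul (pmul_ok (gP_ok h hh) (gP_ok g hg)), ev_mul (gP_ok g hg), hone] at this
        rw [commutatorElement_def, this]
        simpa [mul_assoc] using hj1
  have key : ∀ a ∈ Subgroup.closure (Set.range fun k : Fin gP.length => ev gP[k]), a ∈ QA := fun a ha =>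
    (Subgroup.closure_le QA).2 (by rintro _ ⟨k, rfl⟩; exact gP_mem (List.getElem_mem _)) ha
  have hcl : ∀ a ∈ Subgroup.closure (Set.range fun k : Fin gP.length => ev gP[k]),
      ∀ g ∈ gP, ⁅a, ev g⁆ ∈ Z := by
    intro a ha
    induction ha using Subgroup.closure_induction with
    | mem a h => obtain ⟨k, rfl⟩ := h; exact fun g hg => (base _ (List.getElem_mem _)).2 g hg
    | one => intro g _; rw [commutatorElement_one_left]; exact one_mem _
    | mul a b ha _ iha ihb =>
      intro g hg
      have e : ⁅a * b, ev g⁆ = a * ⁅b, ev g⁆ * a⁻¹ * ⁅a, ev g⁆ := by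
        simp only [commutatorElement_def]; group
      rw [e, hcen a (key a ha) _ (ihb g hg), mul_inv_cancel_right]
      exact mul_mem (ihb g hg) (iha g hg)
    | inv a ha iha =>
      intro g hg
      have e : ⁅a⁻¹, ev g⁆ = a⁻¹ * ⁅a, ev g⁆⁻¹ * a := by simp only [commutatorElement_def]; group
      rw [e, hcen a⁻¹ (inv_mem (key a ha)) _ (inv_mem (iha g hg)), mul_assoc, inv_mul_cancel, mul_one]
      exact inv_mem (iha g hg)
  have hall : ∀ b ∈ Subgroup.closure (Set.range fun k : Fin gP.length => ev gP[k]),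
      ∀ a ∈ Subgroup.closure (Set.range fun k : Fin gP.length => ev gP[k]), ⁅a, b⁆ ∈ Z := by
    intro b hb
    induction hb using Subgroup.closure_induction with
    | mem b h => obtain ⟨k, rfl⟩ := h; exact fun a ha => hcl a ha _ (List.getElem_mem _)
    | one => intro a _; rw [commutatorElement_one_right]; exact one_mem _
    | mul b c hb _ ihb ihc =>
      intro a ha
      have e : ⁅a, b * c⁆ = ⁅a, b⁆ * (b * ⁅a, c⁆ * b⁻¹) := by
        simp only [commutatorElement_def]; group
      rw [e, hcen b (key b hb) _ (ihc a ha), mul_inv_cancel_right]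
      exact mul_mem (ihb a ha) (ihc a ha)
    | inv b hb ihb =>
      intro a ha
      have e : ⁅a, b⁻¹⁆ = b⁻¹ * ⁅a, b⁆⁻¹ * b := by simp only [commutatorElement_def]; group
      rw [e, hcen b⁻¹ (inv_mem (key b hb)) _ (inv_mem (ihb a ha)), mul_assoc, inv_mul_cancel, mul_one]
      exact inv_mem (ihb a ha)
  refine ⟨hall y (QA_le_closure hy) x (QA_le_closure hx), ?_⟩
  have hx' := QA_le_closure hx
  induction hx' using Subgroup.closure_induction with
  | mem a h => obtain ⟨k, rfl⟩ := h; exact (base _ (List.getElem_mem _)).1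
  | one => simp
  | mul a b ha hb iha ihb =>
    have e : a * b * (a * b) = a * a * (a⁻¹ * ⁅b, a⁆ * a) * (b * b) := by
      rw [commutatorElement_def]
      simp only [mul_assoc]
      group
    rw [e]
    refine mul_mem (mul_mem (iha (key a ha)) ?_) (ihb (key b hb))
    rw [hcen a⁻¹ (inv_mem (key a ha)) _ (hall a ha b hb), mul_assoc, inv_mul_cancel, mul_one]
    exact hall a ha b hb
  | inv a ha iha => rw [← mul_inv_rev]; exact inv_mem (iha (key a ha))

theorem centre_QA {x : AA} (hx : x ∈ QA) (hc : ∀ y ∈ QA, x * y = y * x) : x ∈ Subgroup.zpowers jA := by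
  obtain ⟨a, ha, i, hi, rfl⟩ := hx
  have hi32 : i < 32 := hi
  have hact : ∀ v < 2 ^ sys.n, TwoCert.act sys.GM i v = TwoCert.act sys.GM 0 v := by
    intro v hv
    refine sys.va_inj (sys.act_lt i v hv) (sys.act_lt 0 v hv) ?_
    rw [← sys.conj_va a i v, hc _ (va_mem hv), mul_inv_cancel_right, ← sys.sv_conj 0 v,
      TwoCert.Sys.sv_zero, one_mul, inv_one, mul_one]
  have h1 : MT.getD i [] = MT.getD 0 [] := by
    refine (sys.table_eq i hi).trans (Eq.trans ?_ (sys.table_eq 0 sys.pos).symm)
    exact List.map_congr_left fun k hk =>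
      hact _ (Nat.pow_lt_pow_right (by norm_num) (List.mem_range.1 hk))
  rw [List.getD_eq_getElem _ _ (show i < MT.length from hi32),
    List.getD_eq_getElem _ _ (show 0 < MT.length by decide)] at h1
  obtain rfl : i = 0 := (table_nodup.getElem_inj_iff).1 h1
  rw [TwoCert.Sys.sv_zero, mul_one] at hc ⊢
  have ha1 : a ≤ 1 := by
    have h := List.all_eq_true.1 centre_checked a (List.mem_range.2 ha)
    simp only [Bool.or_eq_true, Nat.ble_eq, List.any_eq_true, List.mem_range, Bool.not_eq_true'] at h
    rcases h with h | ⟨m, hm, hne⟩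
    · exact h
    exfalso
    have hfa := hc _ (sv_mem (i := 2 ^ m) (Nat.pow_lt_pow_right (by norm_num) hm))
    rw [TwoCert.Sys.sv_mul_va] at hfa
    have hact' : TwoCert.act sys.GM (2 ^ m) a = TwoCert.app (GM.getD m []) a := by
      interval_cases m <;> rfl
    rw [hact'] at hfa
    have := sys.va_inj ha (hact' ▸ sys.act_lt _ a ha) (mul_right_cancel hfa)
    exact Nat.ne_of_beq_eq_false hne this.symm
  interval_cases a
  · rw [TwoCert.Sys.va_zero]; exact one_mem _
  · rw [va_one]; exact Subgroup.mem_zpowers _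

theorem extraspecial_QA : Cfsg.IsExtraspecial 2 QA := by
  have hj : jA ∈ QA := va_one ▸ va_mem (by norm_num)
  have hz : ∀ x : QA, x ∈ Subgroup.zpowers (⟨jA, hj⟩ : QA) ↔ (x : AA) ∈ Subgroup.zpowers jA := by
    intro x
    simp only [Subgroup.mem_zpowers_iff, Subtype.ext_iff, SubgroupClass.coe_zpow]
  refine LargeExtra.isExtraspecial_of (IsPGroup.of_card card_QA) (z := ⟨jA, hj⟩) ?_ ?_ ?_ ?_ ?_
  · rw [Subgroup.orderOf_mk]; exact orderOf_jA
  · intro x
    rw [hz]
    refine ⟨fun h => centre_QA x.2 fun y hy => congrArg Subtype.val (h ⟨y, hy⟩), fun h y => Subtype.ext ?_⟩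
    obtain ⟨n, hn⟩ := h
    show (x : AA) * y = y * x
    rw [← hn]
    have hc : Commute (y : AA) jA := Subgroup.mem_centralizer_singleton_iff.1 (QA_le_centralizer y.2)
    exact (hc.zpow_right n).symm.eq
  · intro x y
    rw [hz]
    exact (pair_mod x x.2 y y.2).1
  · intro x
    rw [hz, SubgroupClass.coe_pow, pow_two]
    exact (pair_mod x x.2 x x.2).2
  · refine ⟨⟨sys.sv 1, sv_mem (by norm_num)⟩, ?_⟩
    by_contra hno
    push Not at hno
    have h : (sys.sv 1 : AA) ∈ Subgroup.zpowers jA :=
      centre_QA (sv_mem (by norm_num)) fun y hy => congrArg Subtype.val (hno ⟨y, hy⟩)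
    obtain ⟨n, hn⟩ := h
    have hn' : sys.sv 1 = jA ^ (n % 2) := by
      have h2 := zpow_mod_orderOf jA n
      rw [orderOf_jA] at h2
      exact hn.symm.trans h2.symm
    have : ∃ a < 2, sys.sv 1 = sys.va a := by
      rcases Int.emod_two_eq_zero_or_one n with e | e <;> rw [e] at hn'
      · exact ⟨0, by norm_num, by rw [hn', zpow_zero, TwoCert.Sys.va_zero]⟩
      · exact ⟨1, by norm_num, by rw [hn', zpow_one, va_one]⟩
    obtain ⟨a, ha, e⟩ := this
    have := (sys.coords_unique (a := 0) (b := a) (i := 1) (j := 0) (Nat.two_pow_pos _)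
      (lt_trans ha (show 2 < 2 ^ 6 by norm_num)) (show 1 < 32 by norm_num) sys.pos
      (by rw [TwoCert.Sys.va_zero, one_mul, TwoCert.Sys.sv_zero, mul_one, e])).2
    omega

end Cfsg.Agent.FischerPresented.Fi22TwoTwo
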