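import Cfsg.Agent.Lib.FischerPresented.Fi22TwoTwo

/-!
The extraspecial 2^(1+10) in Aut(Fi22) is large: it normalises no non-trivial subgroup of odd order.
-/

set_option autoImplicit false
set_option maxRecDepth 100000

namespace Cfsg.Agent.FischerPresented.Fi22TwoTwo

open scoped commutatorElement
open Cfsg.Agent.CosetCert
open Cfsg.Agent.CosetData
open Cfsg.Agent.FischerPresented.Fi22Two (eqW moved dW e1W dEl dEl_mem dEl_eq eq_of_eqW ne_one_of_moved
  conj_eq_iff commute_iff_fix pt pt_word)
open Cfsg.Agent.FischerPresented.Fi22Outer (okW conj_inj mirW sigma_word)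

local notation "S" => Fi22B.setup
local notation "G₀" => Setup.G Fi22B.setup
local notation "AA" => MulAut (Setup.G Fi22B.setup)
local notation "wp" => wprod (Setup.gen Fi22B.setup)

theorem z_mem_QA : MulAut.conj Fi22Class.z ∈ QA ∧ MulAut.conj e0 ∈ QA := by
  have hz : ∀ w, w ∈ eW → MulAut.conj (wp w) ∈ QA := fun w hw => by
    rw [← ev_word]
    exact gP_mem (List.mem_append_left _ (List.mem_map.2 ⟨w, hw, rfl⟩))
  have h1 : eqW (eW.getD 1 []) [0] = true := by decide +kernel
  have hzm : MulAut.conj Fi22Class.z ∈ QA := by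
    rw [← z_word, ← eq_of_eqW h1]
    exact hz _ (by decide +kernel)
  refine ⟨hzm, ?_⟩
  rw [← j0_mul, map_mul]
  exact mul_mem hzm (by show jA ∈ QA; rw [← va_one]; exact va_mem (by norm_num))

/-- An element of `QA` exchanges the two transpositions. -/
theorem exists_swap_QA : ∃ f ∈ QA, f * MulAut.conj Fi22Class.z * f⁻¹ = MulAut.conj e0 := by
  set p := fP.getD 4 (false, []) with hp
  have h := swap_checked
  rw [← hp, Bool.and_eq_true] at h
  have hm : p ∈ fP := by
    rw [hp, List.getD_eq_getElem _ _ (show 4 < fP.length from (by decide))]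
    exact List.getElem_mem _
  refine ⟨ev p, gP_mem (List.mem_append_right _ hm), ?_⟩
  have hp1 : p.1 = true := h.1
  have he := eq_of_eqW h.2
  rw [wprod_append, wprod_append, wprod_reverse (Setup.gen_invol S), ← sigma_word (w := [0]) rfl, z_word] at he
  have hev : ev p = MulAut.conj (wp p.2) * Fi22Outer.sigma := by rw [ev, hp1, cond_true]
  have e3 : ev p * MulAut.conj Fi22Class.z * (ev p)⁻¹ = MulAut.conj (ev p Fi22Class.z) := by
    ext v
    simp [MulAut.mul_apply, MulAut.conj_apply]
  rw [e3, hev]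
  exact congrArg MulAut.conj he

theorem wp_commutator (u v : List ℕ) : wp (u ++ v ++ (v ++ u).reverse) = wp u * wp v * (wp v * wp u)⁻¹ := by
  rw [wprod_append, wprod_append, wprod_reverse (Setup.gen_invol S), wprod_append]

theorem odd_trivial (K : Subgroup AA) (hodd : Odd (Nat.card K))
    (hQ : QA ≤ Subgroup.normalizer (K : Set AA)) : K = ⊥ := by
  haveI := finite_G
  have hpow : ∀ x ∈ K, x ^ 2 = 1 → x = 1 := by
    intro x hx h
    have h1 : orderOf x ∣ 2 := orderOf_dvd_of_pow_eq_one h
    have h2 : orderOf x ∣ Nat.card K := by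
      rw [← Subgroup.orderOf_mk x hx]; exact orderOf_dvd_natCard _
    rcases (Nat.dvd_prime Nat.prime_two).1 h1 with e | e
    · exact orderOf_eq_one_iff.1 e
    · rw [e] at h2
      exact absurd h2 hodd.not_two_dvd_nat
  have hQK : ∀ q ∈ QA, ∀ x ∈ K, q * x * q⁻¹ ∈ K := fun q hq x hx =>
    (Subgroup.mem_normalizer_iff.1 (hQ hq) x).1 hx
  have hj : jA ∈ QA := va_one ▸ va_mem (by norm_num)
  have hjj : jA * jA = 1 := by rw [← pow_two, ← orderOf_jA, pow_orderOf_eq_one]
  have hji : jA⁻¹ = jA := inv_eq_of_mul_eq_one_right hjj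
  -- no fixed points of `jA`
  have hfix : ∀ x ∈ K, jA * x * jA = x → x = 1 := by
    intro x hx h
    have hxC : x ∈ CA := by
      refine Subgroup.mem_centralizer_singleton_iff.2 ?_
      calc x * jA = jA * x * jA * jA := by rw [h]
        _ = jA * x := by rw [mul_assoc, hjj, mul_one]
    have hc : ∀ q ∈ QA, q * x = x * q := by
      intro q hq
      have h1 : ⁅q, x⁆ ∈ K := mul_mem (hQK q hq x hx) (inv_mem hx)
      have h2 : ⁅q, x⁆ ∈ QA := by
        have : x * q⁻¹ * x⁻¹ ∈ QA :=
          (Subgroup.mem_normalizer_iff.1 (CA_le_normalizer hxC) _).1 (inv_mem hq)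
        have := mul_mem hq this
        rw [commutatorElement_def]
        simpa [mul_assoc] using this
      have h3 : ⁅q, x⁆ ^ 2 = 1 ∨ ∃ n, ⁅q, x⁆ ^ (2 ^ n) = 1 :=
        Or.inr ⟨11, by rw [← card_QA]; exact orderOf_dvd_iff_pow_eq_one.1 (by
          rw [← Subgroup.orderOf_mk _ h2]; exact orderOf_dvd_natCard _)⟩
      rcases h3 with h3 | ⟨n, h3⟩
      · exact commutatorElement_eq_one_iff_mul_comm.1 (hpow _ h1 h3)
      · refine commutatorElement_eq_one_iff_mul_comm.1 ?_
        clear h2
        induction n with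
        | zero => simpa using h3
        | succ n ih =>
          refine ih (hpow _ (pow_mem h1 _) ?_)
          rw [← pow_mul, ← pow_succ, h3]
    have : x ∈ Subgroup.centralizer (QA : Set AA) := Subgroup.mem_centralizer_iff.2 hc
    rw [centralizer_QA] at this
    obtain ⟨y, hy, rfl⟩ := this
    refine hpow _ hx ?_
    obtain ⟨⟨-, -, -⟩, hcard⟩ := extraspecial_QA
    have h4 : (⟨y, hy⟩ : Subgroup.center QA) ^ 2 = 1 := by rw [← hcard]; exact pow_card_eq_one'
    exact congrArg (fun t : Subgroup.center QA => ((t : QA) : AA)) h4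
  -- `jA` inverts
  have hinv : ∀ y ∈ K, jA * y * jA = y⁻¹ := by
    let φ : K → K := fun x => ⟨(x : AA)⁻¹ * (jA * x * jA), mul_mem (inv_mem x.2)
      (by have := hQK jA hj x x.2; rwa [hji] at this)⟩
    have hφ : Function.Injective φ := by
      intro a b h
      have h' : (a : AA)⁻¹ * (jA * a * jA) = (b : AA)⁻¹ * (jA * b * jA) := congrArg Subtype.val h
      have e1 : (b : AA) * (a : AA)⁻¹ = jA * (b * (a : AA)⁻¹) * jA := by
        calc (b : AA) * (a : AA)⁻¹
            = b * ((a : AA)⁻¹ * (jA * a * jA)) * (jA * a * jA)⁻¹ := by group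
          _ = b * ((b : AA)⁻¹ * (jA * b * jA)) * (jA * a * jA)⁻¹ := by rw [h']
          _ = jA * b * jA * (jA⁻¹ * (a : AA)⁻¹ * jA⁻¹) := by group
          _ = _ := by rw [hji]; simp only [mul_assoc]; rw [← mul_assoc jA jA, hjj, one_mul]
      exact Subtype.ext (mul_inv_eq_one.1 (hfix _ (mul_mem b.2 (inv_mem a.2)) e1.symm)).symm
    intro y hy
    obtain ⟨x, hx⟩ := (Finite.injective_iff_surjective.1 hφ) ⟨y, hy⟩
    have hx' : (x : AA)⁻¹ * (jA * x * jA) = y := congrArg Subtype.val hx
    rw [← hx', mul_inv_rev, inv_inv, mul_inv_rev, mul_inv_rev, hji]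
    simp only [mul_assoc, hjj, mul_one]
  have hcomm : ∀ x ∈ K, ∀ y ∈ K, x * y = y * x := by
    intro x hx y hy
    have h := hinv _ (mul_mem (inv_mem hx) (inv_mem hy))
    rw [mul_inv_rev, inv_inv, inv_inv] at h
    rw [← h]
    have h1 := hinv _ (inv_mem hx)
    have h2 := hinv _ (inv_mem hy)
    rw [inv_inv] at h1 h2
    calc x * y = (jA * x⁻¹ * jA) * (jA * y⁻¹ * jA) := by rw [h1, h2]
      _ = jA * x⁻¹ * (jA * jA) * y⁻¹ * jA := by group
      _ = _ := by rw [hjj, mul_one]; group
  obtain ⟨hzQ, heQ⟩ := z_mem_QA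
  set a := MulAut.conj Fi22Class.z with ha
  set b := MulAut.conj e0 with hb
  have haa : a * a = 1 := by rw [ha, ← map_mul, D_sq z_mem, map_one]
  have hai : a⁻¹ = a := inv_eq_of_mul_eq_one_right haa
  have hjab : jA = a * b := map_mul _ _ _
  -- the fixed points of `a`
  have hA : ∀ x ∈ K, a * x * a = x → x = 1 := by
    intro x hx hax
    obtain ⟨g, hg⟩ : x ∈ Cfsg.Inn G₀ := by
      have h2 : (Cfsg.Inn G₀).index = 2 := by
        rw [Subgroup.index_eq_card]; exact Out22.card_out
      obtain ⟨m, hm⟩ := hodd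
      have h1 : x ^ Nat.card K = 1 := by
        exact orderOf_dvd_iff_pow_eq_one.1 (Subgroup.orderOf_mk x hx ▸ orderOf_dvd_natCard _)
      have h3 : x = ((x ^ (m + 1)) : AA) * x ^ (m + 1) := by
        rw [← pow_add, show m + 1 + (m + 1) = Nat.card K + 1 by omega, pow_succ, h1, one_mul]
      rw [h3]
      exact Subgroup.mul_self_mem_of_index_two h2 _
    subst hg
    have hgz : Commute g Fi22Class.z := by
      have h1 : MulAut.conj (Fi22Class.z * g * Fi22Class.z) = MulAut.conj g := by
        rw [map_mul, map_mul]; exact hax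
      have h2 := conj_inj h1
      show g * Fi22Class.z = Fi22Class.z * g
      calc g * Fi22Class.z = Fi22Class.z * g * Fi22Class.z * Fi22Class.z := by rw [h2]
        _ = Fi22Class.z * g := by rw [mul_assoc, D_sq z_mem, mul_one]
    obtain ⟨he, -, hze⟩ := pair_facts
    have hzz := D_sq z_mem
    have hee := D_sq he
    have heg : e0 * g * e0 = g⁻¹ := by
      have h1 := hinv _ hx
      rw [show jA = MulAut.conj j0 from rfl, ← map_mul, ← map_mul, ← map_inv] at h1
      have h2 := conj_inj h1
      calc e0 * g * e0 = e0 * (g * (Fi22Class.z * Fi22Class.z)) * e0 := by rw [hzz, mul_one]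
        _ = e0 * (Fi22Class.z * g * Fi22Class.z) * e0 := by rw [← mul_assoc g, hgz.eq]
        _ = (e0 * Fi22Class.z) * g * (Fi22Class.z * e0) := by group
        _ = j0 * g * j0 := by rw [← hze.eq]; rfl
        _ = g⁻¹ := h2
    set d := g * e0 * g⁻¹ with hd
    have hdD : d ∈ Fi22Class.D := by
      obtain ⟨k, hk⟩ := Fi22Class.mem_D.1 he
      exact Fi22Class.mem_D.2 ⟨g * k, by rw [hd, ← hk]; group⟩
    have hed : e0 * d = g⁻¹ * g⁻¹ := by
      rw [hd, ← mul_assoc, ← mul_assoc]
      rw [show e0 * g * e0 = g⁻¹ from heg]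
    have hy : MulAut.conj (e0 * d) ∈ K := by
      rw [hed, map_mul, map_inv]; exact mul_mem (inv_mem hx) (inv_mem hx)
    suffices hone : MulAut.conj (e0 * d) = 1 by
      refine hpow _ hx ?_
      rw [hed, map_mul, map_inv, ← mul_inv_rev, inv_eq_one] at hone
      rw [pow_two]; exact hone
    by_cases hcd : Commute e0 d
    · refine hpow _ hy ?_
      rw [← map_pow, pow_two]
      have : e0 * d * (e0 * d) = 1 := by
        calc e0 * d * (e0 * d) = e0 * (d * e0) * d := by group
          _ = e0 * e0 * (d * d) := by rw [← hcd.eq]; group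
          _ = 1 := by rw [hee, D_sq hdD, one_mul]
      rw [this, map_one]
    exfalso
    obtain ⟨k, hk⟩ := Fi22Class.mem_D.1 hdD
    have hzd : Commute Fi22Class.z d := by
      have h1 := hze.map (MulAut.conj g).toMonoidHom
      simpa [hgz.eq, mul_inv_cancel_right] using h1
    have hcov := List.all_eq_true.1 odd_cover (pt k) (List.mem_range.2 (pt k).2)
    simp only [Bool.or_eq_true, Bool.not_eq_true', List.any_eq_true, Nat.beq_eq] at hcov
    rcases hcov with (h | h) | ⟨e, hem, hep⟩
    · have h1 := (commute_iff_fix Fi22Class.z k).1 (hk.symm ▸ hzd)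
      have h2 : (Setup.hom S Fi22Class.z (pt k) : ℕ) = tact Fi22B.P [0] (pt k) := by
        rw [← z_word]; exact hom_word (u := [0]) rfl (pt k)
      exact Nat.ne_of_beq_eq_false h (h2.symm.trans (congrArg Fin.val h1))
    · refine hcd (hk ▸ (commute_iff_fix e0 k).2 (Fin.ext ?_))
      exact (hom_word (u := dW e1W) (by decide +kernel) (pt k)).trans h
    have hpath := List.all_eq_true.1 odd_paths e hem
    simp only [Bool.and_eq_true, Nat.blt_eq, Nat.beq_eq] at hpath
    obtain ⟨hq6, hok, hp⟩ := hpath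
    have hdEl : dEl e.2.2 = d := by
      rw [dEl_eq, ← hk]
      refine (conj_eq_iff _ _).2 (Fin.ext ?_)
      rw [pt_word (show (e.2.2.all fun x => Nat.blt x Fi22B.P.k) = true from hok), hp, hep]
    have hbad : oddOK e = true := by
      rw [← List.take_append_drop 256 oddW, List.mem_append] at hem
      rcases hem with h | h
      exacts [List.all_eq_true.1 odd_part0 e h, List.all_eq_true.1 odd_part1 e h]
    have hqlt : e.2.1 < eW.length := hq6
    set q := eW.getD e.2.1 [] with hq
    have hqQ : MulAut.conj (wp q) ∈ QA := by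
      rw [← ev_word]
      exact gP_mem (List.mem_append_left _ (List.mem_map.2 ⟨q, by
        rw [hq, List.getD_eq_getElem _ _ hqlt]; exact List.getElem_mem _, rfl⟩))
    have hxy := hcomm _ hy _ (hQK _ hqQ _ hy)
    rw [← map_inv, ← map_mul, ← map_mul, ← map_mul, ← map_mul] at hxy
    have hxy' := conj_inj hxy
    simp only [oddOK, ← hq] at hbad
    refine ne_one_of_moved hbad ?_
    have ex : wp (dW e1W ++ dW e.2.2) = e0 * d := by
      rw [wprod_append, ← hdEl]; rfl
    have eyw : wp (q ++ (dW e1W ++ dW e.2.2) ++ q.reverse) = wp q * (e0 * d) * (wp q)⁻¹ := by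
      rw [wprod_append, wprod_append, wprod_reverse (Setup.gen_invol S), ex]
    rw [wp_commutator, eyw, ex]
    exact mul_inv_eq_one.2 hxy'
  have hB : ∀ x ∈ K, b * x * b = x → x = 1 := by
    intro x hx hbx
    obtain ⟨f, hf, hfz⟩ := exists_swap_QA
    have hfa : f⁻¹ * b * f = a := by rw [show b = f * a * f⁻¹ from hfz.symm]; group
    have := hA (f⁻¹ * x * f) (by
      have := hQK f⁻¹ (inv_mem hf) x hx
      rwa [inv_inv] at this) (by
      rw [← hfa]
      calc f⁻¹ * b * f * (f⁻¹ * x * f) * (f⁻¹ * b * f) = f⁻¹ * (b * x * b) * f := by group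
        _ = f⁻¹ * x * f := by rw [hbx])
    have h2 : x = f * (f⁻¹ * x * f) * f⁻¹ := by group
    rw [h2, this]; group
  refine (Subgroup.eq_bot_iff_forall _).2 fun x hx => ?_
  have hax : a * x * a ∈ K := by
    have := hQK a hzQ x hx
    rwa [hai] at this
  have h1 : x * (a * x * a) = 1 := by
    refine hA _ (mul_mem hx hax) ?_
    calc a * (x * (a * x * a)) * a = a * x * a * (x * (a * a)) := by group
      _ = a * x * a * x := by rw [haa, mul_one]
      _ = x * (a * x * a) := hcomm _ hax _ hx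
  refine hB x hx ?_
  have hbab : b = a * jA := by rw [hjab, ← mul_assoc, haa, one_mul]
  have hja : jA * a = a * jA := by
    rw [hjab, mul_assoc, ← (show a * b = b * a from by rw [ha, hb, ← map_mul, ← map_mul, pair_facts.2.2.eq])]
  calc b * x * b = a * jA * x * (a * jA) := by rw [hbab]
    _ = a * (jA * x * jA) * (jA⁻¹ * a * jA) := by group
    _ = a * x⁻¹ * (jA⁻¹ * a * jA) := by rw [hinv x hx]
    _ = a * x⁻¹ * a := by rw [mul_assoc jA⁻¹, ← hja, inv_mul_cancel_left]
    _ = (a * x * a)⁻¹ := by rw [mul_inv_rev, mul_inv_rev, hai, mul_assoc]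
    _ = x := inv_eq_of_mul_eq_one_left h1

theorem large_QA : Cfsg.IsLargeExtraspecial QA := by
  refine ⟨extraspecial_QA, centralizer_QA, ?_, odd_trivial⟩
  intro x hx
  refine CA_le_normalizer (Subgroup.mem_centralizer_singleton_iff.2 ?_)
  have hj : jA ∈ QA := va_one ▸ va_mem (by norm_num)
  refine (Subgroup.mem_centralizer_iff.1 hx jA ⟨⟨jA, hj⟩, ?_, rfl⟩).symm
  refine Subgroup.mem_center_iff.2 fun y => Subtype.ext ?_
  exact Subgroup.mem_centralizer_singleton_iff.1 (QA_le_centralizer y.2)

end Cfsg.Agent.FischerPresented.Fi22TwoTwo
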