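import Cfsg.Agent.Lib.FischerPresented.Fi23
import Cfsg.Agent.Lib.FischerPresented.TwoCert
import Cfsg.Agent.Lib.FischerPresented.Fi23TwoData

/-! Kernel checks for the Sylow 2-subgroup data of presented Fi23. -/

set_option autoImplicit false
set_option maxRecDepth 100000

namespace Cfsg.Agent.FischerPresented.Fi23Two

open Cfsg.Agent.CosetCert
open Cfsg.Agent.CosetData

/-- Two TwoCert.words agree on the base points. -/
noncomputable def eqW (u v : List ℕ) : Bool := wordFixPts Fi23A.P 31671 Fi23.pts (u ++ v.reverse)

/-- Some base point is moved. -/
noncomputable def moved (w : List ℕ) : Bool :=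
  (w.all fun x => Nat.blt x Fi23A.P.k) &&
    Fi23.pts.any fun p => Nat.blt p 31671 && !Nat.beq (tact Fi23A.P w p) p

/-- The inequality check for a block of coordinates. -/
noncomputable def injBlock (r : ℕ) : Bool :=
  (List.range 256).all fun k => Nat.beq (r * 256 + k) 0 || moved (TwoCert.words basisW (r * 256 + k))

theorem inj0 : injBlock 0 = true := by decide +kernel
theorem inj1 : injBlock 1 = true := by decide +kernel
theorem inj2 : injBlock 2 = true := by decide +kernel
theorem inj3 : injBlock 3 = true := by decide +kernel
theorem inj4 : injBlock 4 = true := by decide +kernel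
theorem inj5 : injBlock 5 = true := by decide +kernel
theorem inj6 : injBlock 6 = true := by decide +kernel
theorem inj7 : injBlock 7 = true := by decide +kernel

/-- The closure check for a block of representatives. -/
noncomputable def stepBlock (r : ℕ) : Bool :=
  (List.range 16).all fun k => (List.range 7).all fun m =>
    (fun c => Nat.blt (c / 128) 2048 &&
      eqW (TwoCert.words liftW (r * 16 + k) ++ liftW.getD m []) (TwoCert.words basisW (c / 128) ++ TwoCert.words liftW (c % 128)))
      ((CL.getD (r * 16 + k) []).getD m 0)

theorem step0 : stepBlock 0 = true := by decide +kernel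
theorem step1 : stepBlock 1 = true := by decide +kernel
theorem step2 : stepBlock 2 = true := by decide +kernel
theorem step3 : stepBlock 3 = true := by decide +kernel
theorem step4 : stepBlock 4 = true := by decide +kernel
theorem step5 : stepBlock 5 = true := by decide +kernel
theorem step6 : stepBlock 6 = true := by decide +kernel
theorem step7 : stepBlock 7 = true := by decide +kernel

theorem conj_checked : ((List.range 7).all fun m => (List.range 11).all fun k =>
    eqW (liftW.getD m [] ++ basisW.getD k [] ++ (liftW.getD m []).reverse)
      (TwoCert.words basisW ((GM.getD m []).getD k 0))) = true := by decide +kernel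

theorem table_checked : ((List.range 128).all fun i =>
    MT.getD i [] == (List.range 11).map fun k => TwoCert.act GM i (2 ^ k)) = true := by decide +kernel

theorem table_nodup : MT.Nodup := by decide +kernel

theorem search_checked : TwoCert.chk 128 2048 (TwoCert.mulTab MT) (fun j a => Nat.beq (TwoCert.app (MT.getD j []) a) a) 8 [0] 0
    (List.range 2048) = true := by decide +kernel

theorem mul_zero_left : ∀ j < 128, TwoCert.mulTab MT 0 j = j := by decide +kernel


end Cfsg.Agent.FischerPresented.Fi23Two
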