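import Cfsg.Prelude.Def_Transfer
import Cfsg.Agent.Lib.FischerPresented.Fi23TwoCheck

/-!
A Sylow 2-subgroup of presented Fi23 and its elementary abelian subgroups: the normal 2^11 is the only one
of largest order.
-/

set_option autoImplicit false
set_option maxRecDepth 100000

namespace Cfsg.Agent.FischerPresented.Fi23Two

open Cfsg.Agent.CosetCert
open Cfsg.Agent.CosetData
open TwoCert

local notation "S" => Fi23A.setup
local notation "G₀" => Setup.G Fi23A.setup
local notation "wp" => wprod (Setup.gen Fi23A.setup)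

theorem eq_of_eqW {u v : List ℕ} (h : eqW u v = true) : wp u = wp v := by
  have := Fi23.word_one h
  rw [wprod_append, wprod_reverse (Setup.gen_invol S), mul_inv_eq_one] at this
  exact this

theorem wp_words : ∀ (W : List (List ℕ)) (a : ℕ), wp (words W a) = val (W.map fun w => wp w) a := by
  intro W
  induction W with
  | nil => intro a; rfl
  | cons w W ih =>
    intro a
    by_cases h : a % 2 = 1 <;> simp [words, val, h, wprod_append, ih]

/-- The basis of the normal subgroup. -/
noncomputable def es : List G₀ := basisW.map fun w => wp w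

/-- The lifts. -/
noncomputable def gs : List G₀ := liftW.map fun w => wp w

theorem basis_comm : ∀ e ∈ es, ∀ e' ∈ es, Commute e e' := by
  have h : (basisW.all fun u => basisW.all fun v => eqW (u ++ v) (v ++ u)) = true := by decide +kernel
  intro e he e' he'
  obtain ⟨u, hu, rfl⟩ := List.mem_map.1 he
  obtain ⟨v, hv, rfl⟩ := List.mem_map.1 he'
  have := eq_of_eqW (List.all_eq_true.1 (List.all_eq_true.1 h u hu) v hv)
  rwa [wprod_append, wprod_append] at this

theorem basis_sq : ∀ e ∈ es, e * e = 1 := by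
  have h : (basisW.all fun u => eqW (u ++ u) []) = true := by decide +kernel
  intro e he
  obtain ⟨u, hu, rfl⟩ := List.mem_map.1 he
  have := eq_of_eqW (List.all_eq_true.1 h u hu)
  rw [wprod_append] at this
  exact this

theorem conj_forall :
    List.Forall₂ (fun g M => (es.map fun e => g * e * g⁻¹) = M.map (val es)) gs GM := by
  have hl : liftW.length = 7 := rfl
  have hb : basisW.length = 11 := rfl
  have hg : GM.length = 7 := rfl
  have hM : ∀ m < 7, (GM.getD m []).length = 11 := by decide +kernel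
  refine List.forall₂_iff_get.2 ⟨by simp [gs, hl, hg], fun m h1 h2 => ?_⟩
  have hm : m < 7 := by omega
  have hlm := hM m hm
  rw [List.getD_eq_getElem _ _ h2] at hlm
  refine List.ext_getElem (by simp [es, hb, hlm]) fun k k1 k2 => ?_
  have hk : k < 11 := by simpa [hlm] using k2
  have := eq_of_eqW (List.all_eq_true.1 (List.all_eq_true.1 conj_checked m (List.mem_range.2 hm)) k
    (List.mem_range.2 hk))
  rw [wprod_append, wprod_append, wprod_reverse (Setup.gen_invol S), wp_words,
    List.getD_eq_getElem _ _ (show m < liftW.length by omega),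
    List.getD_eq_getElem _ _ (show k < basisW.length by omega), List.getD_eq_getElem _ _ h2,
    List.getD_eq_getElem _ _ (show k < GM[m].length by omega)] at this
  simpa [es, gs] using this.trans (by rfl)

/-- The coordinates map. -/
noncomputable def va (a : ℕ) : G₀ := val es a

/-- The representatives. -/
noncomputable def sv (i : ℕ) : G₀ := val gs i

theorem va_xor (a b : ℕ) : va (a ^^^ b) = va a * va b := val_xor basis_sq basis_comm a b

theorem va_zero : va 0 = 1 := val_zero es

theorem sv_zero : sv 0 = 1 := val_zero gs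

theorem va_comm (a b : ℕ) : va a * va b = va b * va a := by rw [← va_xor, ← va_xor, Nat.xor_comm]

theorem va_inv (a : ℕ) : (va a)⁻¹ = va a :=
  inv_eq_of_mul_eq_one_right (by rw [← va_xor, Nat.xor_self, va_zero])

theorem sv_conj (i a : ℕ) : sv i * va a * (sv i)⁻¹ = va (TwoCert.act GM i a) :=
  conj_act basis_sq basis_comm conj_forall i a

theorem sv_mul_va (i a : ℕ) : sv i * va a = va (TwoCert.act GM i a) * sv i := by
  rw [← sv_conj, inv_mul_cancel_right]

theorem act_lt (i a : ℕ) (ha : a < 2 ^ 11) : TwoCert.act GM i a < 2 ^ 11 := by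
  have h : ∀ M ∈ GM, ∀ v ∈ M, v < 2 ^ 11 := by decide +kernel
  revert h
  generalize GM = Ms
  intro h
  induction Ms generalizing i with
  | nil => exact ha
  | cons M Ms ih =>
    rw [TwoCert.act]
    split
    · exact app_lt (h M (List.mem_cons_self ..)) _
    · exact ih _ fun N hN => h N (List.mem_cons_of_mem _ hN)

theorem table_eq {i : ℕ} (hi : i < 128) : MT.getD i [] = (List.range 11).map fun k => TwoCert.act GM i (2 ^ k) := by
  simpa using List.all_eq_true.1 table_checked i (List.mem_range.2 hi)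

theorem app_table {i : ℕ} (hi : i < 128) {a : ℕ} (ha : a < 2 ^ 11) :
    app (MT.getD i []) a = TwoCert.act GM i a := by
  rw [table_eq hi]
  exact app_basis 11 (TwoCert.act GM i) (act_xor GM i) (act_zero GM i) a ha

theorem table_length : MT.length = 128 := rfl

theorem ne_one_of_moved {w : List ℕ} (h : moved w = true) : wp w ≠ 1 := by
  intro he
  simp only [moved, Bool.and_eq_true, List.any_eq_true, Nat.blt_eq, Bool.not_eq_true'] at h
  obtain ⟨hw, p, -, hp, hne⟩ := h
  have h1 := hom_tact (P := Fi23A.P) Fi23A.tab_ok (Setup.hom S) (Setup.hom_gen S) w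
    (by simpa [List.all_eq_true] using hw) ⟨p, hp⟩
  have h2 : wp w.reverse = 1 := by rw [wprod_reverse (Setup.gen_invol S), he, inv_one]
  have h4 : Setup.hom S (wp w.reverse) = 1 := (congrArg (Setup.hom S) h2).trans (map_one _)
  erw [h4] at h1
  exact Nat.ne_of_beq_eq_false hne h1.symm

theorem va_ne_one {a : ℕ} (ha : a < 2 ^ 11) (h0 : a ≠ 0) : va a ≠ 1 := by
  have h : ∀ r < 8, injBlock r = true := by
    intro r hr
    interval_cases r
    exacts [inj0, inj1, inj2, inj3, inj4, inj5, inj6, inj7]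
  have hh := List.all_eq_true.1 (h (a / 256) (by omega)) (a % 256) (List.mem_range.2 (by omega))
  rw [show a / 256 * 256 + a % 256 = a by omega] at hh
  simp only [Bool.or_eq_true, Nat.beq_eq] at hh
  rcases hh with hh | hh
  · exact absurd hh h0
  · rw [va, es, ← wp_words]
    exact ne_one_of_moved hh

theorem va_inj {a b : ℕ} (ha : a < 2 ^ 11) (hb : b < 2 ^ 11) (h : va a = va b) : a = b := by
  by_contra hne
  refine va_ne_one (Nat.xor_lt_two_pow ha hb) (fun h0 => hne (Nat.xor_eq_zero_iff.1 h0)) ?_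
  rw [va_xor, h, ← va_xor, Nat.xor_self, va_zero]

/-- The elements of the Sylow subgroup. -/
def InT (x : G₀) : Prop := ∃ a < 2 ^ 11, ∃ i < 128, x = va a * sv i

theorem inT_mul_va {x : G₀} (hx : InT x) {b : ℕ} (hb : b < 2 ^ 11) : InT (x * va b) := by
  obtain ⟨a, ha, i, hi, rfl⟩ := hx
  refine ⟨a ^^^ TwoCert.act GM i b, Nat.xor_lt_two_pow ha (act_lt i b hb), i, hi, ?_⟩
  rw [va_xor, mul_assoc, sv_mul_va, mul_assoc]

theorem inT_mul_gen {x : G₀} (hx : InT x) {g : G₀} (hg : g ∈ gs) : InT (x * g) := by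
  obtain ⟨a, ha, i, hi, rfl⟩ := hx
  obtain ⟨w, hw, rfl⟩ := List.mem_map.1 hg
  obtain ⟨m, hm, rfl⟩ := List.getElem_of_mem hw
  have hm' : m < 7 := hm
  have h : ∀ r < 8, stepBlock r = true := by
    intro r hr
    interval_cases r
    exacts [step0, step1, step2, step3, step4, step5, step6, step7]
  have hh := List.all_eq_true.1 (List.all_eq_true.1 (h (i / 16) (by omega)) (i % 16)
    (List.mem_range.2 (by omega))) m (List.mem_range.2 hm')
  rw [show i / 16 * 16 + i % 16 = i by omega] at hh
  simp only [Bool.and_eq_true, Nat.blt_eq] at hh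
  obtain ⟨hc, he⟩ := hh
  have := eq_of_eqW he
  rw [wprod_append, wprod_append, wp_words, wp_words, wp_words,
    List.getD_eq_getElem _ _ hm] at this
  refine ⟨a ^^^ ((CL.getD i []).getD m 0 / 128), Nat.xor_lt_two_pow ha hc,
    (CL.getD i []).getD m 0 % 128, Nat.mod_lt _ (by norm_num), ?_⟩
  rw [va_xor, mul_assoc, mul_assoc]
  congr 1

theorem inT_mul {x y : G₀} (hx : InT x) (hy : InT y) : InT (x * y) := by
  obtain ⟨b, hb, j, -, rfl⟩ := hy
  rw [← mul_assoc]
  have key : ∀ (l : List G₀), (∀ g ∈ l, g ∈ gs) → ∀ (z : G₀) (k : ℕ), InT z → InT (z * val l k) := by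
    intro l
    induction l with
    | nil => intro _ z k hz; simpa [val] using hz
    | cons g l ih =>
      intro hl z k hz
      rw [val, ← mul_assoc]
      refine ih (fun e he => hl e (List.mem_cons_of_mem _ he)) _ _ ?_
      split
      · exact inT_mul_gen hz (hl g (List.mem_cons_self ..))
      · simpa using hz
  exact key gs (fun g hg => hg) _ j (inT_mul_va hx hb)

theorem inT_one : InT 1 := ⟨0, by norm_num, 0, by norm_num, by rw [va_zero, sv_zero, one_mul]⟩

/-- The Sylow subgroup. -/
noncomputable def T0 : Subgroup G₀ where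
  carrier := {x | InT x}
  mul_mem' := inT_mul
  one_mem' := inT_one
  inv_mem' := by
    intro x hx
    have := Fi23.order_facts.1
    have hp : ∀ n : ℕ, InT (x ^ n) := by
      intro n
      induction n with
      | zero => simpa using inT_one
      | succ n ih => rw [pow_succ]; exact inT_mul ih hx
    have hpos : 0 < orderOf x := orderOf_pos x
    have : x⁻¹ = x ^ (orderOf x - 1) := by
      refine inv_eq_of_mul_eq_one_right ?_
      rw [← pow_succ', Nat.sub_add_cancel hpos, pow_orderOf_eq_one]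
    show InT x⁻¹
    rw [this]
    exact hp _

theorem act_unique {a b i j : ℕ} (h : va a * sv i = va b * sv j) {v : ℕ} (hv : v < 2 ^ 11) :
    TwoCert.act GM i v = TwoCert.act GM j v := by
  have key : ∀ a i, va a * sv i * va v * (va a * sv i)⁻¹ = va (TwoCert.act GM i v) := fun a i => by
    calc va a * sv i * va v * (va a * sv i)⁻¹ = va a * (sv i * va v * (sv i)⁻¹) * (va a)⁻¹ := by group
      _ = va (TwoCert.act GM i v) := by rw [sv_conj, va_comm, mul_inv_cancel_right]
  refine va_inj (act_lt i v hv) (act_lt j v hv) ?_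
  rw [← key a i, ← key b j, h]

theorem coords_unique {a b i j : ℕ} (ha : a < 2 ^ 11) (hb : b < 2 ^ 11) (hi : i < 128) (hj : j < 128)
    (h : va a * sv i = va b * sv j) : a = b ∧ i = j := by
  have hij : i = j := by
    have h1 : MT[i]'(by rw [table_length]; exact hi) = MT[j]'(by rw [table_length]; exact hj) := by
      rw [← List.getD_eq_getElem _ [], ← List.getD_eq_getElem _ [], table_eq hi, table_eq hj]
      refine List.map_congr_left fun k hk => act_unique h ?_
      exact Nat.pow_lt_pow_right (by norm_num) (List.mem_range.1 hk)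
    exact (table_nodup.getElem_inj_iff).1 h1
  subst hij
  exact ⟨va_inj ha hb (mul_right_cancel h), rfl⟩

theorem card_T0 : Nat.card T0 = 2 ^ 18 := by
  have := Fi23.order_facts.1
  let φ : Fin (2 ^ 11) × Fin 128 → T0 := fun p => ⟨va p.1 * sv p.2, ⟨p.1, p.1.2, p.2, p.2.2, rfl⟩⟩
  have hφ : Function.Bijective φ := by
    refine ⟨fun p q h => ?_, fun x => ?_⟩
    · obtain ⟨h1, h2⟩ := coords_unique p.1.2 q.1.2 p.2.2 q.2.2 (congrArg Subtype.val h)
      exact Prod.ext (Fin.ext h1) (Fin.ext h2)
    · obtain ⟨a, ha, i, hi, e⟩ := x.2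
      exact ⟨(⟨a, ha⟩, ⟨i, hi⟩), Subtype.ext e.symm⟩
  rw [← Nat.card_eq_of_bijective φ hφ, Nat.card_prod, Nat.card_fin, Nat.card_fin]
  norm_num

/-- The normal elementary abelian subgroup. -/
noncomputable def A0 : Subgroup G₀ where
  carrier := {x | ∃ a < 2 ^ 11, x = va a}
  mul_mem' := by
    rintro _ _ ⟨a, ha, rfl⟩ ⟨b, hb, rfl⟩
    exact ⟨a ^^^ b, Nat.xor_lt_two_pow ha hb, (va_xor a b).symm⟩
  one_mem' := ⟨0, by norm_num, va_zero.symm⟩
  inv_mem' := by
    rintro _ ⟨a, ha, rfl⟩
    exact ⟨a, ha, va_inv a⟩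

theorem A0_le : A0 ≤ T0 := by
  rintro _ ⟨a, ha, rfl⟩
  exact ⟨a, ha, 0, by norm_num, by rw [sv_zero, mul_one]⟩

theorem A0_conj {t : G₀} (ht : t ∈ T0) {x : G₀} (hx : x ∈ A0) : t * x * t⁻¹ ∈ A0 := by
  obtain ⟨b, hb, i, hi, rfl⟩ := ht
  obtain ⟨a, ha, rfl⟩ := hx
  refine ⟨TwoCert.act GM i a, act_lt i a ha, ?_⟩
  calc va b * sv i * va a * (va b * sv i)⁻¹ = va b * (sv i * va a * (sv i)⁻¹) * (va b)⁻¹ := by group
    _ = va (TwoCert.act GM i a) := by rw [sv_conj, va_comm, mul_inv_cancel_right]

theorem card_A0 : Nat.card A0 = 2 ^ 11 := by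
  let φ : Fin (2 ^ 11) → A0 := fun a => ⟨va a, a, a.2, rfl⟩
  have hφ : Function.Bijective φ := by
    refine ⟨fun p q h => Fin.ext (va_inj p.2 q.2 (congrArg Subtype.val h)), fun x => ?_⟩
    obtain ⟨a, ha, e⟩ := x.2
    exact ⟨⟨a, ha⟩, Subtype.ext e.symm⟩
  rw [← Nat.card_eq_of_bijective φ hφ, Nat.card_fin]

theorem A0_elementary : Cfsg.IsElementaryAbelian 2 A0 := by
  refine ⟨⟨⟨fun x y => ?_⟩⟩, ?_⟩
  · obtain ⟨a, -, hx⟩ := x.2
    obtain ⟨b, -, hy⟩ := y.2
    refine Subtype.ext ?_
    show (x : G₀) * y = y * x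
    rw [hx, hy, va_comm]
  · rintro _ ⟨a, -, rfl⟩
    rw [sq, ← va_xor, Nat.xor_self, va_zero]

theorem index_mul {a b c i j l : ℕ} (hi : i < 128) (hj : j < 128) (hl : l < 128)
    (h : va a * sv i * (va b * sv j) = va c * sv l) : mulTab MT i j = l := by
  refine mulTab_eq table_nodup (by rw [table_length]; exact hl) ?_
  rw [table_eq hl, table_eq hj, List.map_map]
  refine List.map_congr_left fun k hk => ?_
  have hv : (2 : ℕ) ^ k < 2 ^ 11 := Nat.pow_lt_pow_right (by norm_num) (List.mem_range.1 hk)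
  rw [Function.comp_apply, app_table hi (act_lt j _ hv)]
  have key : ∀ a i v, va a * sv i * va v * (va a * sv i)⁻¹ = va (TwoCert.act GM i v) := fun a i v => by
    calc va a * sv i * va v * (va a * sv i)⁻¹ = va a * (sv i * va v * (sv i)⁻¹) * (va a)⁻¹ := by group
      _ = va (TwoCert.act GM i v) := by rw [sv_conj, va_comm, mul_inv_cancel_right]
  refine va_inj (act_lt l _ hv) (act_lt i _ (act_lt j _ hv)) ?_
  rw [← key c l, ← h, ← key a i, ← key b j]
  group

theorem elementary_le {B : Subgroup G₀} (hB : B ≤ T0) (hel : Cfsg.IsElementaryAbelian 2 B) :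
    Nat.card B ≤ 2 ^ 11 ∧ (Nat.card B = 2 ^ 11 → B = A0) := by
  classical
  have := Fi23.order_facts.1
  have := A0_le
  by_cases hle : B ≤ A0
  · refine ⟨card_A0 ▸ Subgroup.card_le_of_le hle, fun h => Subgroup.eq_of_le_of_card_ge hle ?_⟩
    rw [card_A0, h]
  suffices Nat.card B < 2 ^ 11 from ⟨this.le, fun h => absurd h this.ne⟩
  have : Fintype B := Fintype.ofFinite _
  have hco : ∀ x : B, ∃ p : ℕ × ℕ, p.1 < 2 ^ 11 ∧ p.2 < 128 ∧ (x : G₀) = va p.1 * sv p.2 := fun x => by
    obtain ⟨a, ha, i, hi, e⟩ := hB x.2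
    exact ⟨(a, i), ha, hi, e⟩
  choose co hco1 hco2 hco3 using hco
  set idx : B → ℕ := fun x => (co x).2
  set BF : Finset ℕ := Finset.univ.image idx
  have hidx1 : idx 1 = 0 := by
    refine (coords_unique (a := (co 1).1) (b := 0) (hco1 1) (by norm_num) (hco2 1) (by norm_num) ?_).2
    rw [← hco3 1, va_zero, sv_zero, one_mul]
    rfl
  have hmulidx : ∀ x y : B, mulTab MT (idx x) (idx y) = idx (x * y) := fun x y =>
    index_mul (hco2 x) (hco2 y) (hco2 (x * y)) (by rw [← hco3, ← hco3, ← hco3]; rfl)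
  have hcomm : ∀ x y : B, x * y = y * x := fun x y => hel.1.is_comm.comm x y
  have hsq : ∀ x : B, x * x = 1 := fun x => Subtype.ext (by
    rw [Subgroup.coe_mul, ← sq]; exact hel.2 x x.2)
  set F : Finset ℕ := (Finset.range (2 ^ 11)).filter fun a => ∀ j ∈ BF, app (MT.getD j []) a = a
  have hbound : BF.card * F.card < 2048 := by
    refine chk_sound mul_zero_left BF F ?_ ?_ ?_ ?_ ?_ 8 [0] 0 (List.range 2048) search_checked ?_
      (List.mem_singleton_self 0) ?_ ?_ ?_
    · intro j hj
      obtain ⟨x, -, rfl⟩ := Finset.mem_image.1 hj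
      exact hco2 x
    · intro i hi j hj
      obtain ⟨x, -, rfl⟩ := Finset.mem_image.1 hi
      obtain ⟨y, -, rfl⟩ := Finset.mem_image.1 hj
      rw [hmulidx]
      exact Finset.mem_image_of_mem _ (Finset.mem_univ _)
    · intro j hj
      obtain ⟨x, -, rfl⟩ := Finset.mem_image.1 hj
      rw [hmulidx, hsq, hidx1]
    · intro i hi j hj
      obtain ⟨x, -, rfl⟩ := Finset.mem_image.1 hi
      obtain ⟨y, -, rfl⟩ := Finset.mem_image.1 hj
      rw [hmulidx, hmulidx, hcomm]
    · intro a ha j hj
      rw [Nat.beq_eq]; exact (Finset.mem_filter.1 ha).2 j hj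
    · intro s hs
      rw [List.mem_singleton] at hs
      rw [hs, ← hidx1]
      exact Finset.mem_image_of_mem _ (Finset.mem_univ _)
    · intro a ha
      exact List.mem_range.2 (by simpa using Finset.mem_range.1 (Finset.mem_filter.1 ha).1)
    · intro j _ hj
      simp only [List.mem_singleton] at hj
      omega
    · intro hsub
      refine hle fun x hx => ?_
      have h0 := hsub (Finset.mem_image_of_mem idx (Finset.mem_univ ⟨x, hx⟩))
      simp only [List.toFinset_cons, List.toFinset_nil, insert_empty_eq, Finset.mem_singleton] at h0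
      have e := hco3 ⟨x, hx⟩
      refine ⟨(co ⟨x, hx⟩).1, hco1 _, ?_⟩
      refine e.trans ?_
      rw [show (co ⟨x, hx⟩).2 = 0 from h0, sv_zero, mul_one]
  rw [Nat.card_eq_fintype_card, ← Finset.card_univ]
  refine lt_of_le_of_lt (le_of_le_of_eq (Finset.card_le_mul_card_image (f := idx) Finset.univ F.card ?_)
    (Nat.mul_comm _ _)) hbound
  intro j hj
  obtain ⟨x₀, -, rfl⟩ := Finset.mem_image.1 hj
  have hzero : ∀ x : B, idx x = idx x₀ → idx (x * x₀) = 0 := fun x hx => by
    rw [← hmulidx, hx, hmulidx, hsq, hidx1]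
  refine Finset.card_le_card_of_injOn (fun x => (co (x * x₀)).1) (fun x hx => ?_) (fun x hx y hy h => ?_)
  · have hx' := (Finset.mem_filter.1 hx).2
    refine Finset.mem_filter.2 ⟨Finset.mem_range.2 (hco1 _), fun k hk => ?_⟩
    obtain ⟨y, -, rfl⟩ := Finset.mem_image.1 hk
    rw [app_table (hco2 y) (hco1 _)]
    refine va_inj (act_lt _ _ (hco1 _)) (hco1 _) ?_
    have e : ((x * x₀ : B) : G₀) = va (co (x * x₀)).1 := by
      rw [hco3 (x * x₀), show (co (x * x₀)).2 = 0 from hzero x hx', sv_zero, mul_one]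
    have hc : ((y : B) : G₀) * va (co (x * x₀)).1 = va (co (x * x₀)).1 * (y : G₀) := by
      rw [← e]
      exact congrArg Subtype.val (hcomm y (x * x₀))
    rw [← sv_conj]
    have hy : sv (idx y) = va (co y).1 * (y : G₀) := by
      rw [hco3 y, ← mul_assoc, ← va_xor, Nat.xor_self, va_zero, one_mul]
    show sv (idx y) * va (co (x * x₀)).1 * (sv (idx y))⁻¹ = va (co (x * x₀)).1
    rw [hy, mul_assoc (va (co y).1), hc, ← mul_assoc, va_comm]
    group
  · have hx' := (Finset.mem_filter.1 (Finset.mem_coe.1 hx)).2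
    have hy' := (Finset.mem_filter.1 (Finset.mem_coe.1 hy)).2
    refine mul_right_cancel (b := x₀) (Subtype.ext ?_)
    rw [hco3 (x * x₀), hco3 (y * x₀), show (co (x * x₀)).2 = 0 from hzero x hx',
      show (co (y * x₀)).2 = 0 from hzero y hy', show (co (x * x₀)).1 = (co (y * x₀)).1 from h]

end Cfsg.Agent.FischerPresented.Fi23Two
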