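import Cfsg.Agent.Lib.FischerPresented.Mult22
import Cfsg.Agent.Lib.FischerPresented.Fi22Two
import Mathlib.Algebra.Group.Shrink

/-! In a double cover of Fi22 every involution of the quotient lifts to an involution. -/

set_option autoImplicit false
set_option maxRecDepth 100000

namespace Cfsg.Agent.FischerPresented.InvolLift

open Cfsg.Agent.CosetCert
open Cfsg.Agent.CosetData
open Cfsg.Agent.FischerPresented.Out22 (hm tr tr_eq)
open Cfsg.Agent.FischerPresented.Fi22Class (z)

local notation "FS" => Fi22B.setup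

theorem invol_lift_small {E : Type} [Group E] {σ : E →* Setup.G FS} (hker : σ.ker ≤ Subgroup.center E)
    (hs : Function.Surjective σ) {x : Setup.G FS} (hx : orderOf x = 2) :
    ∃ y : E, orderOf y = 2 ∧ σ y = x := by
  obtain ⟨T, hT, hσ, -⟩ := Mult22.exists_lift hker hs
  obtain ⟨l, -, -, ⟨-, hD, hcomm⟩, rfl⟩ := Fi22Two.exists_factors x hx
  have hlift : ∀ a ∈ Fi22Class.D, ∃ b : E, b * b = 1 ∧ σ b = a := by
    intro a ha
    obtain ⟨g, rfl⟩ := Fi22Class.mem_D.1 ha
    exact ⟨T (hm g (0 : Fin 3510)), hT.sq _, by rw [hσ, tr_eq rfl]⟩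
  choose! f hf1 hf2 using hlift
  obtain ⟨A, hA⟩ := hs z
  have hc : ∀ a ∈ l, ∀ b ∈ l, Commute (f a) (f b) := by
    intro a ha b hb
    obtain ⟨g, hg⟩ := Fi22Class.mem_D.1 (hD a ha)
    obtain ⟨e, he⟩ := hs g
    have h1 : ∀ A' : E, σ A' = z → σ (e⁻¹ * f b * e) ∈ Fi22.H → Commute (e⁻¹ * f b * e) A' :=
      fun A' hA' h => Mult22.lift_commute hker hs hA' h
    have hA' : σ (e⁻¹ * f a * e) = z := by
      rw [map_mul, map_mul, map_inv, hf2 a (hD a ha), he, ← hg]; group
    have hH : σ (e⁻¹ * f b * e) ∈ Fi22.H := by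
      rw [map_mul, map_mul, map_inv, hf2 b (hD b hb), he, ← Fi22Class.centralizer_z]
      refine Subgroup.mem_centralizer_iff.2 ?_
      rintro _ rfl
      have h := (hcomm a ha b hb).eq
      rw [← hg] at h
      calc z * (g⁻¹ * b * g) = g⁻¹ * (g * z * g⁻¹ * b) * g := by group
        _ = g⁻¹ * (b * (g * z * g⁻¹)) * g := by rw [h]
        _ = g⁻¹ * b * g * z := by group
    have h := ((h1 _ hA' hH).map (MulAut.conj e).toMonoidHom).symm
    simpa [mul_assoc] using h
  have hsq := Mult22.prod_sq (Subgroup.one_mem (Subgroup.center E)) (l.map f)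
    (fun a ha => by obtain ⟨b, hb, rfl⟩ := List.mem_map.1 ha; exact hf1 b (hD b hb))
    (fun a ha b hb => by
      obtain ⟨a', ha', rfl⟩ := List.mem_map.1 ha
      obtain ⟨b', hb', rfl⟩ := List.mem_map.1 hb
      exact hc a' ha' b' hb')
  rw [one_pow] at hsq
  have hy : σ (l.map f).prod = l.prod := by
    rw [map_list_prod, List.map_map]
    conv_rhs => rw [← List.map_id l]
    exact congrArg List.prod (List.map_congr_left fun a ha => hf2 a (hD a ha))
  refine ⟨(l.map f).prod, orderOf_eq_prime (by rw [sq]; exact hsq) (fun h => ?_), hy⟩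
  rw [h, map_one] at hy
  rw [← hy, orderOf_one] at hx
  norm_num at hx

/-- Version for a finite group in any universe. -/
theorem invol_lift.{u} {C : Type u} [Group C] [Finite C] {σ : C →* Setup.G FS} (hker : σ.ker ≤ Subgroup.center C)
    (hs : Function.Surjective σ) {x : Setup.G FS} (hx : orderOf x = 2) :
    ∃ y : C, orderOf y = 2 ∧ σ y = x := by
  let e : Shrink.{0} C ≃* C := Shrink.mulEquiv
  have hk : (σ.comp e.toMonoidHom).ker ≤ Subgroup.center (Shrink.{0} C) := by
    intro k hk
    refine Subgroup.mem_center_iff.2 fun g => e.injective ?_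
    rw [map_mul, map_mul]
    exact Subgroup.mem_center_iff.1 (hker (show e k ∈ σ.ker from hk)) (e g)
  obtain ⟨y, hy, hσ⟩ := invol_lift_small hk (hs.comp e.surjective) hx
  exact ⟨e y, by rw [e.orderOf_eq, hy], hσ⟩

end Cfsg.Agent.FischerPresented.InvolLift
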