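import Cfsg.Agent.Lib.FischerPresented.Mult22Data
import Cfsg.Agent.Lib.FischerPresented.Fi22Class

/-!
In a central extension of Fi22 the transpositions lift to a class, and every relator reduces by moves to
the empty sequence or to seven commuting transpositions, so stem extensions are trivial.
-/

set_option autoImplicit false
set_option maxRecDepth 100000

namespace Cfsg.Agent.FischerPresented.Mult22

open Cfsg.Agent.CosetCert
open Cfsg.Agent.CosetData
open Cfsg.Agent.FischerPresented.Out22 (hm tr tr_hom tr_gpt gpt gWords exists_hom_zero hom_mul_apply mem_H_iff tr_eq fix_iff hom_gen_val)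
open Cfsg.Agent.FischerPresented.Fi22Class (z)

local notation "FS" => Fi22B.setup

theorem paths_ok : ∀ e ∈ paths, pathOK e = true := by
  have h : (paths.all pathOK) = true := by decide +kernel
  exact List.all_eq_true.1 h

theorem path_zero : pathOK (gpt 0, []) = true := by decide +kernel

theorem moves_ok : ((Fi22B.base.zip moves).all fun e =>
    let r := run paths e.2 (e.1.map gpt)
    (r == []) || (r == hept) || (r == hept') || (r == resid)) = true := by
  decide +kernel

theorem moves_len : moves.length = Fi22B.base.length := by decide +kernel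

theorem hept_len : hept.length = 7 := rfl

theorem hept_comm : ([hept, hept'].all fun h => h.all fun a => h.all fun b => Nat.blt a 3510 && Nat.blt b 3510 &&
    (paths.any fun e => Nat.beq e.1 a && Nat.beq (cAct e.2 b) b) || Nat.beq a b) = true := by
  decide +kernel

theorem exists_reduct {Q : Type} [Group Q] {T : Fin 3510 → Q} (hT : IsLift T) {w : List ℕ}
    (hw : w ∈ Fi22B.base) (hc : val T (w.map gpt) ∈ Subgroup.center Q) :
    val T (w.map gpt) = 1 ∨ val T (w.map gpt) = val T hept ∨ val T (w.map gpt) = val T hept' ∨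
      val T (w.map gpt) = val T resid := by
  obtain ⟨i, hi, rfl⟩ := List.getElem_of_mem hw
  have hi' : i < moves.length := moves_len ▸ hi
  have hmem : (Fi22B.base[i], moves[i]) ∈ Fi22B.base.zip moves := by
    refine List.mem_iff_getElem.2 ⟨i, by rw [List.length_zip]; omega, ?_⟩
    exact List.getElem_zip
  have h := List.all_eq_true.1 moves_ok _ hmem
  simp only [Bool.or_eq_true, beq_iff_eq] at h
  have hv := val_run hT paths_ok path_zero moves[i] _ hc
  rcases h with ((h | h) | h) | h
  · exact Or.inl (hv.symm.trans (congrArg (val T) h))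
  · exact Or.inr (Or.inl (hv.symm.trans (congrArg (val T) h)))
  · exact Or.inr (Or.inr (Or.inl (hv.symm.trans (congrArg (val T) h))))
  · exact Or.inr (Or.inr (Or.inr (hv.symm.trans (congrArg (val T) h))))

theorem isLift_tr : IsLift tr where
  sq p := by
    obtain ⟨g, hg⟩ := exists_hom_zero p
    rw [tr_eq hg]
    calc g * z * g⁻¹ * (g * z * g⁻¹) = g * (z * z) * g⁻¹ := by group
      _ = 1 := by rw [Fi22Class.z_sq]; group
  conj a b := tr_hom _ _

theorem val_gpt {Q : Type} [Group Q] {T : Fin 3510 → Q} {f : ℕ → Q}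
    (hf : ∀ x, x < 9 → ext T (gpt x) = f x) :
    ∀ w : List ℕ, (w.all fun x => Nat.blt x 9) = true → val T (w.map gpt) = wprod f w
  | [], _ => rfl
  | x :: w, h => by
    rw [List.all_cons, Bool.and_eq_true, Nat.blt_eq] at h
    rw [List.map_cons, val_cons, wprod_cons, hf x h.1, val_gpt hf w h.2]

theorem base_lt : (Fi22B.base.all fun w => w.all fun x => Nat.blt x 9) = true := by decide +kernel

theorem ext_tr_gpt (x : ℕ) (hx : x < 9) : ext tr (gpt x) = Setup.gen FS x := by
  obtain ⟨h, e⟩ := tr_gpt hx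
  rw [ext, dif_pos h, e]

theorem val_hept : val tr hept = 1 := by
  have hw : rep 9 [0, 1, 2, 3, 4, 5, 7] ∈ Fi22B.base := by decide +kernel
  have hone : val tr ((rep 9 [0, 1, 2, 3, 4, 5, 7]).map gpt) = 1 := by
    rw [val_gpt ext_tr_gpt _ (List.all_eq_true.1 base_lt _ hw)]
    exact Setup.base_one FS _ hw
  have hlast : run paths (moves.getD 37 []) ((rep 9 [0, 1, 2, 3, 4, 5, 7]).map gpt) = hept := by
    decide +kernel
  rw [← hlast, val_run isLift_tr paths_ok path_zero _ _ (by rw [hone]; exact Subgroup.one_mem _), hone]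

theorem sub_pairs_ok : ([(1, 2), (2, 3), (3, 4), (4, 5), (2, 6), (6, 7), (7, 8), (4, 8)].all fun p : ℕ × ℕ =>
    wordFixPts Fi22B.P 3510 Fi22.pts (rep 3 (U62.swj p.1 ++ U62.swj p.2))) = true := by
  decide +kernel

theorem sub_odd_ok : wordFixPts Fi22B.P 3510 Fi22.pts
    (rep 9 ([1, 2, 3, 4, 5, 6, 7].flatMap U62.swj)) = true := by
  decide +kernel

theorem sub_zero_ok : wordFixPts Fi22B.P 3510 Fi22.pts
    (U62.swj 0 ++ rep 7 (U62.evenWord.flatMap U62.swj)) = true := by
  decide +kernel

/-- A homomorphism of the point stabiliser to a commutative group is trivial. -/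
theorem trivial_of_hom {Q : Type} [Group Q] (f : Fi22.H →* Q) (hc : ∀ q q' : Q, q' * q = q * q') :
    ∀ h, f h = 1 := by
  let : CommGroup Q := { (inferInstance : Group Q) with mul_comm := fun a b => (hc a b).symm }
  have hsq : ∀ j, j < 9 → f (U62.hgH j) * f (U62.hgH j) = 1 := fun j hj => by
    rw [← map_mul, show U62.hgH j * U62.hgH j = 1 from Subtype.ext (by
      show (U62.hgH j : Setup.G FS) * U62.hgH j = 1
      rw [U62.coe_hgH hj]; exact U62.hg_invol hj), map_one]
  have hrel : ∀ l : List ℕ, (∀ j ∈ l, j < 9) → wprod (Setup.gen FS) (l.flatMap U62.swj) = 1 →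
      (l.map fun j => f (U62.hgH j)).prod = 1 := by
    intro l hl h
    have e : ∀ l : List ℕ, (∀ j ∈ l, j < 9) →
        ((l.map U62.hgH).prod : Fi22.H).1 = wprod (Setup.gen FS) (l.flatMap U62.swj) := by
      intro l hl
      induction l with
      | nil => rfl
      | cons j l ih =>
        rw [List.map_cons, List.prod_cons, List.flatMap_cons, wprod_append]
        show (U62.hgH j : Setup.G FS) * ((l.map U62.hgH).prod : Fi22.H).1 = _
        rw [U62.coe_hgH (hl j List.mem_cons_self), ih fun i hi => hl i (List.mem_cons_of_mem _ hi)]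
        rfl
    have h1 : (l.map U62.hgH).prod = 1 := Subtype.ext ((e l hl).trans h)
    rw [show (fun j => f (U62.hgH j)) = f ∘ U62.hgH from rfl, ← List.map_map, ← map_list_prod, h1, map_one]
  have hpow : ∀ (m : ℕ) (l : List ℕ), (rep m l).flatMap U62.swj = rep m (l.flatMap U62.swj) := by
    intro m l
    induction m with
    | zero => rfl
    | succ m ih => rw [rep, rep, List.flatMap_append, ih]
  set a : ℕ → Q := fun j => f (U62.hgH j) with ha
  have heq : ∀ i j, i < 9 → j < 9 →
      wordFixPts Fi22B.P 3510 Fi22.pts (rep 3 (U62.swj i ++ U62.swj j)) = true → a i = a j := by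
    intro i j hi hj h
    have h1 := hrel (rep 3 [i, j]) (by
      intro t ht
      simp [rep] at ht
      rcases ht with rfl | rfl | rfl | rfl | rfl | rfl <;> assumption)
      (by
        rw [hpow, show [i, j].flatMap U62.swj = U62.swj i ++ U62.swj j by simp]
        exact Fi22.word_one h)
    have e1 := hsq i hi
    have e2 := hsq j hj
    simp only [rep, List.append_nil, List.cons_append, List.nil_append, List.map_cons, List.map_nil,
      List.prod_cons, List.prod_nil, mul_one] at h1
    have f1 : a i * a i = 1 := e1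
    have f2 : a j * a j = 1 := e2
    calc a i = a i * (a i * (a j * (a i * (a j * (a i * a j))))) := by rw [h1, mul_one]
      _ = (a i * a i) * (a i * a i) * (a j * a j) * a j := by ac_rfl
      _ = a j := by rw [f1, f2, one_mul, one_mul, one_mul]
  have hp := List.all_eq_true.1 sub_pairs_ok
  have h12 := heq 1 2 (by norm_num) (by norm_num) (hp (1, 2) (by decide))
  have h23 := heq 2 3 (by norm_num) (by norm_num) (hp (2, 3) (by decide))
  have h34 := heq 3 4 (by norm_num) (by norm_num) (hp (3, 4) (by decide))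
  have h45 := heq 4 5 (by norm_num) (by norm_num) (hp (4, 5) (by decide))
  have h26 := heq 2 6 (by norm_num) (by norm_num) (hp (2, 6) (by decide))
  have h67 := heq 6 7 (by norm_num) (by norm_num) (hp (6, 7) (by decide))
  have h78 := heq 7 8 (by norm_num) (by norm_num) (hp (7, 8) (by decide))
  have hall : ∀ j, 1 ≤ j → j < 9 → a j = a 1 := by
    intro j h1 h9
    interval_cases j
    · rfl
    · exact h12.symm
    · exact (h12.trans h23).symm
    · exact (h12.trans (h23.trans h34)).symm
    · exact (h12.trans (h23.trans (h34.trans h45))).symm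
    · exact (h12.trans h26).symm
    · exact (h12.trans (h26.trans h67)).symm
    · exact (h12.trans (h26.trans (h67.trans h78))).symm
  have hprod : ∀ l : List ℕ, (∀ j ∈ l, 1 ≤ j ∧ j < 9) → (l.map a).prod = a 1 ^ l.length := by
    intro l hl
    induction l with
    | nil => simp
    | cons j l ih =>
      rw [List.map_cons, List.prod_cons, List.length_cons, pow_succ',
        hall j (hl j List.mem_cons_self).1 (hl j List.mem_cons_self).2,
        ih fun i hi => hl i (List.mem_cons_of_mem _ hi)]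
  have h11 : a 1 * a 1 = 1 := hsq 1 (by norm_num)
  have hev : ∀ n, a 1 ^ (2 * n) = 1 := fun n => by rw [pow_mul, sq, h11, one_pow]
  have hone : a 1 = 1 := by
    have hmem : ∀ t ∈ rep 9 [1, 2, 3, 4, 5, 6, 7], 1 ≤ t ∧ t < 9 := by decide
    have h1 := hrel (rep 9 [1, 2, 3, 4, 5, 6, 7]) (fun t ht => (hmem t ht).2)
      (by rw [hpow]; exact Fi22.word_one sub_odd_ok)
    rw [hprod _ hmem, show (rep 9 [1, 2, 3, 4, 5, 6, 7]).length = 2 * 31 + 1 by rfl, pow_succ, hev,
      one_mul] at h1
    exact h1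
  have hzero : a 0 = 1 := by
    have hmem : ∀ t ∈ rep 7 U62.evenWord, 1 ≤ t ∧ t < 9 := by decide
    have h1 := hrel (0 :: rep 7 U62.evenWord) (fun t ht => by
        rcases List.mem_cons.1 ht with rfl | ht
        · norm_num
        · exact (hmem t ht).2)
      (by rw [List.flatMap_cons, hpow]; exact Fi22.word_one sub_zero_ok)
    rw [List.map_cons, List.prod_cons, hprod _ hmem, hone, one_pow, mul_one] at h1
    exact h1
  intro h
  have hgens : ∀ j, j < 9 → f (U62.hgH j) = 1 := by
    intro j hj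
    rcases Nat.eq_zero_or_pos j with rfl | hp'
    · exact hzero
    · exact (hall j hp' hj).trans hone
  have key : ∀ g (hg : g ∈ Fi22.H), f ⟨g, hg⟩ = 1 := by
    intro g hg
    refine (U62.induct (motive := fun g => g ∈ Fi22.H ∧ ∀ hg : g ∈ Fi22.H, f ⟨g, hg⟩ = 1)
      (fun j hj => ⟨U62.hg_mem j hj, fun hm' => ?_⟩)
      ⟨one_mem _, fun _ => map_one f⟩ (fun a b ha hb => ⟨mul_mem ha.1 hb.1, fun hm' => ?_⟩) hg).2 hg
    · rw [← hgens j hj]
      exact congrArg f (Subtype.ext (U62.coe_hgH hj).symm)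
    · rw [show (⟨a * b, hm'⟩ : Fi22.H) = ⟨a, ha.1⟩ * ⟨b, hb.1⟩ from rfl, map_mul, ha.2 ha.1, hb.2 hb.1, one_mul]
  exact key h h.2

section Ext

variable {E : Type} [Group E] {σ : E →* Setup.G FS}

theorem lift_commute (hker : σ.ker ≤ Subgroup.center E) (hs : Function.Surjective σ) {A : E}
    (hA : σ A = z) {e : E} (he : σ e ∈ Fi22.H) : Commute e A := by
  have hcen : ∀ g : Setup.G FS, g ∈ Fi22.H → ∀ a, σ a = g → a * A * a⁻¹ * A⁻¹ ∈ σ.ker := by
    intro g hg a ha
    rw [MonoidHom.mem_ker, map_mul, map_mul, map_mul, map_inv, map_inv, ha, hA, ← Fi22Class.z_comm g hg]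
    group
  have hind : ∀ a b : E, σ a = σ b → a * A * a⁻¹ = b * A * b⁻¹ := by
    intro a b h
    have hk : b⁻¹ * a ∈ σ.ker := by rw [MonoidHom.mem_ker, map_mul, map_inv, h, inv_mul_cancel]
    have hc := Subgroup.mem_center_iff.1 (hker hk) A
    calc a * A * a⁻¹ = b * (b⁻¹ * a * A) * a⁻¹ := by group
      _ = b * (A * (b⁻¹ * a)) * a⁻¹ := by rw [hc]
      _ = b * A * b⁻¹ := by group
  let r : Fi22.H → E := fun k => Function.surjInv hs (k : Setup.G FS)
  have hr : ∀ k : Fi22.H, σ (r k) = k := fun k => Function.surjInv_eq hs _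
  let ψ : Fi22.H →* σ.ker :=
    { toFun := fun k => ⟨r k * A * (r k)⁻¹ * A⁻¹, hcen k k.2 _ (hr k)⟩
      map_one' := Subtype.ext (by
        show r 1 * A * (r 1)⁻¹ * A⁻¹ = 1
        rw [hind (r 1) 1 (by rw [hr, map_one]; rfl)]
        group)
      map_mul' := fun k l => Subtype.ext (by
        show r (k * l) * A * (r (k * l))⁻¹ * A⁻¹ = (r k * A * (r k)⁻¹ * A⁻¹) * (r l * A * (r l)⁻¹ * A⁻¹)
        rw [hind (r (k * l)) (r k * r l) (by rw [map_mul, hr, hr, hr]; rfl)]
        have hc := Subgroup.mem_center_iff.1 (hker (hcen l l.2 _ (hr l))) (r k)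
        have hk := Subgroup.mem_center_iff.1 (hker (hcen k k.2 _ (hr k))) (r l * A * (r l)⁻¹ * A⁻¹)
        rw [← hk]
        calc r k * r l * A * (r k * r l)⁻¹ * A⁻¹
            = r k * (r l * A * (r l)⁻¹ * A⁻¹) * (A * (r k)⁻¹ * A⁻¹) := by group
          _ = (r l * A * (r l)⁻¹ * A⁻¹) * r k * (A * (r k)⁻¹ * A⁻¹) := by rw [hc]
          _ = r l * A * (r l)⁻¹ * A⁻¹ * (r k * A * (r k)⁻¹ * A⁻¹) := by group) }
  have hall : ∀ k : Fi22.H, ψ k = 1 := fun k => trivial_of_hom ψ
    (fun q q' => Subtype.ext (Subgroup.mem_center_iff.1 (hker q.2) (q' : E))) k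
  have h2 : r ⟨σ e, he⟩ * A * (r ⟨σ e, he⟩)⁻¹ * A⁻¹ = 1 := congrArg Subtype.val (hall ⟨σ e, he⟩)
  rw [hind _ e (hr _), mul_inv_eq_one, mul_inv_eq_iff_eq_mul] at h2
  exact h2

/-- The lift of a transposition. -/
noncomputable def liftT (hs : Function.Surjective σ) (A : E) (p : Fin 3510) : E :=
  Function.surjInv hs (exists_hom_zero p).choose * A * (Function.surjInv hs (exists_hom_zero p).choose)⁻¹

theorem liftT_eq (hker : σ.ker ≤ Subgroup.center E) (hs : Function.Surjective σ) {A : E} (hA : σ A = z)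
    {e : E} {p : Fin 3510} (h : hm (σ e) (0 : Fin 3510) = p) : liftT hs A p = e * A * e⁻¹ := by
  set g := (exists_hom_zero p).choose
  have hg : hm g (0 : Fin 3510) = p := (exists_hom_zero p).choose_spec
  set a := Function.surjInv hs g
  have hK : σ (e⁻¹ * a) ∈ Fi22.H := by
    rw [mem_H_iff, map_mul, map_inv, Function.surjInv_eq hs, hom_mul_apply, hg, ← h, ← hom_mul_apply,
      inv_mul_cancel, map_one]
    rfl
  have hc := (lift_commute hker hs hA hK).eq
  show a * A * a⁻¹ = _
  calc a * A * a⁻¹ = e * (e⁻¹ * a * A) * a⁻¹ := by group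
    _ = e * (A * (e⁻¹ * a)) * a⁻¹ := by rw [hc]
    _ = e * A * e⁻¹ := by group

theorem liftT_conj (hker : σ.ker ≤ Subgroup.center E) (hs : Function.Surjective σ) {A : E} (hA : σ A = z)
    (e : E) (p : Fin 3510) : liftT hs A (hm (σ e) p) = e * liftT hs A p * e⁻¹ := by
  set g := (exists_hom_zero p).choose
  have hg : hm g (0 : Fin 3510) = p := (exists_hom_zero p).choose_spec
  rw [liftT_eq hker hs hA (e := e * Function.surjInv hs g)
    (by rw [map_mul, Function.surjInv_eq hs, hom_mul_apply, hg])]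
  show _ = e * (Function.surjInv hs g * A * (Function.surjInv hs g)⁻¹) * e⁻¹
  group

theorem map_liftT (hker : σ.ker ≤ Subgroup.center E) (hs : Function.Surjective σ) {A : E} (hA : σ A = z)
    (p : Fin 3510) : σ (liftT hs A p) = tr p := by
  obtain ⟨e, he⟩ := hs (exists_hom_zero p).choose
  have h : hm (σ e) (0 : Fin 3510) = p := he ▸ (exists_hom_zero p).choose_spec
  rw [liftT_eq hker hs hA h, map_mul, map_mul, map_inv, hA, tr_eq h]

theorem prod_sq {u : E} (hu : u ∈ Subgroup.center E) : ∀ l : List E, (∀ a ∈ l, a * a = u) →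
    (∀ a ∈ l, ∀ b ∈ l, Commute a b) → l.prod * l.prod = u ^ l.length
  | [], _, _ => by simp
  | a :: l, h2, hc => by
    have hal : Commute a l.prod := Commute.list_prod_right l a fun b hb =>
      hc a List.mem_cons_self b (List.mem_cons_of_mem _ hb)
    rw [List.prod_cons, List.length_cons, pow_succ']
    calc a * l.prod * (a * l.prod) = a * (l.prod * a) * l.prod := by group
      _ = (a * a) * (l.prod * l.prod) := by rw [← hal.eq]; group
      _ = u * u ^ l.length := by
        rw [h2 a List.mem_cons_self, prod_sq hu l (fun b hb => h2 b (List.mem_cons_of_mem _ hb))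
          fun b hb c hc' => hc b (List.mem_cons_of_mem _ hb) c (List.mem_cons_of_mem _ hc')]

theorem exists_lift (hker : σ.ker ≤ Subgroup.center E) (hs : Function.Surjective σ) :
    ∃ T : Fin 3510 → E, IsLift T ∧ (∀ p, σ (T p) = tr p) ∧ val T hept = 1 := by
  obtain ⟨A, hA⟩ := hs z
  set T := liftT hs A
  have hσ : ∀ p, σ (T p) = tr p := map_liftT hker hs hA
  have hconj : ∀ a b, T (hm (tr a) b) = T a * T b * (T a)⁻¹ := fun a b => by
    rw [← hσ a]; exact liftT_conj hker hs hA (T a) b
  have hu : A * A ∈ σ.ker := by rw [MonoidHom.mem_ker, map_mul, hA]; exact Fi22Class.z_sq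
  have huc := hker hu
  set u := A * A with hu'
  have hsq : ∀ p, T p * T p = u := fun p => by
    show Function.surjInv hs _ * A * _ * (Function.surjInv hs _ * A * _) = u
    set a := Function.surjInv hs (exists_hom_zero p).choose
    calc a * A * a⁻¹ * (a * A * a⁻¹) = a * u * a⁻¹ := by rw [hu']; group
      _ = u := by rw [Subgroup.mem_center_iff.1 huc a, mul_inv_cancel_right]
  have hext : ∀ n ∈ hept, ∃ h : n < 3510, ext T n = T ⟨n, h⟩ := fun n hn => by
    have h := List.all_eq_true.1 (List.all_eq_true.1 (List.all_eq_true.1 hept_comm hept List.mem_cons_self) n hn) n hn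
    have hlt : n < 3510 := by
      have hb : (hept.all fun a => Nat.blt a 3510) = true := by decide +kernel
      exact Nat.blt_eq.mp (List.all_eq_true.1 hb n hn)
    exact ⟨hlt, dif_pos hlt⟩
  have hcomm : ∀ a ∈ hept, ∀ b ∈ hept, Commute (ext T a) (ext T b) := by
    intro a ha b hb
    have h := List.all_eq_true.1 (List.all_eq_true.1 (List.all_eq_true.1 hept_comm hept List.mem_cons_self) a ha) b hb
    simp only [Bool.or_eq_true, Bool.and_eq_true, List.any_eq_true, Nat.beq_eq, Nat.blt_eq] at h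
    obtain ⟨hal, eA⟩ := hext a ha
    obtain ⟨hbl, eB⟩ := hext b hb
    rcases h with ⟨-, ⟨p, v⟩, hpm, rfl, hfix⟩ | h
    · obtain ⟨hp', hc⟩ := cAct_eq (paths_ok _ hpm) hbl
      have h3 := hconj ⟨p, hp'⟩ ⟨b, hbl⟩
      rw [show hm (tr ⟨p, hp'⟩) ⟨b, hbl⟩ = ⟨b, hbl⟩ from Fin.ext (hc.trans hfix)] at h3
      rw [eA, eB]
      exact (mul_inv_eq_iff_eq_mul.1 h3.symm)
    · rw [h]
  set k := val T hept
  have hk : k * k = u ^ 7 := by
    have := prod_sq huc (hept.map (ext T))
      (fun a ha => by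
        obtain ⟨n, hn, rfl⟩ := List.mem_map.1 ha
        obtain ⟨hl, e⟩ := hext n hn
        rw [e]; exact hsq _)
      (fun a ha b hb => by
        obtain ⟨m, hm', rfl⟩ := List.mem_map.1 ha
        obtain ⟨n, hn, rfl⟩ := List.mem_map.1 hb
        exact hcomm m hm' n hn)
    rw [List.length_map, hept_len] at this
    exact this
  have hkker : k ∈ σ.ker := by
    rw [MonoidHom.mem_ker, ← val_hept]
    show σ ((hept.map (ext T)).prod) = (hept.map (ext tr)).prod
    rw [map_list_prod, List.map_map]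
    refine congrArg List.prod (List.map_congr_left fun n hn => ?_)
    obtain ⟨hl, e⟩ := hext n hn
    show σ (ext T n) = _
    rw [e, hσ, ext, dif_pos hl]
  set t := k * (u ^ 3)⁻¹
  have htk : t ∈ σ.ker := σ.ker.mul_mem hkker (σ.ker.inv_mem (σ.ker.pow_mem hu 3))
  have htc : ∀ x, x * t = t * x := Subgroup.mem_center_iff.1 (hker htk)
  have hcu : ∀ x : E, Commute (u ^ 3)⁻¹ x := fun x =>
    (((show Commute u x from ((Subgroup.mem_center_iff.1 huc) x).symm)).pow_left 3).inv_left
  have ht2 : t * t = u := by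
    calc t * t = k * ((u ^ 3)⁻¹ * k) * (u ^ 3)⁻¹ := by
          show k * (u ^ 3)⁻¹ * (k * (u ^ 3)⁻¹) = _
          group
      _ = (k * k) * ((u ^ 3)⁻¹ * (u ^ 3)⁻¹) := by rw [(hcu k).eq]; group
      _ = u := by rw [hk]; group
  have htval : k = t * u ^ 3 := (inv_mul_cancel_right k (u ^ 3)).symm
  clear_value t
  have hti : ∀ x, Commute t⁻¹ x := fun x => (show Commute t x from (htc x).symm).inv_left
  refine ⟨fun p => T p * t⁻¹, ⟨fun p => ?_, fun a b => ?_⟩, fun p => ?_, ?_⟩
  · calc T p * t⁻¹ * (T p * t⁻¹) = T p * (t⁻¹ * T p) * t⁻¹ := by group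
      _ = (T p * T p) * (t * t)⁻¹ := by rw [(hti (T p)).eq]; group
      _ = 1 := by rw [hsq, ht2, mul_inv_cancel]
  · calc T (hm (tr a) b) * t⁻¹ = T a * T b * ((T a)⁻¹ * t⁻¹) := by rw [hconj, mul_assoc]
      _ = T a * T b * (t⁻¹ * (T a)⁻¹) := by rw [(hti _).eq]
      _ = T a * t⁻¹ * (T b * t⁻¹) * (T a * t⁻¹)⁻¹ := by
        rw [mul_inv_rev, inv_inv]
        calc T a * T b * (t⁻¹ * (T a)⁻¹) = T a * (T b * t⁻¹) * (T a)⁻¹ := by group
          _ = T a * (t⁻¹ * (T b * t⁻¹) * t) * (T a)⁻¹ := by rw [(hti (T b * t⁻¹)).eq]; group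
          _ = T a * t⁻¹ * (T b * t⁻¹) * (t * (T a)⁻¹) := by group
  · rw [map_mul, map_inv, hσ, MonoidHom.mem_ker.1 htk, inv_one, mul_one]
  · have key : ∀ l : List ℕ, (∀ n ∈ l, ∃ h : n < 3510, ext T n = T ⟨n, h⟩) →
        val (fun p => T p * t⁻¹) l = val T l * (t⁻¹) ^ l.length := by
      intro l hl
      induction l with
      | nil => simp [val]
      | cons a l ih =>
        obtain ⟨h, e⟩ := hl a List.mem_cons_self
        rw [val_cons, val_cons, ih fun n hn => hl n (List.mem_cons_of_mem _ hn),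
          show ext (fun p => T p * t⁻¹) a = T ⟨a, h⟩ * t⁻¹ from dif_pos h, e, List.length_cons,
          pow_succ' t⁻¹]
        calc T ⟨a, h⟩ * t⁻¹ * (val T l * t⁻¹ ^ l.length)
            = T ⟨a, h⟩ * (t⁻¹ * val T l) * t⁻¹ ^ l.length := by group
          _ = T ⟨a, h⟩ * val T l * (t⁻¹ * t⁻¹ ^ l.length) := by rw [(hti (val T l)).eq]; group
    rw [key hept hext, hept_len]
    calc k * t⁻¹ ^ 7 = k * ((t * t) ^ 3)⁻¹ * t⁻¹ := by
          rw [← sq, ← pow_mul, inv_pow, mul_assoc, ← mul_inv_rev, ← pow_succ']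
      _ = t * t⁻¹ := by rw [ht2, htval, mul_inv_cancel_right]
      _ = 1 := mul_inv_cancel t

theorem sq_hept' {T : Fin 3510 → E} (hT : IsLift T) : val T hept' * val T hept' = 1 := by
  have h := prod_sq (Subgroup.one_mem (Subgroup.center E)) (hept'.map (ext T))
    (fun a ha => by obtain ⟨n, -, rfl⟩ := List.mem_map.1 ha; exact ext_sq hT n)
    (fun a ha b hb => by
      obtain ⟨m, hm', rfl⟩ := List.mem_map.1 ha
      obtain ⟨n, hn, rfl⟩ := List.mem_map.1 hb
      have h := List.all_eq_true.1 (List.all_eq_true.1 (List.all_eq_true.1 hept_comm hept'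
        (List.mem_cons_of_mem _ List.mem_cons_self)) m hm') n hn
      simp only [Bool.or_eq_true, Bool.and_eq_true, List.any_eq_true, Nat.beq_eq, Nat.blt_eq] at h
      rcases h with ⟨⟨-, hn'⟩, ⟨p, v⟩, hpm, rfl, hfix⟩ | h
      · have h3 := conj_ext hT (paths_ok _ hpm) hn'
        rw [hfix] at h3
        exact (mul_inv_eq_iff_eq_mul.1 h3.symm)
      · rw [h])
  rw [one_pow] at h
  exact h

theorem cube_resid {T : Fin 3510 → E} (hT : IsLift T) (hc : val T resid ∈ Subgroup.center E) :
    val T resid ^ 3 = 1 := by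
  have h : run paths cube (resid ++ resid ++ resid) = [] := by
    have h' : (run paths cube (resid ++ resid ++ resid) == []) = true := by decide +kernel
    exact beq_iff_eq.1 h'
  have e : val T (resid ++ resid ++ resid) = val T resid ^ 3 := by
    rw [val_append, val_append, pow_succ, pow_two]
  have hv := val_run hT paths_ok path_zero cube (resid ++ resid ++ resid)
    (e ▸ Subgroup.pow_mem _ hc 3)
  rw [h, val_nil, e] at hv
  exact hv.symm

theorem val_resid : val tr resid = 1 := by
  have hw : rep 10 [3, 2, 1, 3, 4, 5, 3, 7, 8] ∈ Fi22B.base := by decide +kernel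
  have hone : val tr ((rep 10 [3, 2, 1, 3, 4, 5, 3, 7, 8]).map gpt) = 1 := by
    rw [val_gpt ext_tr_gpt _ (List.all_eq_true.1 base_lt _ hw)]
    exact Setup.base_one FS _ hw
  have hlast : run paths (moves.getD 36 []) ((rep 10 [3, 2, 1, 3, 4, 5, 3, 7, 8]).map gpt) = resid := by
    decide +kernel
  rw [← hlast, val_run isLift_tr paths_ok path_zero _ _ (by rw [hone]; exact Subgroup.one_mem _), hone]

theorem val_hept' : val tr hept' = 1 := by
  have hw : rep 9 [1, 2, 3, 4, 5, 6, 7] ∈ Fi22B.base := by decide +kernel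
  have hone : val tr ((rep 9 [1, 2, 3, 4, 5, 6, 7]).map gpt) = 1 := by
    rw [val_gpt ext_tr_gpt _ (List.all_eq_true.1 base_lt _ hw)]
    exact Setup.base_one FS _ hw
  have hlast : run paths (moves.getD 38 []) ((rep 9 [1, 2, 3, 4, 5, 6, 7]).map gpt) = hept' := by
    decide +kernel
  rw [← hlast, val_run isLift_tr paths_ok path_zero _ _ (by rw [hone]; exact Subgroup.one_mem _), hone]

theorem map_val {T : Fin 3510 → E} (hσ : ∀ p, σ (T p) = tr p) (l : List ℕ) : σ (val T l) = val tr l := by
  show σ (l.map (ext T)).prod = (l.map (ext tr)).prod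
  rw [map_list_prod, List.map_map]
  refine congrArg List.prod (List.map_congr_left fun n _ => ?_)
  show σ (ext T n) = ext tr n
  unfold ext
  split_ifs
  · exact hσ _
  · exact map_one σ

/-- The kernel of a stem extension is generated by one element of order dividing six. -/
theorem exists_ker_gen (hker : σ.ker ≤ Subgroup.center E) (hs : Function.Surjective σ)
    (hcomm : σ.ker ≤ commutator E) : ∃ r : E, r ^ 6 = 1 ∧ r ∈ σ.ker ∧ σ.ker ≤ Subgroup.zpowers r := by
  obtain ⟨T, hT, hσ, hH⟩ := exists_lift hker hs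
  set R := val T resid
  set k := val T hept'
  have hRk : R ∈ σ.ker := by rw [MonoidHom.mem_ker, map_val hσ, val_resid]
  have hkk : k ∈ σ.ker := by rw [MonoidHom.mem_ker, map_val hσ, val_hept']
  have hk2 : k * k = 1 := sq_hept' hT
  have hR3 : R ^ 3 = 1 := cube_resid hT (hker hRk)
  have hc : Commute R k := (Subgroup.mem_center_iff.1 (hker hkk) R)
  set r := R * k
  have hr4 : r ^ 4 = R := by
    rw [hc.mul_pow, pow_succ R 3, hR3, one_mul, show k ^ 4 = (k * k) * (k * k) by rw [← sq, ← sq, ← pow_mul], hk2, one_mul, mul_one]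
  have hr3 : r ^ 3 = k := by
    rw [hc.mul_pow, hR3, one_mul, pow_succ, sq, hk2, one_mul]
  refine ⟨r, ?_, σ.ker.mul_mem hRk hkk, ?_⟩
  · rw [show 6 = 3 * 2 by norm_num, pow_mul, hr3, sq, hk2]
  set C := Subgroup.zpowers r
  have hCk : C ≤ σ.ker := Subgroup.zpowers_le.2 (σ.ker.mul_mem hRk hkk)
  have : C.Normal := ⟨fun n hn g => by
    rw [Subgroup.mem_center_iff.1 (hker (hCk hn)) g, mul_inv_cancel_right]; exact hn⟩
  have hRC : R ∈ C := hr4 ▸ pow_mem (Subgroup.mem_zpowers r) 4
  have hkC : k ∈ C := hr3 ▸ pow_mem (Subgroup.mem_zpowers r) 3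
  let q := QuotientGroup.mk' C
  obtain ⟨ψ, hψ⟩ := Setup.exists_hom FS (fun x => q (ext T (gpt x)))
    (fun x => by rw [← map_mul, ext_sq hT, map_one]) (fun w hw => by
      have hl := List.all_eq_true.1 base_lt w hw
      rw [← map_wprod q (fun x => ext T (gpt x)), ← val_gpt (fun _ _ => rfl) w hl]
      have hc' : val T (w.map gpt) ∈ Subgroup.center E := hker (by
        rw [MonoidHom.mem_ker, map_val hσ, val_gpt ext_tr_gpt w hl]
        exact Setup.base_one FS w hw)
      rcases exists_reduct hT hw hc' with h | h | h | h <;> rw [h]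
      · exact map_one q
      · rw [hH]; exact map_one q
      · exact (QuotientGroup.eq_one_iff _).2 hkC
      · exact (QuotientGroup.eq_one_iff _).2 hRC)
  let σ' : E ⧸ C →* Setup.G FS := QuotientGroup.lift C σ fun x hx => hCk hx
  have hsec : ∀ g, σ' (ψ g) = g := fun g => DFunLike.congr_fun (MonoidHom.eq_of_eqOn_dense (Setup.closure_gen FS)
    (f := σ'.comp ψ) (g := MonoidHom.id _) (by
      rintro _ ⟨x, hx, rfl⟩
      obtain ⟨h, e⟩ := tr_gpt (show x < 9 from hx)
      show σ' (ψ (Setup.gen FS x)) = _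
      rw [hψ x hx]
      show σ (ext T (gpt x)) = _
      rw [ext, dif_pos h, hσ, e]
      rfl)) g
  have hker' : σ'.ker ≤ Subgroup.center (E ⧸ C) := by
    intro x hx
    obtain ⟨a, rfl⟩ := QuotientGroup.mk'_surjective C x
    refine Subgroup.mem_center_iff.2 fun y => ?_
    obtain ⟨b, rfl⟩ := QuotientGroup.mk'_surjective C y
    rw [← map_mul, ← map_mul, Subgroup.mem_center_iff.1 (hker (show a ∈ σ.ker from hx)) b]
  have hsub : commutator (E ⧸ C) ≤ ψ.range := by
    rw [commutator_def, Subgroup.commutator_le]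
    intro a _ b _
    have hz : ∀ x : E ⧸ C, ∃ c ∈ Subgroup.center (E ⧸ C), x = ψ (σ' x) * c := fun x =>
      ⟨(ψ (σ' x))⁻¹ * x, hker' (by rw [MonoidHom.mem_ker, map_mul, map_inv, hsec, inv_mul_cancel]),
        (mul_inv_cancel_left _ _).symm⟩
    obtain ⟨c, hc, hca⟩ := hz a
    obtain ⟨d, hd, hdb⟩ := hz b
    refine ⟨σ' a * σ' b * (σ' a)⁻¹ * (σ' b)⁻¹, ?_⟩
    rw [commutatorElement_def, map_mul, map_mul, map_mul, map_inv, map_inv]
    conv_rhs => rw [hca, hdb]
    have hc' := Subgroup.mem_center_iff.1 hc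
    have hd' := Subgroup.mem_center_iff.1 hd
    symm
    set a' := ψ (σ' a)
    set b' := ψ (σ' b)
    calc a' * c * (b' * d) * (a' * c)⁻¹ * (b' * d)⁻¹
        = a' * (c * (b' * d * c⁻¹)) * a'⁻¹ * (d⁻¹ * b'⁻¹) := by group
      _ = a' * b' * (d * a'⁻¹) * d⁻¹ * b'⁻¹ := by rw [← hc' (b' * d * c⁻¹)]; group
      _ = a' * b' * (a'⁻¹ * d) * d⁻¹ * b'⁻¹ := by rw [hd' a'⁻¹]
      _ = a' * b' * a'⁻¹ * b'⁻¹ := by group
  intro x hx
  have hxc : q x ∈ commutator (E ⧸ C) := by
    have := Subgroup.mem_map_of_mem q (hcomm hx)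
    rw [commutator_def, Subgroup.map_commutator] at this
    rw [commutator_def]
    exact Subgroup.commutator_mono le_top le_top this
  obtain ⟨g, hg⟩ := hsub hxc
  have h1 : σ' (q x) = 1 := hx
  rw [← hg, hsec] at h1
  rw [h1, map_one] at hg
  exact (QuotientGroup.eq_one_iff x).1 hg.symm

end Ext

end Cfsg.Agent.FischerPresented.Mult22
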