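import Cfsg.Agent.Lib.FischerPresented.OutTr

/-!
Moves on sequences of transpositions that keep the product in every group where the transpositions are
involutions conjugating one another as in Fi22.
-/

set_option autoImplicit false
set_option maxRecDepth 100000

namespace Cfsg.Agent.FischerPresented.Mult22

open Cfsg.Agent.CosetCert
open Cfsg.Agent.CosetData
open Cfsg.Agent.FischerPresented.Out22 (hm tr tr_hom tr_gpt gpt hom_word)

local notation "FS" => Fi22B.setup

/-- A move on a sequence. -/
inductive Move where
  | rot (k : ℕ)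
  | left (i j : ℕ)
  | right (i j : ℕ)
  | cancel (i : ℕ)
  | ins (i p : ℕ)

/-- The conjugate of a coset by the transposition of a path. -/
noncomputable def cAct (v : List ℕ) (b : ℕ) : ℕ := tact Fi22B.P (v.reverse ++ [0] ++ v) b

/-- Exchanging at the head: the first passes to the right. -/
noncomputable def left2 (e : ℕ × List ℕ) : List ℕ → List ℕ
  | a :: b :: l => if Nat.beq a e.1 && Nat.blt b 3510 then cAct e.2 b :: a :: l else a :: b :: l
  | l => l

/-- Exchanging at the head: the second passes to the left. -/
noncomputable def right2 (e : ℕ × List ℕ) : List ℕ → List ℕ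
  | a :: b :: l => if Nat.beq b e.1 && Nat.blt a 3510 then b :: cAct e.2 a :: l else a :: b :: l
  | l => l

/-- Cancelling at the head. -/
def cancel2 : List ℕ → List ℕ
  | a :: b :: l => if Nat.beq a b then l else a :: b :: l
  | l => l

/-- One move, with a table of paths. -/
noncomputable def applyMove (T : List (ℕ × List ℕ)) : Move → List ℕ → List ℕ
  | .rot k, s => s.drop k ++ s.take k
  | .left i j, s => s.take i ++ left2 (T.getD j (gpt 0, [])) (s.drop i)
  | .right i j, s => s.take i ++ right2 (T.getD j (gpt 0, [])) (s.drop i)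
  | .cancel i, s => s.take i ++ cancel2 (s.drop i)
  | .ins i p, s => s.take i ++ [p, p] ++ s.drop i

/-- A list of moves. -/
noncomputable def run (T : List (ℕ × List ℕ)) (ms : List Move) (s : List ℕ) : List ℕ :=
  ms.foldl (fun t m => applyMove T m t) s

/-- Whether a path names a coset. -/
noncomputable def pathOK (e : ℕ × List ℕ) : Bool :=
  (e.2.all fun x => Nat.blt x 9) && Nat.beq (tact Fi22B.P e.2 (gpt 0)) e.1 && Nat.blt e.1 3510

/-- Involutions indexed by the cosets, conjugating one another as the transpositions do. -/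
structure IsLift {Q : Type} [Group Q] (T : Fin 3510 → Q) : Prop where
  sq : ∀ p, T p * T p = 1
  conj : ∀ a b, T (hm (tr a) b) = T a * T b * (T a)⁻¹

variable {Q : Type} [Group Q]

/-- Extension by one to all numbers. -/
def ext (T : Fin 3510 → Q) (n : ℕ) : Q := if h : n < 3510 then T ⟨n, h⟩ else 1

/-- The product of a sequence. -/
def val (T : Fin 3510 → Q) (s : List ℕ) : Q := (s.map (ext T)).prod

theorem val_append (T : Fin 3510 → Q) (s t : List ℕ) : val T (s ++ t) = val T s * val T t := by
  simp [val]

theorem val_cons (T : Fin 3510 → Q) (a : ℕ) (t : List ℕ) : val T (a :: t) = ext T a * val T t := by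
  simp [val]

theorem val_nil (T : Fin 3510 → Q) : val T [] = 1 := rfl

theorem ext_val (T : Fin 3510 → Q) (p : Fin 3510) : ext T p = T p := dif_pos p.2

theorem ext_sq {T : Fin 3510 → Q} (hT : IsLift T) (n : ℕ) : ext T n * ext T n = 1 := by
  unfold ext
  split_ifs
  · exact hT.sq _
  · exact mul_one 1

theorem cAct_eq {e : ℕ × List ℕ} (he : pathOK e = true) {b : ℕ} (hb : b < 3510) :
    ∃ h : e.1 < 3510, (hm (tr ⟨e.1, h⟩) ⟨b, hb⟩ : ℕ) = cAct e.2 b := by
  simp only [pathOK, Bool.and_eq_true, Nat.blt_eq, Nat.beq_eq] at he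
  obtain ⟨⟨hl, hp⟩, hlt⟩ := he
  refine ⟨hlt, ?_⟩
  have hlr : (e.2.reverse.all fun x => Nat.blt x 9) = true := by rw [List.all_reverse]; exact hl
  have hw : ((e.2.reverse ++ [0] ++ e.2).all fun t => Nat.blt t 9) = true := by
    rw [List.all_append, List.all_append, hlr, hl]
    rfl
  obtain ⟨h0, e0⟩ := tr_gpt (show 0 < 9 by norm_num)
  have hg : hm (wprod (Setup.gen FS) e.2.reverse) ⟨gpt 0, h0⟩ = ⟨e.1, hlt⟩ := Fin.ext (by
    rw [hom_word hlr, List.reverse_reverse]; exact hp)
  have ht : tr ⟨e.1, hlt⟩ = wprod (Setup.gen FS) (e.2.reverse ++ [0] ++ e.2) := by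
    rw [← hg, tr_hom, e0, wprod_append, wprod_append, wprod_reverse (Setup.gen_invol FS), inv_inv,
      wprod_cons, wprod_nil, mul_one]
  rw [ht, hom_word hw]
  simp [cAct, List.append_assoc]

theorem conj_ext {T : Fin 3510 → Q} (hT : IsLift T) {e : ℕ × List ℕ} (he : pathOK e = true) {b : ℕ}
    (hb : b < 3510) : ext T (cAct e.2 b) = ext T e.1 * ext T b * (ext T e.1)⁻¹ := by
  obtain ⟨h, hc⟩ := cAct_eq he hb
  rw [← hc, ext_val, hT.conj, ← ext_val T ⟨e.1, h⟩, ← ext_val T ⟨b, hb⟩]

theorem val_left2 {T : Fin 3510 → Q} (hT : IsLift T) {e : ℕ × List ℕ} (he : pathOK e = true) :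
    ∀ l, val T (left2 e l) = val T l
  | [] => rfl
  | [_] => rfl
  | a :: b :: l => by
    rw [left2]
    split_ifs with h
    · rw [Bool.and_eq_true, Nat.beq_eq, Nat.blt_eq] at h
      rw [val_cons, val_cons, val_cons, val_cons, conj_ext hT he h.2, h.1]
      group
    · rfl

theorem val_right2 {T : Fin 3510 → Q} (hT : IsLift T) {e : ℕ × List ℕ} (he : pathOK e = true) :
    ∀ l, val T (right2 e l) = val T l
  | [] => rfl
  | [_] => rfl
  | a :: b :: l => by
    rw [right2]
    split_ifs with h
    · rw [Bool.and_eq_true, Nat.beq_eq, Nat.blt_eq] at h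
      rw [val_cons, val_cons, val_cons, val_cons, conj_ext hT he h.2, h.1,
        inv_eq_of_mul_eq_one_right (ext_sq hT e.1)]
      simp only [← mul_assoc, ext_sq hT, one_mul]
    · rfl

theorem val_cancel2 {T : Fin 3510 → Q} (hT : IsLift T) : ∀ l, val T (cancel2 l) = val T l
  | [] => rfl
  | [_] => rfl
  | a :: b :: l => by
    rw [cancel2]
    split_ifs with h
    · rw [Nat.beq_eq] at h
      rw [val_cons, val_cons, h, ← mul_assoc, ext_sq hT, one_mul]
    · rfl

theorem val_applyMove {T : Fin 3510 → Q} (hT : IsLift T) {P : List (ℕ × List ℕ)}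
    (hP : ∀ e ∈ P, pathOK e = true) (h0 : pathOK (gpt 0, []) = true) {s : List ℕ}
    (hs : val T s ∈ Subgroup.center Q) : ∀ m, val T (applyMove P m s) = val T s := by
  have hget : ∀ j, pathOK (P.getD j (gpt 0, [])) = true := fun j => by
    rw [List.getD_eq_getElem?_getD]
    cases h : P[j]? with
    | none => exact h0
    | some e => exact hP e (List.mem_of_getElem? h)
  intro m
  cases m with
  | rot k =>
    have h := Subgroup.mem_center_iff.1 hs (val T (s.take k))
    rw [applyMove, val_append]
    have e : val T s = val T (s.take k) * val T (s.drop k) := by rw [← val_append, List.take_append_drop]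
    rw [e] at h ⊢
    calc val T (s.drop k) * val T (s.take k)
        = (val T (s.take k))⁻¹ * (val T (s.take k) * val T (s.drop k) * val T (s.take k)) := by group
      _ = val T (s.take k) * val T (s.drop k) := by rw [← h]; group
  | left i j => rw [applyMove, val_append, val_left2 hT (hget j), ← val_append, List.take_append_drop]
  | right i j => rw [applyMove, val_append, val_right2 hT (hget j), ← val_append, List.take_append_drop]
  | cancel i => rw [applyMove, val_append, val_cancel2 hT, ← val_append, List.take_append_drop]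
  | ins i p =>
    rw [applyMove, val_append, val_append, val_cons, val_cons, val_nil, mul_one, ext_sq hT, mul_one,
      ← val_append, List.take_append_drop]

theorem val_run {T : Fin 3510 → Q} (hT : IsLift T) {P : List (ℕ × List ℕ)}
    (hP : ∀ e ∈ P, pathOK e = true) (h0 : pathOK (gpt 0, []) = true) :
    ∀ (ms : List Move) (s : List ℕ), val T s ∈ Subgroup.center Q → val T (run P ms s) = val T s
  | [], _, _ => rfl
  | m :: ms, s, hs => by
    have h := val_applyMove hT hP h0 hs m
    show val T (run P ms (applyMove P m s)) = val T s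
    rw [val_run hT hP h0 ms _ (h ▸ hs), h]

end Cfsg.Agent.FischerPresented.Mult22
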