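import Cfsg.Agent.Lib.FischerPresented.Mult22Basic

/-! Certificates: relators of Fi22 reduced by moves on sequences of transpositions. -/

set_option autoImplicit false
set_option maxRecDepth 100000

namespace Cfsg.Agent.FischerPresented.Mult22

/-- Paths, part 0. -/
def paths0 : List (ℕ × List ℕ) := [(2, [1, 0]),
  (0, []),
  (7, [1, 0, 2, 1]),
  (18, [1, 0, 2, 1, 3, 2]),
  (54, [1, 0, 2, 1, 3, 2, 4, 3]),
  (134, [1, 0, 2, 1, 3, 2, 4, 3, 5, 4]),
  (215, [1, 0, 2, 1, 3, 2, 4, 3, 5, 4, 6, 5]),
  (56, [1, 0, 2, 1, 3, 2, 7, 3]),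
  (136, [1, 0, 2, 1, 3, 2, 7, 3, 8, 7]),
  (19, [1, 0, 2, 1, 3, 2, 4]),
  (55, [1, 0, 2, 1, 3, 2, 4, 3, 5]),
  (20, [1, 0, 2, 1, 3, 2, 7]),
  (4, [1, 0, 2]),
  (10, [1, 0, 2, 3, 4]),
  (39, [1, 0, 2, 1, 3, 2, 7, 8]),
  (41, [1, 0, 2, 1, 3, 2, 4, 5, 7, 8]),
  (34, [1, 0, 2, 1, 3, 7, 8]),
  (26, [1, 0, 2, 1, 3, 4, 5]),
  (43, [1, 0, 2, 3, 4, 7, 3]),
  (13, [1, 0, 2, 3, 7]),
  (11, [1, 0, 2, 1, 3, 4]),
  (57, [1, 0, 2, 1, 3, 2, 7, 3, 8]),
  (51, [1, 0, 2, 1, 3, 4, 5, 7, 3]),
  (35, [1, 0, 2, 1, 3, 4, 7, 8]),
  (78, [1, 0, 2, 3, 4, 7, 3, 2]),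
  (409, [1, 0, 2, 3, 4, 5, 7, 3, 2, 4, 3, 7, 8, 7, 3, 2, 4]),
  (23, [1, 0, 2, 3, 4, 5]),
  (8, [1, 0, 2, 1, 3]),
  (1, [1]),
  (28, [1, 0, 2, 1, 3, 2, 4, 5]),
  (6, [1, 0, 2, 3]),
  (15, [1, 0, 2, 3, 4, 7]),
  (29, [1, 0, 2, 1, 3, 2, 4, 5, 7]),
  (14, [1, 2, 3, 4, 7]),
  (27, [1, 0, 2, 1, 3, 4, 5, 7]),
  (137, [1, 2, 3, 4, 7, 3, 2, 1]),
  (3, [1, 2]),
  (17, [1, 0, 2, 1, 3, 4, 7]),
  (24, [1, 2, 3, 4, 5, 7]),
  (1067, [1, 2, 3, 4, 5, 7, 3, 2, 1, 4, 3, 2, 7, 3, 4, 5]),
  (42, [1, 2, 3, 4, 7, 3]),
  (135, [1, 0, 2, 1, 3, 2, 4, 3, 5, 4, 6]),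
  (76, [1, 0, 2, 1, 3, 2, 4, 3, 5, 6]),
  (16, [1, 0, 2, 1, 3, 7]),
  (73, [1, 0, 2, 1, 3, 2, 4, 5, 6]),
  (62, [1, 0, 2, 1, 3, 4, 5, 6]),
  (21, [1, 0, 2, 1, 3, 2, 4, 7]),
  (59, [1, 0, 2, 3, 4, 5, 6]),
  (61, [1, 0, 2, 3, 4, 5, 6, 7]),
  (167, [1, 0, 2, 3, 4, 5, 6, 7, 3, 2, 4, 5]),
  (96, [1, 0, 2, 3, 4, 5, 6, 7, 3, 2, 4]),
  (223, [1, 0, 2, 3, 4, 5, 6, 7, 3, 2, 4, 3, 5, 7]),
  (256, [1, 0, 2, 3, 4, 5, 6, 7, 3, 2, 4, 3, 5, 4]),
  (50, [1, 0, 2, 1, 3, 4, 7, 3]),
  (37, [1, 0, 2, 3, 4, 5, 7, 8])]

/-- Paths from the first generator's transposition. -/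
def paths : List (ℕ × List ℕ) := paths0

/-- Seven commuting transpositions from the first product relation. -/
def hept : List ℕ := [3, 17, 1067, 13, 8, 10, 42]

/-- Seven commuting transpositions from the second product relation. -/
def hept' : List ℕ := [21, 2, 18, 256, 78, 215, 223]

/-- The residue of the spider relation. -/
def resid : List ℕ := [409, 78, 51, 34, 41, 10, 11, 50, 134, 57, 23, 54]

/-- Moves for relator 0, part 0. -/
def moves0p0 : List Move := [.right 0 0, .right 1 1, .cancel 2, .rot 3, .cancel 0, .cancel 0]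

/-- Moves for relator 0. -/
def moves0 : List Move := moves0p0

/-- Moves for relator 1, part 0. -/
def moves1p0 : List Move := [.right 0 2, .cancel 1, .cancel 0]

/-- Moves for relator 1. -/
def moves1 : List Move := moves1p0

/-- Moves for relator 2, part 0. -/
def moves2p0 : List Move := [.right 0 3, .cancel 1, .cancel 0]

/-- Moves for relator 2. -/
def moves2 : List Move := moves2p0

/-- Moves for relator 3, part 0. -/
def moves3p0 : List Move := [.right 0 4, .cancel 1, .cancel 0]

/-- Moves for relator 3. -/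
def moves3 : List Move := moves3p0

/-- Moves for relator 4, part 0. -/
def moves4p0 : List Move := [.right 0 5, .cancel 1, .cancel 0]

/-- Moves for relator 4. -/
def moves4 : List Move := moves4p0

/-- Moves for relator 5, part 0. -/
def moves5p0 : List Move := [.right 0 6, .cancel 1, .cancel 0]

/-- Moves for relator 5. -/
def moves5 : List Move := moves5p0

/-- Moves for relator 6, part 0. -/
def moves6p0 : List Move := [.right 0 7, .cancel 1, .cancel 0]

/-- Moves for relator 6. -/
def moves6 : List Move := moves6p0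

/-- Moves for relator 7, part 0. -/
def moves7p0 : List Move := [.right 0 8, .cancel 1, .cancel 0]

/-- Moves for relator 7. -/
def moves7 : List Move := moves7p0

/-- Moves for relator 8, part 0. -/
def moves8p0 : List Move := [.right 0 2, .right 1 0, .cancel 2, .rot 3, .cancel 0, .cancel 0]

/-- Moves for relator 8. -/
def moves8 : List Move := moves8p0

/-- Moves for relator 9, part 0. -/
def moves9p0 : List Move := [.right 0 3, .cancel 1, .cancel 0]

/-- Moves for relator 9. -/
def moves9 : List Move := moves9p0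

/-- Moves for relator 10, part 0. -/
def moves10p0 : List Move := [.right 0 4, .cancel 1, .cancel 0]

/-- Moves for relator 10. -/
def moves10 : List Move := moves10p0

/-- Moves for relator 11, part 0. -/
def moves11p0 : List Move := [.right 0 5, .cancel 1, .cancel 0]

/-- Moves for relator 11. -/
def moves11 : List Move := moves11p0

/-- Moves for relator 12, part 0. -/
def moves12p0 : List Move := [.right 0 6, .cancel 1, .cancel 0]

/-- Moves for relator 12. -/
def moves12 : List Move := moves12p0

/-- Moves for relator 13, part 0. -/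
def moves13p0 : List Move := [.right 0 7, .cancel 1, .cancel 0]

/-- Moves for relator 13. -/
def moves13 : List Move := moves13p0

/-- Moves for relator 14, part 0. -/
def moves14p0 : List Move := [.right 0 8, .cancel 1, .cancel 0]

/-- Moves for relator 14. -/
def moves14 : List Move := moves14p0

/-- Moves for relator 15, part 0. -/
def moves15p0 : List Move := [.right 0 3, .right 1 2, .cancel 2, .rot 3, .cancel 0, .cancel 0]

/-- Moves for relator 15. -/
def moves15 : List Move := moves15p0

/-- Moves for relator 16, part 0. -/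
def moves16p0 : List Move := [.right 0 4, .cancel 1, .cancel 0]

/-- Moves for relator 16. -/
def moves16 : List Move := moves16p0

/-- Moves for relator 17, part 0. -/
def moves17p0 : List Move := [.right 0 5, .cancel 1, .cancel 0]

/-- Moves for relator 17. -/
def moves17 : List Move := moves17p0

/-- Moves for relator 18, part 0. -/
def moves18p0 : List Move := [.right 0 6, .cancel 1, .cancel 0]

/-- Moves for relator 18. -/
def moves18 : List Move := moves18p0

/-- Moves for relator 19, part 0. -/
def moves19p0 : List Move := [.right 0 7, .cancel 1, .cancel 0]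

/-- Moves for relator 19. -/
def moves19 : List Move := moves19p0

/-- Moves for relator 20, part 0. -/
def moves20p0 : List Move := [.right 0 8, .cancel 1, .cancel 0]

/-- Moves for relator 20. -/
def moves20 : List Move := moves20p0

/-- Moves for relator 21, part 0. -/
def moves21p0 : List Move := [.right 0 4, .right 1 3, .cancel 2, .rot 3, .cancel 0, .cancel 0]

/-- Moves for relator 21. -/
def moves21 : List Move := moves21p0

/-- Moves for relator 22, part 0. -/
def moves22p0 : List Move := [.right 0 5, .cancel 1, .cancel 0]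

/-- Moves for relator 22. -/
def moves22 : List Move := moves22p0

/-- Moves for relator 23, part 0. -/
def moves23p0 : List Move := [.right 0 6, .cancel 1, .cancel 0]

/-- Moves for relator 23. -/
def moves23 : List Move := moves23p0

/-- Moves for relator 24, part 0. -/
def moves24p0 : List Move := [.right 0 7, .right 1 3, .cancel 2, .rot 3, .cancel 0, .cancel 0]

/-- Moves for relator 24. -/
def moves24 : List Move := moves24p0

/-- Moves for relator 25, part 0. -/
def moves25p0 : List Move := [.right 0 8, .cancel 1, .cancel 0]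

/-- Moves for relator 25. -/
def moves25 : List Move := moves25p0

/-- Moves for relator 26, part 0. -/
def moves26p0 : List Move := [.right 0 5, .right 1 4, .cancel 2, .rot 3, .cancel 0, .cancel 0]

/-- Moves for relator 26. -/
def moves26 : List Move := moves26p0

/-- Moves for relator 27, part 0. -/
def moves27p0 : List Move := [.right 0 6, .cancel 1, .cancel 0]

/-- Moves for relator 27. -/
def moves27 : List Move := moves27p0

/-- Moves for relator 28, part 0. -/
def moves28p0 : List Move := [.right 0 7, .cancel 1, .cancel 0]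

/-- Moves for relator 28. -/
def moves28 : List Move := moves28p0

/-- Moves for relator 29, part 0. -/
def moves29p0 : List Move := [.right 0 8, .cancel 1, .cancel 0]

/-- Moves for relator 29. -/
def moves29 : List Move := moves29p0

/-- Moves for relator 30, part 0. -/
def moves30p0 : List Move := [.right 0 6, .right 1 5, .cancel 2, .rot 3, .cancel 0, .cancel 0]

/-- Moves for relator 30. -/
def moves30 : List Move := moves30p0

/-- Moves for relator 31, part 0. -/
def moves31p0 : List Move := [.right 0 7, .cancel 1, .cancel 0]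

/-- Moves for relator 31. -/
def moves31 : List Move := moves31p0

/-- Moves for relator 32, part 0. -/
def moves32p0 : List Move := [.right 0 8, .cancel 1, .cancel 0]

/-- Moves for relator 32. -/
def moves32 : List Move := moves32p0

/-- Moves for relator 33, part 0. -/
def moves33p0 : List Move := [.right 0 7, .cancel 1, .cancel 0]

/-- Moves for relator 33. -/
def moves33 : List Move := moves33p0

/-- Moves for relator 34, part 0. -/
def moves34p0 : List Move := [.right 0 8, .cancel 1, .cancel 0]

/-- Moves for relator 34. -/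
def moves34 : List Move := moves34p0

/-- Moves for relator 35, part 0. -/
def moves35p0 : List Move := [.right 0 8, .right 1 7, .cancel 2, .rot 3, .cancel 0, .cancel 0]

/-- Moves for relator 35. -/
def moves35 : List Move := moves35p0

/-- Moves for relator 36, part 0. -/
def moves36p0 : List Move := [.rot 1, .right 0 0, .right 1 3, .right 2 4, .right 3 5, .right 4 3, .right 5 7, .right 6 8, .right 7 3, .right 8 2, .right 9 0, .right 10 3, .right 11 4, .right 12 5, .right 13 3, .right 14 7, .right 15 8, .right 16 3, .right 17 2, .right 18 0, .right 19 3, .right 20 4, .right 21 5, .right 22 3, .right 23 7, .right 24 8, .right 25 3, .right 26 2, .right 27 0, .right 28 3, .right 29 4, .right 30 5, .right 31 3, .right 32 7, .right 33 8, .right 34 3, .right 35 2, .right 36 0, .right 37 3, .right 38 4, .right 39 5, .right 40 3, .right 41 7, .right 42 8, .right 43 3, .cancel 44, .rot 87, .left 1 0, .cancel 0, .rot 42, .right 0 0, .cancel 1, .rot 77, .left 6 8, .left 5 7, .left 4 3, .left 3 5, .left 2 4, .left 1 3, .cancel 0, .right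 0 4, .right 1 5, .right 2 3, .right 3 7, .right 4 8, .right 5 4, .cancel 6, .rot 38, .right 0 3, .right 1 4, .right 2 5, .right 3 3, .right 4 7, .right 5 8, .cancel 6, .right 0 4, .right 1 5, .right 2 3, .right 3 7, .right 4 8, .right 5 4, .cancel 6, .rot 73, .left 11 8, .left 10 7, .left 9 3, .left 8 4, .left 7 8, .left 6 7, .left 5 3, .left 4 5, .left 3 4, .left 2 2, .left 1 3, .cancel 0, .rot 36, .right 0 3, .right 1 2, .right 2 4, .right 3 5, .right 4 3, .right 5 7, .right 6 8, .right 7 4, .right 8 3, .right 9 7, .right 10 8, .cancel 11, .rot 69, .left 12 7, .left 11 3, .left 10 4, .left 9 8, .left 8 7, .left 7 3, .left 6 5, .left 5 4, .left 4 2, .left 3 3, .left 2 7]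

/-- Moves for relator 36, part 1. -/
def moves36p1 : List Move := [.left 1 3, .cancel 0, .rot 34, .right 0 3, .right 1 7, .right 2 3, .right 3 2, .right 4 4, .right 5 5, .right 6 3, .right 7 7, .right 8 8, .right 9 4, .right 10 3, .right 11 7, .cancel 12, .right 0 7, .right 1 3, .right 2 2, .right 3 4, .right 4 5, .right 5 3, .right 6 7, .right 7 8, .right 8 4, .right 9 3, .right 10 7, .right 11 2, .right 12 0, .right 13 3, .right 14 4, .right 15 5, .cancel 16, .rot 65, .left 16 5, .left 15 4, .left 14 3, .left 13 0, .left 12 2, .left 11 7, .left 10 3, .left 9 4, .left 8 8, .left 7 7, .left 6 3, .left 5 5, .left 4 4, .left 3 2, .left 2 3, .left 1 7, .cancel 0, .rot 31, .right 0 7, .right 1 3, .right 2 2, .right 3 4, .right 4 5, .right 5 3, .right 6 7, .right 7 8, .right 8 4, .right 9 3, .right 10 7, .right 11 2, .right 12 0, .right 13 3, .right 14 4, .right 15 5, .cancel 16, .rot 61, .left 16 5, .left 15 4, .left 14 3, .left 13 0, .left 12 2, .left 11 7, .left 10 3, .left 9 4, .left 8 8, .left 7 7, .left 6 3, .left 5 5, .left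 4 4, .left 3 2, .left 2 3, .left 1 7, .cancel 0, .rot 59, .left 17 8, .left 16 5, .left 15 4, .left 14 3, .left 13 0, .left 12 2, .left 11 7, .left 10 3, .left 9 4, .left 8 8, .left 7 7, .left 6 3, .left 5 5, .left 4 4, .left 3 2, .left 2 3, .left 1 7, .cancel 0, .rot 28, .right 0 7, .right 1 3, .right 2 2, .right 3 4, .right 4 5, .right 5 3, .right 6 7, .right 7 8, .right 8 4, .right 9 3, .right 10 7, .right 11 2, .right 12 0]

/-- Moves for relator 36, part 2. -/
def moves36p2 : List Move := [.right 13 3, .right 14 4, .right 15 5, .right 16 8, .cancel 17, .rot 49, .left 22 5, .left 21 4, .left 20 3, .left 19 0, .left 18 2, .left 17 7, .left 16 3, .left 15 4, .left 14 8, .left 13 7, .left 12 3, .left 11 5, .left 10 4, .left 9 2, .left 8 3, .left 7 7, .left 6 0, .left 5 2, .left 4 3, .left 3 8, .left 2 7, .left 1 3, .cancel 0, .right 0 7, .right 1 8, .right 2 3, .right 3 2, .right 4 0, .right 5 7, .right 6 3, .right 7 2, .right 8 4, .right 9 5, .right 10 3, .right 11 7, .right 12 8, .right 13 4, .right 14 3, .right 15 7, .right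 16 2, .right 17 0, .right 18 3, .right 19 4, .right 20 5, .right 21 2, .cancel 22, .rot 24, .right 0 3, .right 1 7, .right 2 8, .right 3 3, .right 4 2, .right 5 0, .right 6 7, .right 7 3, .right 8 2, .right 9 4, .right 10 5, .right 11 3, .right 12 7, .right 13 8, .right 14 4, .right 15 3, .right 16 7, .right 17 2, .right 18 0, .right 19 3, .right 20 4, .right 21 5, .cancel 22, .right 0 7, .right 1 8, .right 2 3, .right 3 2, .right 4 0, .right 5 7, .right 6 3, .right 7 2, .right 8 4, .right 9 5, .right 10 3, .right 11 7, .right 12 8, .right 13 4, .right 14 3, .right 15 7, .right 16 2, .right 17 0, .right 18 3, .right 19 4, .right 20 5, .right 21 2, .cancel 22, .right 37 3, .right 43 5, .left 25 8, .rot 1, .left 46 4, .left 29 3, .right 15 0, .rot 30, .right 0 4, .right 1 5, .right 2 3, .right 3 7, .right 4 8, .right 5 3, .right 6 9, .right 7 7, .right 8 2, .right 9 0, .right 10 3, .cancel 11, .left 23 4]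

/-- Moves for relator 36, part 3. -/
def moves36p3 : List Move := [.right 13 7, .right 24 3, .rot 24, .right 0 9, .right 1 7, .right 2 8, .cancel 3, .rot 1, .left 42 10, .left 34 4, .left 24 3, .left 24 4, .right 21 7, .rot 21, .right 0 11, .right 1 8, .right 2 9, .cancel 3, .right 23 7, .right 16 3, .left 3 7, .right 27 4, .right 34 8, .rot 16, .right 0 11, .right 1 2, .right 2 9, .right 3 10, .right 4 7, .right 5 8, .right 6 7, .right 7 11, .right 8 0, .right 9 12, .cancel 10, .left 34 11, .left 18 2, .left 9 12, .rot 10, .right 0 5, .right 1 2, .right 2 3, .right 3 4, .right 4 7, .right 5 8, .right 6 3, .right 7 12, .cancel 8, .left 21 7, .right 36 13, .left 22 7, .rot 23, .right 0 4, .right 1 3, .right 2 2, .right 3 0, .right 4 11, .right 5 2, .right 6 9, .right 7 10, .right 8 7, .right 9 8, .right 10 7, .right 11 11, .right 12 13, .cancel 13, .left 3 0, .left 11 11, .right 33 14, .left 6 9, .right 2 11, .right 20 7, .right 26 9, .left 32 10, .left 13 5, .right 23 5, .rot 27, .right 0 2, .right 1 7, .right 2 0, .right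 3 3, .right 4 15, .cancel 5, .rot 3, .right 0 15, .right 1 16, .cancel 2, .rot 25, .right 0 10, .right 1 11, .right 2 9, .right 3 2, .cancel 4, .right 26 7, .left 7 4, .rot 1, .right 28 10, .left 12 10, .left 25 7, .rot 28, .left 8 9, .left 7 16, .left 6 15, .left 5 0, .left 4 2, .left 3 9, .left 2 11, .left 1 17, .cancel 0, .right 25 7, .right 1 9, .left 19 2, .right 25 11, .left 13 10, .rot 1, .left 26 12, .left 10 2, .left 16 18, .right 6 11, .right 8 0]

/-- Moves for relator 36, part 4. -/
def moves36p4 : List Move := [.right 20 4, .left 22 7, .rot 23, .right 0 11, .cancel 1, .rot 11, .right 0 19, .right 1 20, .right 2 2, .right 3 7, .right 4 10, .right 5 8, .right 6 7, .right 7 13, .right 8 18, .right 9 5, .right 10 2, .cancel 11, .right 22 9, .left 16 9, .left 10 2, .right 17 2, .rot 11, .right 0 21, .right 1 11, .right 2 17, .right 3 12, .right 4 11, .cancel 5, .left 9 9, .right 2 12, .left 3 17, .left 4 17, .right 4 17, .left 10 9, .left 3 22, .left 8 16, .rot 11, .right 0 20, .cancel 1, .right 14 0, .left 8 20, .left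 1 7, .right 6 5, .right 17 16, .right 3 7, .right 5 5, .rot 2, .cancel 0, .right 3 23, .right 12 16, .right 11 16, .rot 1, .left 16 10, .left 10 16, .left 16 21, .right 13 18, .rot 1, .right 16 5, .left 4 11, .right 6 22, .rot 5, .right 0 22, .cancel 1, .right 8 5, .right 2 16, .left 14 20, .rot 15, .left 3 16, .left 2 0, .left 1 22, .cancel 0, .rot 11, .left 3 22, .left 2 24, .left 1 25, .cancel 0, .left 9 4, .right 10 26, .left 9 21, .right 5 13, .right 9 21, .right 2 16, .left 2 16, .right 6 20]

/-- Moves for relator 36. -/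
def moves36 : List Move := moves36p0 ++ moves36p1 ++ moves36p2 ++ moves36p3 ++ moves36p4

/-- Moves for relator 37, part 0. -/
def moves37p0 : List Move := [.right 50 2, .rot 50, .left 12 7, .left 11 5, .left 10 4, .left 9 3, .left 8 2, .left 7 0, .left 6 1, .left 5 7, .left 4 5, .left 3 4, .left 2 3, .left 1 12, .cancel 0, .left 44 5, .right 19 2, .rot 19, .right 0 12, .right 1 3, .right 2 4, .right 3 5, .right 4 7, .right 5 1, .right 6 0, .right 7 2, .right 8 3, .right 9 4, .right 10 5, .right 11 7, .cancel 12, .left 44 7, .left 14 3, .right 9 5, .rot 3, .right 0 7, .right 1 1, .right 2 0, .right 3 2, .right 4 3, .cancel 5, .right 51 7, .right 29 3, .right 28 3, .left 5 10, .right 46 0, .rot 1, .left 55 4, .left 17 7, .left 14 2, .left 54 3, .rot 50, .right 0 5, .right 1 1, .right 2 12, .right 3 11, .cancel 4, .rot 20, .right 0 4, .right 1 5, .right 2 7, .right 3 1, .right 4 0, .right 5 2, .right 6 3, .right 7 4, .right 8 5, .right 9 7, .right 10 1, .right 11 3, .right 12 0, .right 13 27, .right 14 4, .right 15 5, .right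 16 7, .cancel 17, .left 15 5, .left 37 4, .right 44 2, .rot 44, .left 11 7, .left 10 5, .left 9 4, .left 8 27, .left 7 0, .left 6 1, .left 5 7, .left 4 5, .left 3 3, .left 2 9, .left 1 12, .cancel 0, .left 26 4, .left 9 5, .rot 23, .right 0 12, .right 1 3, .right 2 10, .cancel 3, .right 2 1, .right 26 9, .right 24 10, .rot 16, .right 0 12, .right 1 11, .right 2 1, .right 3 4, .right 4 0, .right 5 2, .right 6 3, .right 7 10, .right 8 7, .cancel 9, .right 19 2, .right 31 3, .left 42 7, .right 25 3, .left 7 10, .right 35 0, .left 29 4]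

/-- Moves for relator 37, part 1. -/
def moves37p1 : List Move := [.right 30 3, .rot 24, .right 0 3, .right 1 1, .right 2 0, .right 3 27, .right 4 7, .cancel 5, .rot 32, .left 12 5, .left 11 4, .left 10 3, .left 9 12, .left 8 2, .left 7 5, .left 6 7, .left 5 4, .left 4 27, .left 3 0, .left 2 1, .left 1 7, .cancel 0, .left 19 10, .right 23 4, .left 12 1, .right 9 4, .rot 7, .right 0 12, .right 1 4, .right 2 9, .right 3 5, .right 4 28, .cancel 5, .right 0 4, .right 31 13, .left 1 12, .right 12 2, .left 7 9, .left 15 9, .right 37 4, .rot 11, .right 0 2, .right 1 7, .right 2 4, .right 3 29, .cancel 4, .rot 30, .left 10 7, .left 9 2, .left 8 0, .left 7 1, .left 6 9, .left 5 30, .left 4 7, .left 3 27, .left 2 28, .left 1 5, .cancel 0, .left 33 7, .right 24 13, .left 21 0, .right 30 4, .right 17 11, .rot 17, .right 0 19, .right 1 1, .right 2 4, .right 3 12, .right 4 0, .right 5 3, .right 6 13, .right 7 31, .right 8 10, .right 9 3, .right 10 7, .right 11 1, .right 12 4, .cancel 13, .right 30 7, .left 33 4, .right 24 0, .right 5 13,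 .left 32 3, .right 29 7, .rot 1, .right 33 19, .rot 33, .left 2 1, .left 1 31, .cancel 0, .right 20 30, .right 22 0, .right 8 7, .rot 4, .right 0 3, .right 1 31, .right 2 10, .cancel 3, .right 1 10, .left 1 10, .left 29 12, .left 27 31, .right 23 2, .right 25 3, .right 16 9, .right 21 7, .rot 20, .cancel 0, .left 8 12, .rot 9, .right 0 31, .right 1 10, .right 2 11, .right 3 1, .cancel 4, .rot 24, .left 2 30, .left 1 2, .cancel 0, .right 22 10]

/-- Moves for relator 37, part 2. -/
def moves37p2 : List Move := [.right 7 4, .right 0 30, .right 10 28, .left 21 12, .right 2 11, .right 14 9, .rot 2, .right 0 32, .right 1 1, .right 2 20, .right 3 5, .cancel 4, .left 7 5, .left 3 5, .left 3 7, .rot 1, .left 21 2, .left 19 33, .left 9 9, .rot 20, .left 9 27, .left 8 28, .left 7 13, .left 6 7, .left 5 5, .left 4 20, .left 3 1, .left 2 2, .left 1 34, .cancel 0, .right 4 7, .right 13 2, .left 3 20, .rot 13, .left 9 2, .left 8 34, .left 7 35, .left 6 29, .left 5 12, .left 4 10, .left 3 2, .left 2 32, .left 1 36, .cancel 0, .rot 18, .left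 4 10, .left 3 2, .left 2 32, .left 1 36, .cancel 0, .left 15 19, .left 4 29, .rot 1, .left 15 19, .rot 4, .right 0 34, .right 1 2, .right 2 37, .right 3 20, .cancel 4, .right 3 13, .right 10 32, .right 12 10, .left 6 27, .right 5 0, .rot 4, .cancel 0, .left 6 10, .right 3 32, .right 4 19, .left 5 38, .right 8 34, .left 9 39, .left 10 39, .right 4 2, .right 8 2, .left 11 39, .left 1 27, .rot 4, .right 0 19, .right 1 38, .right 2 10, .cancel 3, .right 7 18, .right 2 32, .rot 3, .right 0 37, .right 1 13, .right 2 39, .cancel 3, .left 6 19, .rot 1, .right 7 37, .right 4 38, .rot 4, .right 0 36, .right 1 19, .right 2 37, .cancel 3, .right 4 40, .left 3 13, .right 4 39, .right 5 27, .right 4 27, .rot 1, .left 5 13, .right 1 40, .rot 1, .left 5 13, .left 1 37, .rot 1, .left 5 13, .right 5 13, .rot 1, .right 5 27, .right 1 36, .left 0 37, .left 4 13]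

/-- Moves for relator 37. -/
def moves37 : List Move := moves37p0 ++ moves37p1 ++ moves37p2

/-- Moves for relator 38, part 0. -/
def moves38p0 : List Move := [.left 23 3, .rot 5, .right 0 7, .right 1 0, .right 2 2, .right 3 3, .right 4 4, .right 5 5, .right 6 6, .right 7 7, .right 8 0, .right 9 2, .right 10 3, .right 11 4, .right 12 5, .right 13 6, .right 14 7, .right 15 0, .right 16 2, .right 17 9, .cancel 18, .right 12 6, .rot 6, .right 0 7, .right 1 0, .right 2 2, .right 3 3, .right 4 4, .cancel 5, .right 8 9, .rot 8, .right 0 20, .right 1 5, .right 2 6, .right 3 7, .right 4 0, .right 5 2, .right 6 3, .right 7 4, .right 8 5, .right 9 6, .right 10 7, .cancel 11, .left 13 4, .right 41 5, .left 29 6, .rot 30, .right 0 0, .right 1 2, .right 2 3, .right 3 4, .right 4 5, .right 5 6, .right 6 7, .right 7 0, .right 8 2, .right 9 3, .cancel 10, .rot 27, .right 0 7, .right 1 0, .right 2 2, .right 3 3, .right 4 4, .right 5 5, .right 6 6, .right 7 7, .right 8 2, .right 9 3, .right 10 10, .cancel 11, .left 24 5, .right 36 7, .left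 5 5, .right 14 3, .rot 14, .right 0 27, .right 1 4, .right 2 5, .right 3 6, .right 4 7, .right 5 0, .right 6 2, .right 7 3, .right 8 4, .right 9 7, .right 10 5, .cancel 11, .left 17 0, .left 30 3, .right 46 10, .rot 18, .right 0 3, .right 1 7, .right 2 10, .cancel 3, .right 16 7, .left 4 3, .left 39 4, .right 42 3, .right 15 7, .right 31 4, .rot 13, .right 0 0, .cancel 1, .rot 8, .right 0 7, .right 1 2, .right 2 10, .right 3 29, .right 4 6, .right 5 7, .right 6 0, .cancel 7, .rot 39, .left 7 2, .left 6 7, .left 5 41, .left 4 4, .left 3 3]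

/-- Moves for relator 38, part 1. -/
def moves38p1 : List Move := [.left 2 2, .left 1 0, .cancel 0, .right 9 0, .right 34 7, .right 31 9, .left 37 2, .left 37 20, .left 18 7, .right 27 3, .rot 27, .right 0 30, .right 1 7, .right 2 10, .right 3 9, .right 4 20, .right 5 3, .right 6 7, .right 7 5, .cancel 8, .rot 35, .left 9 9, .left 8 10, .left 7 7, .left 6 30, .left 5 7, .left 4 6, .left 3 5, .left 2 4, .left 1 27, .cancel 0, .rot 1, .right 37 27, .left 20 4, .right 31 0, .right 19 42, .left 33 2, .right 32 27, .rot 32, .right 0 43, .right 1 2, .right 2 4, .cancel 3, .right 34 6, .right 22 2, .left 0 43, .rot 30, .right 0 0, .right 1 7, .right 2 20, .cancel 3, .left 14 30, .left 2 20, .rot 13, .right 0 19, .cancel 1, .left 24 0, .right 26 4, .right 25 4, .right 10 37, .right 12 12, .right 7 3, .left 24 11, .right 27 27, .left 26 0, .rot 27, .left 12 9, .left 11 5, .left 10 7, .left 9 3, .left 8 9, .left 7 10, .left 6 19, .left 5 6, .left 4 5, .left 3 4, .left 2 5, .left 1 37, .cancel 0, .rot 11, .right 0 20, .right 1 41, .right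 2 37, .right 3 31, .cancel 4, .rot 2, .right 0 31, .cancel 1, .right 13 37, .right 18 19, .right 22 7, .right 1 44, .rot 1, .right 0 3, .right 1 4, .right 2 7, .right 3 2, .right 4 29, .right 5 0, .right 6 7, .right 7 45, .cancel 8, .rot 1, .right 0 7, .right 1 2, .right 2 29, .right 3 0, .right 4 7, .right 5 45, .right 6 46, .cancel 7, .left 3 0, .left 4 0, .rot 1, .right 21 7, .right 2 47, .right 0 29, .left 10 5, .right 18 41, .left 9 4]

/-- Moves for relator 38, part 2. -/
def moves38p2 : List Move := [.left 10 4, .left 20 31, .right 1 47, .right 5 37, .left 10 10, .right 14 7, .rot 11, .right 0 6, .right 1 10, .right 2 7, .right 3 46, .right 4 11, .right 5 5, .cancel 6, .right 6 13, .right 15 2, .right 12 48, .rot 3, .right 0 11, .right 1 5, .right 2 13, .right 3 45, .right 4 31, .right 5 11, .right 6 29, .right 7 47, .cancel 8, .rot 7, .right 0 49, .right 1 0, .right 2 2, .right 3 46, .right 4 24, .right 5 5, .cancel 6, .rot 5, .cancel 0, .left 9 29, .left 2 7, .right 8 49, .left 11 0, .left 6 45, .right 7 49, .right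 0 10, .rot 3, .right 0 5, .right 1 13, .right 2 50, .right 3 49, .cancel 4, .rot 1, .right 0 50, .right 1 49, .right 2 51, .right 3 29, .cancel 4, .rot 10, .left 1 50, .cancel 0, .right 7 3, .right 3 46, .left 0 50, .right 6 3, .rot 1, .right 7 51, .left 3 0, .rot 1, .left 7 44, .rot 1, .right 7 29, .left 4 29, .left 5 29, .rot 6, .cancel 0, .left 5 51, .left 4 3, .left 2 24, .left 4 52, .left 5 52, .right 5 52, .left 1 46, .left 3 24, .left 1 0, .left 4 24, .rot 1, .left 5 51]

/-- Moves for relator 38. -/
def moves38 : List Move := moves38p0 ++ moves38p1 ++ moves38p2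

/-- Moves for the cube of the residue, part 0. -/
def cubep0 : List Move := [.ins 12 368, .right 9 26, .right 6 53, .right 18 13, .rot 12, .cancel 0, .rot 5, .right 0 20, .right 1 53, .right 2 5, .right 3 21, .right 4 26, .right 5 4, .right 6 25, .right 7 24, .right 8 22, .right 9 16, .cancel 10, .rot 24, .left 9 13, .left 8 16, .left 7 22, .left 6 24, .left 5 25, .left 4 4, .left 3 54, .left 2 26, .left 1 5, .cancel 0, .rot 30, .left 2 5, .left 1 53, .cancel 0, .rot 27, .left 3 53, .left 2 15, .left 1 16, .cancel 0, .rot 27, .left 6 25, .left 5 4, .left 4 54, .left 3 53, .left 2 15, .left 1 16, .cancel 0, .rot 17, .left 8 25, .left 7 4, .left 6 26, .left 5 21, .left 4 5, .left 3 53, .left 2 20, .left 1 13, .cancel 0, .rot 6, .right 0 25, .right 1 15, .right 2 53, .right 3 54, .right 4 4, .cancel 5, .rot 2, .right 0 54, .right 1 4, .right 2 22, .right 3 16, .right 4 13, .right 5 53, .right 6 5, .cancel 7, .rot 4, .right 0 53, .right 1 5, .cancel 2, .rot 16, .left 2 53, .left 1 16, .cancel 0, .right 0 53, .right 1 4, .right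 2 25, .right 3 24, .right 4 22, .right 5 13, .cancel 6, .rot 13, .left 1 53, .cancel 0, .rot 9, .left 3 53, .left 2 54, .left 1 15, .cancel 0, .right 0 54, .right 1 53, .cancel 2, .rot 6, .left 1 26, .cancel 0, .right 0 53, .right 1 22, .cancel 2, .rot 1, .right 0 53, .cancel 1, .cancel 0]

/-- Moves for the cube of the residue. -/
def cube : List Move := cubep0

/-- The moves by relator. -/
def moves : List (List Move) := [moves0, moves1, moves2, moves3, moves4, moves5, moves6, moves7, moves8, moves9, moves10, moves11, moves12, moves13, moves14, moves15, moves16, moves17, moves18, moves19, moves20, moves21, moves22, moves23, moves24, moves25, moves26, moves27, moves28, moves29, moves30, moves31, moves32, moves33, moves34, moves35, moves36, moves37, moves38]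

end Cfsg.Agent.FischerPresented.Mult22
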