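import Cfsg.Agent.Lib.FischerPresented.Mult22Basic
import Cfsg.Agent.Lib.FischerPresented.U62Model

/-!
Moves on sequences of transvections that keep the product in every group where involutions indexed by the
isotropic points conjugate one another as the transvections of the unitary group do.
-/

set_option autoImplicit false
set_option maxRecDepth 100000

namespace Cfsg.Agent.FischerPresented.Mult6

open Cfsg.Agent.CosetCert
open Cfsg.Agent.CosetData
open Cfsg.Agent.FischerPresented.Out22 (hm tr gpt)
open Cfsg.Agent.FischerPresented.Mult22 (Move cAct cancel2 ext val pathOK cAct_eq val_append val_cons val_nil ext_val)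
open Cfsg.Agent.FischerPresented.U62 (inO)

/-- Exchanging at the head: the first passes to the right. -/
noncomputable def left2 (e : ℕ × List ℕ) : List ℕ → List ℕ
  | a :: b :: l => if Nat.beq a e.1 && (Nat.blt b 3510 && inO b) then cAct e.2 b :: a :: l else a :: b :: l
  | l => l

/-- Exchanging at the head: the second passes to the left. -/
noncomputable def right2 (e : ℕ × List ℕ) : List ℕ → List ℕ
  | a :: b :: l => if Nat.beq b e.1 && (Nat.blt a 3510 && inO a) then b :: cAct e.2 a :: l else a :: b :: l
  | l => l

/-- Whether a path names an isotropic point. -/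
noncomputable def pathOK6 (e : ℕ × List ℕ) : Bool := pathOK e && inO e.1

/-- The default table entry. -/
def e7 : ℕ × List ℕ := (7, [1, 0, 2, 1])

theorem e7_ok : pathOK6 e7 = true := by decide +kernel

/-- Inserting a pair at an isotropic point. -/
noncomputable def insAt (i p : ℕ) (s : List ℕ) : List ℕ :=
  if Nat.blt p 3510 && inO p then s.take i ++ [p, p] ++ s.drop i else s

/-- Cancelling a pair of one isotropic point. -/
noncomputable def cancelAt : List ℕ → List ℕ
  | a :: b :: l => if Nat.beq a b && (Nat.blt a 3510 && inO a) then l else a :: b :: l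
  | l => l

/-- One move, with a table of paths. -/
noncomputable def applyMove (T : List (ℕ × List ℕ)) : Move → List ℕ → List ℕ
  | .rot k, s => s.drop k ++ s.take k
  | .left i j, s => s.take i ++ left2 (T.getD j e7) (s.drop i)
  | .right i j, s => s.take i ++ right2 (T.getD j e7) (s.drop i)
  | .cancel i, s => s.take i ++ cancelAt (s.drop i)
  | .ins i p, s => insAt i p s

/-- A list of moves. -/
noncomputable def run (T : List (ℕ × List ℕ)) (ms : List Move) (s : List ℕ) : List ℕ :=
  ms.foldl (fun t m => applyMove T m t) s

/-- Involutions indexed by the isotropic points, conjugating one another as the transvections do. -/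
structure IsLift6 {Q : Type} [Group Q] (T : Fin 3510 → Q) : Prop where
  sq : ∀ p : Fin 3510, inO (p : ℕ) = true → T p * T p = 1
  conj : ∀ a b : Fin 3510, inO (a : ℕ) = true → inO (b : ℕ) = true →
    T (hm (tr a) b) = T a * T b * (T a)⁻¹

variable {Q : Type} [Group Q]

theorem ext_sq {T : Fin 3510 → Q} (hT : IsLift6 T) {n : ℕ} (hn : n < 3510) (hO : inO n = true) :
    ext T n * ext T n = 1 := by
  rw [ext, dif_pos hn]
  exact hT.sq ⟨n, hn⟩ hO

theorem conj_ext {T : Fin 3510 → Q} (hT : IsLift6 T) {e : ℕ × List ℕ} (he : pathOK6 e = true) {b : ℕ}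
    (hb : b < 3510) (hO : inO b = true) : ext T (cAct e.2 b) = ext T e.1 * ext T b * (ext T e.1)⁻¹ := by
  rw [pathOK6, Bool.and_eq_true] at he
  obtain ⟨h, hc⟩ := cAct_eq he.1 hb
  rw [← hc, ext_val, hT.conj _ _ he.2 hO, ← ext_val T ⟨e.1, h⟩, ← ext_val T ⟨b, hb⟩]

theorem path_lt {e : ℕ × List ℕ} (he : pathOK6 e = true) : e.1 < 3510 ∧ inO e.1 = true := by
  simp only [pathOK6, pathOK, Bool.and_eq_true, Nat.blt_eq] at he
  exact ⟨he.1.2, he.2⟩

theorem val_left2 {T : Fin 3510 → Q} (hT : IsLift6 T) {e : ℕ × List ℕ} (he : pathOK6 e = true) :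
    ∀ l, val T (left2 e l) = val T l
  | [] => rfl
  | [_] => rfl
  | a :: b :: l => by
    rw [left2]
    split_ifs with h
    · rw [Bool.and_eq_true, Bool.and_eq_true, Nat.beq_eq, Nat.blt_eq] at h
      rw [val_cons, val_cons, val_cons, val_cons, conj_ext hT he h.2.1 h.2.2, h.1]
      group
    · rfl

theorem val_right2 {T : Fin 3510 → Q} (hT : IsLift6 T) {e : ℕ × List ℕ} (he : pathOK6 e = true) :
    ∀ l, val T (right2 e l) = val T l
  | [] => rfl
  | [_] => rfl
  | a :: b :: l => by
    rw [right2]
    split_ifs with h
    · rw [Bool.and_eq_true, Bool.and_eq_true, Nat.beq_eq, Nat.blt_eq] at h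
      have h1 := ext_sq hT (path_lt he).1 (path_lt he).2
      rw [val_cons, val_cons, val_cons, val_cons, conj_ext hT he h.2.1 h.2.2, h.1,
        inv_eq_of_mul_eq_one_right h1]
      simp only [← mul_assoc, h1, one_mul]
    · rfl

theorem val_cancelAt {T : Fin 3510 → Q} (hT : IsLift6 T) : ∀ l, val T (cancelAt l) = val T l
  | [] => rfl
  | [_] => rfl
  | a :: b :: l => by
    rw [cancelAt]
    split_ifs with h
    · rw [Bool.and_eq_true, Bool.and_eq_true, Nat.beq_eq, Nat.blt_eq] at h
      rw [val_cons, val_cons, ← h.1, ← mul_assoc, ext_sq hT h.2.1 h.2.2, one_mul]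
    · rfl

theorem val_applyMove {T : Fin 3510 → Q} (hT : IsLift6 T) {P : List (ℕ × List ℕ)}
    (hP : ∀ e ∈ P, pathOK6 e = true) {s : List ℕ}
    (hs : val T s ∈ Subgroup.center Q) : ∀ m, val T (applyMove P m s) = val T s := by
  have hget : ∀ j, pathOK6 (P.getD j e7) = true := fun j => by
    rw [List.getD_eq_getElem?_getD]
    cases h : P[j]? with
    | none => exact e7_ok
    | some e => exact hP e (List.mem_of_getElem? h)
  intro m
  cases m with
  | rot k =>
    have h := Subgroup.mem_center_iff.1 hs (val T (s.take k))
    rw [applyMove, val_append]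
    have e : val T s = val T (s.take k) * val T (s.drop k) := by rw [← val_append, List.take_append_drop]
    rw [e] at h ⊢
    calc val T (s.drop k) * val T (s.take k)
        = (val T (s.take k))⁻¹ * (val T (s.take k) * val T (s.drop k) * val T (s.take k)) := by group
      _ = val T (s.take k) * val T (s.drop k) := by rw [← h]; group
  | left i j => rw [applyMove, val_append, val_left2 hT (hget j), ← val_append, List.take_append_drop]
  | right i j => rw [applyMove, val_append, val_right2 hT (hget j), ← val_append, List.take_append_drop]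
  | cancel i => rw [applyMove, val_append, val_cancelAt hT, ← val_append, List.take_append_drop]
  | ins i p =>
    rw [applyMove, insAt]
    split_ifs with h
    · rw [Bool.and_eq_true, Nat.blt_eq] at h
      rw [val_append, val_append, val_cons, val_cons, val_nil, mul_one, ext_sq hT h.1 h.2, mul_one,
        ← val_append, List.take_append_drop]
    · rfl

theorem val_run {T : Fin 3510 → Q} (hT : IsLift6 T) {P : List (ℕ × List ℕ)}
    (hP : ∀ e ∈ P, pathOK6 e = true) :
    ∀ (ms : List Move) (s : List ℕ), val T s ∈ Subgroup.center Q → val T (run P ms s) = val T s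
  | [], _, _ => rfl
  | m :: ms, s, hs => by
    have h := val_applyMove hT hP hs m
    show val T (run P ms (applyMove P m s)) = val T s
    rw [val_run hT hP ms _ (h ▸ hs), h]

end Cfsg.Agent.FischerPresented.Mult6
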