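import Cfsg.Agent.Lib.FischerPresented.Mult22Basic

/-! Certificates: relators of PSU₆(2) reduced by moves on sequences of transvections. -/

set_option autoImplicit false
set_option maxRecDepth 100000

namespace Cfsg.Agent.FischerPresented.Mult6

open Cfsg.Agent.FischerPresented.Mult22 (Move)

/-- Paths from the first coset, part 0. -/
def pathsp0 : List (ℕ × List ℕ) := [(18, [1, 0, 2, 1, 3, 2]), (7, [1, 0, 2, 1]), (54, [1, 0, 2, 1, 3, 2, 4, 3]), (134, [1, 0, 2, 1, 3, 2, 4, 3, 5, 4]), (215, [1, 0, 2, 1, 3, 2, 4, 3, 5, 4, 6, 5]), (56, [1, 0, 2, 1, 3, 2, 7, 3]), (136, [1, 0, 2, 1, 3, 2, 7, 3, 8, 7]), (1067, [1, 2, 3, 4, 5, 7, 3, 2, 1, 4, 3, 2, 7, 3, 4, 5]), (8, [1, 0, 2, 1, 3]), (57, [1, 0, 2, 1, 3, 2, 7, 3, 8]), (55, [1, 0, 2, 1, 3, 2, 4, 3, 5]), (76, [1, 0, 2, 1, 3, 2, 4, 3, 5, 6]), (20, [1, 0, 2, 1, 3, 2, 7]), (39, [1, 0, 2, 1, 3, 2, 7, 8]), (26, [1, 0, 2, 1, 3, 4, 5]), (62, [1, 0, 2, 1, 3, 4, 5, 6]), (27, [1, 0, 2, 1, 3, 4, 5, 7]), (63, [1, 0, 2, 1, 3, 4, 5, 6, 7]), (28, [1, 0, 2, 1,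 3, 2, 4, 5]), (16, [1, 0, 2, 1, 3, 7]), (34, [1, 0, 2, 1, 3, 7, 8]), (19, [1, 0, 2, 1, 3, 2, 4]), (38, [1, 0, 2, 1, 3, 4, 5, 7, 8]), (50, [1, 0, 2, 1, 3, 4, 7, 3]), (11, [1, 0, 2, 1, 3, 4]), (172, [1, 0, 2, 1, 3, 4, 5, 6, 7, 3, 4, 5]), (201, [1, 0, 2, 1, 3, 4, 5, 7, 3, 4, 8, 7, 3]), (202, [1, 0, 2, 1, 3, 4, 5, 6, 7, 3, 4, 8, 7, 3]), (1016, [1, 2, 3, 4, 7, 3, 2, 1, 8, 7, 3, 2, 4, 3, 7]), (1013, [1, 2, 3, 4, 5, 7, 3, 2, 1, 4, 3, 2, 7, 3, 4, 8]), (227, [1, 2, 3, 4, 5, 7, 3, 2, 1, 4, 3, 2, 7]), (367, [1, 2, 3, 4, 5, 7, 3, 2, 1, 4, 3, 2, 7, 8]), (41, [1, 0, 2, 1, 3, 2, 4, 5, 7, 8]), (1012, [1, 2, 3, 4, 5, 7, 3, 2, 1, 4, 3, 2, 7, 3, 4]), (425, [1, 2, 3, 4, 5, 7, 3, 2, 1, 4, 3, 2, 7, 3, 8]), (135, [1, 0, 2, 1, 3, 2, 4, 3, 5, 4, 6]), (357, [1, 2, 3, 4, 5, 7, 3, 2, 1, 4, 3, 7, 8]), (1020, [1, 2, 3, 4, 5, 6, 7, 3, 2, 1, 4, 3, 2, 7, 3, 4]), (73, [1, 0, 2, 1, 3, 2, 4, 5, 6]), (446, [1, 2, 3, 4, 5, 6, 7, 3, 2, 1, 4, 3, 5, 4, 7, 3, 8]), (423, [1, 2, 3, 4, 5, 7, 3, 2, 1, 4, 3, 2, 7, 3]), (424, [1, 2,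 3, 4, 5, 6, 7, 3, 2, 1, 4, 3, 2, 7, 3]), (2118, [1, 2, 3, 4, 5, 6, 7, 3, 2, 1, 4, 3, 2, 5, 4, 3, 8, 7, 3, 2, 4, 3, 5, 6]), (426, [1, 2, 3, 4, 5, 6, 7, 3, 2, 1, 4, 3, 2, 7, 3, 8]), (1226, [1, 0, 2, 1, 3, 4, 5, 6, 7, 3, 4, 5, 8, 7, 3, 2, 4, 3, 7]), (21, [1, 0, 2, 1, 3, 2, 4, 7]), (225, [1, 2, 3, 4, 5, 7, 3, 2, 1, 4, 3, 2]), (40, [1, 0, 2, 1, 3, 2, 4, 7, 8]), (138, [1, 2, 3, 4, 5, 7, 3, 2, 1]), (1014, [1, 2, 3, 4, 5, 7, 3, 2, 1, 4, 3, 2, 7, 3, 8, 7]), (29, [1, 0, 2, 1, 3, 2, 4, 5, 7]), (275, [1, 2, 3, 4, 7, 3, 2, 1, 8, 7, 3, 2, 4]), (469, [1, 2, 3, 4, 7, 3, 2, 1, 8, 7, 3, 2, 4, 5]), (218, [1, 2, 3, 4, 5, 7, 3, 2, 1, 4, 3, 7]), (470, [1, 2, 3, 4, 5, 7, 3, 2, 1, 8, 7, 3, 2, 4, 5]), (236, [1, 2, 3, 4, 5, 7, 3, 2, 1, 4, 3, 8, 7]), (468, [1, 2, 3, 4, 5, 7, 3, 2, 1, 8, 7, 3, 4, 5]), (1302, [1, 0, 2, 3, 4, 5, 6, 7, 3, 2, 4, 3, 5, 4, 7, 3, 2, 1]), (1015, [1, 2, 3, 4, 5, 7, 3, 2, 1, 4, 3, 2, 7, 3, 8, 7, 3]), (1073, [1, 2, 3, 4, 5, 7, 3, 2, 1, 4, 3, 2, 8, 7, 3, 4])]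

/-- Paths from the first coset, part 1. -/
def pathsp1 : List (ℕ × List ℕ) := [(334, [1, 2, 3, 4, 5, 7, 3, 2, 1, 4, 8, 7, 3, 2, 4]), (915, [1, 2, 3, 4, 5, 7, 3, 2, 1, 4, 3, 8, 7, 3, 2, 4, 3, 5]), (478, [1, 2, 3, 4, 5, 7, 3, 2, 1, 4, 3, 8, 7, 3, 4, 5]), (290, [1, 2, 3, 4, 5, 7, 3, 2, 1, 8, 7, 3, 2, 4]), (433, [1, 2, 3, 4, 5, 7, 3, 2, 1, 4, 3, 2, 7, 8, 7, 3]), (699, [1, 2, 3, 4, 5, 7, 3, 2, 1, 4, 8, 7, 3, 2, 4, 3]), (53, [1, 0, 2, 1, 3, 4, 5, 7, 3, 8]), (105, [1, 0, 2, 1, 3, 4, 5, 7, 3, 4])]

/-- Paths from the first coset. -/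
def paths : List (ℕ × List ℕ) := pathsp0 ++ pathsp1

/-- The points of the eight generators. -/
def gl : List ℕ := [7, 18, 54, 134, 215, 56, 136, 1067]

/-- The residue of the odd relator. -/
def resA : List ℕ := [38, 50, 75, 7, 56, 54, 202, 172, 201]

/-- The residue of the order three relator. -/
def resH : List ℕ := [134, 1073, 41, 425, 18, 56, 1012, 1015]

/-- The residue of the second odd relator. -/
def resB : List ℕ := [134, 54, 1226, 7, 446, 135, 426, 54, 425]

/-- The residue of the long relator. -/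
def resE : List ℕ := [468, 7, 34, 147, 236, 1067, 434, 8, 218, 334]

/-- Seven commuting points from the first residue. -/
def comA : List ℕ := [1302, 56, 50, 54, 215, 7, 172]

/-- Seven commuting points from the second odd residue. -/
def comB : List ℕ := [55, 446, 7, 1226, 135, 426, 1013]

/-- Six commuting points. -/
def comK : List ℕ := [468, 38, 40, 105, 56, 290]

/-- Moves for relator 0, part 0. -/
def moves0p0 : List Move := [.right 0 0, .right 1 1, .cancel 2, .rot 3, .cancel 0, .cancel 0]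

/-- Moves for relator 0. -/
def moves0 : List Move := moves0p0

/-- Moves for relator 1, part 0. -/
def moves1p0 : List Move := [.right 0 2, .cancel 1, .cancel 0]

/-- Moves for relator 1. -/
def moves1 : List Move := moves1p0

/-- Moves for relator 2, part 0. -/
def moves2p0 : List Move := [.right 0 3, .cancel 1, .cancel 0]

/-- Moves for relator 2. -/
def moves2 : List Move := moves2p0

/-- Moves for relator 3, part 0. -/
def moves3p0 : List Move := [.right 0 4, .cancel 1, .cancel 0]

/-- Moves for relator 3. -/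
def moves3 : List Move := moves3p0

/-- Moves for relator 4, part 0. -/
def moves4p0 : List Move := [.right 0 5, .cancel 1, .cancel 0]

/-- Moves for relator 4. -/
def moves4 : List Move := moves4p0

/-- Moves for relator 5, part 0. -/
def moves5p0 : List Move := [.right 0 6, .cancel 1, .cancel 0]

/-- Moves for relator 5. -/
def moves5 : List Move := moves5p0

/-- Moves for relator 6, part 0. -/
def moves6p0 : List Move := [.right 0 7, .cancel 1, .cancel 0]

/-- Moves for relator 6. -/
def moves6 : List Move := moves6p0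

/-- Moves for relator 7, part 0. -/
def moves7p0 : List Move := [.right 0 2, .right 1 0, .cancel 2, .rot 3, .cancel 0, .cancel 0]

/-- Moves for relator 7. -/
def moves7 : List Move := moves7p0

/-- Moves for relator 8, part 0. -/
def moves8p0 : List Move := [.right 0 3, .cancel 1, .cancel 0]

/-- Moves for relator 8. -/
def moves8 : List Move := moves8p0

/-- Moves for relator 9, part 0. -/
def moves9p0 : List Move := [.right 0 4, .cancel 1, .cancel 0]

/-- Moves for relator 9. -/
def moves9 : List Move := moves9p0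

/-- Moves for relator 10, part 0. -/
def moves10p0 : List Move := [.right 0 5, .right 1 0, .cancel 2, .rot 3, .cancel 0, .cancel 0]

/-- Moves for relator 10. -/
def moves10 : List Move := moves10p0

/-- Moves for relator 11, part 0. -/
def moves11p0 : List Move := [.right 0 6, .cancel 1, .cancel 0]

/-- Moves for relator 11. -/
def moves11 : List Move := moves11p0

/-- Moves for relator 12, part 0. -/
def moves12p0 : List Move := [.right 0 7, .cancel 1, .cancel 0]

/-- Moves for relator 12. -/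
def moves12 : List Move := moves12p0

/-- Moves for relator 13, part 0. -/
def moves13p0 : List Move := [.right 0 3, .right 1 2, .cancel 2, .rot 3, .cancel 0, .cancel 0]

/-- Moves for relator 13. -/
def moves13 : List Move := moves13p0

/-- Moves for relator 14, part 0. -/
def moves14p0 : List Move := [.right 0 4, .cancel 1, .cancel 0]

/-- Moves for relator 14. -/
def moves14 : List Move := moves14p0

/-- Moves for relator 15, part 0. -/
def moves15p0 : List Move := [.right 0 5, .cancel 1, .cancel 0]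

/-- Moves for relator 15. -/
def moves15 : List Move := moves15p0

/-- Moves for relator 16, part 0. -/
def moves16p0 : List Move := [.right 0 6, .cancel 1, .cancel 0]

/-- Moves for relator 16. -/
def moves16 : List Move := moves16p0

/-- Moves for relator 17, part 0. -/
def moves17p0 : List Move := [.right 0 7, .cancel 1, .cancel 0]

/-- Moves for relator 17. -/
def moves17 : List Move := moves17p0

/-- Moves for relator 18, part 0. -/
def moves18p0 : List Move := [.right 0 4, .right 1 3, .cancel 2, .rot 3, .cancel 0, .cancel 0]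

/-- Moves for relator 18. -/
def moves18 : List Move := moves18p0

/-- Moves for relator 19, part 0. -/
def moves19p0 : List Move := [.right 0 5, .cancel 1, .cancel 0]

/-- Moves for relator 19. -/
def moves19 : List Move := moves19p0

/-- Moves for relator 20, part 0. -/
def moves20p0 : List Move := [.right 0 6, .cancel 1, .cancel 0]

/-- Moves for relator 20. -/
def moves20 : List Move := moves20p0

/-- Moves for relator 21, part 0. -/
def moves21p0 : List Move := [.right 0 7, .right 1 3, .cancel 2, .rot 3, .cancel 0, .cancel 0]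

/-- Moves for relator 21. -/
def moves21 : List Move := moves21p0

/-- Moves for relator 22, part 0. -/
def moves22p0 : List Move := [.right 0 5, .cancel 1, .cancel 0]

/-- Moves for relator 22. -/
def moves22 : List Move := moves22p0

/-- Moves for relator 23, part 0. -/
def moves23p0 : List Move := [.right 0 6, .cancel 1, .cancel 0]

/-- Moves for relator 23. -/
def moves23 : List Move := moves23p0

/-- Moves for relator 24, part 0. -/
def moves24p0 : List Move := [.right 0 7, .cancel 1, .cancel 0]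

/-- Moves for relator 24. -/
def moves24 : List Move := moves24p0

/-- Moves for relator 25, part 0. -/
def moves25p0 : List Move := [.right 0 6, .right 1 5, .cancel 2, .rot 3, .cancel 0, .cancel 0]

/-- Moves for relator 25. -/
def moves25 : List Move := moves25p0

/-- Moves for relator 26, part 0. -/
def moves26p0 : List Move := [.right 0 7, .cancel 1, .cancel 0]

/-- Moves for relator 26. -/
def moves26 : List Move := moves26p0

/-- Moves for relator 27, part 0. -/
def moves27p0 : List Move := [.right 0 7, .right 1 6, .cancel 2, .rot 3, .cancel 0, .cancel 0]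

/-- Moves for relator 27. -/
def moves27 : List Move := moves27p0

/-- Moves for relator 28, part 0. -/
def moves28p0 : List Move := [.right 44 3, .rot 32, .right 0 5, .right 1 6, .right 2 1, .right 3 0, .right 4 2, .right 5 3, .right 6 4, .right 7 5, .right 8 6, .right 9 1, .right 10 0, .cancel 11, .right 57 0, .left 14 6, .rot 57, .left 5 6, .left 4 5, .left 3 3, .left 2 2, .left 1 8, .cancel 0, .right 37 1, .left 43 5, .rot 38, .right 0 0, .right 1 2, .right 2 3, .right 3 4, .right 4 9, .cancel 5, .right 54 5, .left 49 6, .left 38 2, .rot 26, .right 0 4, .right 1 5, .right 2 6, .right 3 1, .right 4 0, .right 5 10, .right 6 4, .right 7 5, .right 8 1, .right 9 6, .right 10 0, .right 11 10, .cancel 12, .right 0 5, .left 30 2, .left 49 2, .rot 19, .right 0 5, .right 1 1, .right 2 6, .right 3 0, .right 4 2, .right 5 3, .right 6 5, .right 7 4, .right 8 1, .right 9 0, .right 10 10, .cancel 11, .rot 17, .right 0 5, .right 1 6, .right 2 1, .right 3 0, .right 4 2, .right 5 3, .right 6 4, .right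 7 5, .right 8 6, .right 9 8, .right 10 10, .cancel 11, .right 14 5, .left 8 6, .right 44 4, .rot 41, .right 0 1, .right 1 0, .cancel 2, .right 10 0, .right 24 6, .right 43 6, .left 2 11, .left 45 0, .left 3 11, .right 26 0, .rot 26, .right 0 8, .right 1 10, .right 2 4, .right 3 5, .cancel 4, .left 23 9, .right 10 0, .left 15 6, .right 42 5, .rot 38, .right 0 10, .right 1 5, .right 2 6, .cancel 3, .rot 17, .right 0 8, .right 1 2, .right 2 3, .right 3 5, .cancel 4, .left 9 1, .right 28 12, .rot 10, .cancel 0, .rot 16, .right 0 13, .right 1 2, .cancel 2, .left 3 8, .rot 33, .left 9 14, .left 8 4, .left 7 2, .left 6 13, .left 5 5, .left 4 10, .left 3 8, .left 2 5, .left 1 4, .cancel 0, .right 12 10, .left 1 5, .rot 2, .right 0 10, .cancel 1, .rot 1, .right 33 10, .right 11 8, .left 18 0, .left 11 8, .left 2 4, .rot 3, .cancel 0, .right 4 5, .rot 1, .left 31 15, .left 14 5]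

/-- Moves for relator 28, part 1. -/
def moves28p1 : List Move := [.left 28 16, .right 15 9, .left 26 4, .rot 20, .right 0 5, .right 1 6, .right 2 0, .right 3 8, .right 4 2, .right 5 11, .cancel 6, .rot 7, .right 0 2, .right 1 17, .right 2 15, .right 3 6, .right 4 10, .right 5 18, .right 6 5, .right 7 4, .right 8 6, .right 9 8, .right 10 2, .right 11 3, .right 12 5, .cancel 13, .left 7 4, .left 15 0, .right 15 0, .left 15 0, .right 14 19, .left 6 5, .rot 3, .right 0 10, .right 1 18, .right 2 9, .cancel 3, .left 6 3, .right 2 4, .left 6 5, .right 3 8, .right 19 8, .left 4 20, .right 2 8, .right 0 18, .left 8 21, .right 2 4, .right 5 3, .right 4 3, .right 0 0, .rot 4, .right 0 22, .right 1 20, .right 2 5, .right 3 23, .right 4 21, .right 5 3, .cancel 6, .rot 20, .left 5 22, .left 4 8, .left 3 4, .left 2 10, .left 1 0, .cancel 0, .rot 3, .right 0 22, .right 1 5, .right 2 23, .cancel 3, .rot 1, .right 0 23, .right 1 3, .right 2 9, .cancel 3, .right 5 5, .right 10 11, .left 3 11, .left 2 9,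 .rot 3, .right 0 11, .right 1 5, .right 2 2, .cancel 3, .right 2 8, .rot 2, .right 0 24, .right 1 1, .right 2 11, .cancel 3, .rot 13, .left 3 1, .left 2 24, .left 1 5, .cancel 0, .right 5 0, .right 1 1, .left 2 21, .rot 3, .right 0 2, .cancel 1, .right 1 10, .right 1 25, .rot 2, .right 0 4, .right 1 22, .right 2 23, .cancel 3, .right 7 25, .right 1 23, .left 7 25, .right 3 5, .left 1 23, .left 6 26, .left 3 5, .right 7 25, .rot 1, .left 7 26, .left 6 25, .right 5 27, .left 3 5, .left 5 27]

/-- Moves for relator 28. -/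
def moves28 : List Move := moves28p0 ++ moves28p1

/-- Moves for relator 29, part 0. -/
def moves29p0 : List Move := [.right 0 2, .right 1 3, .right 2 7, .right 3 6, .right 4 5, .right 5 6, .right 6 7, .right 7 3, .right 8 2, .right 9 0, .right 10 2, .right 11 3, .right 12 7, .right 13 6, .cancel 14, .rot 27, .cancel 0, .rot 25, .cancel 0, .rot 23, .cancel 0, .rot 21, .cancel 0, .rot 19, .cancel 0, .rot 17, .cancel 0, .rot 15, .cancel 0, .rot 13, .cancel 0, .rot 11, .cancel 0, .rot 9, .cancel 0, .rot 7, .cancel 0, .rot 5, .cancel 0, .rot 3, .cancel 0, .cancel 0]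

/-- Moves for relator 29. -/
def moves29 : List Move := moves29p0

/-- Moves for relator 30, part 0. -/
def moves30p0 : List Move := [.right 0 2, .right 1 3, .right 2 7, .right 3 6, .right 4 5, .right 5 0, .right 6 2, .right 7 3, .right 8 7, .right 9 6, .right 10 5, .right 11 0, .right 12 2, .right 13 3, .cancel 14, .rot 23, .left 8 6, .left 7 7, .left 6 3, .left 5 2, .left 4 5, .left 3 6, .left 2 7, .left 1 3, .cancel 0, .rot 12, .right 0 5, .right 1 0, .right 2 2, .right 3 3, .right 4 6, .right 5 5, .right 6 0, .right 7 2, .cancel 8, .right 9 5, .right 20 2, .right 4 5, .right 20 21, .right 4 9, .rot 21, .left 7 9, .left 6 3, .left 5 2, .left 4 0, .left 3 5, .left 2 7, .left 1 3, .cancel 0, .left 6 9, .left 0 3, .right 4 3, .rot 1, .right 0 5, .right 1 0, .cancel 2, .right 4 2, .left 8 9, .right 13 2, .left 8 13, .left 7 5, .left 18 21, .left 11 7, .right 10 28, .rot 5, .right 0 7, .right 1 12, .right 2 5, .right 3 13, .cancel 4, .rot 12, .left 6 7, .left 5 2, .left 4 13, .left 3 10,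 .left 2 0, .left 1 5, .cancel 0, .left 8 29, .left 4 2, .right 14 30, .right 9 2, .left 5 2, .left 11 5, .left 8 7, .left 4 7, .right 7 2, .rot 6, .cancel 0, .left 11 13, .left 1 7, .left 10 10, .right 6 31, .left 11 10, .rot 7, .right 0 5, .right 1 0, .right 2 5, .right 3 32, .cancel 4, .right 3 7, .rot 10, .left 4 5, .left 3 0, .left 2 5, .left 1 31, .cancel 0, .left 7 7, .left 2 0, .rot 1, .right 0 12, .cancel 1, .left 4 33, .left 3 34, .right 2 3, .rot 1, .right 6 12, .right 0 3, .left 5 5, .right 4 0, .right 1 32, .left 1 32, .left 0 3, .right 5 5, .right 0 3]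

/-- Moves for relator 30. -/
def moves30 : List Move := moves30p0

/-- Moves for relator 31, part 0. -/
def moves31p0 : List Move := [.left 20 1, .right 59 6, .rot 53, .right 0 0, .right 1 1, .right 2 4, .right 3 3, .right 4 2, .cancel 5, .left 52 2, .right 44 2, .rot 29, .right 0 3, .right 1 2, .right 2 7, .right 3 6, .right 4 0, .right 5 1, .right 6 4, .right 7 3, .right 8 2, .right 9 7, .right 10 6, .right 11 0, .right 12 1, .right 13 4, .cancel 14, .left 26 4, .rot 27, .right 0 2, .right 1 7, .right 2 0, .right 3 1, .cancel 4, .left 16 4, .rot 17, .right 0 2, .right 1 7, .right 2 6, .right 3 0, .right 4 1, .cancel 5, .right 17 3, .right 32 2, .rot 17, .right 0 35, .right 1 2, .right 2 7, .right 3 6, .right 4 0, .right 5 1, .cancel 6, .left 30 2, .left 28 4, .left 15 6, .left 51 0, .right 1 7, .right 3 0, .right 32 0, .right 23 2, .rot 10, .right 0 4, .right 1 3, .right 2 2, .right 3 7, .right 4 0, .right 5 6, .right 6 1, .right 7 35, .right 8 2, .right 9 7, .right 10 0, .right 11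 1, .cancel 12, .right 37 6, .rot 32, .right 0 0, .right 1 4, .right 2 3, .right 3 2, .cancel 4, .left 19 2, .right 16 4, .left 27 0, .rot 23, .right 0 35, .right 1 2, .right 2 7, .right 3 8, .cancel 4, .left 3 8, .left 32 7, .left 41 0, .rot 4, .right 0 28, .right 1 0, .cancel 2, .right 5 0, .rot 1, .left 43 14, .right 0 35, .right 1 4, .right 2 7, .cancel 3, .rot 37, .right 0 35, .right 1 2, .right 2 7, .right 3 36, .cancel 4, .right 14 1, .left 36 3, .rot 9, .right 0 35, .right 1 2, .right 2 7, .right 3 6, .cancel 4, .right 14 35, .right 27 2, .right 31 7, .right 4 3, .right 17 0, .right 10 2, .right 11 28, .left 32 2, .rot 3, .right 0 3, .right 1 8, .right 2 2, .right 3 7, .right 4 0, .right 5 4, .right 6 2, .cancel 7, .right 13 6, .right 11 0, .right 7 8, .rot 10, .cancel 0, .rot 26, .right 0 2, .right 1 7, .right 2 0, .right 3 4, .right 4 2, .cancel 5, .right 18 0, .left 20 35, .rot 19]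

/-- Moves for relator 31, part 1. -/
def moves31p1 : List Move := [.right 0 37, .cancel 1, .right 7 35, .left 28 3, .left 5 7, .right 4 21, .left 3 35, .left 10 7, .rot 11, .right 0 2, .cancel 1, .rot 17, .right 0 37, .right 1 36, .right 2 2, .right 3 38, .cancel 4, .right 1 2, .left 13 2, .left 2 36, .left 24 0, .right 24 0, .rot 17, .left 12 39, .left 11 2, .left 10 37, .left 9 3, .left 8 10, .left 7 0, .left 6 4, .left 5 6, .left 4 7, .left 3 10, .left 2 1, .left 1 28, .cancel 0, .right 0 1, .right 21 2, .right 19 4, .left 17 33, .left 4 6, .rot 16, .right 0 40, .cancel 1, .right 11 6, .left 17 2, .left 12 4, .right 14 3, .left 16 37, .left 17 37, .right 2 2, .right 13 3, .left 5 35, .rot 3, .right 0 36, .right 1 38, .cancel 2, .right 7 3, .left 2 1, .rot 1, .left 19 2, .right 13 7, .left 6 3, .right 19 2, .right 17 4, .left 4 7, .rot 12, .right 0 7, .right 1 4, .right 2 35, .right 3 6, .cancel 4, .rot 15, .left 3 41, .left 2 42, .left 1 2, .cancel 0, .right 7 36, .right 4 6, .left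 8 2, .left 4 6, .left 14 7, .right 12 28, .rot 10, .right 0 1, .cancel 1, .rot 1, .left 13 2, .right 13 2, .right 6 4, .right 13 1, .left 2 7, .right 4 42, .right 9 41, .left 1 0, .rot 6, .right 0 40, .right 1 35, .cancel 2, .left 3 36, .rot 4, .right 0 1, .right 1 2, .right 2 34, .right 3 33, .cancel 4, .left 8 35, .left 5 42, .right 9 39, .right 3 7, .rot 1, .left 9 35, .left 7 43, .left 8 43, .left 8 1, .right 7 43, .left 5 42, .rot 2, .right 0 3, .right 1 2, .right 2 44, .cancel 3, .right 1 44, .left 3 43, .right 1 2, .left 2 44, .right 1 39, .right 6 2, .right 1 2, .right 4 1, .right 2 44, .left 4 1, .left 4 43, .left 6 2, .right 3 1, .right 5 35]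

/-- Moves for relator 31. -/
def moves31 : List Move := moves31p0 ++ moves31p1

/-- Moves for relator 32, part 0. -/
def moves32p0 : List Move := [.right 0 3, .cancel 1, .rot 8, .right 0 2, .cancel 1, .rot 2, .right 0 3, .cancel 1, .rot 8, .right 0 2, .cancel 1, .rot 2, .right 0 3, .cancel 1, .rot 8, .right 0 2, .cancel 1, .rot 2, .right 0 3, .cancel 1, .rot 8, .right 0 2, .cancel 1, .rot 2, .right 0 3, .cancel 1, .rot 8, .right 0 2, .cancel 1, .rot 2, .right 0 3, .cancel 1, .rot 8, .right 0 2, .cancel 1, .rot 2, .right 0 3, .cancel 1, .rot 8, .right 0 2, .cancel 1, .rot 2, .right 0 5, .right 1 6, .right 2 1, .right 3 7, .right 4 3, .right 5 0, .cancel 6, .rot 8, .right 0 5, .right 1 6, .right 2 1, .right 3 7, .right 4 3, .right 5 0, .cancel 6, .rot 8, .right 0 5, .right 1 6, .right 2 1, .right 3 7, .right 4 3, .right 5 0, .cancel 6, .rot 8, .right 0 5, .right 1 6, .right 2 1, .right 3 7, .right 4 3, .right 5 0, .cancel 6, .rot 8, .right 0 5, .right 1 6, .right 2 1, .right 3 7, .right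 4 3, .right 5 0, .cancel 6, .rot 8, .right 0 5, .right 1 6, .right 2 1, .right 3 7, .right 4 3, .right 5 0, .cancel 6, .rot 8, .right 0 5, .right 1 6, .right 2 1, .right 3 7, .right 4 3, .right 5 0, .cancel 6, .rot 1, .right 0 1, .right 1 7, .right 2 3, .right 3 0, .right 4 2, .right 5 0, .right 6 5, .right 7 6, .right 8 1, .right 9 7, .right 10 3, .right 11 0, .right 12 2, .right 13 0, .right 14 5, .right 15 6, .right 16 1, .right 17 7, .right 18 3, .right 19 0, .right 20 2, .right 21 0, .right 22 5, .right 23 6, .right 24 1, .cancel 25, .rot 11, .right 0 2, .right 1 0, .right 2 5, .right 3 6, .right 4 1, .right 5 7, .right 6 3, .right 7 0, .right 8 2, .right 9 0, .right 10 5, .right 11 6, .right 12 1, .right 13 3, .right 14 0, .right 15 2, .cancel 16, .rot 21, .right 0 2, .right 1 0, .right 2 5, .right 3 6, .right 4 1, .right 5 7, .right 6 3]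

/-- Moves for relator 32, part 1. -/
def moves32p1 : List Move := [.right 7 0, .right 8 2, .right 9 0, .right 10 5, .right 11 6, .right 12 1, .right 13 7, .right 14 3, .right 15 0, .right 16 2, .right 17 0, .right 18 5, .right 19 1, .right 20 7, .right 21 3, .right 22 0, .right 23 2, .cancel 24, .left 5 7, .left 48 7, .right 2 6, .rot 44, .left 11 33, .left 10 1, .left 9 9, .left 8 6, .left 7 0, .left 6 2, .left 5 7, .left 4 33, .left 3 1, .left 2 6, .left 1 5, .cancel 0, .rot 46, .left 5 33, .left 4 1, .left 3 6, .left 2 5, .left 1 0, .cancel 0, .left 42 0, .rot 43, .left 5 6, .left 4 5, .left 3 0, .left 2 1, .left 1 6, .cancel 0, .left 23 5, .left 1 1, .right 31 7, .right 26 0, .left 12 0, .right 42 12, .rot 13, .cancel 0, .right 21 6, .left 23 1, .rot 21, .right 0 9, .right 1 7, .right 2 1, .right 3 3, .right 4 0, .cancel 5, .rot 4, .right 0 45, .right 1 6, .right 2 8, .cancel 3, .right 28 7, .left 12 21, .rot 8, .right 0 9, .right 1 1, .right 2 33, .right 3 45, .cancel 4, .right 2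 45, .left 23 0, .right 12 7, .right 23 0, .left 27 3, .right 22 0, .right 5 7, .left 17 5, .left 12 7, .right 30 5, .right 8 2, .rot 8, .right 0 21, .cancel 1, .rot 1, .right 32 21, .right 12 9, .left 1 5, .rot 32, .left 7 2, .left 6 3, .left 5 0, .left 4 5, .left 3 7, .left 2 1, .left 1 18, .cancel 0, .left 19 5, .left 24 0, .right 18 8, .rot 1, .right 30 18, .left 11 9, .right 25 45, .rot 30, .left 1 14, .cancel 0, .right 7 1, .left 28 6, .left 25 45, .right 25 45, .left 13 7, .left 9 3, .right 2 0, .rot 2, .right 0 12, .right 1 3, .right 2 2, .cancel 3, .left 21 45, .left 14 6, .right 23 28, .rot 15, .cancel 0, .right 0 2, .left 18 21, .left 6 28, .left 14 1, .left 16 0, .left 13 2, .left 15 1, .left 19 21, .left 21 7, .rot 22, .left 6 13, .left 5 40, .left 4 2, .left 3 9, .left 2 8, .left 1 3, .cancel 0]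

/-- Moves for relator 32, part 2. -/
def moves32p2 : List Move := [.rot 16, .left 7 46, .left 6 21, .left 5 24, .left 4 47, .left 3 0, .left 2 1, .left 1 3, .cancel 0, .left 4 24, .left 15 28, .left 14 46, .right 11 1, .left 19 12, .left 19 3, .left 10 40, .right 15 28, .right 17 7, .left 19 12, .right 5 46, .rot 5, .right 0 48, .right 1 8, .right 2 9, .cancel 3, .rot 17, .left 3 48, .left 2 1, .left 1 47, .cancel 0, .rot 1, .right 0 48, .right 1 9, .cancel 2, .left 3 20, .left 11 12, .right 1 40, .rot 12, .left 6 49, .left 5 40, .left 4 48, .left 3 47, .left 2 1, .left 1 3, .cancel 0, .rot 3, .right 0 40, .right 1 49, .right 2 20, .right 3 50, .cancel 4, .right 4 7, .left 8 51, .left 1 49, .rot 7, .right 0 52, .cancel 1, .left 1 1, .right 2 40, .rot 1, .left 8 53, .right 0 40, .right 1 1, .left 7 32, .right 1 54, .right 8 53, .rot 1, .right 8 40, .left 2 55, .left 7 53, .right 0 56, .left 3 55]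

/-- Moves for relator 32. -/
def moves32 : List Move := moves32p0 ++ moves32p1 ++ moves32p2

/-- Further moves moveA, part 0. -/
def moveAp0 : List Move := [.ins 9 135, .left 1 23, .right 6 25, .left 7 27, .rot 9, .cancel 0, .right 0 27, .rot 8, .cancel 0, .left 3 5, .right 0 23, .left 1 57, .left 3 2, .left 5 25, .right 0 1, .rot 1, .right 5 1, .right 0 57, .right 1 5]

/-- Further moves moveA. -/
def moveA : List Move := moveAp0

/-- Further moves moveB, part 0. -/
def moveBp0 : List Move := [.ins 9 1006, .left 7 2, .right 0 2, .rot 9, .cancel 0, .rot 8, .cancel 0, .left 5 43, .left 5 29, .left 2 1, .right 5 29, .left 1 44, .right 5 43, .right 0 39, .right 2 1, .right 0 10]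

/-- Further moves moveB. -/
def moveB : List Move := moveBp0

/-- Further moves moveH3, part 0. -/
def moveH3p0 : List Move := [.ins 24 1148, .left 13 5, .right 17 32, .right 18 34, .right 16 32, .left 6 33, .left 3 34, .rot 24, .cancel 0, .rot 19, .left 5 3, .left 4 58, .left 3 33, .left 2 5, .left 1 0, .cancel 0, .right 0 5, .right 1 33, .right 2 58, .right 3 3, .right 4 32, .cancel 5, .rot 8, .right 0 3, .right 1 59, .right 2 32, .right 3 34, .right 4 0, .cancel 5, .rot 2, .right 0 34, .right 1 0, .right 2 5, .right 3 58, .cancel 4, .right 0 0, .right 1 5, .right 2 58, .right 3 47, .cancel 4, .rot 9, .left 4 59, .left 3 3, .left 2 58, .left 1 5, .cancel 0, .right 0 58, .right 1 3, .right 2 59, .right 3 5, .cancel 4, .rot 3, .right 0 47, .cancel 1, .rot 7, .left 1 47, .cancel 0, .right 0 58, .right 1 3, .cancel 2, .right 0 3, .cancel 1, .cancel 0]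

/-- Further moves moveH3. -/
def moveH3 : List Move := moveH3p0

/-- Further moves moveEHH, part 0. -/
def moveEHHp0 : List Move := [.ins 11 2623, .right 1 20, .left 10 3, .rot 10, .right 0 3, .cancel 1, .right 0 59, .right 1 32, .right 2 34, .right 3 0, .right 4 5, .right 5 33, .right 6 58, .cancel 7, .rot 20, .left 3 60, .left 2 53, .left 1 8, .cancel 0, .rot 4, .right 0 0, .right 1 5, .right 2 33, .right 3 58, .right 4 59, .right 5 32, .cancel 6, .left 11 20, .right 18 32, .right 18 61, .left 3 58, .right 11 20, .right 17 61, .right 7 33, .left 1 5, .right 16 61, .right 8 58, .rot 16, .right 0 62, .right 1 63, .cancel 2, .left 6 58, .left 0 62, .left 7 58, .rot 8, .right 0 33, .cancel 1, .left 1 64, .left 6 55, .right 12 59, .right 5 65, .left 11 33, .left 8 66, .right 3 13, .right 9 0, .right 4 65, .rot 5, .right 0 26, .right 1 55, .right 2 63, .cancel 3, .rot 8, .right 0 33, .right 1 56, .right 2 64, .right 3 13, .cancel 4, .rot 2, .right 0 13, .right 1 26, .cancel 2, .right 7 33,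 .left 7 33, .left 0 13, .rot 7, .left 3 67, .left 2 56, .left 1 33, .cancel 0, .rot 6, .left 1 5, .cancel 0, .left 3 63, .left 4 63, .right 1 67, .left 1 67, .right 3 47, .left 1 56, .right 3 22, .left 1 67, .right 2 22, .right 1 22, .right 1 56, .rot 1, .left 4 63, .left 2 67]

/-- Further moves moveEHH. -/
def moveEHH : List Move := moveEHHp0

/-- The moves by relator. -/
def moves : List (List Move) := [moves0, moves1, moves2, moves3, moves4, moves5, moves6, moves7, moves8, moves9, moves10, moves11, moves12, moves13, moves14, moves15, moves16, moves17, moves18, moves19, moves20, moves21, moves22, moves23, moves24, moves25, moves26, moves27, moves28, moves29, moves30, moves31, moves32]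

end Cfsg.Agent.FischerPresented.Mult6
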