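import Cfsg.Agent.Lib.FischerPresented.U62Group
import Cfsg.Agent.Lib.FischerPresented.OutTr

/-!
The stabiliser of an isotropic point inside the point stabiliser of Fi22: the group reaches all 693 points,
the stabiliser is generated by thirteen involutions, and its only homomorphism to a commutative group that
kills the first two of them is trivial.
-/

set_option autoImplicit false
set_option maxRecDepth 100000

namespace Cfsg.Agent.FischerPresented.U62

open Cfsg.Agent.CosetCert
open Cfsg.Agent.CosetData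
open Cfsg.Agent.FischerPresented.Out22 (hm tr tr_hom mem_H_iff hom_word hom_mul_apply)

local notation "FS" => Fi22B.setup

/-- The point of the second generator. -/
def p7 : Fin 3510 := ⟨7, by norm_num⟩

theorem inO_hm {g : Setup.G FS} (hg : g ∈ Fi22.H) {c : Fin 3510} (hc : inO c = true) :
    inO (hm g c : Fin 3510) = true := by
  obtain ⟨A, hA⟩ := exists_rel hg
  exact (hA c hc).1

theorem inO_p7 : inO (p7 : ℕ) = true := by decide +kernel

theorem lev1_H : (Fi22BOrbit.lev1.sw.all fun w => (w.all fun x => Nat.blt x 9) &&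
    Nat.beq (tact Fi22B.P w 0) 0) = true := by
  decide +kernel

theorem lev1_reach : ((reach Fi22B.P Fi22BOrbit.lev1.sw Fi22BOrbit.lev1.tree (insBit 0 7)).isSome &&
    Nat.beq (((List.range 3510).filter inO).length) (Fi22BOrbit.lev1.tree.length + 1)) = true := by
  decide +kernel

theorem exists_move {c : Fin 3510} (hc : inO c = true) :
    ∃ g ∈ Fi22.H, hm g p7 = c := by
  have h := lev1_reach
  rw [Bool.and_eq_true, Nat.beq_eq] at h
  obtain ⟨m', hm'⟩ := Option.isSome_iff_exists.1 h.1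
  obtain ⟨o, h1, h2, h3⟩ := reach_spec (P := Fi22B.P) (sw := Fi22BOrbit.lev1.sw)
    (R := fun t => ∃ g ∈ Fi22.H, (hm g p7 : ℕ) = t)
    (fun t ⟨g, hg, hgt⟩ w hw => by
      have hl := List.all_eq_true.1 lev1_H w hw
      rw [Bool.and_eq_true, Nat.beq_eq] at hl
      have hlr : (w.reverse.all fun x => Nat.blt x 9) = true := by rw [List.all_reverse]; exact hl.1
      refine ⟨wprod (Setup.gen FS) w.reverse * g, mul_mem ((mem_H_iff _).2 (Fin.ext ?_)) hg, ?_⟩
      · rw [hom_word hlr, List.reverse_reverse]; exact hl.2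
      · rw [hom_mul_apply, hom_word hlr, List.reverse_reverse, hgt])
    Fi22BOrbit.lev1.tree _ _ (fun t ht => by
      rcases bit_insBit ht with h | h
      · exact ⟨1, one_mem _, by rw [map_one, h]; rfl⟩
      · rw [bit_zero] at h; exact Bool.noConfusion h) hm' [7] (List.nodup_singleton _)
    (fun t => ⟨fun ht => by
        rcases bit_insBit ht with h | h
        · exact h ▸ List.mem_singleton_self _
        · rw [bit_zero] at h; exact Bool.noConfusion h,
      fun ht => by rw [List.mem_singleton.1 ht]; exact bit_insBit_self _ _⟩)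
  rw [List.length_singleton] at h3
  set F := (List.range 3510).filter inO
  have hsub : o ⊆ F := fun t ht => by
    obtain ⟨g, hg, hgt⟩ := h2 t ht
    rw [← hgt]
    exact List.mem_filter.2 ⟨List.mem_range.2 (hm g p7).2, inO_hm hg inO_p7⟩
  have hperm : o.Perm F := (h1.subperm hsub).perm_of_length_le (by omega)
  obtain ⟨g, hg, hgt⟩ := h2 c (hperm.mem_iff.2 (List.mem_filter.2 ⟨List.mem_range.2 c.2, hc⟩))
  exact ⟨g, hg, Fin.ext hgt⟩

/-- Words for the stabiliser. -/
def swS : List (List ℕ) := [[0], [2], [4], [5], [6], [7], [8],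
  [3, 7, 4, 3, 1, 2, 0, 1, 0, 1, 0, 2, 1, 3, 4, 7, 3],
  [1, 2, 3, 7, 4, 3, 2, 1, 0, 1, 2, 3, 4, 7, 3, 2, 1],
  [4, 3, 7, 5, 4, 3, 1, 2, 0, 1, 0, 1, 0, 2, 1, 3, 4, 5, 7, 3, 4],
  [7, 8, 3, 7, 4, 3, 1, 2, 0, 1, 0, 1, 0, 2, 1, 3, 4, 7, 3, 8, 7],
  [5, 4, 3, 7, 6, 5, 4, 3, 1, 2, 0, 1, 0, 1, 0, 2, 1, 3, 4, 5, 6, 7, 3, 4, 5],
  [1, 2, 3, 7, 4, 5, 3, 4, 2, 3, 7, 6, 5, 4, 3, 2, 0, 1, 0, 1, 0, 2, 3, 4, 5, 6, 7, 3, 2, 4, 3, 5, 4, 7, 3, 2, 1]]

/-- A word of the stabiliser as an element. -/
noncomputable def sg (i : ℕ) : Setup.G FS := wprod (Setup.gen FS) (swS.getD i [])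

/-- The stabiliser. -/
noncomputable def Stab0 : Subgroup (Setup.G FS) := Subgroup.closure (sg '' {i | i < 13})

theorem swS_ok : ((List.range 13).all fun i => ((swS.getD i []).all fun x => Nat.blt x 9) &&
    Nat.beq (tact Fi22B.P (swS.getD i []).reverse 0) 0 && Nat.beq (tact Fi22B.P (swS.getD i []).reverse 7) 7 &&
    wordFixPts Fi22B.P 3510 Fi22.pts (swS.getD i [] ++ swS.getD i [])) = true := by
  decide +kernel

theorem sg_fix {i : ℕ} (hi : i < 13) :
    hm (sg i) (0 : Fin 3510) = (0 : Fin 3510) ∧ hm (sg i) p7 = p7 ∧ sg i * sg i = 1 := by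
  have h := List.all_eq_true.1 swS_ok i (List.mem_range.2 hi)
  simp only [Bool.and_eq_true, Nat.beq_eq] at h
  refine ⟨Fin.ext ((hom_word h.1.1.1 _).trans h.1.1.2), Fin.ext ((hom_word h.1.1.1 _).trans h.1.2), ?_⟩
  rw [sg, ← wprod_append]
  exact Fi22.word_one h.2

theorem Stab0_le : ∀ g ∈ Stab0, g ∈ Fi22.H ∧ hm g p7 = p7 := by
  intro g hg
  induction hg using Subgroup.closure_induction with
  | mem x hx => obtain ⟨i, hi, rfl⟩ := hx; exact ⟨(mem_H_iff _).2 (sg_fix hi).1, (sg_fix hi).2.1⟩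
  | one => exact ⟨one_mem _, by rw [map_one]; rfl⟩
  | mul a b _ _ ha hb => exact ⟨mul_mem ha.1 hb.1, by rw [hom_mul_apply, hb.2, ha.2]⟩
  | inv a _ ha =>
    refine ⟨inv_mem ha.1, ?_⟩
    conv_lhs => rw [← ha.2]
    rw [← hom_mul_apply, inv_mul_cancel, map_one]
    rfl

/-- The chain bound for a subgroup that contains the words of all levels. -/
theorem chain_le_sub (R : Subgroup (Equiv.Perm (Fin 3510))) :
    ∀ (Ls : List BaseLevel) (fixed : List ℕ), chainGood Fi22B.P 3510 fixed Ls = true →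
      (∀ L ∈ Ls, ∀ w ∈ L.sw, hm (wprod (Setup.gen FS) w.reverse) ∈ R) →
      chainSize Ls * Nat.card ↥(R ⊓ fixPts 3510 (chainPts fixed Ls)) ≤
        Nat.card ↥(R ⊓ fixPts 3510 fixed) := by
  intro Ls
  induction Ls with
  | nil => intro fixed _ _; simp [chainSize, chainPts]
  | cons L Ls ih =>
    intro fixed h hR
    simp only [chainGood, levelGood, Bool.and_eq_true, Nat.blt_eq] at h
    obtain ⟨⟨⟨⟨ht, hlet⟩, hfix⟩, hreach⟩, hrest⟩ := h
    rw [card_fix_split R fixed ⟨L.pt, ht⟩, chainSize, chainPts, mul_assoc]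
    refine Nat.mul_le_mul ?_ (ih _ hrest fun L' hL' => hR L' (List.mem_cons_of_mem _ hL'))
    obtain ⟨m', hm'⟩ := Option.isSome_iff_exists.1 hreach
    set K := R ⊓ fixPts 3510 fixed with hK
    have hlt : ∀ w ∈ L.sw, (w.all fun x => Nat.blt x Fi22B.P.k) = true := fun w hw =>
      List.all_eq_true.1 hlet w hw
    have hmem : ∀ w ∈ L.sw, hm (wprod (Setup.gen FS) w.reverse) ∈ K := fun w hw =>
      ⟨hR L List.mem_cons_self w hw, fun i hi => Fin.ext (by
        simp only [List.all_eq_true, Nat.beq_eq] at hfix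
        rw [hom_tact (P := Fi22B.P) Fi22B.tab_ok hm (Setup.hom_gen FS) w (hlt w hw) i]
        exact hfix _ hi w hw)⟩
    obtain ⟨o', h1, h2, h3⟩ := reach_spec (P := Fi22B.P) (sw := L.sw)
      (R := fun t => ∃ i : Fin 3510, i ∈ MulAction.orbit K (⟨L.pt, ht⟩ : Fin 3510) ∧ (i : ℕ) = t)
      (fun t ⟨i, hi, hit⟩ w hw => ⟨(⟨_, hmem w hw⟩ : K) • i,
        MulAction.mem_orbit_of_mem_orbit _ hi, by
          rw [← hit]
          exact hom_tact (P := Fi22B.P) Fi22B.tab_ok hm (Setup.hom_gen FS) w (hlt w hw) i⟩)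
      L.tree _ _ (fun t ht' => by
        rcases bit_insBit ht' with h | h
        · exact ⟨_, MulAction.mem_orbit_self _, h.symm⟩
        · rw [bit_zero] at h; exact Bool.noConfusion h) hm' [L.pt] (List.nodup_singleton _)
      (fun t => ⟨fun ht' => by
          rcases bit_insBit ht' with h | h
          · exact h ▸ List.mem_singleton_self _
          · rw [bit_zero] at h; exact Bool.noConfusion h,
        fun ht' => by rw [List.mem_singleton.1 ht']; exact bit_insBit_self _ _⟩)
    rw [List.length_singleton] at h3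
    rw [← Set.ncard_image_of_injective (MulAction.orbit K (⟨L.pt, ht⟩ : Fin 3510)) Fin.val_injective,
      show L.tree.length + 1 = o'.toFinset.card by rw [List.toFinset_card_of_nodup h1]; omega,
      ← Set.ncard_coe_finset]
    refine Set.ncard_le_ncard (fun t ht' => ?_) (Set.toFinite _)
    obtain ⟨i, hi, hit⟩ := h2 t (List.mem_toFinset.1 ht')
    exact ⟨i, hi, hit⟩

theorem upper_ok : (chainGood Fi22B.P 3510 [0] [Fi22BOrbit.lev1] &&
    chainGood Fi22B.P 3510 [7, 0] (Fi22BOrbit.levels.drop 2) &&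
    Nat.beq (chainSize [Fi22BOrbit.lev1]) 693 &&
    Nat.ble 13271040 (chainSize (Fi22BOrbit.levels.drop 2))) = true := by
  decide +kernel

theorem low_words : ((Fi22BOrbit.levels.drop 2).all fun L => L.sw.all fun w =>
    (List.range 13).any fun i => wordEq w (swS.getD i [])) = true := by
  decide +kernel

theorem a_fix : ((chainPts [7, 0] (Fi22BOrbit.levels.drop 2)).all fun p =>
    Nat.beq (tact Fi22B.P [0] p) p) = true := by
  decide +kernel

theorem mem_Stab0 {g : Setup.G FS} (hg : g ∈ Fi22.H) (h7 : hm g p7 = p7) : g ∈ Stab0 := by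
  have := Fi22.order_facts.1
  have hinj : Function.Injective hm := Fi22.order_facts.2.2.1
  set R := Stab0.map hm with hR
  set S := hm.range ⊓ fixPts 3510 [7, 0] with hS
  have hzero : ∀ i : Fin 3510, (i : ℕ) = 0 → i = (0 : Fin 3510) := fun i h => Fin.ext h
  have hseven : ∀ i : Fin 3510, (i : ℕ) = 7 → i = p7 := fun i h => Fin.ext h
  have hRS : R ≤ S := by
    rintro _ ⟨x, hx, rfl⟩
    refine ⟨⟨x, rfl⟩, fun i hi => ?_⟩
    simp only [List.mem_cons, List.not_mem_nil, or_false] at hi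
    rcases hi with hi | hi
    · rw [hseven i hi]; exact (Stab0_le x hx).2
    · rw [hzero i hi]; exact (mem_H_iff _).1 (Stab0_le x hx).1
  have hu := upper_ok
  simp only [Bool.and_eq_true, Nat.beq_eq, Nat.ble_eq] at hu
  obtain ⟨⟨⟨hg1, hg2⟩, hs1⟩, hs2⟩ := hu
  have h1 := chain_le (P := Fi22B.P) Fi22B.tab_ok hm (Setup.hom_gen FS) [Fi22BOrbit.lev1] [0] hg1
  rw [hs1] at h1
  change 693 * Nat.card S ≤ _ at h1
  have hup : Nat.card ↥(hm.range ⊓ fixPts 3510 [0]) ≤ 18393661440 := by
    rw [← card_H]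
    refine Nat.card_le_card_of_surjective (fun x : Fi22.H => (⟨hm (x : Setup.G FS), ⟨_, rfl⟩, fun i hi => ?_⟩ :
      ↥(hm.range ⊓ fixPts 3510 [0]))) ?_
    · rw [hzero i (List.mem_singleton.1 hi)]; exact (mem_H_iff _).1 x.2
    · rintro ⟨_, ⟨y, rfl⟩, hy⟩
      exact ⟨⟨y, (mem_H_iff _).2 (hy _ (List.mem_singleton.2 rfl))⟩, rfl⟩
  have h2 := chain_le_sub R (Fi22BOrbit.levels.drop 2) [7, 0] hg2 fun L hL w hw => by
    obtain ⟨i, hi, he⟩ := List.any_eq_true.1
      (List.all_eq_true.1 (List.all_eq_true.1 low_words L hL) w hw)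
    rw [List.mem_range] at hi
    rw [eq_of_wordEq he, wprod_reverse (Setup.gen_invol FS)]
    exact Subgroup.mem_map_of_mem hm (inv_mem (Subgroup.subset_closure ⟨i, hi, rfl⟩))
  have h3 : 2 ≤ Nat.card ↥(R ⊓ fixPts 3510 (chainPts [7, 0] (Fi22BOrbit.levels.drop 2))) := by
    have : Nontrivial ↥(R ⊓ fixPts 3510 (chainPts [7, 0] (Fi22BOrbit.levels.drop 2))) := by
      refine ⟨1, ⟨hm (sg 0), Subgroup.mem_map_of_mem hm (Subgroup.subset_closure ⟨0, by simp, rfl⟩),
        fun i hi => ?_⟩, fun h => gen_zero_ne_one (hinj ?_)⟩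
      · refine Fin.ext ((hom_word (v := swS.getD 0 []) (by decide +kernel) i).trans ?_)
        exact Nat.eq_of_beq_eq_true (List.all_eq_true.1 a_fix _ hi)
      · have e := (congrArg Subtype.val h).symm
        simp only [sg, swS, List.getD_cons_zero, wprod_cons, wprod_nil, mul_one] at e
        rw [map_one]
        exact e
    exact Finite.one_lt_card
  have h4 : 13271040 * 2 ≤ Nat.card ↥(R ⊓ fixPts 3510 [7, 0]) :=
    (Nat.mul_le_mul hs2 h3).trans h2
  have h5 : Nat.card ↥(R ⊓ fixPts 3510 [7, 0]) ≤ Nat.card R :=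
    Nat.card_le_card_of_injective _ (Subgroup.inclusion_injective inf_le_left)
  have hle : Nat.card S ≤ Nat.card R := by omega
  have e : R = S := Subgroup.eq_of_le_of_card_ge hRS hle
  have hgS : hm g ∈ S := ⟨⟨g, rfl⟩, fun i hi => by
    simp only [List.mem_cons, List.not_mem_nil, or_false] at hi
    rcases hi with hi | hi
    · rw [hseven i hi]; exact h7
    · rw [hzero i hi]; exact (mem_H_iff _).1 hg⟩
  rw [← e] at hgS
  obtain ⟨x, hx, hxg⟩ := hgS
  exact hinj hxg ▸ hx

/-- Braid pairs among the generators of the stabiliser. -/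
def braidS : List (ℕ × ℕ) := [(2, 3), (3, 4), (3, 7), (3, 8), (3, 10), (3, 11), (4, 9), (5, 6), (6, 9), (6, 12)]

theorem braidS_ok : (braidS.all fun p => Nat.blt p.1 13 && Nat.blt p.2 13 &&
    wordFixPts Fi22B.P 3510 Fi22.pts (rep 3 (swS.getD p.1 [] ++ swS.getD p.2 []))) = true := by
  decide +kernel

theorem odd_ok : wordFixPts Fi22B.P 3510 Fi22.pts
    (rep 3 ([9, 11, 8, 11, 11, 12, 4].flatMap fun i => swS.getD i []) ++ [0]) = true := by
  decide +kernel

/-- A homomorphism to a commutative group killing the first two generators is trivial. -/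
theorem stab_trivial {Q : Type} [Group Q] (f : Stab0 →* Q) (hc : ∀ q q' : Q, q' * q = q * q')
    (h0 : ∀ hm0, f ⟨sg 0, hm0⟩ = 1) (h1 : ∀ hm1, f ⟨sg 1, hm1⟩ = 1) : ∀ h, f h = 1 := by
  let : CommGroup Q := { (inferInstance : Group Q) with mul_comm := fun a b => (hc a b).symm }
  have hmem : ∀ {i : ℕ}, i < 13 → sg i ∈ Stab0 := fun hi => Subgroup.subset_closure ⟨_, hi, rfl⟩
  let a : ℕ → Q := fun i => if h : i < 13 then f ⟨sg i, hmem h⟩ else 1
  have ha : ∀ {i : ℕ} (hi : i < 13), a i = f ⟨sg i, hmem hi⟩ := fun hi => dif_pos hi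
  have hsq : ∀ i, a i * a i = 1 := fun i => by
    by_cases hi : i < 13
    · rw [ha hi, ← map_mul, show (⟨sg i, hmem hi⟩ : Stab0) * ⟨sg i, hmem hi⟩ = 1 from
        Subtype.ext (sg_fix hi).2.2, map_one]
    · simp [a, hi]
  have heq : ∀ p ∈ braidS, a p.1 = a p.2 := by
    intro p hp
    have h := List.all_eq_true.1 braidS_ok p hp
    simp only [Bool.and_eq_true, Nat.blt_eq] at h
    obtain ⟨⟨hi, hj⟩, hw⟩ := h
    have e1 : (⟨sg p.1, hmem hi⟩ * ⟨sg p.2, hmem hj⟩ : Stab0) ^ 3 = 1 := Subtype.ext (by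
      rw [Subgroup.coe_pow, Subgroup.coe_mul, Subgroup.coe_one]
      show (sg p.1 * sg p.2) ^ 3 = 1
      have := Fi22.word_one hw
      rwa [wprod_rep, wprod_append] at this)
    have e2 := congrArg f e1
    have h3 : ∀ x : Q, x * x = 1 → x ^ 3 = x := fun x hx => by rw [pow_succ, sq, hx, one_mul]
    rw [map_pow, map_mul, map_one, ← ha hi, ← ha hj, mul_pow, h3 _ (hsq _), h3 _ (hsq _)] at e2
    exact (eq_inv_of_mul_eq_one_left e2).trans (inv_eq_of_mul_eq_one_right (hsq _))
  have q23 := heq (2, 3) (by decide)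
  have q34 := heq (3, 4) (by decide)
  have q37 := heq (3, 7) (by decide)
  have q38 := heq (3, 8) (by decide)
  have q310 := heq (3, 10) (by decide)
  have q311 := heq (3, 11) (by decide)
  have q49 := heq (4, 9) (by decide)
  have q56 := heq (5, 6) (by decide)
  have q69 := heq (6, 9) (by decide)
  have q612 := heq (6, 12) (by decide)
  simp only at q23 q34 q37 q38 q310 q311 q49 q56 q69 q612
  have hall : ∀ i, 2 ≤ i → i < 13 → a i = a 3 := by
    intro i h2 h13
    interval_cases i <;> simp [q23, ← q34, ← q37, ← q38, ← q310, ← q311, ← q49, q56, q69, ← q612]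
  have hw : wprod sg (rep 3 [9, 11, 8, 11, 11, 12, 4] ++ [0]) = 1 := by
    have hflat : ∀ l : List ℕ, wprod sg l = wprod (Setup.gen FS) (l.flatMap fun i => swS.getD i []) := by
      intro l
      induction l with
      | nil => rfl
      | cons i l ih => rw [wprod_cons, List.flatMap_cons, wprod_append, ih]; rfl
    rw [hflat]
    exact Fi22.word_one odd_ok
  have hprod : ∀ l : List ℕ, (∀ i ∈ l, i < 13) → ∀ h, f ⟨wprod sg l, h⟩ = (l.map a).prod := by
    intro l hl
    induction l with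
    | nil => intro h; exact map_one f
    | cons i l ih =>
      intro h
      have hi := hl i List.mem_cons_self
      have hl' : wprod sg l ∈ Stab0 := by
        have := mul_mem (inv_mem (hmem hi)) h
        rwa [wprod_cons, inv_mul_cancel_left] at this
      rw [List.map_cons, List.prod_cons, ha hi, ← ih (fun j hj => hl j (List.mem_cons_of_mem _ hj)) hl',
        ← map_mul]
      rfl
  have hone : a 3 = 1 := by
    have h := hprod (rep 3 [9, 11, 8, 11, 11, 12, 4] ++ [0]) (by decide) (hw ▸ one_mem _)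
    have e : (⟨wprod sg (rep 3 [9, 11, 8, 11, 11, 12, 4] ++ [0]), hw ▸ one_mem _⟩ : Stab0) = 1 := Subtype.ext hw
    rw [e, map_one] at h
    simp only [rep, List.append_nil, List.cons_append, List.nil_append, List.map_cons, List.map_nil,
      List.prod_cons, List.prod_nil, hall 11 (by norm_num) (by norm_num), hall 9 (by norm_num) (by norm_num),
      hall 8 (by norm_num) (by norm_num), hall 12 (by norm_num) (by norm_num),
      hall 4 (by norm_num) (by norm_num),
      show a 0 = 1 from (ha (by norm_num)).trans (h0 _), one_mul, mul_one] at h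
    have h3 : ∀ z, a 3 * (a 3 * z) = z := fun z => by rw [← mul_assoc, hsq, one_mul]
    simp only [h3, hsq, mul_one] at h
    exact h.symm
  rintro ⟨g, hg⟩
  induction hg using Subgroup.closure_induction with
  | mem x hx =>
    obtain ⟨i, hi, rfl⟩ := hx
    rcases Nat.lt_or_ge i 2 with h | h
    · interval_cases i
      · exact h0 _
      · exact h1 _
    · exact (ha hi).symm.trans ((hall i h hi).trans hone)
  | one => exact map_one f
  | mul x y hx hy ihx ihy =>
    rw [show (⟨x * y, _⟩ : Stab0) = ⟨x, hx⟩ * ⟨y, hy⟩ from rfl, map_mul, ihx, ihy, one_mul]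
  | inv x hx ih => rw [show (⟨x⁻¹, _⟩ : Stab0) = ⟨x, hx⟩⁻¹ from rfl, map_inv, ih, inv_one]

end Cfsg.Agent.FischerPresented.U62
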