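import Cfsg.Agent.Lib.FischerPresented.Mult22
import Cfsg.Agent.Lib.FischerPresented.Mult6Basic
import Cfsg.Agent.Lib.FischerPresented.Mult6Data
import Cfsg.Agent.Lib.FischerPresented.U62Stab
import Cfsg.Agent.Lib.FischerPresented.Chain
import Cfsg.Agent.Lib.Compute.CosetData.ChainS62
import Cfsg.Agent.Lib.Compute.CosetData.ChainU62

/-!
In a central extension of PSU₆(2) the transvections lift to a class, and every relator reduces by moves
to the empty sequence or to one of three residues of orders three, two and two.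
-/

set_option autoImplicit false
set_option maxRecDepth 100000

namespace Cfsg.Agent.FischerPresented.Mult6

open Cfsg.Agent.CosetCert
open Cfsg.Agent.CosetData
open Cfsg.Agent.RigidGraph.He (K4)
open Cfsg.Agent.FischerPresented.Out22 (hm tr tr_hom tr_gpt tr_word gpt hom_mul_apply fix_iff)
open Cfsg.Agent.FischerPresented.Mult22 (Move cAct ext val pathOK cAct_eq val_append val_cons val_nil ext_val prod_sq)
open Cfsg.Agent.FischerPresented.U62 (inO θ hgH swj hg p7 Stab0 exists_move mem_Stab0 Stab0_le sg)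

local notation "FS" => Fi22B.setup

/-- The group PSU₆(2). -/
abbrev PU : Type := Cfsg.PSU 6 K4 2

open Classical in
/-- A transposition as an element of the point stabiliser. -/
noncomputable def trH (c : Fin 3510) : Fi22.H := if h : tr c ∈ Fi22.H then ⟨tr c, h⟩ else 1

/-- A transvection of the unitary group. -/
noncomputable def trQ (c : Fin 3510) : PU := θ (trH c)

theorem tr_p7 : tr p7 = Setup.gen FS 2 := by
  obtain ⟨h, e⟩ := tr_gpt (show 2 < 9 by norm_num)
  rw [← e]
  exact congrArg tr (Fin.ext (by show 7 = gpt 2; decide +kernel))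

theorem gen_two_eq : Setup.gen FS 2 = hg 1 := by simp [hg, swj, Fi22B.sw, wprod]

theorem tr_mem {c : Fin 3510} (hc : inO (c : ℕ) = true) : tr c ∈ Fi22.H := by
  obtain ⟨g, hg', rfl⟩ := exists_move hc
  rw [tr_hom, tr_p7, gen_two_eq]
  exact mul_mem (mul_mem hg' (U62.hg_mem 1 (by norm_num))) (inv_mem hg')

theorem coe_trH {c : Fin 3510} (hc : inO (c : ℕ) = true) : (trH c : Setup.G FS) = tr c := by
  rw [trH, dif_pos (tr_mem hc)]

theorem trH_hm {c : Fin 3510} (hc : inO (c : ℕ) = true) (g : Fi22.H) :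
    trH (hm (g : Setup.G FS) c) = g * trH c * g⁻¹ := by
  refine Subtype.ext ?_
  rw [coe_trH (U62.inO_hm g.2 hc), Subgroup.coe_mul, Subgroup.coe_mul, coe_trH hc, Subgroup.coe_inv, tr_hom]

theorem trH_sq {c : Fin 3510} (hc : inO (c : ℕ) = true) : trH c * trH c = 1 := by
  refine Subtype.ext ?_
  rw [Subgroup.coe_mul, coe_trH hc]
  exact Mult22.isLift_tr.sq c

theorem isLift_trQ : IsLift6 trQ where
  sq p hp := by rw [trQ, ← map_mul, trH_sq hp, map_one]
  conj a b ha hb := by
    rw [trQ, ← coe_trH ha, trH_hm hb, map_mul, map_mul, map_inv]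
    rfl

theorem paths_ok : ∀ e ∈ paths, pathOK6 e = true := by
  have h : (paths.all pathOK6) = true := by decide +kernel
  exact List.all_eq_true.1 h

theorem gl_ok : allBelow (fun x => paths.any fun e => Nat.beq e.1 (gl.getD x 0) &&
    wordFixPts Fi22B.P 3510 Fi22.pts (swj (x + 1) ++ (e.2.reverse ++ [0] ++ e.2).reverse)) 8 = true := by
  decide +kernel

theorem gl_spec {x : ℕ} (hx : x < 8) :
    ∃ (h : gl.getD x 0 < 3510), inO (gl.getD x 0) = true ∧ trH ⟨_, h⟩ = hgH (x + 1) := by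
  obtain ⟨⟨p, v⟩, he, hb⟩ := List.any_eq_true.1 (allBelow_spec gl_ok hx)
  rw [Bool.and_eq_true, Nat.beq_eq] at hb
  obtain ⟨hp, hw⟩ := hb
  have hok := paths_ok _ he
  simp only [pathOK6, pathOK, Bool.and_eq_true, Nat.blt_eq, Nat.beq_eq] at hok
  obtain ⟨⟨⟨hl, hv⟩, hlt⟩, hO⟩ := hok
  change p = _ at hp
  subst hp
  refine ⟨hlt, hO, Subtype.ext ?_⟩
  rw [coe_trH (c := ⟨_, hlt⟩) hO, U62.coe_hgH (show x + 1 < 9 by omega)]
  have hg0 : gpt 0 = 0 := by decide +kernel
  rw [hg0] at hv
  have h1 := Fi22.word_one hw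
  rw [wprod_append, wprod_reverse (Setup.gen_invol FS), mul_inv_eq_one] at h1
  rw [hg, h1]
  exact tr_word hl hv

/-- The relators. -/
def base : List (List ℕ) := ChainU62.base

theorem base_ok : (base.all fun w => (w.all fun x => Nat.blt x 8) &&
    (wordFixPts Fi22B.P 3510 Fi22.pts (w.flatMap fun x => swj (x + 1)) ||
      wordFixPts Fi22B.P 3510 Fi22.pts ((w.flatMap fun x => swj (x + 1)) ++ [0]))) = true := by
  decide +kernel

/-- The product of the stabiliser generators of a word. -/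
noncomputable def wH (w : List ℕ) : Fi22.H := (w.map fun x => hgH (x + 1)).prod

theorem coe_wH : ∀ w : List ℕ, (w.all fun x => Nat.blt x 8) = true →
    (wH w : Setup.G FS) = wprod (Setup.gen FS) (w.flatMap fun x => swj (x + 1))
  | [], _ => rfl
  | x :: w, h => by
    rw [List.all_cons, Bool.and_eq_true, Nat.blt_eq] at h
    rw [List.flatMap_cons, wprod_append]
    show (hgH (x + 1) : Setup.G FS) * (wH w : Setup.G FS) = _
    rw [coe_wH w h.2, U62.coe_hgH (show x + 1 < 9 by omega)]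
    rfl

theorem θ_word {w : List ℕ} (hw : w ∈ base) : θ (wH w) = 1 := by
  have h := List.all_eq_true.1 base_ok w hw
  rw [Bool.and_eq_true, Bool.or_eq_true] at h
  rcases h.2 with h2 | h2
  · rw [show wH w = 1 from Subtype.ext ((coe_wH w h.1).trans (Fi22.word_one h2)), map_one]
  · have h3 := Fi22.word_one h2
    rw [wprod_append, ← coe_wH w h.1, wprod_cons, wprod_nil, mul_one, ← U62.hg_zero,
      ← U62.coe_hgH (show 0 < 9 by norm_num), ← Subgroup.coe_mul] at h3
    have h4 := congrArg θ (Subtype.ext h3 : wH w * hgH 0 = 1)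
    rwa [map_mul, U62.θ_hgH_zero, mul_one, map_one] at h4

section Val

variable {E : Type} [Group E] {T : Fin 3510 → E}

theorem val_gl (f : ℕ → E) (hf : ∀ x, x < 8 → ext T (gl.getD x 0) = f x) :
    ∀ w : List ℕ, (w.all fun x => Nat.blt x 8) = true → val T (w.map fun x => gl.getD x 0) = wprod f w
  | [], _ => rfl
  | x :: w, h => by
    rw [List.all_cons, Bool.and_eq_true, Nat.blt_eq] at h
    rw [List.map_cons, val_cons, wprod_cons, hf x h.1, val_gl f hf w h.2]

end Val

theorem base_val {w : List ℕ} (hw : w ∈ base) : val trQ (w.map fun x => gl.getD x 0) = 1 := by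
  have hl : (w.all fun x => Nat.blt x 8) = true := by
    have h := List.all_eq_true.1 base_ok w hw
    rw [Bool.and_eq_true] at h
    exact h.1
  rw [val_gl (fun x => θ (hgH (x + 1))) (fun x hx => by
    obtain ⟨h, -, e⟩ := gl_spec hx
    rw [ext, dif_pos h, trQ, e]) w hl, ← θ_word hw, wH, map_list_prod, List.map_map, wprod]
  rfl

theorem moves_ok : ((base.zip moves).all fun e =>
    let r := run paths e.2 (e.1.map fun x => gl.getD x 0)
    (r == []) || (r == resA) || (r == resH) || (r == resB) || (r == resE)) = true := by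
  decide +kernel

theorem moves_len : moves.length = base.length := by decide +kernel

theorem res_ok : ([(28, resA), (30, resH), (31, resB), (32, resE)].all fun p : ℕ × List ℕ =>
    Nat.blt p.1 base.length &&
      (run paths (moves.getD p.1 []) ((base.getD p.1 []).map fun x => gl.getD x 0) == p.2)) = true := by
  decide +kernel

theorem trQ_res : ∀ p ∈ [(28, resA), (30, resH), (31, resB), (32, resE)], val trQ p.2 = 1 := by
  intro p hp
  have h := List.all_eq_true.1 res_ok p hp
  rw [Bool.and_eq_true, Nat.blt_eq, beq_iff_eq] at h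
  have hw : base.getD p.1 [] ∈ base := by
    rw [List.getD_eq_getElem _ _ h.1]
    exact List.getElem_mem _
  rw [← h.2, val_run isLift_trQ paths_ok _ _ (by rw [base_val hw]; exact Subgroup.one_mem _), base_val hw]

theorem com_ok : ((run paths moveA resA == comA) && (run paths moveB resB == comB) &&
    (run paths moveH3 (resH ++ resH ++ resH) == []) &&
    (run paths moveEHH (resE ++ (resH ++ resH)) == comK)) = true := by
  decide +kernel

theorem com_comm : ([comA, comB, comK].all fun h => h.all fun a => Nat.blt a 3510 && inO a && h.all fun b =>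
    (paths.any fun e => Nat.beq e.1 a && Nat.beq (cAct e.2 b) b) || Nat.beq a b) = true := by
  decide +kernel

theorem com_lt {h : List ℕ} (hh : h ∈ [comA, comB, comK]) {a : ℕ} (ha : a ∈ h) :
    a < 3510 ∧ inO a = true := by
  have h1 := List.all_eq_true.1 (List.all_eq_true.1 com_comm h hh) a ha
  simp only [Bool.and_eq_true, Nat.blt_eq] at h1
  exact h1.1

theorem com_commute {E : Type} [Group E] {T : Fin 3510 → E}
    (hc : ∀ a b : Fin 3510, inO (a : ℕ) = true → inO (b : ℕ) = true →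
      T (hm (tr a) b) = T a * T b * (T a)⁻¹)
    {h : List ℕ} (hh : h ∈ [comA, comB, comK]) :
    ∀ a ∈ h, ∀ b ∈ h, Commute (ext T a) (ext T b) := by
  intro a ha b hb
  have h1 := List.all_eq_true.1 (List.all_eq_true.1 com_comm h hh) a ha
  rw [Bool.and_eq_true] at h1
  have h2 := List.all_eq_true.1 h1.2 b hb
  simp only [Bool.or_eq_true, Bool.and_eq_true, List.any_eq_true, Nat.beq_eq] at h2
  obtain ⟨hal, haO⟩ := com_lt hh ha
  obtain ⟨hbl, hbO⟩ := com_lt hh hb
  rcases h2 with ⟨⟨p, v⟩, hpm, rfl, hfix⟩ | h2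
  · have hok := paths_ok _ hpm
    rw [pathOK6, Bool.and_eq_true] at hok
    obtain ⟨hp', hac⟩ := cAct_eq hok.1 hbl
    have h3 := hc ⟨p, hp'⟩ ⟨b, hbl⟩ haO hbO
    rw [show hm (tr ⟨p, hp'⟩) ⟨b, hbl⟩ = ⟨b, hbl⟩ from Fin.ext (hac.trans hfix)] at h3
    rw [ext, ext, dif_pos hal, dif_pos hbl]
    exact mul_inv_eq_iff_eq_mul.1 h3.symm
  · rw [h2]

section Ext

variable {E : Type} [Group E] {σ : E →* PU}

theorem map_val {T : Fin 3510 → E} (hσ : ∀ p : Fin 3510, inO (p : ℕ) = true → σ (T p) = trQ p)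
    (l : List ℕ) (hl : ∀ n ∈ l, n < 3510 ∧ inO n = true) : σ (val T l) = val trQ l := by
  show σ (l.map (ext T)).prod = (l.map (ext trQ)).prod
  rw [map_list_prod, List.map_map]
  refine congrArg List.prod (List.map_congr_left fun n hn => ?_)
  show σ (ext T n) = ext trQ n
  rw [ext, ext, dif_pos (hl n hn).1, dif_pos (hl n hn).1]
  exact hσ _ (hl n hn).2

theorem lift_commute (hker : σ.ker ≤ Subgroup.center E) (hs : Function.Surjective σ) {A : E}
    (hA : σ A = trQ p7) {e : E} {k : Fi22.H} (hk : (k : Setup.G FS) ∈ Stab0) (he : σ e = θ k) :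
    Commute e A := by
  have hsub : ∀ x : Stab0, (x : Setup.G FS) ∈ Fi22.H := fun x => (Stab0_le x x.2).1
  let ι : Stab0 →* Fi22.H :=
    { toFun := fun x => ⟨x, hsub x⟩, map_one' := rfl, map_mul' := fun _ _ => rfl }
  have hcen : ∀ x : Stab0, ∀ a, σ a = θ (ι x) → a * A * a⁻¹ * A⁻¹ ∈ σ.ker := by
    intro x a ha
    have hcm : ι x * trH p7 = trH p7 * ι x := by
      refine Subtype.ext ?_
      rw [Subgroup.coe_mul, Subgroup.coe_mul, coe_trH U62.inO_p7]
      exact ((fix_iff _ _).1 (Stab0_le x x.2).2).eq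
    rw [MonoidHom.mem_ker, map_mul, map_mul, map_mul, map_inv, map_inv, ha, hA, trQ, ← map_mul, hcm,
      map_mul]
    group
  have hind : ∀ a b : E, σ a = σ b → a * A * a⁻¹ = b * A * b⁻¹ := by
    intro a b h
    have hk' : b⁻¹ * a ∈ σ.ker := by rw [MonoidHom.mem_ker, map_mul, map_inv, h, inv_mul_cancel]
    have hc := Subgroup.mem_center_iff.1 (hker hk') A
    calc a * A * a⁻¹ = b * (b⁻¹ * a * A) * a⁻¹ := by group
      _ = b * (A * (b⁻¹ * a)) * a⁻¹ := by rw [hc]
      _ = b * A * b⁻¹ := by group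
  let r : Stab0 → E := fun x => Function.surjInv hs (θ (ι x))
  have hr : ∀ x : Stab0, σ (r x) = θ (ι x) := fun x => Function.surjInv_eq hs _
  let ψ : Stab0 →* σ.ker :=
    { toFun := fun x => ⟨r x * A * (r x)⁻¹ * A⁻¹, hcen x _ (hr x)⟩
      map_one' := Subtype.ext (by
        show r 1 * A * (r 1)⁻¹ * A⁻¹ = 1
        rw [hind (r 1) 1 (by rw [hr, map_one, map_one, map_one])]
        group)
      map_mul' := fun k l => Subtype.ext (by
        show r (k * l) * A * (r (k * l))⁻¹ * A⁻¹ = (r k * A * (r k)⁻¹ * A⁻¹) * (r l * A * (r l)⁻¹ * A⁻¹)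
        rw [hind (r (k * l)) (r k * r l) (by rw [map_mul, hr, hr, hr, map_mul, map_mul])]
        have hc := Subgroup.mem_center_iff.1 (hker (hcen l _ (hr l))) (r k)
        have hk' := Subgroup.mem_center_iff.1 (hker (hcen k _ (hr k))) (r l * A * (r l)⁻¹ * A⁻¹)
        rw [← hk']
        calc r k * r l * A * (r k * r l)⁻¹ * A⁻¹
            = r k * (r l * A * (r l)⁻¹ * A⁻¹) * (A * (r k)⁻¹ * A⁻¹) := by group
          _ = (r l * A * (r l)⁻¹ * A⁻¹) * r k * (A * (r k)⁻¹ * A⁻¹) := by rw [hc]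
          _ = r l * A * (r l)⁻¹ * A⁻¹ * (r k * A * (r k)⁻¹ * A⁻¹) := by group) }
  have hone : ∀ x : Stab0, ∀ a, σ a = θ (ι x) → a * A * a⁻¹ * A⁻¹ = 1 → ψ x = 1 := fun x a ha h =>
    Subtype.ext (by
      show r x * A * (r x)⁻¹ * A⁻¹ = 1
      rw [hind (r x) a (by rw [hr, ha])]; exact h)
  have hall : ∀ x : Stab0, ψ x = 1 := U62.stab_trivial ψ
    (fun q q' => Subtype.ext (Subgroup.mem_center_iff.1 (hker q.2) (q' : E)))
    (fun h0 => hone _ 1 (by
      rw [show ι ⟨sg 0, h0⟩ = hgH 0 from Subtype.ext (by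
        show sg 0 = _
        rw [U62.coe_hgH (show 0 < 9 by norm_num)]; rfl), U62.θ_hgH_zero, map_one]) (by group))
    (fun h1 => hone _ A (by
      rw [hA, trQ]
      refine congrArg θ (Subtype.ext ?_)
      rw [coe_trH U62.inO_p7, tr_p7]
      show Setup.gen FS 2 = sg 1
      simp [sg, U62.swS, wprod]) (by group))
  have h2 : r ⟨k, hk⟩ * A * (r ⟨k, hk⟩)⁻¹ * A⁻¹ = 1 := congrArg Subtype.val (hall ⟨k, hk⟩)
  rw [hind _ e (by rw [hr, he]; rfl), mul_inv_eq_one, mul_inv_eq_iff_eq_mul] at h2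
  exact h2

open Classical in
/-- The lift of a transvection. -/
noncomputable def liftT (hs : Function.Surjective σ) (A : E) (p : Fin 3510) : E :=
  if hp : inO (p : ℕ) = true then
    Function.surjInv hs (θ ⟨_, (exists_move hp).choose_spec.1⟩) * A *
      (Function.surjInv hs (θ ⟨_, (exists_move hp).choose_spec.1⟩))⁻¹
  else 1

theorem liftT_eq (hker : σ.ker ≤ Subgroup.center E) (hs : Function.Surjective σ) {A : E}
    (hA : σ A = trQ p7) {e : E} {g : Fi22.H} {p : Fin 3510} (he : σ e = θ g)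
    (h : hm (g : Setup.G FS) p7 = p) : liftT hs A p = e * A * e⁻¹ := by
  have hp : inO (p : ℕ) = true := h ▸ U62.inO_hm g.2 U62.inO_p7
  rw [liftT, dif_pos hp]
  set g₀ : Fi22.H := ⟨_, (exists_move hp).choose_spec.1⟩ with hg0
  have h0 : hm (g₀ : Setup.G FS) p7 = p := (exists_move hp).choose_spec.2
  set a := Function.surjInv hs (θ g₀)
  have hK : ((g⁻¹ * g₀ : Fi22.H) : Setup.G FS) ∈ Stab0 := by
    refine mem_Stab0 (g⁻¹ * g₀).2 ?_
    rw [Subgroup.coe_mul, Subgroup.coe_inv, hom_mul_apply, h0, ← h, ← hom_mul_apply, inv_mul_cancel, map_one]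
    rfl
  have hc := (lift_commute hker hs hA hK (e := e⁻¹ * a)
    (by rw [map_mul, map_inv, Function.surjInv_eq hs, he, map_mul, map_inv])).eq
  calc a * A * a⁻¹ = e * (e⁻¹ * a * A) * a⁻¹ := by group
    _ = e * (A * (e⁻¹ * a)) * a⁻¹ := by rw [hc]
    _ = e * A * e⁻¹ := by group

theorem liftT_conj (hker : σ.ker ≤ Subgroup.center E) (hs : Function.Surjective σ) {A : E}
    (hA : σ A = trQ p7) {e : E} {g : Fi22.H} (he : σ e = θ g) {p : Fin 3510} (hp : inO (p : ℕ) = true) :
    liftT hs A (hm (g : Setup.G FS) p) = e * liftT hs A p * e⁻¹ := by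
  obtain ⟨g₀, hg₀, h0⟩ := exists_move hp
  obtain ⟨a, ha⟩ := hs (θ ⟨g₀, hg₀⟩)
  rw [liftT_eq hker hs hA (g := g * ⟨g₀, hg₀⟩) (e := e * a)
      (by rw [map_mul, map_mul, he, ha]) (by rw [Subgroup.coe_mul, hom_mul_apply, h0]),
    liftT_eq hker hs hA ha h0]
  group

theorem map_liftT (hker : σ.ker ≤ Subgroup.center E) (hs : Function.Surjective σ) {A : E}
    (hA : σ A = trQ p7) {p : Fin 3510} (hp : inO (p : ℕ) = true) : σ (liftT hs A p) = trQ p := by
  obtain ⟨g₀, hg₀, h0⟩ := exists_move hp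
  obtain ⟨a, ha⟩ := hs (θ ⟨g₀, hg₀⟩)
  rw [liftT_eq hker hs hA ha h0, map_mul, map_mul, map_inv, ha, hA, ← h0, trQ, trQ,
    trH_hm U62.inO_p7 ⟨g₀, hg₀⟩, map_mul, map_mul, map_inv]

theorem exists_lift (hker : σ.ker ≤ Subgroup.center E) (hs : Function.Surjective σ) :
    ∃ T : Fin 3510 → E, IsLift6 T ∧ (∀ p : Fin 3510, inO (p : ℕ) = true → σ (T p) = trQ p) ∧
      val T comA = 1 := by
  obtain ⟨A, hA⟩ := hs (trQ p7)
  set T := liftT hs A
  have hσ : ∀ p : Fin 3510, inO (p : ℕ) = true → σ (T p) = trQ p := fun p hp => map_liftT hker hs hA hp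
  have hconj : ∀ a b : Fin 3510, inO (a : ℕ) = true → inO (b : ℕ) = true →
      T (hm (tr a) b) = T a * T b * (T a)⁻¹ := fun a b ha hb => by
    rw [← coe_trH ha]
    exact liftT_conj hker hs hA (hσ a ha) hb
  have hu : A * A ∈ σ.ker := by
    rw [MonoidHom.mem_ker, map_mul, hA]; exact isLift_trQ.sq p7 U62.inO_p7
  have huc := hker hu
  set u := A * A with hu'
  have hsq : ∀ p : Fin 3510, inO (p : ℕ) = true → T p * T p = u := fun p hp => by
    obtain ⟨g₀, hg₀, h0⟩ := exists_move hp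
    obtain ⟨a, ha⟩ := hs (θ ⟨g₀, hg₀⟩)
    rw [show T p = a * A * a⁻¹ from liftT_eq hker hs hA ha h0]
    calc a * A * a⁻¹ * (a * A * a⁻¹) = a * u * a⁻¹ := by rw [hu']; group
      _ = u := by rw [Subgroup.mem_center_iff.1 huc a, mul_inv_cancel_right]
  have hin : ∀ n ∈ comA, n < 3510 ∧ inO n = true := fun n hn => com_lt List.mem_cons_self hn
  have hext : ∀ n ∈ comA, ∃ h : n < 3510, ext T n = T ⟨n, h⟩ := fun n hn => ⟨(hin n hn).1, dif_pos _⟩
  have hcomm := com_commute hconj (List.mem_cons_self : comA ∈ [comA, comB, comK])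
  set k := val T comA
  have hk : k * k = u ^ 7 := by
    have := prod_sq huc (comA.map (ext T))
      (fun a ha => by
        obtain ⟨n, hn, rfl⟩ := List.mem_map.1 ha
        obtain ⟨hl, e⟩ := hext n hn
        rw [e]; exact hsq _ (hin n hn).2)
      (fun a ha b hb => by
        obtain ⟨m, hm', rfl⟩ := List.mem_map.1 ha
        obtain ⟨n, hn, rfl⟩ := List.mem_map.1 hb
        exact hcomm m hm' n hn)
    rw [List.length_map, show comA.length = 7 from rfl] at this
    exact this
  have hkker : k ∈ σ.ker := by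
    rw [MonoidHom.mem_ker, map_val hσ comA hin]
    have h := com_ok
    simp only [Bool.and_eq_true, beq_iff_eq] at h
    have hA1 := trQ_res (28, resA) List.mem_cons_self
    rw [← h.1.1.1, val_run isLift_trQ paths_ok _ _ (by rw [hA1]; exact Subgroup.one_mem _)]
    exact hA1
  set t := k * (u ^ 3)⁻¹
  have htk : t ∈ σ.ker := σ.ker.mul_mem hkker (σ.ker.inv_mem (σ.ker.pow_mem hu 3))
  have htc : ∀ x, x * t = t * x := Subgroup.mem_center_iff.1 (hker htk)
  have hcu : ∀ x : E, Commute (u ^ 3)⁻¹ x := fun x =>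
    (((show Commute u x from ((Subgroup.mem_center_iff.1 huc) x).symm)).pow_left 3).inv_left
  have ht2 : t * t = u := by
    calc t * t = k * ((u ^ 3)⁻¹ * k) * (u ^ 3)⁻¹ := by
          show k * (u ^ 3)⁻¹ * (k * (u ^ 3)⁻¹) = _
          group
      _ = (k * k) * ((u ^ 3)⁻¹ * (u ^ 3)⁻¹) := by rw [(hcu k).eq]; group
      _ = u := by rw [hk]; group
  have htval : k = t * u ^ 3 := (inv_mul_cancel_right k (u ^ 3)).symm
  clear_value t
  have hti : ∀ x, Commute t⁻¹ x := fun x => (show Commute t x from (htc x).symm).inv_left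
  refine ⟨fun p => T p * t⁻¹, ⟨fun p hp => ?_, fun a b ha hb => ?_⟩, fun p hp => ?_, ?_⟩
  · calc T p * t⁻¹ * (T p * t⁻¹) = T p * (t⁻¹ * T p) * t⁻¹ := by group
      _ = (T p * T p) * (t * t)⁻¹ := by rw [(hti (T p)).eq]; group
      _ = 1 := by rw [hsq p hp, ht2, mul_inv_cancel]
  · calc T (hm (tr a) b) * t⁻¹ = T a * T b * ((T a)⁻¹ * t⁻¹) := by rw [hconj a b ha hb, mul_assoc]
      _ = T a * T b * (t⁻¹ * (T a)⁻¹) := by rw [(hti _).eq]
      _ = T a * t⁻¹ * (T b * t⁻¹) * (T a * t⁻¹)⁻¹ := by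
        rw [mul_inv_rev, inv_inv]
        calc T a * T b * (t⁻¹ * (T a)⁻¹) = T a * (T b * t⁻¹) * (T a)⁻¹ := by group
          _ = T a * (t⁻¹ * (T b * t⁻¹) * t) * (T a)⁻¹ := by rw [(hti (T b * t⁻¹)).eq]; group
          _ = T a * t⁻¹ * (T b * t⁻¹) * (t * (T a)⁻¹) := by group
  · rw [map_mul, map_inv, hσ p hp, MonoidHom.mem_ker.1 htk, inv_one, mul_one]
  · have key : ∀ l : List ℕ, (∀ n ∈ l, ∃ h : n < 3510, ext T n = T ⟨n, h⟩) →
        val (fun p => T p * t⁻¹) l = val T l * (t⁻¹) ^ l.length := by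
      intro l hl
      induction l with
      | nil => simp [val]
      | cons a l ih =>
        obtain ⟨h, e⟩ := hl a List.mem_cons_self
        rw [val_cons, val_cons, ih fun n hn => hl n (List.mem_cons_of_mem _ hn),
          show ext (fun p => T p * t⁻¹) a = T ⟨a, h⟩ * t⁻¹ from dif_pos h, e, List.length_cons,
          pow_succ' t⁻¹]
        calc T ⟨a, h⟩ * t⁻¹ * (val T l * t⁻¹ ^ l.length)
            = T ⟨a, h⟩ * (t⁻¹ * val T l) * t⁻¹ ^ l.length := by group
          _ = T ⟨a, h⟩ * val T l * (t⁻¹ * t⁻¹ ^ l.length) := by rw [(hti (val T l)).eq]; group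
    rw [key comA hext, show comA.length = 7 from rfl]
    calc k * t⁻¹ ^ 7 = k * ((t * t) ^ 3)⁻¹ * t⁻¹ := by
          rw [← sq, ← pow_mul, inv_pow, mul_assoc, ← mul_inv_rev, ← pow_succ']
      _ = t * t⁻¹ := by rw [ht2, htval, mul_inv_cancel_right]
      _ = 1 := mul_inv_cancel t

theorem sq_com {T : Fin 3510 → E} (hT : IsLift6 T) {h : List ℕ} (hh : h ∈ [comA, comB, comK]) :
    val T h * val T h = 1 := by
  have h1 := prod_sq (Subgroup.one_mem (Subgroup.center E)) (h.map (ext T))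
    (fun a ha => by
      obtain ⟨n, hn, rfl⟩ := List.mem_map.1 ha
      exact ext_sq hT (com_lt hh hn).1 (com_lt hh hn).2)
    (fun a ha b hb => by
      obtain ⟨m, hm', rfl⟩ := List.mem_map.1 ha
      obtain ⟨n, hn, rfl⟩ := List.mem_map.1 hb
      exact com_commute hT.conj hh m hm' n hn)
  rw [one_pow] at h1
  exact h1

theorem res_in : ([resA, resH, resB, resE].all fun l => l.all fun n => Nat.blt n 3510 && inO n) = true := by
  decide +kernel

theorem res_mem_ker {T : Fin 3510 → E} (hσ : ∀ p : Fin 3510, inO (p : ℕ) = true → σ (T p) = trQ p) :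
    ∀ p ∈ [(28, resA), (30, resH), (31, resB), (32, resE)], val T p.2 ∈ σ.ker := by
  intro p hp
  have hl : p.2 ∈ [resA, resH, resB, resE] := List.mem_map_of_mem (f := Prod.snd) hp
  have h := List.all_eq_true.1 res_in p.2 hl
  rw [MonoidHom.mem_ker, map_val hσ p.2 fun n hn => by
    have h1 := List.all_eq_true.1 h n hn
    rw [Bool.and_eq_true, Nat.blt_eq] at h1
    exact h1]
  exact trQ_res p hp

theorem chain_ok : (e6OK ChainU62.base [6, 5, 1, 2, 3, 0] [6, 5, 1, 2, 0] [6, 5, 1, 2] &&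
    relsIn ChainS62.base [0, 1, 2, 3, 4, 5, 6] ChainU62.base &&
    swIn ChainS62.sw [0, 1, 2, 3, 4, 5, 6] [6, 5, 1, 2, 3, 0] &&
    Nat.beq ChainS62.P.k [0, 1, 2, 3, 4, 5, 6].length &&
    relsIn ChainU62.base [0, 1, 2, 3, 4, 5, 6, 7] ChainU62.base &&
    swIn ChainU62.sw [0, 1, 2, 3, 4, 5, 6, 7] [0, 1, 2, 3, 4, 5, 6] &&
    Nat.beq ChainU62.P.k [0, 1, 2, 3, 4, 5, 6, 7].length) = true := by
  decide +kernel

theorem cardLe_gens {G : Type} [Group G] {f : ℕ → G} (hinv : ∀ x, f x * f x = 1)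
    (hb : ∀ w ∈ ChainU62.base, wprod f w = 1) :
    CardLe (Subgroup.closure (f '' {x | x < 8})) 9196830720 := by
  have h := chain_ok
  simp only [Bool.and_eq_true] at h
  obtain ⟨⟨⟨⟨⟨⟨h6, r7⟩, s7⟩, k7⟩, r8⟩, s8⟩, k8⟩ := h
  have c6 := cardLe_e6 hinv hb h6
  have c7 := cardLe_step hinv hb r7 ChainS62.rots_ok s7 (by decide +kernel) ChainS62.cert_ok
    ChainS62.tab_ok c6 k7
  have c8 := cardLe_step hinv hb r8 ChainU62.rots_ok s8 (by decide +kernel) ChainU62.cert_ok
    ChainU62.tab_ok c7 k8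
  exact c8.mono (closure_le_pick (by decide +kernel))

/-- The kernel of a stem extension is generated by elements of orders dividing three, two and two. -/
theorem exists_ker_gen (hker : σ.ker ≤ Subgroup.center E) (hs : Function.Surjective σ)
    (hcomm : σ.ker ≤ commutator E) :
    ∃ H B K : σ.ker, H ^ 3 = 1 ∧ B ^ 2 = 1 ∧ K ^ 2 = 1 ∧ Subgroup.closure {H, B, K} = ⊤ := by
  obtain ⟨T, hT, hσ, hA1⟩ := exists_lift hker hs
  have hk := res_mem_ker hσ
  have hco := com_ok
  simp only [Bool.and_eq_true, beq_iff_eq] at hco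
  obtain ⟨⟨⟨eA, eB⟩, eH⟩, eK⟩ := hco
  have hAk := hk (28, resA) List.mem_cons_self
  have hHk := hk (30, resH) (List.mem_cons_of_mem _ List.mem_cons_self)
  have hBk := hk (31, resB) (List.mem_cons_of_mem _ (List.mem_cons_of_mem _ List.mem_cons_self))
  have hEk := hk (32, resE)
    (List.mem_cons_of_mem _ (List.mem_cons_of_mem _ (List.mem_cons_of_mem _ List.mem_cons_self)))
  have hAval : val T resA = 1 := by
    rw [← val_run hT paths_ok moveA resA (hker hAk), eA]; exact hA1
  have hBeq : val T comB = val T resB := by rw [← eB, val_run hT paths_ok _ _ (hker hBk)]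
  have hHH : val T (resH ++ resH) ∈ σ.ker := by rw [val_append]; exact mul_mem hHk hHk
  have hKeq : val T comK = val T resE * (val T resH * val T resH) := by
    rw [← eK, val_run hT paths_ok _ _ (hker (by rw [val_append]; exact mul_mem hEk hHH)), val_append,
      val_append]
  have hH3 : val T resH ^ 3 = 1 := by
    have e : val T (resH ++ resH ++ resH) = val T resH ^ 3 := by rw [val_append, val_append, pow_succ, pow_two]
    rw [← e, ← val_run hT paths_ok moveH3 _ (by rw [e]; exact Subgroup.pow_mem _ (hker hHk) 3), eH, val_nil]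
  set h := val T resH
  set b := val T resB
  set k := val T comK
  have hKk : k ∈ σ.ker := by rw [hKeq]; exact mul_mem hEk (mul_mem hHk hHk)
  have hb2 : b ^ 2 = 1 := by rw [sq, ← hBeq]; exact sq_com hT (by simp)
  have hk2 : k ^ 2 = 1 := by rw [sq]; exact sq_com hT (by simp)
  refine ⟨⟨h, hHk⟩, ⟨b, hBk⟩, ⟨k, hKk⟩, Subtype.ext hH3, Subtype.ext hb2, Subtype.ext hk2, ?_⟩
  set C : Subgroup E := Subgroup.closure {h, b, k}
  have hhC : h ∈ C := Subgroup.subset_closure (Set.mem_insert _ _)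
  have hbC : b ∈ C := Subgroup.subset_closure (Set.mem_insert_of_mem _ (Set.mem_insert _ _))
  have hkC : k ∈ C := Subgroup.subset_closure (Set.mem_insert_of_mem _ (Set.mem_insert_of_mem _ rfl))
  have hEC : val T resE ∈ C := by
    have e : val T resE = k * (h * h)⁻¹ := by rw [hKeq, mul_inv_cancel_right]
    rw [e]
    exact mul_mem hkC (inv_mem (mul_mem hhC hhC))
  have hCk : C ≤ σ.ker := by
    rw [Subgroup.closure_le]
    rintro x (rfl | rfl | rfl) <;> assumption
  have : C.Normal := ⟨fun n hn g => by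
    rw [Subgroup.mem_center_iff.1 (hker (hCk hn)) g, mul_inv_cancel_right]; exact hn⟩
  let q := QuotientGroup.mk' C
  let f : ℕ → E ⧸ C := fun x => if x < 8 then q (ext T (gl.getD x 0)) else 1
  have hinv : ∀ x, f x * f x = 1 := fun x => by
    by_cases hx : x < 8
    · obtain ⟨h1, h2, -⟩ := gl_spec hx
      simp only [f, if_pos hx]
      rw [← map_mul, ext_sq hT h1 h2, map_one]
    · simp [f, hx]
  have hbase : ∀ w ∈ ChainU62.base, wprod f w = 1 := by
    intro w hw
    have hl : (w.all fun x => Nat.blt x 8) = true := by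
      have h := List.all_eq_true.1 base_ok w hw
      rw [Bool.and_eq_true] at h
      exact h.1
    have e1 : wprod f w = q (val T (w.map fun x => gl.getD x 0)) := by
      rw [val_gl (fun x => ext T (gl.getD x 0)) (fun _ _ => rfl) w hl, map_wprod]
      refine congrArg List.prod (List.map_congr_left fun x hx => ?_)
      exact if_pos (Nat.blt_eq.mp (List.all_eq_true.1 hl x hx))
    rw [e1]
    have hin : ∀ n ∈ w.map (fun x => gl.getD x 0), n < 3510 ∧ inO n = true := by
      intro n hn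
      obtain ⟨x, hx, rfl⟩ := List.mem_map.1 hn
      obtain ⟨h1, h2, -⟩ := gl_spec (Nat.blt_eq.mp (List.all_eq_true.1 hl x hx))
      exact ⟨h1, h2⟩
    have hcen : val T (w.map fun x => gl.getD x 0) ∈ Subgroup.center E :=
      hker (by rw [MonoidHom.mem_ker, map_val hσ _ hin]; exact base_val hw)
    obtain ⟨i, hi, rfl⟩ := List.getElem_of_mem hw
    have hi' : i < moves.length := moves_len ▸ hi
    have hmem : (ChainU62.base[i], moves[i]) ∈ base.zip moves := by
      refine List.mem_iff_getElem.2 ⟨i, by rw [List.length_zip]; exact lt_min hi hi', ?_⟩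
      exact List.getElem_zip
    have h5 := List.all_eq_true.1 moves_ok _ hmem
    simp only [Bool.or_eq_true, beq_iff_eq] at h5
    rw [← val_run hT paths_ok moves[i] _ hcen]
    rcases h5 with (((h5 | h5) | h5) | h5) | h5 <;> refine (congrArg (fun l => q (val T l)) h5).trans ?_
    · exact map_one q
    · rw [hAval]; exact map_one q
    · exact (QuotientGroup.eq_one_iff _).2 hhC
    · exact (QuotientGroup.eq_one_iff _).2 hbC
    · exact (QuotientGroup.eq_one_iff _).2 hEC
  obtain ⟨hSfin, hScard⟩ := cardLe_gens hinv hbase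
  set S := Subgroup.closure (f '' {x | x < 8})
  let σ' : E ⧸ C →* PU := QuotientGroup.lift C σ fun x hx => hCk hx
  let ρ : S →* PU := σ'.comp S.subtype
  have hρ : Function.Surjective ρ := by
    intro y
    obtain ⟨g, rfl⟩ := U62.surjective y
    suffices hrange : θ g ∈ ρ.range by exact hrange
    have key : ∀ a (ha : a ∈ Fi22.H), θ ⟨a, ha⟩ ∈ ρ.range := by
      intro a ha
      refine (U62.induct (motive := fun a => a ∈ Fi22.H ∧ ∀ ha : a ∈ Fi22.H, θ ⟨a, ha⟩ ∈ ρ.range)
        (fun j hj => ⟨U62.hg_mem j hj, fun ha' => ?_⟩)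
        ⟨one_mem _, fun _ => by
          rw [show (⟨1, _⟩ : Fi22.H) = 1 from rfl, map_one]; exact one_mem _⟩
        (fun a b ha hb => ⟨mul_mem ha.1 hb.1, fun h' => ?_⟩) ha).2 ha
      · rw [show (⟨hg j, ha'⟩ : Fi22.H) = hgH j from Subtype.ext (U62.coe_hgH hj).symm]
        rcases Nat.eq_zero_or_pos j with rfl | hj1
        · rw [U62.θ_hgH_zero]; exact one_mem _
        obtain ⟨x, rfl⟩ : ∃ x, j = x + 1 := ⟨j - 1, by omega⟩
        have hx : x < 8 := by omega
        refine ⟨⟨f x, Subgroup.subset_closure ⟨x, hx, rfl⟩⟩, ?_⟩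
        obtain ⟨h1, h2, h3⟩ := gl_spec hx
        show σ' (f x) = _
        simp only [f, if_pos hx]
        show σ (ext T (gl.getD x 0)) = _
        rw [ext, dif_pos h1, hσ _ h2, trQ, h3]
      · rw [show (⟨a * b, h'⟩ : Fi22.H) = ⟨a, ha.1⟩ * ⟨b, hb.1⟩ from rfl, map_mul]
        exact mul_mem (ha.2 ha.1) (hb.2 hb.1)
    exact key g g.2
  have : Finite S := hSfin
  have hρi : Function.Injective ρ := (hρ.bijective_of_nat_card_le (by rw [U62.card_psu]; exact hScard)).1
  have hker' : σ'.ker ≤ Subgroup.center (E ⧸ C) := by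
    intro x hx
    obtain ⟨a, rfl⟩ := QuotientGroup.mk'_surjective C x
    refine Subgroup.mem_center_iff.2 fun y => ?_
    obtain ⟨c, rfl⟩ := QuotientGroup.mk'_surjective C y
    rw [← map_mul, ← map_mul, Subgroup.mem_center_iff.1 (hker (show a ∈ σ.ker from hx)) c]
  have hz : ∀ x : E ⧸ C, ∃ s ∈ S, ∃ c ∈ Subgroup.center (E ⧸ C), x = s * c := fun x => by
    obtain ⟨s, hs'⟩ := hρ (σ' x)
    refine ⟨s, s.2, (s : E ⧸ C)⁻¹ * x, hker' ?_, (mul_inv_cancel_left _ _).symm⟩
    rw [MonoidHom.mem_ker, map_mul, map_inv, show σ' (s : E ⧸ C) = σ' x from hs', inv_mul_cancel]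
  have hsub : commutator (E ⧸ C) ≤ S := by
    rw [commutator_def, Subgroup.commutator_le]
    intro a _ b' _
    obtain ⟨s, hsS, c, hc, rfl⟩ := hz a
    obtain ⟨t, htS, d, hd, rfl⟩ := hz b'
    have hc' := Subgroup.mem_center_iff.1 hc
    have hd' := Subgroup.mem_center_iff.1 hd
    rw [commutatorElement_def]
    have e : s * c * (t * d) * (s * c)⁻¹ * (t * d)⁻¹ = s * t * s⁻¹ * t⁻¹ := by
      calc s * c * (t * d) * (s * c)⁻¹ * (t * d)⁻¹
          = s * (c * (t * d * c⁻¹)) * s⁻¹ * (d⁻¹ * t⁻¹) := by group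
        _ = s * t * (d * s⁻¹) * d⁻¹ * t⁻¹ := by rw [← hc' (t * d * c⁻¹)]; group
        _ = s * t * (s⁻¹ * d) * d⁻¹ * t⁻¹ := by rw [hd' s⁻¹]
        _ = s * t * s⁻¹ * t⁻¹ := by group
    rw [e]
    exact mul_mem (mul_mem (mul_mem hsS htS) (inv_mem hsS)) (inv_mem htS)
  have hle : σ.ker ≤ C := by
    intro x hx
    have hxc : q x ∈ commutator (E ⧸ C) := by
      have := Subgroup.mem_map_of_mem q (hcomm hx)
      rw [commutator_def, Subgroup.map_commutator] at this
      rw [commutator_def]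
      exact Subgroup.commutator_mono le_top le_top this
    have h1 : ρ ⟨q x, hsub hxc⟩ = ρ 1 := by
      rw [map_one]; exact hx
    exact (QuotientGroup.eq_one_iff x).1 (congrArg Subtype.val (hρi h1))
  refine Subgroup.map_injective σ.ker.subtype_injective ?_
  rw [MonoidHom.map_closure, ← MonoidHom.range_eq_map, Subgroup.range_subtype, Set.image_insert_eq,
    Set.image_pair]
  exact le_antisymm hCk hle

end Ext

end Cfsg.Agent.FischerPresented.Mult6
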