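import Cfsg.Agent.Lib.FischerPresented.O73Group
import Cfsg.Agent.Lib.FischerPresented.U62Stab
import Cfsg.Agent.Lib.FischerPresented.Mult7Data

/-!
The presented PΩ₇(3) acting on the transpositions of Fi22: it is faithful, has an orbit of 351 transpositions,
and the stabiliser of one of them is generated by eight involutions.
-/

set_option autoImplicit false
set_option maxRecDepth 100000

namespace Cfsg.Agent.FischerPresented.Mult7

open Cfsg.Agent.CosetCert
open Cfsg.Agent.CosetData
open Cfsg.Agent.FischerPresented.Out22 (hm tr hom_word hom_mul_apply)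

local notation "FS" => Fi22B.setup

/-- The presented group. -/
abbrev G7 : Type := Setup.G O73.setup

theorem exists_incl : ∃ ψ : G7 →* Setup.G FS, ∀ x < 8, ψ (Setup.gen O73.setup x) = Setup.gen FS (x + 1) := by
  obtain ⟨ψ, hψ⟩ := O73.setup.exists_hom (pick (Setup.gen FS) [1, 2, 3, 4, 5, 6, 7, 8])
    (fun x => Setup.gen_invol FS _)
    (rels_of_relsIn (Setup.gen_invol FS) (Setup.base_one FS) (by decide +kernel))
  refine ⟨ψ, fun x hx => (hψ x hx).trans ?_⟩
  interval_cases x <;> rfl

/-- The inclusion in Fi22. -/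
noncomputable def incl : G7 →* Setup.G FS := exists_incl.choose

theorem incl_gen {x : ℕ} (hx : x < 8) : incl (Setup.gen O73.setup x) = Setup.gen FS (x + 1) :=
  exists_incl.choose_spec x hx

theorem incl_word : ∀ v : List ℕ, (v.all fun x => Nat.blt x 8) = true →
    incl (wprod (Setup.gen O73.setup) v) = wprod (Setup.gen FS) (v.map fun x => x + 1)
  | [], _ => map_one _
  | x :: v, h => by
    rw [List.all_cons, Bool.and_eq_true, Nat.blt_eq] at h
    rw [wprod_cons, map_mul, incl_word v h.2, List.map_cons, wprod_cons]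
    exact congrArg (· * _) (exists_incl.choose_spec x h.1)

/-- The action. -/
noncomputable def act : G7 →* Equiv.Perm (Fin 3510) := hm.comp incl

theorem act_mul_apply (g h : G7) (p : Fin 3510) : act (g * h) p = act g (act h p) := by
  rw [map_mul]; rfl

/-- Membership in the class. -/
def inK (c : ℕ) : Bool := Nat.testBit mask c

/-- The base transposition. -/
def p2 : Fin 3510 := ⟨2, by norm_num⟩

theorem closed_ok : allBelow (fun c => allBelow (fun x =>
    !(inK c) || inK (tact Fi22B.P [x + 1] c)) 8) 3510 = true := by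
  decide +kernel

theorem inK_act (g : G7) : ∀ c : Fin 3510, inK (c : ℕ) = true → inK (act g c : Fin 3510) = true := by
  have hg : g ∈ Subgroup.closure (Setup.gen O73.setup '' {x | x < O73.setup.P.k}) :=
    O73.setup.closure_gen ▸ Subgroup.mem_top g
  induction hg using Subgroup.closure_induction'' with
  | mem y hy =>
    obtain ⟨x, hx, rfl⟩ := hy
    intro c hc
    have hx8 : x < 8 := hx
    have h := allBelow_spec (allBelow_spec closed_ok c.2) hx8
    rw [hc, Bool.not_true, Bool.false_or] at h
    have e : act (Setup.gen O73.setup x) c = hm (wprod (Setup.gen FS) [x + 1]) c := by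
      show hm (incl _) c = _
      rw [incl_gen hx8, wprod_cons, wprod_nil, mul_one]
    rw [e, hom_word (by simp [Nat.blt_eq]; omega)]
    simpa using h
  | inv_mem y hy =>
    obtain ⟨x, hx, rfl⟩ := hy
    intro c hc
    have hx8 : x < 8 := hx
    rw [inv_eq_of_mul_eq_one_right (Setup.gen_invol O73.setup x)]
    have h := allBelow_spec (allBelow_spec closed_ok c.2) hx8
    rw [hc, Bool.not_true, Bool.false_or] at h
    have e : act (Setup.gen O73.setup x) c = hm (wprod (Setup.gen FS) [x + 1]) c := by
      show hm (incl _) c = _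
      rw [incl_gen hx8, wprod_cons, wprod_nil, mul_one]
    rw [e, hom_word (by simp [Nat.blt_eq]; omega)]
    simpa using h
  | one => intro c hc; rw [map_one]; exact hc
  | mul a b _ _ ha hb => intro c hc; rw [act_mul_apply]; exact ha _ (hb c hc)

/-- The chain. -/
def levels : List BaseLevel := [lev0, lev1, lev2, lev3]

theorem levels_words : (levels.all fun L => L.sw.all fun w => w.all fun x => Nat.blt x 9 && !(Nat.beq x 0)) = true := by
  decide +kernel

theorem chain_ok : (chainGood Fi22B.P 3510 [] levels && Nat.beq (chainSize levels) 4585351680 &&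
    chainGood Fi22B.P 3510 [2] (levels.drop 1) && Nat.beq (chainSize (levels.drop 1)) 13063680 &&
    chainGood Fi22B.P 3510 [] [lev0] && Nat.beq (chainSize [lev0]) 351) = true := by
  decide +kernel

theorem word_range {w : List ℕ} (hw : (w.all fun x => Nat.blt x 9 && !(Nat.beq x 0)) = true) :
    hm (wprod (Setup.gen FS) w) ∈ act.range := by
  have h : ∀ x ∈ w, x - 1 < 8 ∧ x - 1 + 1 = x := fun x hx => by
    have := List.all_eq_true.1 hw x hx
    rw [Bool.and_eq_true, Nat.blt_eq, Bool.not_eq_true'] at this
    have h0 : x ≠ 0 := fun e => by rw [e] at this; exact absurd this.2 (by decide)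
    omega
  refine ⟨wprod (Setup.gen O73.setup) (w.map fun x => x - 1), ?_⟩
  show hm (incl _) = _
  rw [incl_word _ (by
    rw [List.all_map, List.all_eq_true]
    exact fun x hx => Nat.blt_eq.mpr (h x hx).1), List.map_map]
  refine congrArg (fun l => hm (wprod (Setup.gen FS) l)) ?_
  conv_rhs => rw [← List.map_id w]
  exact List.map_congr_left fun x hx => (h x hx).2

theorem range_words : ∀ L ∈ levels, ∀ w ∈ L.sw, hm (wprod (Setup.gen FS) w.reverse) ∈ act.range :=
  fun L hL w hw => word_range (by
    rw [List.all_reverse]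
    exact List.all_eq_true.1 (List.all_eq_true.1 levels_words L hL) w hw)

theorem act_injective : Function.Injective act := by
  have := O73.order_facts.1
  have h := chain_ok
  simp only [Bool.and_eq_true, Nat.beq_eq] at h
  have h1 := U62.chain_le_sub act.range levels [] h.1.1.1.1.1 range_words
  rw [h.1.1.1.1.2] at h1
  have h2 : Nat.card ↥(act.range ⊓ fixPts 3510 []) ≤ Nat.card act.range :=
    Nat.card_le_card_of_injective _ (Subgroup.inclusion_injective inf_le_left)
  have h4 : 1 ≤ Nat.card ↥(act.range ⊓ fixPts 3510 (chainPts [] levels)) :=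
    Nat.one_le_iff_ne_zero.2 Nat.card_pos.ne'
  have h5 : Nat.card G7 ≤ Nat.card act.range := by
    rw [O73.order_facts.2.1]
    exact ((Nat.le_mul_of_pos_right _ h4).trans h1).trans h2
  have := (act.rangeRestrict_surjective.bijective_of_nat_card_le h5).1
  exact fun a b hab => this (Subtype.ext hab)

theorem incl_injective : Function.Injective incl := fun _ _ h => act_injective (congrArg hm h)

theorem word_one {w : List ℕ} (hl : (w.all fun x => Nat.blt x 8) = true)
    (h : wordFixPts Fi22B.P 3510 Fi22.pts (w.map fun x => x + 1) = true) :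
    wprod (Setup.gen O73.setup) w = 1 :=
  incl_injective (by rw [incl_word w hl, map_one, Fi22.word_one h])

theorem reach_ok : ((reach Fi22B.P lev0.sw lev0.tree (insBit 0 2)).isSome && inK 2 &&
    Nat.beq (((List.range 3510).filter inK).length) (lev0.tree.length + 1)) = true := by
  decide +kernel

theorem inK_p2 : inK (p2 : ℕ) = true := by
  have h := reach_ok
  simp only [Bool.and_eq_true] at h
  exact h.1.2

theorem exists_move {c : Fin 3510} (hc : inK (c : ℕ) = true) : ∃ g : G7, act g p2 = c := by
  have h := reach_ok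
  rw [Bool.and_eq_true, Bool.and_eq_true, Nat.beq_eq] at h
  obtain ⟨m', hm'⟩ := Option.isSome_iff_exists.1 h.1.1
  obtain ⟨o, h1, h2, h3⟩ := reach_spec (P := Fi22B.P) (sw := lev0.sw)
    (R := fun t => ∃ g : G7, (act g p2 : ℕ) = t)
    (fun t ⟨g, hgt⟩ w hw => by
      obtain ⟨k, hk⟩ := range_words lev0 List.mem_cons_self w hw
      have hl : (w.reverse.all fun x => Nat.blt x 9) = true := by
        rw [List.all_reverse, List.all_eq_true]
        intro x hx
        have := List.all_eq_true.1 (List.all_eq_true.1 (List.all_eq_true.1 levels_words lev0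
          List.mem_cons_self) w hw) x hx
        rw [Bool.and_eq_true] at this
        exact this.1
      refine ⟨k * g, ?_⟩
      rw [act_mul_apply, hk, hom_word hl, List.reverse_reverse, hgt])
    lev0.tree _ _ (fun t ht => by
      rcases bit_insBit ht with h | h
      · exact ⟨1, by rw [map_one, h]; rfl⟩
      · rw [bit_zero] at h; exact Bool.noConfusion h) hm' [2] (List.nodup_singleton _)
    (fun t => ⟨fun ht => by
        rcases bit_insBit ht with h | h
        · exact h ▸ List.mem_singleton_self _
        · rw [bit_zero] at h; exact Bool.noConfusion h,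
      fun ht => by rw [List.mem_singleton.1 ht]; exact bit_insBit_self _ _⟩)
  rw [List.length_singleton] at h3
  set F := (List.range 3510).filter inK
  have hsub : o ⊆ F := fun t ht => by
    obtain ⟨g, hgt⟩ := h2 t ht
    rw [← hgt]
    exact List.mem_filter.2 ⟨List.mem_range.2 (act g p2).2, inK_act g p2 inK_p2⟩
  have hperm : o.Perm F := (h1.subperm hsub).perm_of_length_le (by omega)
  obtain ⟨g, hgt⟩ := h2 c (hperm.mem_iff.2 (List.mem_filter.2 ⟨List.mem_range.2 c.2, hc⟩))
  exact ⟨g, Fin.ext hgt⟩

/-- A generator of the stabiliser. -/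
noncomputable def sg (i : ℕ) : G7 := wprod (Setup.gen O73.setup) (sgW.getD i [])

/-- The stabiliser. -/
noncomputable def Stab7 : Subgroup G7 := Subgroup.closure (sg '' {i | i < 8})

theorem sgW_ok : ((List.range 8).all fun i => ((sgW.getD i []).all fun x => Nat.blt x 8) &&
    Nat.beq (tact Fi22B.P ((sgW.getD i []).map fun x => x + 1).reverse 2) 2 &&
    wordFixPts Fi22B.P 3510 Fi22.pts ((sgW.getD i [] ++ sgW.getD i []).map fun x => x + 1)) = true := by
  decide +kernel

theorem sg_spec {i : ℕ} (hi : i < 8) : act (sg i) p2 = p2 ∧ sg i * sg i = 1 := by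
  have h := List.all_eq_true.1 sgW_ok i (List.mem_range.2 hi)
  simp only [Bool.and_eq_true, Nat.beq_eq] at h
  refine ⟨Fin.ext ?_, ?_⟩
  · show (hm (incl (sg i)) p2 : ℕ) = 2
    rw [sg, incl_word _ h.1.1, hom_word]
    · exact h.1.2
    · rw [List.all_map, List.all_eq_true]
      intro x hx
      have := Nat.blt_eq.mp (List.all_eq_true.1 h.1.1 x hx)
      exact Nat.blt_eq.mpr (show x + 1 < 9 by omega)
  · rw [sg, ← wprod_append]
    exact word_one (by rw [List.all_append, h.1.1]; rfl) h.2

theorem Stab7_fix : ∀ g ∈ Stab7, act g p2 = p2 := by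
  intro g hg
  induction hg using Subgroup.closure_induction with
  | mem x hx => obtain ⟨i, hi, rfl⟩ := hx; exact (sg_spec hi).1
  | one => rw [map_one]; rfl
  | mul a b _ _ ha hb => rw [act_mul_apply, hb, ha]
  | inv a _ ha =>
    conv_lhs => rw [← ha]
    rw [← act_mul_apply, inv_mul_cancel, map_one]
    rfl

theorem low_words : ((levels.drop 1).all fun L => L.sw.all fun w =>
    (List.range 8).any fun i => wordEq w ((sgW.getD i []).map fun x => x + 1)) = true := by
  decide +kernel

theorem mem_Stab7 {g : G7} (h2 : act g p2 = p2) : g ∈ Stab7 := by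
  have := O73.order_facts.1
  set R := Stab7.map act with hR
  set S := act.range ⊓ fixPts 3510 [2] with hS
  have htwo : ∀ i : Fin 3510, (i : ℕ) ∈ [2] → i = p2 := fun i h => Fin.ext (List.mem_singleton.1 h)
  have hRS : R ≤ S := by
    rintro _ ⟨x, hx, rfl⟩
    exact ⟨⟨x, rfl⟩, fun i hi => by rw [htwo i hi]; exact Stab7_fix x hx⟩
  have h := chain_ok
  simp only [Bool.and_eq_true, Nat.beq_eq] at h
  have h1 := U62.chain_le_sub act.range [lev0] [] h.1.2 fun L hL => range_words L
    (by rw [List.mem_singleton.1 hL]; exact List.mem_cons_self)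
  rw [h.2] at h1
  change 351 * Nat.card S ≤ _ at h1
  have hup : Nat.card ↥(act.range ⊓ fixPts 3510 []) ≤ 4585351680 := by
    rw [← O73.order_facts.2.1]
    exact (Nat.card_le_card_of_injective _ (Subgroup.inclusion_injective inf_le_left)).trans
      (Nat.card_le_card_of_surjective _ act.rangeRestrict_surjective)
  have h2' := U62.chain_le_sub R (levels.drop 1) [2] h.1.1.1.2 fun L hL w hw => by
    obtain ⟨i, hi, he⟩ := List.any_eq_true.1
      (List.all_eq_true.1 (List.all_eq_true.1 low_words L hL) w hw)
    rw [List.mem_range] at hi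
    have hl : ((sgW.getD i []).all fun x => Nat.blt x 8) = true := by
      have h' := List.all_eq_true.1 sgW_ok i (List.mem_range.2 hi)
      simp only [Bool.and_eq_true] at h'
      exact h'.1.1
    rw [eq_of_wordEq he, wprod_reverse (Setup.gen_invol FS), ← incl_word _ hl, ← map_inv]
    exact Subgroup.mem_map_of_mem act (inv_mem (Subgroup.subset_closure ⟨i, hi, rfl⟩))
  rw [h.1.1.2] at h2'
  have h4 : 1 ≤ Nat.card ↥(R ⊓ fixPts 3510 (chainPts [2] (levels.drop 1))) :=
    Nat.one_le_iff_ne_zero.2 Nat.card_pos.ne'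
  have h5 : Nat.card ↥(R ⊓ fixPts 3510 [2]) ≤ Nat.card R :=
    Nat.card_le_card_of_injective _ (Subgroup.inclusion_injective inf_le_left)
  have h6 : 13063680 ≤ Nat.card R := ((Nat.le_mul_of_pos_right _ h4).trans h2').trans h5
  have hle : Nat.card S ≤ Nat.card R := by omega
  have e : R = S := Subgroup.eq_of_le_of_card_ge hRS hle
  have hgS : act g ∈ S := ⟨⟨g, rfl⟩, fun i hi => by rw [htwo i hi]; exact h2⟩
  rw [← e] at hgS
  obtain ⟨x, hx, hxg⟩ := hgS
  exact act_injective hxg ▸ hx

theorem braidS_ok : (braidS.all fun p => Nat.blt p.1 8 && Nat.blt p.2 8 &&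
    wordFixPts Fi22B.P 3510 Fi22.pts ((rep 3 (sgW.getD p.1 [] ++ sgW.getD p.2 [])).map fun x => x + 1)) = true := by
  decide +kernel

/-- A homomorphism to a commutative group killing the first two generators is trivial. -/
theorem stab_trivial {Q : Type} [Group Q] (f : Stab7 →* Q) (hc : ∀ q q' : Q, q' * q = q * q')
    (h0 : ∀ h, f ⟨sg 0, h⟩ = 1) (h1 : ∀ h, f ⟨sg 1, h⟩ = 1) : ∀ h, f h = 1 := by
  let : CommGroup Q := { (inferInstance : Group Q) with mul_comm := fun a b => (hc a b).symm }
  have hmem : ∀ {i : ℕ}, i < 8 → sg i ∈ Stab7 := fun hi => Subgroup.subset_closure ⟨_, hi, rfl⟩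
  let a : ℕ → Q := fun i => if h : i < 8 then f ⟨sg i, hmem h⟩ else 1
  have ha : ∀ {i : ℕ} (hi : i < 8), a i = f ⟨sg i, hmem hi⟩ := fun hi => dif_pos hi
  have hsq : ∀ i, a i * a i = 1 := fun i => by
    by_cases hi : i < 8
    · rw [ha hi, ← map_mul, show (⟨sg i, hmem hi⟩ : Stab7) * ⟨sg i, hmem hi⟩ = 1 from
        Subtype.ext (sg_spec hi).2, map_one]
    · simp [a, hi]
  have heq : ∀ p ∈ braidS, a p.1 = a p.2 := by
    intro p hp
    have h := List.all_eq_true.1 braidS_ok p hp
    simp only [Bool.and_eq_true, Nat.blt_eq] at h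
    obtain ⟨⟨hi, hj⟩, hw⟩ := h
    have hl : ∀ {i : ℕ}, i < 8 → ((sgW.getD i []).all fun x => Nat.blt x 8) = true := fun hi => by
      have h' := List.all_eq_true.1 sgW_ok _ (List.mem_range.2 hi)
      simp only [Bool.and_eq_true] at h'
      exact h'.1.1
    have e1 : (⟨sg p.1, hmem hi⟩ * ⟨sg p.2, hmem hj⟩ : Stab7) ^ 3 = 1 := Subtype.ext (by
      rw [Subgroup.coe_pow, Subgroup.coe_mul, Subgroup.coe_one]
      show (sg p.1 * sg p.2) ^ 3 = 1
      rw [sg, sg, ← wprod_append, ← wprod_rep]
      exact word_one (by simp only [rep, List.all_append, hl hi, hl hj, List.all_nil, Bool.and_self]) hw)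
    have e2 := congrArg f e1
    have h3 : ∀ x : Q, x * x = 1 → x ^ 3 = x := fun x hx => by rw [pow_succ, sq, hx, one_mul]
    rw [map_pow, map_mul, map_one, ← ha hi, ← ha hj, mul_pow, h3 _ (hsq _), h3 _ (hsq _)] at e2
    exact (eq_inv_of_mul_eq_one_left e2).trans (inv_eq_of_mul_eq_one_right (hsq _))
  have q13 := heq (1, 3) (by decide)
  have q14 := heq (1, 4) (by decide)
  have q15 := heq (1, 5) (by decide)
  have q16 := heq (1, 6) (by decide)
  have q23 := heq (2, 3) (by decide)
  have q37 := heq (3, 7) (by decide)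
  simp only at q13 q14 q15 q16 q23 q37
  have hall : ∀ i, 1 ≤ i → i < 8 → a i = a 1 := by
    intro i h1 h8
    interval_cases i <;> simp [← q13, ← q14, ← q15, ← q16, q23, ← q37]
  rintro ⟨g, hg⟩
  induction hg using Subgroup.closure_induction with
  | mem x hx =>
    obtain ⟨i, hi, rfl⟩ := hx
    rcases Nat.eq_zero_or_pos i with rfl | h
    · exact h0 _
    · exact (ha hi).symm.trans ((hall i h hi).trans ((ha (by norm_num)).trans (h1 _)))
  | one => exact map_one f
  | mul x y hx hy ihx ihy =>
    rw [show (⟨x * y, _⟩ : Stab7) = ⟨x, hx⟩ * ⟨y, hy⟩ from rfl, map_mul, ihx, ihy, one_mul]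
  | inv x hx ih => rw [show (⟨x⁻¹, _⟩ : Stab7) = ⟨x, hx⟩⁻¹ from rfl, map_inv, ih, inv_one]

end Cfsg.Agent.FischerPresented.Mult7
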