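import Cfsg.Agent.Lib.FischerPresented.Mult22Basic

/-!
Moves on sequences of transpositions from a set of Fi22 transpositions that keep the product in every group
where involutions indexed by that set conjugate one another as the transpositions do.
-/

set_option autoImplicit false
set_option maxRecDepth 100000

namespace Cfsg.Agent.FischerPresented.MultGuard

open Cfsg.Agent.CosetCert
open Cfsg.Agent.CosetData
open Cfsg.Agent.FischerPresented.Out22 (hm tr gpt)
open Cfsg.Agent.FischerPresented.Mult22 (Move cAct ext val pathOK cAct_eq val_append val_cons val_nil ext_val)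

variable (I : ℕ → Bool)

/-- Membership of a number in the set. -/
def mem (a : ℕ) : Bool := Nat.blt a 3510 && I a

/-- Exchanging at the head: the first passes to the right. -/
noncomputable def left2 (e : ℕ × List ℕ) : List ℕ → List ℕ
  | a :: b :: l => if Nat.beq a e.1 && mem I b then cAct e.2 b :: a :: l else a :: b :: l
  | l => l

/-- Exchanging at the head: the second passes to the left. -/
noncomputable def right2 (e : ℕ × List ℕ) : List ℕ → List ℕ
  | a :: b :: l => if Nat.beq b e.1 && mem I a then b :: cAct e.2 a :: l else a :: b :: l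
  | l => l

/-- Cancelling a pair at the head. -/
def cancelAt : List ℕ → List ℕ
  | a :: b :: l => if Nat.beq a b && mem I a then l else a :: b :: l
  | l => l

/-- One move, with a table of paths. -/
noncomputable def applyMove (T : List (ℕ × List ℕ)) : Move → List ℕ → List ℕ
  | .rot k, s => s.drop k ++ s.take k
  | .left i j, s => match T[j]? with
    | some e => s.take i ++ left2 I e (s.drop i)
    | none => s
  | .right i j, s => match T[j]? with
    | some e => s.take i ++ right2 I e (s.drop i)
    | none => s
  | .cancel i, s => s.take i ++ cancelAt I (s.drop i)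
  | .ins i p, s => if mem I p then s.take i ++ [p, p] ++ s.drop i else s

/-- A list of moves. -/
noncomputable def run (T : List (ℕ × List ℕ)) (ms : List Move) (s : List ℕ) : List ℕ :=
  ms.foldl (fun t m => applyMove I T m t) s

/-- A path that names a member of the set. -/
noncomputable def pathOn (e : ℕ × List ℕ) : Bool := pathOK e && I e.1

/-- Involutions indexed by the set, conjugating one another as the transpositions do. -/
structure IsLiftOn {Q : Type} [Group Q] (T : Fin 3510 → Q) : Prop where
  sq : ∀ p : Fin 3510, I (p : ℕ) = true → T p * T p = 1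
  conj : ∀ a b : Fin 3510, I (a : ℕ) = true → I (b : ℕ) = true →
    T (hm (tr a) b) = T a * T b * (T a)⁻¹

variable {I} {Q : Type} [Group Q]

theorem mem_iff {a : ℕ} : mem I a = true ↔ a < 3510 ∧ I a = true := by
  rw [mem, Bool.and_eq_true, Nat.blt_eq]

theorem ext_sq {T : Fin 3510 → Q} (hT : IsLiftOn I T) {n : ℕ} (hn : mem I n = true) :
    ext T n * ext T n = 1 := by
  rw [mem_iff] at hn
  rw [ext, dif_pos hn.1]
  exact hT.sq ⟨n, hn.1⟩ hn.2

theorem path_mem {e : ℕ × List ℕ} (he : pathOn I e = true) : mem I e.1 = true := by
  simp only [pathOn, pathOK, Bool.and_eq_true, Nat.blt_eq] at he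
  exact mem_iff.2 ⟨he.1.2, he.2⟩

theorem conj_ext {T : Fin 3510 → Q} (hT : IsLiftOn I T) {e : ℕ × List ℕ} (he : pathOn I e = true) {b : ℕ}
    (hb : mem I b = true) : ext T (cAct e.2 b) = ext T e.1 * ext T b * (ext T e.1)⁻¹ := by
  rw [mem_iff] at hb
  rw [pathOn, Bool.and_eq_true] at he
  obtain ⟨h, hc⟩ := cAct_eq he.1 hb.1
  rw [← hc, ext_val, hT.conj _ _ he.2 hb.2, ← ext_val T ⟨e.1, h⟩, ← ext_val T ⟨b, hb.1⟩]

theorem val_left2 {T : Fin 3510 → Q} (hT : IsLiftOn I T) {e : ℕ × List ℕ} (he : pathOn I e = true) :
    ∀ l, val T (left2 I e l) = val T l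
  | [] => rfl
  | [_] => rfl
  | a :: b :: l => by
    rw [left2]
    split_ifs with h
    · rw [Bool.and_eq_true, Nat.beq_eq] at h
      rw [val_cons, val_cons, val_cons, val_cons, conj_ext hT he h.2, h.1]
      group
    · rfl

theorem val_right2 {T : Fin 3510 → Q} (hT : IsLiftOn I T) {e : ℕ × List ℕ} (he : pathOn I e = true) :
    ∀ l, val T (right2 I e l) = val T l
  | [] => rfl
  | [_] => rfl
  | a :: b :: l => by
    rw [right2]
    split_ifs with h
    · rw [Bool.and_eq_true, Nat.beq_eq] at h
      have h1 := ext_sq hT (path_mem he)
      rw [val_cons, val_cons, val_cons, val_cons, conj_ext hT he h.2, h.1, inv_eq_of_mul_eq_one_right h1]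
      simp only [← mul_assoc, h1, one_mul]
    · rfl

theorem val_cancelAt {T : Fin 3510 → Q} (hT : IsLiftOn I T) : ∀ l, val T (cancelAt I l) = val T l
  | [] => rfl
  | [_] => rfl
  | a :: b :: l => by
    rw [cancelAt]
    split_ifs with h
    · rw [Bool.and_eq_true, Nat.beq_eq] at h
      rw [val_cons, val_cons, ← h.1, ← mul_assoc, ext_sq hT h.2, one_mul]
    · rfl

theorem val_applyMove {T : Fin 3510 → Q} (hT : IsLiftOn I T) {P : List (ℕ × List ℕ)}
    (hP : ∀ e ∈ P, pathOn I e = true) {s : List ℕ}
    (hs : val T s ∈ Subgroup.center Q) : ∀ m, val T (applyMove I P m s) = val T s := by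
  intro m
  cases m with
  | rot k =>
    have h := Subgroup.mem_center_iff.1 hs (val T (s.take k))
    rw [applyMove, val_append]
    have e : val T s = val T (s.take k) * val T (s.drop k) := by rw [← val_append, List.take_append_drop]
    rw [e] at h ⊢
    calc val T (s.drop k) * val T (s.take k)
        = (val T (s.take k))⁻¹ * (val T (s.take k) * val T (s.drop k) * val T (s.take k)) := by group
      _ = val T (s.take k) * val T (s.drop k) := by rw [← h]; group
  | left i j =>
    cases h : P[j]? with
    | none => simp [applyMove, h]
    | some e =>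
      simp only [applyMove, h]
      rw [val_append, val_left2 hT (hP e (List.mem_of_getElem? h)), ← val_append, List.take_append_drop]
  | right i j =>
    cases h : P[j]? with
    | none => simp [applyMove, h]
    | some e =>
      simp only [applyMove, h]
      rw [val_append, val_right2 hT (hP e (List.mem_of_getElem? h)), ← val_append, List.take_append_drop]
  | cancel i => rw [applyMove, val_append, val_cancelAt hT, ← val_append, List.take_append_drop]
  | ins i p =>
    rw [applyMove]
    split_ifs with h
    · rw [val_append, val_append, val_cons, val_cons, val_nil, mul_one, ext_sq hT h, mul_one,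
        ← val_append, List.take_append_drop]
    · rfl

theorem val_run {T : Fin 3510 → Q} (hT : IsLiftOn I T) {P : List (ℕ × List ℕ)}
    (hP : ∀ e ∈ P, pathOn I e = true) :
    ∀ (ms : List Move) (s : List ℕ), val T s ∈ Subgroup.center Q → val T (run I P ms s) = val T s
  | [], _, _ => rfl
  | m :: ms, s, hs => by
    have h := val_applyMove hT hP hs m
    show val T (run I P ms (applyMove I P m s)) = val T s
    rw [val_run hT hP ms _ (h ▸ hs), h]

end Cfsg.Agent.FischerPresented.MultGuard
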