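import Cfsg.Agent.Lib.FischerPresented.Mult22
import Cfsg.Agent.Lib.FischerPresented.MultGuard
import Cfsg.Agent.Lib.FischerPresented.Mult7Group

/-!
In a central extension of PΩ₇(3) the lifts of two commuting transpositions commute up to one sign; modulo
that sign the transpositions lift to a class and every relator reduces to one residue of order three.
-/

set_option autoImplicit false
set_option maxRecDepth 100000

namespace Cfsg.Agent.FischerPresented.Mult7

open Cfsg.Agent.CosetCert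
open Cfsg.Agent.CosetData
open Cfsg.Agent.FischerPresented.Out22 (hm tr tr_hom tr_gpt gpt fix_iff)
open Cfsg.Agent.FischerPresented.Mult22 (Move cAct ext val cAct_eq val_append val_cons val_nil prod_sq)
open Cfsg.Agent.FischerPresented.MultGuard (IsLiftOn run pathOn val_run ext_sq mem_iff)

local notation "FS" => Fi22B.setup
local notation "s0" => Setup.gen O73.setup 0

theorem incl_s0 : incl s0 = tr p2 := by
  rw [incl_gen (by norm_num)]
  obtain ⟨h, e⟩ := tr_gpt (show 1 < 9 by norm_num)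
  rw [← e]
  exact congrArg tr (Fin.ext (by show gpt 1 = 2; decide +kernel))

open Classical in
/-- A transposition of the orthogonal group. -/
noncomputable def trG (c : Fin 3510) : G7 :=
  if hc : inK (c : ℕ) = true then (exists_move hc).choose * s0 * (exists_move hc).choose⁻¹ else 1

theorem incl_trG {c : Fin 3510} (hc : inK (c : ℕ) = true) : incl (trG c) = tr c := by
  rw [trG, dif_pos hc, map_mul, map_mul, map_inv, incl_s0, ← tr_hom]
  exact congrArg tr (exists_move hc).choose_spec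

theorem trG_act {c : Fin 3510} (hc : inK (c : ℕ) = true) (g : G7) : trG (act g c) = g * trG c * g⁻¹ := by
  refine incl_injective ?_
  rw [incl_trG (inK_act g c hc), map_mul, map_mul, map_inv, incl_trG hc, ← tr_hom]
  rfl

theorem trG_p2 : trG p2 = s0 := incl_injective (by rw [incl_trG inK_p2, incl_s0])

theorem act_trG {a : Fin 3510} (ha : inK (a : ℕ) = true) : act (trG a) = hm (tr a) := by
  rw [← incl_trG ha]; rfl

theorem isLift_trG : IsLiftOn inK trG where
  sq p hp := incl_injective (by rw [map_mul, incl_trG hp, map_one]; exact Mult22.isLift_tr.sq p)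
  conj a b ha hb := by rw [← act_trG ha, trG_act hb]

theorem paths_ok : ∀ e ∈ paths, pathOn inK e = true := by
  have h : (paths.all (pathOn inK)) = true := by decide +kernel
  exact List.all_eq_true.1 h

theorem gl_ok : allBelow (fun x => Nat.beq (gl.getD x 0) (gpt (x + 1)) && inK (gl.getD x 0)) 8 = true := by
  decide +kernel

theorem gl_spec {x : ℕ} (hx : x < 8) :
    ∃ h : gl.getD x 0 < 3510, inK (gl.getD x 0) = true ∧ trG ⟨_, h⟩ = Setup.gen O73.setup x := by
  have h := allBelow_spec gl_ok hx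
  rw [Bool.and_eq_true, Nat.beq_eq] at h
  obtain ⟨hlt, e⟩ := tr_gpt (show x + 1 < 9 by omega)
  have hlt' : gl.getD x 0 < 3510 := by rw [h.1]; exact hlt
  refine ⟨hlt', h.2, incl_injective ?_⟩
  rw [incl_trG (c := ⟨_, hlt'⟩) h.2, incl_gen hx, ← e]
  exact congrArg tr (Fin.ext h.1)

theorem base_lt : (ChainO73.base.all fun w => w.all fun x => Nat.blt x 8) = true := by decide +kernel

theorem base_letters {w : List ℕ} (hw : w ∈ ChainO73.base) : ∀ x ∈ w, x < 8 := fun x hx =>
  Nat.blt_eq.mp (List.all_eq_true.1 (List.all_eq_true.1 base_lt w hw) x hx)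

theorem val_gl {E : Type} [Group E] {T : Fin 3510 → E} (f : ℕ → E)
    (hf : ∀ x, x < 8 → ext T (gl.getD x 0) = f x) :
    ∀ w : List ℕ, (∀ x ∈ w, x < 8) → val T (w.map fun x => gl.getD x 0) = wprod f w
  | [], _ => rfl
  | x :: w, h => by
    rw [List.map_cons, val_cons, wprod_cons, hf x (h x List.mem_cons_self),
      val_gl f hf w fun y hy => h y (List.mem_cons_of_mem _ hy)]

theorem base_val {w : List ℕ} (hw : w ∈ ChainO73.base) : val trG (w.map fun x => gl.getD x 0) = 1 := by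
  rw [val_gl (fun x => Setup.gen O73.setup x) (fun x hx => by
    obtain ⟨h, -, e⟩ := gl_spec hx
    rw [ext, dif_pos h, e]) w (base_letters hw)]
  exact Setup.base_one O73.setup w hw

theorem moves_len : moves.length = ChainO73.base.length := by decide +kernel

theorem moves_ok : ((ChainO73.base.zip moves).all fun e =>
    let r := run inK paths e.2 (e.1.map fun x => gl.getD x 0)
    (r == []) || (r == resid) || (r == com)) = true := by
  decide +kernel

theorem res_ok : ([(28, resid), (29, com)].all fun p : ℕ × List ℕ => Nat.blt p.1 ChainO73.base.length &&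
    (run inK paths (moves.getD p.1 []) ((ChainO73.base.getD p.1 []).map fun x => gl.getD x 0) == p.2) &&
    p.2.all fun n => MultGuard.mem inK n) = true := by
  decide +kernel

theorem res_spec : ∀ p ∈ [(28, resid), (29, com)],
    val trG p.2 = 1 ∧ ∀ n ∈ p.2, n < 3510 ∧ inK n = true := by
  intro p hp
  have h := List.all_eq_true.1 res_ok p hp
  rw [Bool.and_eq_true, Bool.and_eq_true, Nat.blt_eq, beq_iff_eq] at h
  have hw : ChainO73.base.getD p.1 [] ∈ ChainO73.base := by
    rw [List.getD_eq_getElem _ _ h.1.1]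
    exact List.getElem_mem _
  refine ⟨?_, fun n hn => mem_iff.1 (List.all_eq_true.1 h.2 n hn)⟩
  rw [← h.1.2, val_run isLift_trG paths_ok _ _ (by rw [base_val hw]; exact Subgroup.one_mem _), base_val hw]

theorem cube_ok : (run inK paths cube (resid ++ resid ++ resid) == []) = true := by decide +kernel

theorem com_comm : (com.all fun a => com.all fun b =>
    (paths.any fun e => Nat.beq e.1 a && Nat.beq (cAct e.2 b) b) || Nat.beq a b) = true := by
  decide +kernel

theorem com_mem {a : ℕ} (ha : a ∈ com) : a < 3510 ∧ inK a = true :=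
  (res_spec (29, com) (List.mem_cons_of_mem _ List.mem_cons_self)).2 a ha

section Ext

variable {E : Type} [Group E] {σ : E →* G7}

theorem map_val {T : Fin 3510 → E} (hσ : ∀ p : Fin 3510, inK (p : ℕ) = true → σ (T p) = trG p)
    (l : List ℕ) (hl : ∀ n ∈ l, n < 3510 ∧ inK n = true) : σ (val T l) = val trG l := by
  show σ (l.map (ext T)).prod = (l.map (ext trG)).prod
  rw [map_list_prod, List.map_map]
  refine congrArg List.prod (List.map_congr_left fun n hn => ?_)
  show σ (ext T n) = ext trG n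
  rw [ext, ext, dif_pos (hl n hn).1, dif_pos (hl n hn).1]
  exact hσ _ (hl n hn).2

theorem commute_s0 {k : G7} (hk : act k p2 = p2) : k * s0 = s0 * k := by
  refine incl_injective ?_
  rw [map_mul, map_mul, incl_s0]
  exact ((fix_iff _ _).1 hk).eq

theorem lift_commute (hker : σ.ker ≤ Subgroup.center E) (hs : Function.Surjective σ) {A B : E}
    (hA : σ A = s0) (hB : σ B = sg 1) (hBA : Commute B A) {e : E} (he : σ e ∈ Stab7) : Commute e A := by
  have hcen : ∀ g : G7, g ∈ Stab7 → ∀ a, σ a = g → a * A * a⁻¹ * A⁻¹ ∈ σ.ker := by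
    intro g hg a ha
    rw [MonoidHom.mem_ker, map_mul, map_mul, map_mul, map_inv, map_inv, ha, hA,
      commute_s0 (Stab7_fix g hg)]
    group
  have hind : ∀ a b : E, σ a = σ b → a * A * a⁻¹ = b * A * b⁻¹ := by
    intro a b h
    have hk : b⁻¹ * a ∈ σ.ker := by rw [MonoidHom.mem_ker, map_mul, map_inv, h, inv_mul_cancel]
    have hc := Subgroup.mem_center_iff.1 (hker hk) A
    calc a * A * a⁻¹ = b * (b⁻¹ * a * A) * a⁻¹ := by group
      _ = b * (A * (b⁻¹ * a)) * a⁻¹ := by rw [hc]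
      _ = b * A * b⁻¹ := by group
  let r : Stab7 → E := fun k => Function.surjInv hs (k : G7)
  have hr : ∀ k : Stab7, σ (r k) = k := fun k => Function.surjInv_eq hs _
  let ψ : Stab7 →* σ.ker :=
    { toFun := fun k => ⟨r k * A * (r k)⁻¹ * A⁻¹, hcen k k.2 _ (hr k)⟩
      map_one' := Subtype.ext (by
        show r 1 * A * (r 1)⁻¹ * A⁻¹ = 1
        rw [hind (r 1) 1 (by rw [hr, map_one]; rfl)]
        group)
      map_mul' := fun k l => Subtype.ext (by
        show r (k * l) * A * (r (k * l))⁻¹ * A⁻¹ = (r k * A * (r k)⁻¹ * A⁻¹) * (r l * A * (r l)⁻¹ * A⁻¹)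
        rw [hind (r (k * l)) (r k * r l) (by rw [map_mul, hr, hr, hr]; rfl)]
        have hc := Subgroup.mem_center_iff.1 (hker (hcen l l.2 _ (hr l))) (r k)
        have hk := Subgroup.mem_center_iff.1 (hker (hcen k k.2 _ (hr k))) (r l * A * (r l)⁻¹ * A⁻¹)
        rw [← hk]
        calc r k * r l * A * (r k * r l)⁻¹ * A⁻¹
            = r k * (r l * A * (r l)⁻¹ * A⁻¹) * (A * (r k)⁻¹ * A⁻¹) := by group
          _ = (r l * A * (r l)⁻¹ * A⁻¹) * r k * (A * (r k)⁻¹ * A⁻¹) := by rw [hc]
          _ = r l * A * (r l)⁻¹ * A⁻¹ * (r k * A * (r k)⁻¹ * A⁻¹) := by group) }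
  have hall : ∀ k : Stab7, ψ k = 1 := stab_trivial ψ
    (fun q q' => Subtype.ext (Subgroup.mem_center_iff.1 (hker q.2) (q' : E)))
    (fun h => Subtype.ext (by
      show r ⟨sg 0, h⟩ * A * (r ⟨sg 0, h⟩)⁻¹ * A⁻¹ = 1
      rw [hind _ A (by rw [hr, hA]; simp [sg, sgW, wprod])]
      group))
    (fun h => Subtype.ext (by
      show r ⟨sg 1, h⟩ * A * (r ⟨sg 1, h⟩)⁻¹ * A⁻¹ = 1
      rw [hind _ B (by rw [hr, hB]), hBA.eq]
      group))
  have h2 : r ⟨σ e, he⟩ * A * (r ⟨σ e, he⟩)⁻¹ * A⁻¹ = 1 := congrArg Subtype.val (hall ⟨σ e, he⟩)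
  rw [hind _ e (hr _), mul_inv_eq_one, mul_inv_eq_iff_eq_mul] at h2
  exact h2

open Classical in
/-- The lift of a transposition. -/
noncomputable def liftT (hs : Function.Surjective σ) (A : E) (p : Fin 3510) : E :=
  if hp : inK (p : ℕ) = true then
    Function.surjInv hs (exists_move hp).choose * A * (Function.surjInv hs (exists_move hp).choose)⁻¹
  else 1

theorem liftT_eq (hker : σ.ker ≤ Subgroup.center E) (hs : Function.Surjective σ) {A B : E}
    (hA : σ A = s0) (hB : σ B = sg 1) (hBA : Commute B A) {e : E} {p : Fin 3510}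
    (h : act (σ e) p2 = p) : liftT hs A p = e * A * e⁻¹ := by
  have hp : inK (p : ℕ) = true := h ▸ inK_act _ p2 inK_p2
  rw [liftT, dif_pos hp]
  set g := (exists_move hp).choose
  have hg : act g p2 = p := (exists_move hp).choose_spec
  set a := Function.surjInv hs g
  have hK : σ (e⁻¹ * a) ∈ Stab7 := by
    refine mem_Stab7 ?_
    rw [map_mul σ, map_inv, Function.surjInv_eq hs, act_mul_apply, hg, ← h, ← act_mul_apply, inv_mul_cancel,
      map_one]
    rfl
  have hc := (lift_commute hker hs hA hB hBA hK).eq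
  calc a * A * a⁻¹ = e * (e⁻¹ * a * A) * a⁻¹ := by group
    _ = e * (A * (e⁻¹ * a)) * a⁻¹ := by rw [hc]
    _ = e * A * e⁻¹ := by group

theorem exists_lift (hker : σ.ker ≤ Subgroup.center E) (hs : Function.Surjective σ) {A B : E}
    (hA : σ A = s0) (hB : σ B = sg 1) (hBA : Commute B A) :
    ∃ T : Fin 3510 → E, IsLiftOn inK T ∧ (∀ p : Fin 3510, inK (p : ℕ) = true → σ (T p) = trG p) ∧
      val T com = 1 := by
  set T := liftT hs A
  have hrep : ∀ p : Fin 3510, inK (p : ℕ) = true → ∃ a, act (σ a) p2 = p ∧ T p = a * A * a⁻¹ := by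
    intro p hp
    obtain ⟨g, hg⟩ := exists_move hp
    obtain ⟨a, rfl⟩ := hs g
    exact ⟨a, hg, liftT_eq hker hs hA hB hBA hg⟩
  have hσ : ∀ p : Fin 3510, inK (p : ℕ) = true → σ (T p) = trG p := by
    intro p hp
    obtain ⟨a, ha, e⟩ := hrep p hp
    rw [e, map_mul, map_mul, map_inv, hA, ← ha, trG_act inK_p2, trG_p2]
  have hconj : ∀ a b : Fin 3510, inK (a : ℕ) = true → inK (b : ℕ) = true →
      T (hm (tr a) b) = T a * T b * (T a)⁻¹ := by
    intro a b ha hb
    obtain ⟨c, hc, e⟩ := hrep b hb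
    rw [show T (hm (tr a) b) = (T a * c) * A * (T a * c)⁻¹ from liftT_eq hker hs hA hB hBA (by
      rw [map_mul, act_mul_apply, hc, hσ a ha, act_trG ha]), e]
    group
  have hu : A * A ∈ σ.ker := by rw [MonoidHom.mem_ker, map_mul, hA]; exact Setup.gen_invol O73.setup 0
  have huc := hker hu
  set u := A * A with hu'
  have hsq : ∀ p : Fin 3510, inK (p : ℕ) = true → T p * T p = u := fun p hp => by
    obtain ⟨a, -, e⟩ := hrep p hp
    rw [e]
    calc a * A * a⁻¹ * (a * A * a⁻¹) = a * u * a⁻¹ := by rw [hu']; group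
      _ = u := by rw [Subgroup.mem_center_iff.1 huc a, mul_inv_cancel_right]
  have hext : ∀ n ∈ com, ∃ h : n < 3510, ext T n = T ⟨n, h⟩ := fun n hn => ⟨(com_mem hn).1, dif_pos _⟩
  have hcomm : ∀ a ∈ com, ∀ b ∈ com, Commute (ext T a) (ext T b) := by
    intro a ha b hb
    have h := List.all_eq_true.1 (List.all_eq_true.1 com_comm a ha) b hb
    simp only [Bool.or_eq_true, Bool.and_eq_true, List.any_eq_true, Nat.beq_eq] at h
    obtain ⟨hal, haK⟩ := com_mem ha
    obtain ⟨hbl, hbK⟩ := com_mem hb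
    rcases h with ⟨⟨p, v⟩, hpm, rfl, hfix⟩ | h
    · have hok := paths_ok _ hpm
      rw [pathOn, Bool.and_eq_true] at hok
      obtain ⟨hp', hc⟩ := cAct_eq hok.1 hbl
      have h3 := hconj ⟨p, hp'⟩ ⟨b, hbl⟩ haK hbK
      rw [show hm (tr ⟨p, hp'⟩) ⟨b, hbl⟩ = ⟨b, hbl⟩ from Fin.ext (hc.trans hfix)] at h3
      rw [ext, ext, dif_pos hal, dif_pos hbl]
      exact mul_inv_eq_iff_eq_mul.1 h3.symm
    · rw [h]
  set k := val T com
  have hk : k * k = u ^ 7 := by
    have := prod_sq huc (com.map (ext T))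
      (fun a ha => by
        obtain ⟨n, hn, rfl⟩ := List.mem_map.1 ha
        obtain ⟨hl, e⟩ := hext n hn
        rw [e]; exact hsq _ (com_mem hn).2)
      (fun a ha b hb => by
        obtain ⟨m, hm', rfl⟩ := List.mem_map.1 ha
        obtain ⟨n, hn, rfl⟩ := List.mem_map.1 hb
        exact hcomm m hm' n hn)
    rw [List.length_map, show com.length = 7 from rfl] at this
    exact this
  have hkker : k ∈ σ.ker := by
    rw [MonoidHom.mem_ker, map_val hσ com fun n hn => com_mem hn]
    exact (res_spec (29, com) (List.mem_cons_of_mem _ List.mem_cons_self)).1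
  set t := k * (u ^ 3)⁻¹
  have htk : t ∈ σ.ker := σ.ker.mul_mem hkker (σ.ker.inv_mem (σ.ker.pow_mem hu 3))
  have htc : ∀ x, x * t = t * x := Subgroup.mem_center_iff.1 (hker htk)
  have hcu : ∀ x : E, Commute (u ^ 3)⁻¹ x := fun x =>
    (((show Commute u x from ((Subgroup.mem_center_iff.1 huc) x).symm)).pow_left 3).inv_left
  have ht2 : t * t = u := by
    calc t * t = k * ((u ^ 3)⁻¹ * k) * (u ^ 3)⁻¹ := by
          show k * (u ^ 3)⁻¹ * (k * (u ^ 3)⁻¹) = _
          group
      _ = (k * k) * ((u ^ 3)⁻¹ * (u ^ 3)⁻¹) := by rw [(hcu k).eq]; group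
      _ = u := by rw [hk]; group
  have htval : k = t * u ^ 3 := (inv_mul_cancel_right k (u ^ 3)).symm
  clear_value t
  have hti : ∀ x, Commute t⁻¹ x := fun x => (show Commute t x from (htc x).symm).inv_left
  refine ⟨fun p => T p * t⁻¹, ⟨fun p hp => ?_, fun a b ha hb => ?_⟩, fun p hp => ?_, ?_⟩
  · calc T p * t⁻¹ * (T p * t⁻¹) = T p * (t⁻¹ * T p) * t⁻¹ := by group
      _ = (T p * T p) * (t * t)⁻¹ := by rw [(hti (T p)).eq]; group
      _ = 1 := by rw [hsq p hp, ht2, mul_inv_cancel]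
  · calc T (hm (tr a) b) * t⁻¹ = T a * T b * ((T a)⁻¹ * t⁻¹) := by rw [hconj a b ha hb, mul_assoc]
      _ = T a * T b * (t⁻¹ * (T a)⁻¹) := by rw [(hti _).eq]
      _ = T a * t⁻¹ * (T b * t⁻¹) * (T a * t⁻¹)⁻¹ := by
        rw [mul_inv_rev, inv_inv]
        calc T a * T b * (t⁻¹ * (T a)⁻¹) = T a * (T b * t⁻¹) * (T a)⁻¹ := by group
          _ = T a * (t⁻¹ * (T b * t⁻¹) * t) * (T a)⁻¹ := by rw [(hti (T b * t⁻¹)).eq]; group
          _ = T a * t⁻¹ * (T b * t⁻¹) * (t * (T a)⁻¹) := by group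
  · rw [map_mul, map_inv, hσ p hp, MonoidHom.mem_ker.1 htk, inv_one, mul_one]
  · have key : ∀ l : List ℕ, (∀ n ∈ l, ∃ h : n < 3510, ext T n = T ⟨n, h⟩) →
        val (fun p => T p * t⁻¹) l = val T l * (t⁻¹) ^ l.length := by
      intro l hl
      induction l with
      | nil => simp [val]
      | cons a l ih =>
        obtain ⟨h, e⟩ := hl a List.mem_cons_self
        rw [val_cons, val_cons, ih fun n hn => hl n (List.mem_cons_of_mem _ hn),
          show ext (fun p => T p * t⁻¹) a = T ⟨a, h⟩ * t⁻¹ from dif_pos h, e, List.length_cons,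
          pow_succ' t⁻¹]
        calc T ⟨a, h⟩ * t⁻¹ * (val T l * t⁻¹ ^ l.length)
            = T ⟨a, h⟩ * (t⁻¹ * val T l) * t⁻¹ ^ l.length := by group
          _ = T ⟨a, h⟩ * val T l * (t⁻¹ * t⁻¹ ^ l.length) := by rw [(hti (val T l)).eq]; group
    rw [key com hext, show com.length = 7 from rfl]
    calc k * t⁻¹ ^ 7 = k * ((t * t) ^ 3)⁻¹ * t⁻¹ := by
          rw [← sq, ← pow_mul, inv_pow, mul_assoc, ← mul_inv_rev, ← pow_succ']
      _ = t * t⁻¹ := by rw [ht2, htval, mul_inv_cancel_right]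
      _ = 1 := mul_inv_cancel t

/-- When lifts of two commuting transpositions commute, a stem kernel has order dividing three. -/
theorem exists_three (hker : σ.ker ≤ Subgroup.center E) (hs : Function.Surjective σ)
    (hcomm : σ.ker ≤ commutator E) {A B : E} (hA : σ A = s0) (hB : σ B = sg 1) (hBA : Commute B A) :
    ∃ r : E, r ^ 3 = 1 ∧ r ∈ σ.ker ∧ σ.ker ≤ Subgroup.zpowers r := by
  obtain ⟨T, hT, hσ, hH⟩ := exists_lift hker hs hA hB hBA
  obtain ⟨hR1, hRm⟩ := res_spec (28, resid) List.mem_cons_self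
  set R := val T resid
  have hRk : R ∈ σ.ker := by rw [MonoidHom.mem_ker, map_val hσ _ hRm]; exact hR1
  have hR3 : R ^ 3 = 1 := by
    have e : val T (resid ++ resid ++ resid) = R ^ 3 := by rw [val_append, val_append, pow_succ, pow_two]
    rw [← e, ← val_run hT paths_ok cube _ (by rw [e]; exact Subgroup.pow_mem _ (hker hRk) 3),
      beq_iff_eq.1 cube_ok, val_nil]
  refine ⟨R, hR3, hRk, ?_⟩
  set C := Subgroup.zpowers R
  have hCk : C ≤ σ.ker := Subgroup.zpowers_le.2 hRk
  have : C.Normal := ⟨fun n hn g => by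
    rw [Subgroup.mem_center_iff.1 (hker (hCk hn)) g, mul_inv_cancel_right]; exact hn⟩
  let q := QuotientGroup.mk' C
  let f : ℕ → E ⧸ C := fun x => if x < 8 then q (ext T (gl.getD x 0)) else 1
  obtain ⟨ψ, hψ⟩ := O73.setup.exists_hom f
    (fun x => by
      by_cases hx : x < 8
      · obtain ⟨h1, h2, -⟩ := gl_spec hx
        simp only [f, if_pos hx]
        rw [← map_mul, ext_sq hT (mem_iff.2 ⟨h1, h2⟩), map_one]
      · simp [f, hx])
    (fun w hw => by
      have hl := base_letters hw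
      have e1 : wprod f w = q (val T (w.map fun x => gl.getD x 0)) := by
        rw [val_gl (fun x => ext T (gl.getD x 0)) (fun _ _ => rfl) w hl, map_wprod]
        exact congrArg List.prod (List.map_congr_left fun x hx => if_pos (hl x hx))
      rw [e1]
      have hin : ∀ n ∈ w.map (fun x => gl.getD x 0), n < 3510 ∧ inK n = true := by
        intro n hn
        obtain ⟨x, hx, rfl⟩ := List.mem_map.1 hn
        obtain ⟨h1, h2, -⟩ := gl_spec (hl x hx)
        exact ⟨h1, h2⟩
      have hcen : val T (w.map fun x => gl.getD x 0) ∈ Subgroup.center E :=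
        hker (by rw [MonoidHom.mem_ker, map_val hσ _ hin]; exact base_val hw)
      have hw' : w ∈ ChainO73.base := hw
      obtain ⟨i, hi, rfl⟩ := List.getElem_of_mem hw'
      have hi' : i < moves.length := moves_len ▸ hi
      have hmem : (ChainO73.base[i], moves[i]) ∈ ChainO73.base.zip moves := by
        refine List.mem_iff_getElem.2 ⟨i, by rw [List.length_zip]; omega, ?_⟩
        exact List.getElem_zip
      have h5 := List.all_eq_true.1 moves_ok _ hmem
      simp only [Bool.or_eq_true, beq_iff_eq] at h5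
      rw [← val_run hT paths_ok moves[i] _ hcen]
      rcases h5 with (h5 | h5) | h5 <;> refine (congrArg (fun l => q (val T l)) h5).trans ?_
      · exact map_one q
      · exact (QuotientGroup.eq_one_iff _).2 (Subgroup.mem_zpowers R)
      · rw [hH]; exact map_one q)
  let σ' : E ⧸ C →* G7 := QuotientGroup.lift C σ fun x hx => hCk hx
  have hsec : ∀ g, σ' (ψ g) = g := fun g => DFunLike.congr_fun (MonoidHom.eq_of_eqOn_dense
    (Setup.closure_gen O73.setup) (f := σ'.comp ψ) (g := MonoidHom.id _) (by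
      rintro _ ⟨x, hx, rfl⟩
      have hx8 : x < 8 := hx
      obtain ⟨h1, h2, h3⟩ := gl_spec hx8
      show σ' (ψ (Setup.gen O73.setup x)) = _
      rw [hψ x hx]
      simp only [f, if_pos hx8]
      show σ (ext T (gl.getD x 0)) = _
      rw [ext, dif_pos h1, hσ _ h2, h3]
      rfl)) g
  have hker' : σ'.ker ≤ Subgroup.center (E ⧸ C) := by
    intro x hx
    obtain ⟨a, rfl⟩ := QuotientGroup.mk'_surjective C x
    refine Subgroup.mem_center_iff.2 fun y => ?_
    obtain ⟨b, rfl⟩ := QuotientGroup.mk'_surjective C y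
    rw [← map_mul, ← map_mul, Subgroup.mem_center_iff.1 (hker (show a ∈ σ.ker from hx)) b]
  have hsub : commutator (E ⧸ C) ≤ ψ.range := by
    rw [commutator_def, Subgroup.commutator_le]
    intro a _ b _
    have hz : ∀ x : E ⧸ C, ∃ c ∈ Subgroup.center (E ⧸ C), x = ψ (σ' x) * c := fun x =>
      ⟨(ψ (σ' x))⁻¹ * x, hker' (by rw [MonoidHom.mem_ker, map_mul, map_inv, hsec, inv_mul_cancel]),
        (mul_inv_cancel_left _ _).symm⟩
    obtain ⟨c, hc, hca⟩ := hz a
    obtain ⟨d, hd, hdb⟩ := hz b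
    refine ⟨σ' a * σ' b * (σ' a)⁻¹ * (σ' b)⁻¹, ?_⟩
    rw [commutatorElement_def, map_mul, map_mul, map_mul, map_inv, map_inv]
    conv_rhs => rw [hca, hdb]
    have hc' := Subgroup.mem_center_iff.1 hc
    have hd' := Subgroup.mem_center_iff.1 hd
    symm
    set a' := ψ (σ' a)
    set b' := ψ (σ' b)
    calc a' * c * (b' * d) * (a' * c)⁻¹ * (b' * d)⁻¹
        = a' * (c * (b' * d * c⁻¹)) * a'⁻¹ * (d⁻¹ * b'⁻¹) := by group
      _ = a' * b' * (d * a'⁻¹) * d⁻¹ * b'⁻¹ := by rw [← hc' (b' * d * c⁻¹)]; group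
      _ = a' * b' * (a'⁻¹ * d) * d⁻¹ * b'⁻¹ := by rw [hd' a'⁻¹]
      _ = a' * b' * a'⁻¹ * b'⁻¹ := by group
  intro x hx
  have hxc : q x ∈ commutator (E ⧸ C) := by
    have := Subgroup.mem_map_of_mem q (hcomm hx)
    rw [commutator_def, Subgroup.map_commutator] at this
    rw [commutator_def]
    exact Subgroup.commutator_mono le_top le_top this
  obtain ⟨g, hg⟩ := hsub hxc
  have h1 : σ' (q x) = 1 := hx
  rw [← hg, hsec] at h1
  rw [h1, map_one] at hg
  exact (QuotientGroup.eq_one_iff x).1 hg.symm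

/-- The kernel of a stem extension is generated by one element of order dividing six. -/
theorem exists_ker_gen (hker : σ.ker ≤ Subgroup.center E) (hs : Function.Surjective σ)
    (hcomm : σ.ker ≤ commutator E) : ∃ r : E, r ^ 6 = 1 ∧ r ∈ σ.ker ∧ σ.ker ≤ Subgroup.zpowers r := by
  obtain ⟨A, hA⟩ := hs s0
  obtain ⟨B, hB⟩ := hs (sg 1)
  obtain ⟨z, hz⟩ : ∃ z, z = A * B * A⁻¹ * B⁻¹ := ⟨_, rfl⟩
  have hzk : z ∈ σ.ker := by
    rw [MonoidHom.mem_ker, hz, map_mul, map_mul, map_mul, map_inv, map_inv, hA, hB,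
      ← commute_s0 (sg_spec (show 1 < 8 by norm_num)).1]
    group
  have hzc : ∀ x, x * z = z * x := Subgroup.mem_center_iff.1 (hker hzk)
  have hz2 : z * z = 1 := by
    have hu : A * A ∈ σ.ker := by rw [MonoidHom.mem_ker, map_mul, hA]; exact Setup.gen_invol O73.setup 0
    have e1 : A * B * A⁻¹ = z * B := by rw [hz, inv_mul_cancel_right]
    have e2 : B * (A * A) = A * A * B := Subgroup.mem_center_iff.1 (hker hu) B
    have e3 : A * A * B * (A * A)⁻¹ = z * z * B := by
      calc A * A * B * (A * A)⁻¹ = A * (A * B * A⁻¹) * A⁻¹ := by group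
        _ = (A * z) * B * A⁻¹ := by rw [e1]; group
        _ = z * (A * B * A⁻¹) := by rw [hzc A]; group
        _ = z * z * B := by rw [e1, mul_assoc]
    rw [← e2, mul_inv_cancel_right] at e3
    exact (mul_eq_right.1 e3.symm)
  set Z := Subgroup.zpowers z
  have hZk : Z ≤ σ.ker := Subgroup.zpowers_le.2 hzk
  have : Z.Normal := ⟨fun n hn g => by
    rw [Subgroup.mem_center_iff.1 (hker (hZk hn)) g, mul_inv_cancel_right]; exact hn⟩
  let q := QuotientGroup.mk' Z
  let σ' : E ⧸ Z →* G7 := QuotientGroup.lift Z σ fun x hx => hZk hx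
  have hker' : σ'.ker ≤ Subgroup.center (E ⧸ Z) := by
    intro x hx
    obtain ⟨a, rfl⟩ := QuotientGroup.mk'_surjective Z x
    refine Subgroup.mem_center_iff.2 fun y => ?_
    obtain ⟨b, rfl⟩ := QuotientGroup.mk'_surjective Z y
    rw [← map_mul, ← map_mul, Subgroup.mem_center_iff.1 (hker (show a ∈ σ.ker from hx)) b]
  have hcomm' : σ'.ker ≤ commutator (E ⧸ Z) := by
    intro x hx
    obtain ⟨a, rfl⟩ := QuotientGroup.mk'_surjective Z x
    have := Subgroup.mem_map_of_mem q (hcomm (show a ∈ σ.ker from hx))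
    rw [commutator_def, Subgroup.map_commutator] at this
    rw [commutator_def]
    exact Subgroup.commutator_mono le_top le_top this
  have hBA : Commute (q B) (q A) := by
    have h1 : q z = 1 := (QuotientGroup.eq_one_iff z).2 (Subgroup.mem_zpowers z)
    have h2 : q A * q B = q z * (q B * q A) := by
      rw [← map_mul, ← map_mul, ← map_mul, hz]; group
    rw [h1, one_mul] at h2
    exact h2.symm
  obtain ⟨r', hr3, hrk, hle⟩ := exists_three (σ := σ') hker'
    (fun g => by obtain ⟨e, he⟩ := hs g; exact ⟨q e, he⟩) hcomm' (A := q A) (B := q B) hA hB hBA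
  obtain ⟨r, rfl⟩ := QuotientGroup.mk'_surjective Z r'
  have hrσ : r ∈ σ.ker := hrk
  have hle2 : ∀ x ∈ σ.ker, ∃ (n : ℤ) (m : ℤ), x = r ^ n * z ^ m := by
    intro x hx
    obtain ⟨n, hn⟩ := Subgroup.mem_zpowers_iff.1 (hle (show q x ∈ σ'.ker from hx))
    rw [← map_zpow] at hn
    obtain ⟨m, hm⟩ := Subgroup.mem_zpowers_iff.1 (QuotientGroup.eq.1 hn)
    exact ⟨n, m, by rw [hm, mul_inv_cancel_left]⟩
  have hr3z : r ^ 3 ∈ Z := (QuotientGroup.eq_one_iff _).1 (by rw [← hr3]; rfl)
  have hcr : Commute r z := (hzc r)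
  have hzz : ∀ m : ℤ, z ^ m = 1 ∨ z ^ m = z := by
    intro m
    have h2 : z ^ (2 : ℤ) = 1 := by rw [zpow_two, hz2]
    rcases Int.even_or_odd m with ⟨t, rfl⟩ | ⟨t, rfl⟩
    · exact Or.inl (by rw [← two_mul, zpow_mul, h2, one_zpow])
    · exact Or.inr (by rw [zpow_add_one, zpow_mul, h2, one_zpow, one_mul])
  obtain ⟨m3, hm3⟩ := Subgroup.mem_zpowers_iff.1 hr3z
  have hr6 : r ^ 6 = 1 := by
    rw [show 6 = 3 + 3 from rfl, pow_add, ← hm3]
    rcases hzz m3 with h | h <;> rw [h]
    · exact one_mul 1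
    · exact hz2
  suffices ∃ g : E, g ^ 6 = 1 ∧ g ∈ σ.ker ∧ r ∈ Subgroup.zpowers g ∧ z ∈ Subgroup.zpowers g by
    obtain ⟨g, h6, hgk, hrg, hzg⟩ := this
    refine ⟨g, h6, hgk, fun x hx => ?_⟩
    obtain ⟨n, m, rfl⟩ := hle2 x hx
    exact mul_mem (Subgroup.zpow_mem _ hrg n) (Subgroup.zpow_mem _ hzg m)
  rcases hzz m3 with h | h
  · rw [h] at hm3
    refine ⟨r * z, ?_, mul_mem hrσ hzk, ?_, ?_⟩
    · rw [hcr.mul_pow, hr6, one_mul, show 6 = 2 * 3 from rfl, pow_mul, sq, hz2, one_pow]
    · refine Subgroup.mem_zpowers_iff.2 ⟨4, ?_⟩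
      rw [show (4 : ℤ) = ((4 : ℕ) : ℤ) from rfl, zpow_natCast, hcr.mul_pow, pow_succ r 3, ← hm3, one_mul,
        show 4 = 2 * 2 from rfl, pow_mul, sq z, hz2, one_pow, mul_one]
    · refine Subgroup.mem_zpowers_iff.2 ⟨3, ?_⟩
      rw [show (3 : ℤ) = ((3 : ℕ) : ℤ) from rfl, zpow_natCast, hcr.mul_pow, ← hm3, one_mul, pow_succ z 2,
        sq z, hz2, one_mul]
  · rw [h] at hm3
    exact ⟨r, hr6, hrσ, Subgroup.mem_zpowers r, hm3 ▸ pow_mem (Subgroup.mem_zpowers r) 3⟩

end Ext

end Cfsg.Agent.FischerPresented.Mult7
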