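import Cfsg.Prelude.Def_Classical
import Mathlib.FieldTheory.Finite.GaloisField

/-! Transport of PΩ₇ between fields with three elements, in any universe. -/

set_option autoImplicit false

namespace Cfsg.Agent.FischerPresented.O73

/-- A semilinear change of field carries one isometry group to the other. -/
theorem map_isometry {ι : Type} [Fintype ι] [DecidableEq ι] {F K : Type*} [Field F] [Field K] (e : F ≃+* K)
    (Q : (ι → F) → F) (Q' : (ι → K) → K) (hQ : ∀ v : ι → F, Q' (fun i => e (v i)) = e (Q v)) :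
    Nonempty (Cfsg.isometryGroup F Q ≃* Cfsg.isometryGroup K Q') := by
  let M : GL ι F ≃* GL ι K := Units.mapEquiv (RingEquiv.mapMatrix e).toMulEquiv
  have hv : ∀ (A : GL ι F) (u : ι → F),
      ((M A : GL ι K) : Matrix ι ι K).mulVec (fun i => e (u i)) = fun i => e ((A : Matrix ι ι F).mulVec u i) := by
    intro A u
    funext i
    show ((A : Matrix ι ι F).map e).mulVec (fun i => e (u i)) i = _
    simp [Matrix.mulVec, dotProduct, map_sum]
  have hmem : ∀ A : GL ι F, M A ∈ Cfsg.isometryGroup K Q' ↔ A ∈ Cfsg.isometryGroup F Q := by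
    intro A
    constructor
    · intro h u w
      have h' := h (fun i => e (u i)) (fun i => e (w i))
      change Q' (((M A : GL ι K) : Matrix ι ι K).mulVec _) = Q' _ at h'
      rw [hv, hQ, hQ] at h'
      exact e.injective h'
    · intro h u w
      show Q' (((M A : GL ι K) : Matrix ι ι K).mulVec u) = Q' u
      obtain ⟨u, rfl⟩ : ∃ u' : ι → F, (fun i => e (u' i)) = u :=
        ⟨fun i => e.symm (u i), funext fun i => e.apply_symm_apply _⟩
      rw [hv, hQ, hQ]
      exact congrArg e (h u u)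
  refine ⟨(M.subgroupMap (Cfsg.isometryGroup F Q)).trans (MulEquiv.subgroupCongr ?_)⟩
  ext B
  constructor
  · rintro ⟨A, hA, rfl⟩
    exact (hmem A).2 hA
  · intro hB
    exact ⟨M.symm B, (hmem _).1 (by rw [M.apply_symm_apply]; exact hB), M.apply_symm_apply B⟩

/-- Field transport of PΩ₇. -/
theorem nonempty_pomega_model {F : Type*} [Field F] [Fintype F] (hF : Fintype.card F = 3) :
    Nonempty (Cfsg.POmega F (Cfsg.quadFormOdd 3 F) ≃* Cfsg.POmega (ZMod 3) (Cfsg.quadFormOdd 3 (ZMod 3))) := by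
  have e : F ≃+* ZMod 3 := FiniteField.ringEquivOfCardEq (by rw [hF, ZMod.card])
  obtain ⟨E⟩ := map_isometry e (Cfsg.quadFormOdd 3 F) (Cfsg.quadFormOdd 3 (ZMod 3)) (fun v => by
    simp [Cfsg.quadFormOdd, map_sum])
  have hcomm : (Cfsg.Omega F (Cfsg.quadFormOdd 3 F)).map E.toMonoidHom =
      Cfsg.Omega (ZMod 3) (Cfsg.quadFormOdd 3 (ZMod 3)) := by
    rw [Cfsg.Omega, Cfsg.Omega, commutator_def, Subgroup.map_commutator, commutator_def,
      Subgroup.map_top_of_surjective E.toMonoidHom E.surjective]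
  let EΩ : Cfsg.Omega F (Cfsg.quadFormOdd 3 F) ≃* Cfsg.Omega (ZMod 3) (Cfsg.quadFormOdd 3 (ZMod 3)) :=
    (E.subgroupMap _).trans (MulEquiv.subgroupCongr hcomm)
  have hcen : (Subgroup.center (Cfsg.Omega F (Cfsg.quadFormOdd 3 F))).map EΩ.toMonoidHom =
      Subgroup.center (Cfsg.Omega (ZMod 3) (Cfsg.quadFormOdd 3 (ZMod 3))) := by
    ext x
    simp only [Subgroup.mem_map, Subgroup.mem_center_iff]
    constructor
    · rintro ⟨y, hy, rfl⟩ g
      obtain ⟨g, rfl⟩ := EΩ.surjective g
      exact (map_mul EΩ g y).symm.trans ((congrArg EΩ (hy g)).trans (map_mul EΩ y g))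
    · intro hx
      refine ⟨EΩ.symm x, fun g => EΩ.injective ?_, EΩ.apply_symm_apply x⟩
      rw [map_mul, map_mul, EΩ.apply_symm_apply]
      exact hx (EΩ g)
  exact ⟨QuotientGroup.congr _ _ EΩ hcen⟩

end Cfsg.Agent.FischerPresented.O73
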