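import Cfsg.Agent.Lib.FischerPresented.OutTr
import Mathlib.GroupTheory.Sylow

/-!
Automorphisms of the presented Fi22 preserve its transpositions: the only involution commuting with an
element of order eleven in the point stabiliser is the transposition.
-/

set_option autoImplicit false
set_option maxRecDepth 100000

namespace Cfsg.Agent.FischerPresented.Out22

open Cfsg.Agent.CosetCert
open Cfsg.Agent.CosetData
open Cfsg.Agent.RigidGraph.He
open Cfsg.Agent.FischerPresented.U62
open Cfsg.Agent.FischerPresented.Fi22Class (z)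

local notation "FS" => Fi22B.setup

/-- The word of the element of order eleven. -/
def sFlat : List ℕ := sW.flatMap swj

/-- The element of order eleven. -/
noncomputable def sG : Setup.G FS := (sW.map hg).prod

/-- Its matrix in the model. -/
noncomputable def sM : SU6 := (sW.map gen).prod

theorem sG_eq : sG = wprod (Setup.gen FS) sFlat := by
  rw [sG, sFlat]
  induction sW with
  | nil => rfl
  | cons j l ih => rw [List.map_cons, List.prod_cons, List.flatMap_cons, wprod_append, ih]; rfl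

theorem rel_prod : ∀ l : List ℕ, (∀ j ∈ l, j < 9) → Rel (l.map hg).prod (l.map gen).prod
  | [], _ => rel_one
  | j :: l, h => by
    rw [List.map_cons, List.map_cons, List.prod_cons, List.prod_cons]
    exact rel_mul (rel_gen (h j List.mem_cons_self)) (rel_prod l fun i hi => h i (List.mem_cons_of_mem _ hi))

theorem sW_lt : ∀ j ∈ sW, j < 9 := by decide

theorem rel_s : Rel sG sM := rel_prod sW sW_lt

theorem mv_prod : ∀ l : List ℕ, (∀ j ∈ l, j < 9) → ∀ x : List ℕ,
    mv (l.map gen).prod (of6 x) = of6 (l.foldr (fun j y => mulN (mats.getD j []) y) x)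
  | [], _, x => mv_one _
  | j :: l, h, x => by
    rw [List.map_cons, List.prod_cons, mv_mul, mv_prod l (fun i hi => h i (List.mem_cons_of_mem _ hi)),
      mv_gen (h j List.mem_cons_self)]
    rfl

/-- A coded unit vector. -/
def eVec (j : ℕ) : List ℕ := (List.range 6).map fun i => if i = j then 1 else 0

theorem of6_eVec : ∀ j i : Fin 6, of6 (eVec j) i = (Pi.single j 1 : Fin 6 → K4) i := by decide +kernel

theorem sRows_ok : ∀ j : Fin 6,
    vecEq (sW.foldr (fun i y => mulN (mats.getD i []) y) (eVec j)) (mulN sRows (eVec j)) = true := by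
  decide +kernel

theorem sM_coe : ((sM : Matrix.SpecialLinearGroup (Fin 6) K4) : Matrix (Fin 6) (Fin 6) K4) = matOf sRows := by
  refine Matrix.ext_of_mulVec_single fun j => ?_
  have e : (Pi.single j 1 : Fin 6 → K4) = of6 (eVec j) := (funext fun i => (of6_eVec j i).symm)
  rw [e, mulVec_of6]
  exact (mv_prod sW sW_lt _).trans (vecEq_iff.1 (sRows_ok j))

theorem mv_sM (x : List ℕ) : mv sM (of6 x) = of6 (mulN sRows x) := by
  rw [mv, sM_coe, mulVec_of6]

/-- The vector orbit of the cyclic vector. -/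
def cycV (i : ℕ) : List ℕ := (List.range i).foldl (fun y _ => mulN sRows y) vvec

/-- The matrix of the cyclic basis. -/
def cycK : Matrix (Fin 6) (Fin 6) K4 := Matrix.of fun i j => of6 (cycV j) i

theorem cycK_inv : cycK * matOf kInv = 1 := by decide +kernel

theorem pow_mulVec_v : ∀ i : ℕ, (matOf sRows ^ i).mulVec (of6 vvec) = of6 (cycV i)
  | 0 => by rw [pow_zero, Matrix.one_mulVec]; rfl
  | i + 1 => by
    rw [pow_succ', ← Matrix.mulVec_mulVec, pow_mulVec_v i, mulVec_of6, cycV, cycV, List.range_succ,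
      List.foldl_append]
    rfl

theorem pow_1024 (a : K4) : a ^ 1024 = a := by
  have h : ∀ a : K4, a * a * a * a = a := by decide
  have h4 : ∀ a : K4, a ^ 4 = a := fun a => by simp only [pow_succ, pow_zero, one_mul, h]
  rw [show 1024 = 4 * 4 * 4 * 4 * 4 by norm_num, pow_mul, pow_mul, pow_mul, pow_mul, h4, h4, h4, h4, h4]

theorem charP_K4 : CharP K4 2 :=
  (CharP.charP_iff_prime_eq_zero Nat.prime_two).2 (by decide)

/-- A matrix commuting with the element of order eleven with scalar square is scalar. -/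
theorem scalar_of_sq {A : Matrix (Fin 6) (Fin 6) K4} (hM : matOf sRows ^ 11 = 1)
    (hA : Commute A (matOf sRows)) {σ : K4} (h2 : A * A = σ • 1) : A = σ ^ 512 • 1 := by
  haveI := charP_K4
  set M := matOf sRows
  set a : Fin 6 → K4 := (matOf kInv).mulVec (A.mulVec (of6 vvec))
  set P : Matrix (Fin 6) (Fin 6) K4 := ∑ i : Fin 6, a i • M ^ (i : ℕ) with hP
  have hPM : Commute P M := Commute.sum_left _ _ _ fun i _ => ((Commute.refl M).pow_left _).smul_left _
  have hv : P.mulVec (of6 vvec) = A.mulVec (of6 vvec) := by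
    have h : cycK.mulVec a = A.mulVec (of6 vvec) := by rw [Matrix.mulVec_mulVec, cycK_inv, Matrix.one_mulVec]
    rw [← h, hP, Matrix.sum_mulVec]
    funext k
    rw [Finset.sum_apply]
    simp [Matrix.mulVec, dotProduct, cycK, ← pow_mulVec_v, Matrix.smul_mulVec, mul_comm]
    refine Finset.sum_congr rfl fun c _ => ?_
    rw [Finset.mul_sum]
    exact Finset.sum_congr rfl fun x _ => by ring
  have hDK : (A - P) * cycK = 0 := by
    refine Matrix.ext fun k j => ?_
    have h : (A - P).mulVec ((M ^ (j : ℕ)).mulVec (of6 vvec)) = 0 := by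
      rw [Matrix.mulVec_mulVec, ((hA.sub_left hPM).pow_right _).eq, ← Matrix.mulVec_mulVec, Matrix.sub_mulVec,
        hv, sub_self, Matrix.mulVec_zero]
    rw [pow_mulVec_v] at h
    exact congrFun h k
  have hAP : A = P := by
    have := congrArg (fun X => X * matOf kInv) hDK
    simpa [mul_assoc, cycK_inv, sub_eq_zero] using this
  have hMp : M ^ 1024 = M := by rw [show 1024 = 11 * 93 + 1 by norm_num, pow_add, pow_mul, hM, one_pow, one_mul, pow_one]
  have hfix : ∀ t : Finset (Fin 6), (∑ i ∈ t, a i • M ^ (i : ℕ)) ^ 1024 = ∑ i ∈ t, a i • M ^ (i : ℕ) := by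
    intro t
    induction t using Finset.induction with
    | empty => simp
    | insert i t hi ih =>
      rw [Finset.sum_insert hi]
      have hc : Commute (a i • M ^ (i : ℕ)) (∑ j ∈ t, a j • M ^ (j : ℕ)) :=
        Commute.sum_right _ _ _ fun j _ => (((Commute.refl M).pow_pow _ _).smul_left _).smul_right _
      haveI : CharP (Matrix (Fin 6) (Fin 6) K4) 2 := inferInstance
      haveI : ExpChar (Matrix (Fin 6) (Fin 6) K4) 2 := ExpChar.prime Nat.prime_two
      have hadd := add_pow_expChar_pow_of_commute 2 10 hc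
      rw [show 2 ^ 10 = 1024 by norm_num] at hadd
      rw [hadd, ih, smul_pow, pow_1024, ← pow_mul, mul_comm, pow_mul, hMp]
  have hfin : A ^ 1024 = A := by rw [hAP, hP]; exact hfix Finset.univ
  rw [← hfin, show 1024 = 2 * 512 by norm_num, pow_mul, sq, h2, smul_pow, one_pow]

theorem mv_inv_cancel (A : SU6) (u : Fin 6 → K4) : mv A⁻¹ (mv A u) = u := by
  rw [← mv_mul, inv_mul_cancel, mv_one]

theorem mv_ne_zero (A : SU6) {u : Fin 6 → K4} (hu : u ≠ 0) : mv A u ≠ 0 := fun h => hu <| by
  have := mv_inv_cancel A u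
  rw [h] at this
  rw [← this]
  exact Matrix.mulVec_zero _

theorem scalar_of_mv {A : SU6} {t : K4} (h : ∀ u, mv A u = t • u) : A ∈ Subgroup.center SU6 := by
  refine mem_center_of_scalar (s := t) (Matrix.ext_iff_mulVec.2 fun u => ?_)
  rw [Matrix.smul_mulVec, Matrix.one_mulVec]
  exact h u

theorem mv_of_center {A : SU6} (h : A ∈ Subgroup.center SU6) : ∃ t : K4, ∀ u, mv A u = t • u := by
  obtain ⟨t, ht⟩ := scalar_of_mem_center h
  exact ⟨t, fun u => by rw [mv, ht, Matrix.smul_mulVec, Matrix.one_mulVec]⟩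

theorem sRows_pow : ∀ j : Fin 6, vecEq ((List.range 11).foldl (fun y _ => mulN sRows y) (eVec j)) (eVec j) = true := by
  decide +kernel

theorem mv_pow (x : List ℕ) : ∀ k : ℕ,
    mv (sM ^ k) (of6 x) = of6 ((List.range k).foldl (fun y _ => mulN sRows y) x)
  | 0 => by rw [pow_zero, mv_one]; rfl
  | k + 1 => by
    rw [pow_succ', mv_mul, mv_pow x k, mv_sM, List.range_succ, List.foldl_append]
    rfl

theorem sM_pow : sM ^ 11 = 1 := by
  refine Subtype.ext (Subtype.ext (Matrix.ext_of_mulVec_single fun j => ?_))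
  have e : (Pi.single j 1 : Fin 6 → K4) = of6 (eVec j) := (funext fun i => (of6_eVec j i).symm)
  rw [e]
  exact ((mv_pow _ 11).trans (vecEq_iff.1 (sRows_pow j))).trans (mv_one (of6 (eVec j))).symm

theorem sFlat_lt : (sFlat.all fun x => Nat.blt x 9) = true := by decide +kernel

theorem hom_s (p : Fin 3510) : (hm sG p : ℕ) = tact Fi22B.P sFlat.reverse p := by
  rw [sG_eq]; exact hom_word sFlat_lt p

theorem s_fix_ok : allBelow (fun p => Nat.beq p 0 || !(Nat.beq (tact Fi22B.P sFlat.reverse p) p)) 3510 = true := by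
  decide +kernel

theorem sG_mem : sG ∈ Fi22.H := by
  refine list_prod_mem ?_
  intro g hg'
  obtain ⟨j, hj, rfl⟩ := List.mem_map.1 hg'
  exact hg_mem j (sW_lt j hj)

theorem eq_of_commute {c : Setup.G FS} (hc : Commute c sG) (h2 : c * c = 1) : c = 1 ∨ c = z := by
  have h0 : hm sG (0 : Fin 3510) = (0 : Fin 3510) := (mem_H_iff _).1 sG_mem
  have hfix : hm sG (hm c (0 : Fin 3510)) = hm c (0 : Fin 3510) := by
    rw [← hom_mul_apply, ← hc.eq, hom_mul_apply, h0]
  have hcH : c ∈ Fi22.H := by
    rw [mem_H_iff]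
    have h := allBelow_spec s_fix_ok (hm c (0 : Fin 3510)).2
    rw [← hom_s, hfix, Bool.or_eq_true, Nat.beq_eq] at h
    rcases h with h | h
    · exact Fin.ext h
    · simp at h
  obtain ⟨A, hA⟩ := exists_rel hcH
  obtain ⟨l, hl⟩ := mv_of_center (rel_unique (rel_mul rel_s hA) (show Rel (sG * c) (A * sM) by
    rw [← hc.eq]; exact rel_mul hA rel_s))
  have hl' : ∀ u, mv A (mv sM u) = l • mv sM (mv A u) := fun u => by
    have h := congrArg (mv (sM * A)) (hl u)
    rwa [← mv_mul (sM * A), mul_inv_cancel_left, mv_smul, mv_mul, mv_mul] at h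
  have hk : ∀ (k : ℕ) (u : Fin 6 → K4), mv A (mv (sM ^ k) u) = l ^ k • mv (sM ^ k) (mv A u) := by
    intro k
    induction k with
    | zero => intro u; simp [mv_one]
    | succ k ih =>
      intro u
      rw [pow_succ, mv_mul, ih, hl', mv_smul, smul_smul, ← pow_succ, ← mv_mul]
  have hl1 : l = 1 := by
    have h := hk 11 (of6 (eVec 0))
    rw [sM_pow, mv_one, mv_one] at h
    have hne : mv A (of6 (eVec 0)) ≠ 0 := mv_ne_zero A fun h => by
      have := congrFun h (0 : Fin 6)
      revert this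
      decide +kernel
    have h11 : l ^ 11 = 1 := by
      by_contra hne1
      refine hne ?_
      have h2 : (l ^ 11 - 1) • mv A (of6 (eVec 0)) = 0 := by rw [sub_smul, one_smul, ← h, sub_self]
      exact (smul_eq_zero.1 h2).resolve_left (sub_ne_zero.2 hne1)
    have hdec : ∀ l : K4, l * l * l * l * l * l * l * l * l * l * l = 1 → l = 1 := by decide
    refine hdec l (Eq.trans ?_ h11)
    simp only [pow_succ, pow_zero, one_mul]
  subst hl1
  have hcom : ∀ u, mv A (mv sM u) = mv sM (mv A u) := fun u => by rw [hl', one_smul]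
  obtain ⟨σ, hσ⟩ := mv_of_center (rel_unique rel_one (show Rel 1 (A * A) from h2 ▸ rel_mul hA hA))
  set AM : Matrix (Fin 6) (Fin 6) K4 := ((A : Matrix.SpecialLinearGroup (Fin 6) K4) : Matrix (Fin 6) (Fin 6) K4)
  have hM11 : matOf sRows ^ 11 = 1 := by
    rw [← sM_coe]
    exact congrArg (fun X : SU6 => ((X : Matrix.SpecialLinearGroup (Fin 6) K4) : Matrix (Fin 6) (Fin 6) K4)) sM_pow
  have hcomm : Commute AM (matOf sRows) := Matrix.ext_iff_mulVec.2 fun u => by
    rw [← Matrix.mulVec_mulVec, ← Matrix.mulVec_mulVec, ← sM_coe]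
    exact hcom u
  have hsq : AM * AM = σ • 1 := Matrix.ext_iff_mulVec.2 fun u => by
    rw [Matrix.smul_mulVec, Matrix.one_mulVec, ← hσ u, inv_one, one_mul, mv_mul, ← Matrix.mulVec_mulVec]
    rfl
  have hker : θ ⟨c, hcH⟩ = 1 := by
    rw [θ_eq (g := ⟨c, hcH⟩) hA]
    exact (QuotientGroup.eq_one_iff A).2 (mem_center_of_scalar (scalar_of_sq hM11 hcomm hsq))
  rcases mem_ker hker with h | h
  · exact Or.inl (congrArg Subtype.val h)
  · refine Or.inr ((congrArg Subtype.val h).trans ?_)
    rw [coe_hgH (by norm_num), hg_zero]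
    rfl

theorem orderOf_sG : orderOf sG = 11 := by
  have hw : wordFixPts Fi22B.P 3510 Fi22.pts (rep 11 sFlat) = true := by decide +kernel
  have := Fact.mk (show Nat.Prime 11 by norm_num)
  refine orderOf_eq_prime ?_ fun h => ?_
  · rw [sG_eq, ← wprod_rep]; exact Fi22.word_one hw
  · have h1 := hom_s 1
    rw [h, show hm (1 : Setup.G FS) = 1 from map_one hm, Equiv.Perm.one_apply] at h1
    exact absurd h1 (by decide +kernel)

theorem exists_conj_mem {s t : Setup.G FS} (hs : orderOf s = 11) (ht : orderOf t = 11) :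
    ∃ g, g * s * g⁻¹ ∈ Subgroup.zpowers t := by
  have := Fi22.order_facts.1
  have := Fact.mk (show Nat.Prime 11 by norm_num)
  have hf : (Nat.card (Setup.G FS)).factorization 11 = 1 := by
    rw [Fi22.order_facts.2.1, show (64561751654400 : ℕ) = 11 * 5869250150400 by norm_num,
      Nat.factorization_mul (by norm_num) (by norm_num), Finsupp.add_apply,
      Nat.Prime.factorization_self (by norm_num), Nat.factorization_eq_zero_of_not_dvd (by norm_num)]
  let P : Sylow 11 (Setup.G FS) := Sylow.ofCard (Subgroup.zpowers s) (by rw [Nat.card_zpowers, hs, hf, pow_one])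
  let Q : Sylow 11 (Setup.G FS) := Sylow.ofCard (Subgroup.zpowers t) (by rw [Nat.card_zpowers, ht, hf, pow_one])
  obtain ⟨g, hg'⟩ := MulAction.exists_smul_eq (Setup.G FS) P Q
  refine ⟨g, ?_⟩
  have h : (g • P : Sylow 11 (Setup.G FS)).toSubgroup = Subgroup.zpowers t := by rw [hg']; rfl
  rw [← h, Sylow.coe_subgroup_smul]
  exact ⟨s, Subgroup.mem_zpowers s, rfl⟩

theorem aut_z (φ : MulAut (Setup.G FS)) : φ z ∈ Fi22Class.D := by
  obtain ⟨g, hgm⟩ := exists_conj_mem orderOf_sG (show orderOf (φ sG) = 11 by rw [MulEquiv.orderOf_eq]; exact orderOf_sG)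
  obtain ⟨i, hi⟩ := Subgroup.mem_zpowers_iff.1 hgm
  have hzc : Commute (φ z) (g * sG * g⁻¹) := by
    rw [← hi]
    exact (Commute.zpow_right ((show Commute z sG from Fi22Class.z_comm sG sG_mem).map φ) i)
  have hc : Commute (g⁻¹ * φ z * g) sG := by
    show g⁻¹ * φ z * g * sG = sG * (g⁻¹ * φ z * g)
    calc g⁻¹ * φ z * g * sG = g⁻¹ * (φ z * (g * sG * g⁻¹)) * g := by group
      _ = g⁻¹ * ((g * sG * g⁻¹) * φ z) * g := by rw [hzc.eq]
      _ = sG * (g⁻¹ * φ z * g) := by group
  rcases eq_of_commute hc (by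
      calc g⁻¹ * φ z * g * (g⁻¹ * φ z * g) = g⁻¹ * (φ z * φ z) * g := by group
        _ = 1 := by rw [← map_mul, Fi22Class.z_sq, map_one]; group) with h | h
  · exfalso
    refine Fi22Class.z_ne_one (φ.injective ?_)
    rw [map_one]
    calc φ z = g * (g⁻¹ * φ z * g) * g⁻¹ := by group
      _ = 1 := by rw [h]; group
  · refine Fi22Class.mem_D.2 ⟨g, ?_⟩
    calc g * z * g⁻¹ = g * (g⁻¹ * φ z * g) * g⁻¹ := by rw [h]
      _ = φ z := by group

theorem aut_mem_D (φ : MulAut (Setup.G FS)) {d : Setup.G FS} (hd : d ∈ Fi22Class.D) : φ d ∈ Fi22Class.D := by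
  obtain ⟨g, rfl⟩ := Fi22Class.mem_D.1 hd
  obtain ⟨k, hk⟩ := Fi22Class.mem_D.1 (aut_z φ)
  refine Fi22Class.mem_D.2 ⟨φ g * k, ?_⟩
  rw [map_mul, map_mul, map_inv, ← hk]
  group

end Cfsg.Agent.FischerPresented.Out22
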