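import Cfsg.Prelude.Def_Transfer
import Cfsg.Agent.Lib.FischerPresented.TwoCert

/-!
A group `2^n : Q` given by certified lists: its order and its elementary abelian subgroups.
-/

set_option autoImplicit false

namespace Cfsg.Agent.FischerPresented.TwoCert

variable {G : Type*} [Group G]

/-- Lists generating a group `2^n : Q` with `Q` of order `N`. -/
structure Sys (G : Type*) [Group G] where
  /-- The dimension. -/
  n : ℕ
  /-- The number of representatives. -/
  N : ℕ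
  /-- The basis. -/
  es : List G
  /-- The lifts. -/
  gs : List G
  /-- The matrices of the lifts. -/
  GM : List (List ℕ)
  /-- The matrices of the representatives. -/
  MT : List (List ℕ)
  basis_sq : ∀ e ∈ es, e * e = 1
  basis_comm : ∀ e ∈ es, ∀ e' ∈ es, Commute e e'
  conj_forall : List.Forall₂ (fun g M => (es.map fun e => g * e * g⁻¹) = M.map (val es)) gs GM
  gm_lt : ∀ M ∈ GM, ∀ v ∈ M, v < 2 ^ n
  table_eq : ∀ i < N, MT.getD i [] = (List.range n).map fun k => act GM i (2 ^ k)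
  table_nodup : MT.Nodup
  table_length : MT.length = N
  va_ne_one : ∀ a < 2 ^ n, a ≠ 0 → val es a ≠ 1
  step : ∀ i < N, ∀ g ∈ gs, ∃ a < 2 ^ n, ∃ j < N, val gs i * g = val es a * val gs j
  pos : 0 < N

/-- A unit vector selects one entry. -/
theorem val_pow : ∀ (es : List G) (k : ℕ) (hk : k < es.length), val es (2 ^ k) = es[k] := by
  intro es
  induction es with
  | nil => intro k hk; simp at hk
  | cons e es ih =>
    intro k hk
    cases k with
    | zero => simp [val, val_zero]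
    | succ k =>
      have hk' : k < es.length := by simpa using hk
      simp [val, pow_succ, ih k hk']

namespace Sys

variable (Y : Sys G)

/-- The coordinates. -/
def va (a : ℕ) : G := val Y.es a

/-- The representatives. -/
def sv (i : ℕ) : G := val Y.gs i

theorem va_xor (a b : ℕ) : Y.va (a ^^^ b) = Y.va a * Y.va b := val_xor Y.basis_sq Y.basis_comm a b

theorem va_zero : Y.va 0 = 1 := val_zero Y.es

theorem sv_zero : Y.sv 0 = 1 := val_zero Y.gs

theorem va_comm (a b : ℕ) : Y.va a * Y.va b = Y.va b * Y.va a := by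
  rw [← va_xor, ← va_xor, Nat.xor_comm]

theorem va_inv (a : ℕ) : (Y.va a)⁻¹ = Y.va a :=
  inv_eq_of_mul_eq_one_right (by rw [← va_xor, Nat.xor_self, va_zero])

theorem sv_conj (i a : ℕ) : Y.sv i * Y.va a * (Y.sv i)⁻¹ = Y.va (act Y.GM i a) :=
  conj_act Y.basis_sq Y.basis_comm Y.conj_forall i a

theorem sv_mul_va (i a : ℕ) : Y.sv i * Y.va a = Y.va (act Y.GM i a) * Y.sv i := by
  rw [← sv_conj, inv_mul_cancel_right]

theorem conj_va (a i v : ℕ) :
    Y.va a * Y.sv i * Y.va v * (Y.va a * Y.sv i)⁻¹ = Y.va (act Y.GM i v) := by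
  calc Y.va a * Y.sv i * Y.va v * (Y.va a * Y.sv i)⁻¹
      = Y.va a * (Y.sv i * Y.va v * (Y.sv i)⁻¹) * (Y.va a)⁻¹ := by group
    _ = Y.va (act Y.GM i v) := by rw [sv_conj, va_comm, mul_inv_cancel_right]

theorem act_lt (i a : ℕ) (ha : a < 2 ^ Y.n) : act Y.GM i a < 2 ^ Y.n := by
  have h := Y.gm_lt
  revert h
  generalize Y.GM = Ms
  intro h
  induction Ms generalizing i with
  | nil => exact ha
  | cons M Ms ih =>
    rw [act]
    split
    · exact app_lt (h M (List.mem_cons_self ..)) _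
    · exact ih _ fun N hN => h N (List.mem_cons_of_mem _ hN)

theorem app_table {i : ℕ} (hi : i < Y.N) {a : ℕ} (ha : a < 2 ^ Y.n) :
    app (Y.MT.getD i []) a = act Y.GM i a := by
  rw [Y.table_eq i hi]
  exact app_basis Y.n (act Y.GM i) (act_xor Y.GM i) (act_zero Y.GM i) a ha

theorem va_inj {a b : ℕ} (ha : a < 2 ^ Y.n) (hb : b < 2 ^ Y.n) (h : Y.va a = Y.va b) : a = b := by
  by_contra hne
  refine Y.va_ne_one _ (Nat.xor_lt_two_pow ha hb) (fun h0 => hne (Nat.xor_eq_zero_iff.1 h0)) ?_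
  show Y.va (a ^^^ b) = 1
  rw [va_xor, h, ← va_xor, Nat.xor_self, va_zero]

/-- The elements. -/
def InT (x : G) : Prop := ∃ a < 2 ^ Y.n, ∃ i < Y.N, x = Y.va a * Y.sv i

theorem inT_one : Y.InT 1 :=
  ⟨0, Nat.two_pow_pos _, 0, Y.pos, by rw [va_zero, sv_zero, one_mul]⟩

theorem inT_mul_va {x : G} (hx : Y.InT x) {b : ℕ} (hb : b < 2 ^ Y.n) : Y.InT (x * Y.va b) := by
  obtain ⟨a, ha, i, hi, rfl⟩ := hx
  refine ⟨a ^^^ act Y.GM i b, Nat.xor_lt_two_pow ha (Y.act_lt i b hb), i, hi, ?_⟩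
  rw [va_xor, mul_assoc, sv_mul_va, mul_assoc]

theorem inT_mul_gen {x : G} (hx : Y.InT x) {g : G} (hg : g ∈ Y.gs) : Y.InT (x * g) := by
  obtain ⟨a, ha, i, hi, rfl⟩ := hx
  obtain ⟨c, hc, j, hj, e⟩ := Y.step i hi g hg
  refine ⟨a ^^^ c, Nat.xor_lt_two_pow ha hc, j, hj, ?_⟩
  rw [va_xor, mul_assoc, mul_assoc]
  exact congrArg _ e

theorem inT_mul {x y : G} (hx : Y.InT x) (hy : Y.InT y) : Y.InT (x * y) := by
  obtain ⟨b, hb, j, -, rfl⟩ := hy
  rw [← mul_assoc]
  have key : ∀ (l : List G), (∀ g ∈ l, g ∈ Y.gs) → ∀ (z : G) (k : ℕ), Y.InT z → Y.InT (z * val l k) := by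
    intro l
    induction l with
    | nil => intro _ z k hz; simpa [val] using hz
    | cons g l ih =>
      intro hl z k hz
      rw [val, ← mul_assoc]
      refine ih (fun e he => hl e (List.mem_cons_of_mem _ he)) _ _ ?_
      split
      · exact Y.inT_mul_gen hz (hl g (List.mem_cons_self ..))
      · simpa using hz
  exact key Y.gs (fun g hg => hg) _ j (Y.inT_mul_va hx hb)

/-- The group. -/
noncomputable def top [Finite G] : Subgroup G where
  carrier := {x | Y.InT x}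
  mul_mem' := Y.inT_mul
  one_mem' := Y.inT_one
  inv_mem' := by
    intro x hx
    have hp : ∀ n : ℕ, Y.InT (x ^ n) := by
      intro n
      induction n with
      | zero => simpa using Y.inT_one
      | succ n ih => rw [pow_succ]; exact Y.inT_mul ih hx
    have hpos : 0 < orderOf x := orderOf_pos x
    have : x⁻¹ = x ^ (orderOf x - 1) := by
      refine inv_eq_of_mul_eq_one_right ?_
      rw [← pow_succ', Nat.sub_add_cancel hpos, pow_orderOf_eq_one]
    show Y.InT x⁻¹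
    rw [this]
    exact hp _

/-- The normal elementary abelian subgroup. -/
def bottom : Subgroup G where
  carrier := {x | ∃ a < 2 ^ Y.n, x = Y.va a}
  mul_mem' := by
    rintro _ _ ⟨a, ha, rfl⟩ ⟨b, hb, rfl⟩
    exact ⟨a ^^^ b, Nat.xor_lt_two_pow ha hb, (Y.va_xor a b).symm⟩
  one_mem' := ⟨0, Nat.two_pow_pos _, Y.va_zero.symm⟩
  inv_mem' := by
    rintro _ ⟨a, ha, rfl⟩
    exact ⟨a, ha, Y.va_inv a⟩

theorem bottom_le [Finite G] : Y.bottom ≤ Y.top := by
  rintro _ ⟨a, ha, rfl⟩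
  exact ⟨a, ha, 0, Y.pos, by rw [sv_zero, mul_one]⟩

theorem coords_unique {a b i j : ℕ} (ha : a < 2 ^ Y.n) (hb : b < 2 ^ Y.n) (hi : i < Y.N) (hj : j < Y.N)
    (h : Y.va a * Y.sv i = Y.va b * Y.sv j) : a = b ∧ i = j := by
  have hij : i = j := by
    have h1 : Y.MT[i]'(by rw [Y.table_length]; exact hi) = Y.MT[j]'(by rw [Y.table_length]; exact hj) := by
      rw [← List.getD_eq_getElem _ [], ← List.getD_eq_getElem _ [], Y.table_eq i hi, Y.table_eq j hj]
      refine List.map_congr_left fun k hk => ?_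
      have hv : (2 : ℕ) ^ k < 2 ^ Y.n := Nat.pow_lt_pow_right (by norm_num) (List.mem_range.1 hk)
      refine Y.va_inj (Y.act_lt i _ hv) (Y.act_lt j _ hv) ?_
      rw [← Y.conj_va a i, ← Y.conj_va b j, h]
    exact (Y.table_nodup.getElem_inj_iff).1 h1
  subst hij
  exact ⟨Y.va_inj ha hb (mul_right_cancel h), rfl⟩

theorem card_top [Finite G] : Nat.card Y.top = 2 ^ Y.n * Y.N := by
  let φ : Fin (2 ^ Y.n) × Fin Y.N → Y.top :=
    fun p => ⟨Y.va p.1 * Y.sv p.2, ⟨p.1, p.1.2, p.2, p.2.2, rfl⟩⟩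
  have hφ : Function.Bijective φ := by
    refine ⟨fun p q h => ?_, fun x => ?_⟩
    · obtain ⟨h1, h2⟩ := Y.coords_unique p.1.2 q.1.2 p.2.2 q.2.2 (congrArg Subtype.val h)
      exact Prod.ext (Fin.ext h1) (Fin.ext h2)
    · obtain ⟨a, ha, i, hi, e⟩ := x.2
      exact ⟨(⟨a, ha⟩, ⟨i, hi⟩), Subtype.ext e.symm⟩
  rw [← Nat.card_eq_of_bijective φ hφ, Nat.card_prod, Nat.card_fin, Nat.card_fin]

theorem bottom_conj [Finite G] {t : G} (ht : t ∈ Y.top) {x : G} (hx : x ∈ Y.bottom) :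
    t * x * t⁻¹ ∈ Y.bottom := by
  obtain ⟨b, hb, i, hi, rfl⟩ := ht
  obtain ⟨a, ha, rfl⟩ := hx
  exact ⟨act Y.GM i a, Y.act_lt i a ha, Y.conj_va b i a⟩

theorem card_bottom : Nat.card Y.bottom = 2 ^ Y.n := by
  let φ : Fin (2 ^ Y.n) → Y.bottom := fun a => ⟨Y.va a, a, a.2, rfl⟩
  have hφ : Function.Bijective φ := by
    refine ⟨fun p q h => Fin.ext (Y.va_inj p.2 q.2 (congrArg Subtype.val h)), fun x => ?_⟩
    obtain ⟨a, ha, e⟩ := x.2
    exact ⟨⟨a, ha⟩, Subtype.ext e.symm⟩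
  rw [← Nat.card_eq_of_bijective φ hφ, Nat.card_fin]

theorem bottom_elementary : Cfsg.IsElementaryAbelian 2 Y.bottom := by
  refine ⟨⟨⟨fun x y => ?_⟩⟩, ?_⟩
  · obtain ⟨a, -, hx⟩ := x.2
    obtain ⟨b, -, hy⟩ := y.2
    refine Subtype.ext ?_
    show (x : G) * y = y * x
    rw [hx, hy, va_comm]
  · rintro _ ⟨a, -, rfl⟩
    rw [sq, ← va_xor, Nat.xor_self, va_zero]

theorem index_mul {a b c i j l : ℕ} (hi : i < Y.N) (hj : j < Y.N) (hl : l < Y.N)
    (h : Y.va a * Y.sv i * (Y.va b * Y.sv j) = Y.va c * Y.sv l) : mulTab Y.MT i j = l := by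
  refine mulTab_eq Y.table_nodup (by rw [Y.table_length]; exact hl) ?_
  rw [Y.table_eq l hl, Y.table_eq j hj, List.map_map]
  refine List.map_congr_left fun k hk => ?_
  have hv : (2 : ℕ) ^ k < 2 ^ Y.n := Nat.pow_lt_pow_right (by norm_num) (List.mem_range.1 hk)
  rw [Function.comp_apply, Y.app_table hi (Y.act_lt j _ hv)]
  refine Y.va_inj (Y.act_lt l _ hv) (Y.act_lt i _ (Y.act_lt j _ hv)) ?_
  rw [← Y.conj_va c l, ← h, ← Y.conj_va a i, ← Y.conj_va b j]
  group

/-- The elementary abelian subgroups other than the normal one are smaller. -/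
theorem elementary_le [Finite G] {fuel : ℕ}
    (hs : chk Y.N (2 ^ Y.n) (mulTab Y.MT) (fun j a => Nat.beq (app (Y.MT.getD j []) a) a) fuel [0] 0
      (List.range (2 ^ Y.n)) = true)
    (hz : ∀ j < Y.N, mulTab Y.MT 0 j = j) {B : Subgroup G} (hB : B ≤ Y.top)
    (hel : Cfsg.IsElementaryAbelian 2 B) :
    Nat.card B ≤ 2 ^ Y.n ∧ (Nat.card B = 2 ^ Y.n → B = Y.bottom) := by
  classical
  by_cases hle : B ≤ Y.bottom
  · refine ⟨Y.card_bottom ▸ Subgroup.card_le_of_le hle, fun h => Subgroup.eq_of_le_of_card_ge hle ?_⟩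
    rw [Y.card_bottom, h]
  suffices Nat.card B < 2 ^ Y.n from ⟨this.le, fun h => absurd h this.ne⟩
  have : Fintype B := Fintype.ofFinite _
  have hco : ∀ x : B, ∃ p : ℕ × ℕ, p.1 < 2 ^ Y.n ∧ p.2 < Y.N ∧ (x : G) = Y.va p.1 * Y.sv p.2 := fun x => by
    obtain ⟨a, ha, i, hi, e⟩ := hB x.2
    exact ⟨(a, i), ha, hi, e⟩
  choose co hco1 hco2 hco3 using hco
  set idx : B → ℕ := fun x => (co x).2
  set BF : Finset ℕ := Finset.univ.image idx
  have hidx1 : idx 1 = 0 := by
    refine (Y.coords_unique (a := (co 1).1) (b := 0) (hco1 1) (Nat.two_pow_pos _) (hco2 1) Y.pos ?_).2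
    rw [← hco3 1, va_zero, sv_zero, one_mul]
    rfl
  have hmulidx : ∀ x y : B, mulTab Y.MT (idx x) (idx y) = idx (x * y) := fun x y =>
    Y.index_mul (hco2 x) (hco2 y) (hco2 (x * y)) (by rw [← hco3, ← hco3, ← hco3]; rfl)
  have hcomm : ∀ x y : B, x * y = y * x := fun x y => hel.1.is_comm.comm x y
  have hsq : ∀ x : B, x * x = 1 := fun x => Subtype.ext (by
    rw [Subgroup.coe_mul, ← sq]; exact hel.2 x x.2)
  set F : Finset ℕ := (Finset.range (2 ^ Y.n)).filter fun a => ∀ j ∈ BF, app (Y.MT.getD j []) a = a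
  have hbound : BF.card * F.card < 2 ^ Y.n := by
    refine chk_sound hz BF F ?_ ?_ ?_ ?_ ?_ fuel [0] 0 (List.range (2 ^ Y.n)) hs ?_
      (List.mem_singleton_self 0) ?_ ?_ ?_
    · intro j hj
      obtain ⟨x, -, rfl⟩ := Finset.mem_image.1 hj
      exact hco2 x
    · intro i hi j hj
      obtain ⟨x, -, rfl⟩ := Finset.mem_image.1 hi
      obtain ⟨y, -, rfl⟩ := Finset.mem_image.1 hj
      rw [hmulidx]
      exact Finset.mem_image_of_mem _ (Finset.mem_univ _)
    · intro j hj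
      obtain ⟨x, -, rfl⟩ := Finset.mem_image.1 hj
      rw [hmulidx, hsq, hidx1]
    · intro i hi j hj
      obtain ⟨x, -, rfl⟩ := Finset.mem_image.1 hi
      obtain ⟨y, -, rfl⟩ := Finset.mem_image.1 hj
      rw [hmulidx, hmulidx, hcomm]
    · intro a ha j hj
      rw [Nat.beq_eq]
      exact (Finset.mem_filter.1 ha).2 j hj
    · intro s hs'
      rw [List.mem_singleton] at hs'
      rw [hs', ← hidx1]
      exact Finset.mem_image_of_mem _ (Finset.mem_univ _)
    · intro a ha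
      exact List.mem_range.2 (Finset.mem_range.1 (Finset.mem_filter.1 ha).1)
    · intro j _ hj
      simp only [List.mem_singleton] at hj
      omega
    · intro hsub
      refine hle fun x hx => ?_
      have h0 := hsub (Finset.mem_image_of_mem idx (Finset.mem_univ ⟨x, hx⟩))
      simp only [List.toFinset_cons, List.toFinset_nil, insert_empty_eq, Finset.mem_singleton] at h0
      refine ⟨(co ⟨x, hx⟩).1, hco1 _, (hco3 ⟨x, hx⟩).trans ?_⟩
      rw [show (co ⟨x, hx⟩).2 = 0 from h0, sv_zero, mul_one]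
  rw [Nat.card_eq_fintype_card, ← Finset.card_univ]
  refine lt_of_le_of_lt (le_of_le_of_eq (Finset.card_le_mul_card_image (f := idx) Finset.univ F.card ?_)
    (Nat.mul_comm _ _)) hbound
  intro j hj
  obtain ⟨x₀, -, rfl⟩ := Finset.mem_image.1 hj
  have hzero : ∀ x : B, idx x = idx x₀ → idx (x * x₀) = 0 := fun x hx => by
    rw [← hmulidx, hx, hmulidx, hsq, hidx1]
  refine Finset.card_le_card_of_injOn (fun x => (co (x * x₀)).1) (fun x hx => ?_) (fun x hx y hy h => ?_)
  · have hx' := (Finset.mem_filter.1 hx).2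
    refine Finset.mem_filter.2 ⟨Finset.mem_range.2 (hco1 _), fun k hk => ?_⟩
    obtain ⟨y, -, rfl⟩ := Finset.mem_image.1 hk
    rw [Y.app_table (hco2 y) (hco1 _)]
    refine Y.va_inj (Y.act_lt _ _ (hco1 _)) (hco1 _) ?_
    have e : ((x * x₀ : B) : G) = Y.va (co (x * x₀)).1 := by
      rw [hco3 (x * x₀), show (co (x * x₀)).2 = 0 from hzero x hx', sv_zero, mul_one]
    have hc : ((y : B) : G) * Y.va (co (x * x₀)).1 = Y.va (co (x * x₀)).1 * (y : G) := by
      rw [← e]
      exact congrArg Subtype.val (hcomm y (x * x₀))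
    refine (Y.conj_va (co y).1 (co y).2 _).symm.trans ?_
    rw [← hco3 y, hc, mul_inv_cancel_right]
  · have hx' := (Finset.mem_filter.1 (Finset.mem_coe.1 hx)).2
    have hy' := (Finset.mem_filter.1 (Finset.mem_coe.1 hy)).2
    refine mul_right_cancel (b := x₀) (Subtype.ext ?_)
    rw [hco3 (x * x₀), hco3 (y * x₀), show (co (x * x₀)).2 = 0 from hzero x hx',
      show (co (y * x₀)).2 = 0 from hzero y hy', show (co (x * x₀)).1 = (co (y * x₀)).1 from h]

end Sys

end Cfsg.Agent.FischerPresented.TwoCert
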